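import Cfsg.Agent.Helper24.Coprime
import Mathlib.GroupTheory.IndexNormal
import Mathlib.GroupTheory.SpecificGroups.Cyclic.Basic
import Mathlib.Algebra.BigOperators.Intervals

/-!
# The `Ω₁` theorem for odd `p` (Gorenstein 5.3.10), elementwise in an ambient group (helper24)
-/

set_option autoImplicit false

namespace Cfsg.Agent.Helper24

variable {G : Type*} [Group G]

/-- Strict inclusion of subgroups of a finite group gives strict inequality of orders. -/
theorem card_lt_of_lt [Finite G] {H K : Subgroup G} (h : H < K) : Nat.card H < Nat.card K := by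
  have hss : (H : Set G) ⊂ (K : Set G) := SetLike.coe_ssubset_coe.mpr h
  have := Set.ncard_lt_ncard hss (Set.toFinite _)
  rw [← Nat.card_coe_set_eq, ← Nat.card_coe_set_eq] at this
  exact this

/-- An element both of whose conjugation maps preserve the set `S` normalizes `S`. -/
theorem mem_normalizer_of_forall_conj_mem {S : Set G} {g : G} (h1 : ∀ y ∈ S, g * y * g⁻¹ ∈ S)
    (h2 : ∀ y ∈ S, g⁻¹ * y * g ∈ S) : g ∈ Subgroup.normalizer S := by
  rw [Subgroup.mem_set_normalizer_iff]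
  intro y
  constructor
  · exact h1 y
  · intro h
    have := h2 _ h
    simpa [mul_assoc] using this

/-- Class two commutation: if `v u = c u v` with `c` commuting with `u` and `v` then `v ^ n u = c ^ n u v ^ n`. -/
theorem pow_mul_of_central {u v c : G} (h : v * u = c * u * v) (hcv : Commute c v) (n : ℕ) :
    v ^ n * u = c ^ n * u * v ^ n := by
  induction n with
  | zero => simp
  | succ n ih =>
    calc v ^ (n + 1) * u = v ^ n * (v * u) := by rw [pow_succ]; group
      _ = v ^ n * (c * u * v) := by rw [h]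
      _ = (v ^ n * c) * u * v := by group
      _ = (c * v ^ n) * u * v := by rw [(hcv.pow_right n).eq]
      _ = c * (v ^ n * u) * v := by group
      _ = c * (c ^ n * u * v ^ n) * v := by rw [ih]
      _ = c ^ (n + 1) * u * v ^ (n + 1) := by rw [pow_succ' c, pow_succ v]; group

/-- Class two power formula. -/
theorem mul_pow_of_central {u v c : G} (h : v * u = c * u * v) (hcu : Commute c u) (hcv : Commute c v)
    (n : ℕ) : (u * v) ^ n = u ^ n * v ^ n * c ^ (∑ i ∈ Finset.range n, i) := by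
  induction n with
  | zero => simp
  | succ n ih =>
    have h1 := pow_mul_of_central h hcv n
    have hcs : Commute (c ^ (∑ i ∈ Finset.range n, i)) u := hcu.pow_left _
    have hcs' : Commute (c ^ (∑ i ∈ Finset.range n, i)) v := hcv.pow_left _
    have hcn : Commute (c ^ n) u := hcu.pow_left _
    calc (u * v) ^ (n + 1) = (u * v) ^ n * (u * v) := pow_succ _ _
      _ = u ^ n * v ^ n * c ^ (∑ i ∈ Finset.range n, i) * (u * v) := by rw [ih]
      _ = u ^ n * v ^ n * (c ^ (∑ i ∈ Finset.range n, i) * u) * v := by group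
      _ = u ^ n * v ^ n * (u * c ^ (∑ i ∈ Finset.range n, i)) * v := by rw [hcs.eq]
      _ = u ^ n * (v ^ n * u) * (c ^ (∑ i ∈ Finset.range n, i) * v) := by group
      _ = u ^ n * (c ^ n * u * v ^ n) * (v * c ^ (∑ i ∈ Finset.range n, i)) := by rw [h1, hcs'.eq]
      _ = u ^ n * (c ^ n * u) * v ^ n * v * c ^ (∑ i ∈ Finset.range n, i) := by group
      _ = u ^ n * (u * c ^ n) * v ^ n * v * c ^ (∑ i ∈ Finset.range n, i) := by rw [hcn.eq]
      _ = u ^ (n + 1) * (c ^ n * (v ^ n * v)) * c ^ (∑ i ∈ Finset.range n, i) := by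
          rw [pow_succ u]; group
      _ = u ^ (n + 1) * ((v ^ n * v) * c ^ n) * c ^ (∑ i ∈ Finset.range n, i) := by
          rw [((hcv.pow_right n).mul_right hcv |>.pow_left n).eq]
      _ = u ^ (n + 1) * v ^ (n + 1) * c ^ (∑ i ∈ Finset.range (n + 1), i) := by
          rw [Finset.sum_range_succ, pow_add, pow_succ v]; group

/-- For an odd prime `p`, `p` divides `0 + 1 + ⋯ + (p - 1)`. -/
theorem prime_dvd_sum_range {p : ℕ} (hp : p.Prime) (hp2 : p ≠ 2) : p ∣ ∑ i ∈ Finset.range p, i := by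
  have h := Finset.sum_range_id_mul_two p
  have h2 : p ∣ (∑ i ∈ Finset.range p, i) * 2 := by rw [h]; exact dvd_mul_right _ _
  have hcop : p.Coprime 2 := (Nat.coprime_primes hp Nat.prime_two).mpr hp2
  exact hcop.dvd_of_dvd_mul_right h2

/-- A nontrivial finite `p`-subgroup `P` has a proper subgroup containing all `p`-th powers and all
commutators of elements of `P` (a maximal subgroup; it contains the Frattini subgroup). -/
theorem exists_proper_containing_pow_comm [Finite G] {p : ℕ} [hp : Fact p.Prime] {P : Subgroup G}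
    (hP : IsPGroup p P) (hne : P ≠ ⊥) :
    ∃ M : Subgroup G, M ≤ P ∧ M ≠ P ∧ (∀ x ∈ P, x ^ p ∈ M) ∧
      (∀ x ∈ P, ∀ y ∈ P, x * y * x⁻¹ * y⁻¹ ∈ M) := by
  obtain ⟨n, hn⟩ := (IsPGroup.iff_card).mp hP
  have hn0 : n ≠ 0 := by
    intro h
    rw [h, pow_zero] at hn
    exact hne (Subgroup.card_eq_one.mp hn)
  have hdvd : p ^ (n - 1) ∣ Nat.card P := by
    rw [hn]; exact pow_dvd_pow p (Nat.sub_le n 1)
  obtain ⟨M₀, hM₀⟩ := Sylow.exists_subgroup_card_pow_prime p hdvd
  have hidx : M₀.index = p := by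
    have h1 := M₀.card_mul_index
    rw [hM₀, hn] at h1
    have h2 : p ^ n = p ^ (n - 1) * p := by
      rw [← pow_succ]; congr 1; omega
    rw [h2] at h1
    exact Nat.eq_of_mul_eq_mul_left (pow_pos hp.out.pos _) h1
  have hnorm : M₀.Normal := by
    apply Subgroup.normal_of_index_eq_minFac_card
    rw [hidx, hn, Nat.pow_minFac hn0, Nat.Prime.minFac_eq hp.out]
  have hcardQ : Nat.card (↥P ⧸ M₀) = p := by rw [← Subgroup.index_eq_card, hidx]
  have : IsCyclic (↥P ⧸ M₀) := isCyclic_of_prime_card hcardQ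
  refine ⟨M₀.map P.subtype, Subgroup.map_subtype_le M₀, ?_, ?_, ?_⟩
  · intro h
    have h1 : Nat.card (M₀.map P.subtype) = Nat.card M₀ :=
      Subgroup.card_map_of_injective P.subtype_injective
    rw [h, hn, hM₀] at h1
    have : n = n - 1 := Nat.pow_right_injective hp.out.two_le h1
    omega
  · intro x hx
    have h1 : ((⟨x, hx⟩ : P) : ↥P ⧸ M₀) ^ p = 1 := by
      rw [← hcardQ]; exact pow_card_eq_one'
    have h2 : (⟨x, hx⟩ : P) ^ p ∈ M₀ := by
      rw [← QuotientGroup.eq_one_iff, QuotientGroup.mk_pow]; exact h1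
    exact ⟨_, h2, by simp⟩
  · intro x hx y hy
    have h1 : ((⟨x, hx⟩ * ⟨y, hy⟩ * (⟨x, hx⟩ : P)⁻¹ * (⟨y, hy⟩ : P)⁻¹ : P) : ↥P ⧸ M₀) = 1 := by
      have hc := mul_comm' ((⟨x, hx⟩ : P) : ↥P ⧸ M₀) ((⟨y, hy⟩ : P) : ↥P ⧸ M₀)
      simp only [QuotientGroup.mk_mul, QuotientGroup.mk_inv]
      rw [hc]; group
    have h2 : (⟨x, hx⟩ * ⟨y, hy⟩ * (⟨x, hx⟩ : P)⁻¹ * (⟨y, hy⟩ : P)⁻¹ : P) ∈ M₀ := by
      rw [← QuotientGroup.eq_one_iff]; exact h1
    exact ⟨_, h2, by simp⟩

/-- If `a` commutes with `x` then so does `a⁻¹`. -/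
theorem inv_mul_comm_of_mul_comm {a x : G} (h : a * x = x * a) : a⁻¹ * x = x * a⁻¹ := by
  calc a⁻¹ * x = a⁻¹ * (x * a) * a⁻¹ := by group
    _ = a⁻¹ * (a * x) * a⁻¹ := by rw [h]
    _ = x * a⁻¹ := by group

/-- **Gorenstein 5.3.10**, elementwise: `p` odd, `a` normalizes the `p`-subgroup `P`, has order coprime
to `p` and commutes with every `x ∈ P` with `x ^ p = 1`. Then `a` centralizes `P`. -/
theorem commute_of_commute_omega_odd [Finite G] {p : ℕ} [hp : Fact p.Prime] (hp2 : p ≠ 2) {a : G}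
    (hcop : (orderOf a).Coprime p) :
    ∀ (P : Subgroup G), IsPGroup p P → a ∈ Subgroup.normalizer (P : Set G) →
      (∀ x ∈ P, x ^ p = 1 → a * x = x * a) → ∀ x ∈ P, a * x = x * a := by
  suffices H : ∀ n : ℕ, ∀ P : Subgroup G, Nat.card P = n → IsPGroup p P →
      a ∈ Subgroup.normalizer (P : Set G) → (∀ x ∈ P, x ^ p = 1 → a * x = x * a) →
      ∀ x ∈ P, a * x = x * a from fun P => H _ P rfl
  intro n
  induction n using Nat.strong_induction_on with
  | _ n ih => ?_
  intro P hcard hP haP hΩ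
  have ih' : ∀ Q : Subgroup G, Q ≤ P → Q ≠ P → a ∈ Subgroup.normalizer (Q : Set G) →
      ∀ x ∈ Q, a * x = x * a := by
    intro Q hQP hne haQ
    have hlt : Nat.card Q < n := hcard ▸ card_lt_of_lt (lt_of_le_of_ne hQP hne)
    exact ih _ hlt Q rfl (hP.to_le hQP) haQ (fun x hx hxp => hΩ x (hQP hx) hxp)
  by_contra hcon
  push Not at hcon
  -- if `a` commutes with all commutators `a x a⁻¹ x⁻¹` we are done
  have hkey : ¬ (∀ x ∈ P, a * (a * x * a⁻¹ * x⁻¹) = (a * x * a⁻¹ * x⁻¹) * a) := by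
    intro h
    obtain ⟨x, hx, hax⟩ := hcon
    apply hax
    have hwP : a * x * a⁻¹ * x⁻¹ ∈ P :=
      P.mul_mem (conj_mem_of_mem_normalizer haP hx) (P.inv_mem hx)
    exact commute_of_commute_commutator a x (h x hx) (coprime_orderOf_of_mem hP hwP hcop)
  -- every proper `a`-invariant normal subgroup of `P` is central in `P`
  have hZ : ∀ N : Subgroup G, N ≤ P → N ≠ P → P ≤ Subgroup.normalizer (N : Set G) →
      a ∈ Subgroup.normalizer (N : Set G) → ∀ n ∈ N, ∀ x ∈ P, n * x = x * n := by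
    intro N hNP hNne hPN haN
    have hCN := ih' N hNP hNne haN
    have hCN' : ∀ x ∈ N, a⁻¹ * x = x * a⁻¹ := fun x hx => inv_mul_comm_of_mul_comm (hCN x hx)
    set Z : Subgroup G := P ⊓ Subgroup.centralizer (N : Set G) with hZdef
    have hZmem : ∀ z, z ∈ Z ↔ z ∈ P ∧ ∀ n ∈ N, n * z = z * n := by
      intro z; rw [hZdef, Subgroup.mem_inf, Subgroup.mem_centralizer_iff]; rfl
    have hconjZ : ∀ b : G, b ∈ Subgroup.normalizer (P : Set G) → (∀ x ∈ N, b * x = x * b) →
        ∀ z ∈ Z, b * z * b⁻¹ ∈ Z := by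
      intro b hbP hbN z hz
      rw [hZmem] at hz ⊢
      refine ⟨conj_mem_of_mem_normalizer hbP hz.1, fun n hn => ?_⟩
      have h1 := hbN n hn
      have h1' := inv_mul_comm_of_mul_comm h1
      have h2 := hz.2 n hn
      calc n * (b * z * b⁻¹) = (n * b) * z * b⁻¹ := by group
        _ = b * (n * z) * b⁻¹ := by rw [← h1]; group
        _ = b * z * (n * b⁻¹) := by rw [h2]; group
        _ = b * z * b⁻¹ * n := by rw [← h1']; group
    have haZ : a ∈ Subgroup.normalizer (Z : Set G) := by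
      apply mem_normalizer_of_forall_conj_mem
      · exact fun z hz => hconjZ a haP hCN z hz
      · intro z hz
        have := hconjZ a⁻¹ (Subgroup.inv_mem _ haP) hCN' z hz
        simpa using this
    have hwZ : ∀ x ∈ P, a * x * a⁻¹ * x⁻¹ ∈ Z := by
      intro x hx
      rw [hZmem]
      refine ⟨P.mul_mem (conj_mem_of_mem_normalizer haP hx) (P.inv_mem hx), fun n hn => ?_⟩
      have hmN : x⁻¹ * n * x ∈ N := conj_inv_mem_of_mem_normalizer (hPN hx) hn
      have hm : a⁻¹ * (x⁻¹ * n * x) * a = x⁻¹ * n * x := by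
        rw [hCN' _ hmN]; group
      have han : a * n * a⁻¹ = n := by rw [hCN n hn]; group
      have hconj : (a * x * a⁻¹ * x⁻¹) * n * (a * x * a⁻¹ * x⁻¹)⁻¹ = n := by
        calc (a * x * a⁻¹ * x⁻¹) * n * (a * x * a⁻¹ * x⁻¹)⁻¹
            = a * x * (a⁻¹ * (x⁻¹ * n * x) * a) * x⁻¹ * a⁻¹ := by group
          _ = a * x * (x⁻¹ * n * x) * x⁻¹ * a⁻¹ := by rw [hm]
          _ = a * n * a⁻¹ := by group
          _ = n := han
      calc n * (a * x * a⁻¹ * x⁻¹)
          = ((a * x * a⁻¹ * x⁻¹) * n * (a * x * a⁻¹ * x⁻¹)⁻¹) * (a * x * a⁻¹ * x⁻¹) := by rw [hconj]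
        _ = (a * x * a⁻¹ * x⁻¹) * n := by group
    by_cases hZP : Z = P
    · intro n hn x hx
      have hxZ : x ∈ Z := by rw [hZP]; exact hx
      exact ((hZmem x).mp hxZ).2 n hn
    · exfalso
      apply hkey
      intro x hx
      exact ih' Z inf_le_left hZP haZ _ (hwZ x hx)
  have hPne : P ≠ ⊥ := by
    intro h
    obtain ⟨x, hx, hax⟩ := hcon
    rw [h, Subgroup.mem_bot] at hx
    subst hx
    simp at hax
  obtain ⟨M, hMP, hMne, hMpow, hMcomm⟩ := exists_proper_containing_pow_comm hP hPne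
  set S : Set G := {y | ∃ x ∈ P, y = x ^ p} ∪ {y | ∃ x ∈ P, ∃ x' ∈ P, y = x * x' * x⁻¹ * x'⁻¹}
    with hSdef
  set Φ : Subgroup G := Subgroup.closure S with hΦdef
  have hΦM : Φ ≤ M := by
    rw [hΦdef, Subgroup.closure_le]
    rintro y (⟨x, hx, rfl⟩ | ⟨x, hx, x', hx', rfl⟩)
    · exact hMpow x hx
    · exact hMcomm x hx x' hx'
  have hΦP : Φ ≤ P := le_trans hΦM hMP
  have hΦne : Φ ≠ P := fun h => hMne (le_antisymm hMP (h ▸ hΦM))
  have hnormS : ∀ g ∈ Subgroup.normalizer (P : Set G), ∀ y ∈ S, g * y * g⁻¹ ∈ S := by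
    intro g hg y hy
    rcases hy with ⟨x, hx, rfl⟩ | ⟨x, hx, x', hx', rfl⟩
    · left
      exact ⟨g * x * g⁻¹, conj_mem_of_mem_normalizer hg hx, (conj_pow).symm⟩
    · right
      exact ⟨g * x * g⁻¹, conj_mem_of_mem_normalizer hg hx, g * x' * g⁻¹,
        conj_mem_of_mem_normalizer hg hx', by group⟩
  have hnormΦ : Subgroup.normalizer (P : Set G) ≤ Subgroup.normalizer (Φ : Set G) := by
    intro g hg
    apply Subgroup.normalizer_le_normalizer_closure
    apply mem_normalizer_of_forall_conj_mem (hnormS g hg)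
    have := hnormS g⁻¹ (Subgroup.inv_mem _ hg)
    simpa using this
  have hcent := hZ Φ hΦP hΦne (le_trans Subgroup.le_normalizer hnormΦ) (hnormΦ haP)
  have hCΦ := ih' Φ hΦP hΦne (hnormΦ haP)
  apply hkey
  intro x hx
  set y : G := a * x * a⁻¹ with hydef
  have hyP : y ∈ P := conj_mem_of_mem_normalizer haP hx
  have hxiP : x⁻¹ ∈ P := P.inv_mem hx
  set c : G := x⁻¹ * y * (x⁻¹)⁻¹ * y⁻¹ with hcdef
  have hcΦ : c ∈ Φ := Subgroup.subset_closure (Or.inr ⟨x⁻¹, hxiP, y, hyP, rfl⟩)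
  have h : x⁻¹ * y = c * y * x⁻¹ := by rw [hcdef]; group
  have hcy : Commute c y := hcent c hcΦ y hyP
  have hcx : Commute c x⁻¹ := hcent c hcΦ x⁻¹ hxiP
  have hpow := mul_pow_of_central h hcy hcx p
  have hxpΦ : x ^ p ∈ Φ := Subgroup.subset_closure (Or.inl ⟨x, hx, rfl⟩)
  have hcp : c ^ p = 1 := by
    have h1 := pow_mul_of_central h hcx p
    have hxp : (x⁻¹) ^ p ∈ Φ := by rw [inv_pow]; exact Φ.inv_mem hxpΦ
    have h2 : (x⁻¹) ^ p * y = y * (x⁻¹) ^ p := hcent _ hxp y hyP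
    rw [h2] at h1
    have h3 : c ^ p * (y * (x⁻¹) ^ p) = 1 * (y * (x⁻¹) ^ p) := by
      rw [one_mul, ← mul_assoc]; exact h1.symm
    exact mul_right_cancel h3
  have hcsum : c ^ (∑ i ∈ Finset.range p, i) = 1 := by
    obtain ⟨k, hk⟩ := prime_dvd_sum_range hp.out hp2
    rw [hk, pow_mul, hcp, one_pow]
  have hyp : y ^ p = x ^ p := by
    rw [hydef, conj_pow]
    have := hCΦ (x ^ p) hxpΦ
    rw [this]; group
  have hwp : (a * x * a⁻¹ * x⁻¹) ^ p = 1 := by
    rw [← hydef, hpow, hcsum, hyp, inv_pow]; group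
  exact hΩ _ (P.mul_mem hyP hxiP) hwp

/-- If `b` normalizes `P` and commutes with `N` elementwise then conjugation by `b` preserves `C_P(N)`. -/
theorem conj_mem_inf_centralizer {P N : Subgroup G} {b : G}
    (hbP : b ∈ Subgroup.normalizer (P : Set G)) (hbN : ∀ x ∈ N, b * x = x * b) {z : G}
    (hz : z ∈ P ⊓ Subgroup.centralizer (N : Set G)) :
    b * z * b⁻¹ ∈ P ⊓ Subgroup.centralizer (N : Set G) := by
  rw [Subgroup.mem_inf, Subgroup.mem_centralizer_iff] at hz ⊢
  refine ⟨conj_mem_of_mem_normalizer hbP hz.1, fun n hn => ?_⟩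
  have h1 := hbN n hn
  have h1' := inv_mul_comm_of_mul_comm h1
  have h2 := hz.2 n hn
  calc n * (b * z * b⁻¹) = (n * b) * z * b⁻¹ := by group
    _ = b * (n * z) * b⁻¹ := by rw [← h1]; group
    _ = b * z * (n * b⁻¹) := by rw [h2]; group
    _ = b * z * b⁻¹ * n := by rw [← h1']; group

/-- If `b` normalizes `P` and commutes with `N` elementwise then `b` normalizes `C_P(N)`. -/
theorem mem_normalizer_inf_centralizer {P N : Subgroup G} {b : G}
    (hbP : b ∈ Subgroup.normalizer (P : Set G)) (hbN : ∀ x ∈ N, b * x = x * b) :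
    b ∈ Subgroup.normalizer ((P ⊓ Subgroup.centralizer (N : Set G) : Subgroup G) : Set G) := by
  apply mem_normalizer_of_forall_conj_mem
  · exact fun z hz => conj_mem_inf_centralizer hbP hbN hz
  · intro z hz
    have := conj_mem_inf_centralizer (Subgroup.inv_mem _ hbP)
      (fun x hx => inv_mul_comm_of_mul_comm (hbN x hx)) hz
    simpa using this

end Cfsg.Agent.Helper24
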