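import Mathlib
import Cfsg.Agent.Helper16.ModDefs

set_option autoImplicit false

/-!
# Piece (M-E) ENDO of helper16's defect-one engine (#4952, #5000) (helper24)

`end_eq_scalar_add_trace`: for an irreducible representation `ρ` of `G` over an algebraically closed
field of characteristic `p` and a subgroup `N` that is "TI for `p`-singular elements", every
`N`-endomorphism of `ρ` is a scalar plus an `N`-trace map.
-/

namespace Cfsg.Agent.Helper24.RepE

open Representation Cfsg.Agent.Helper16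

universe u v

section Weight

variable {k : Type*} [Field k] {N : Type*} [Group N] [Fintype N] {X : Type*} [MulAction N X]

/-- **Weight lemma.** On an invariant set `Y` of points whose stabilizers have order invertible in
`k` there is a weight function `w`, vanishing outside `Y`, with `∑ n, w (n⁻¹ • x) = 1` on `Y`. -/
theorem exists_weight (Y : Set X) (hYinv : ∀ (n : N) (x : X), x ∈ Y → n • x ∈ Y)
    (hY : ∀ x ∈ Y, (Nat.card (MulAction.stabilizer N x) : k) ≠ 0) :
    ∃ w : X → k, (∀ x, x ∉ Y → w x = 0) ∧ ∀ x ∈ Y, ∑ n : N, w (n⁻¹ • x) = 1 := by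
  classical
  let rep : X → X := fun x => (Quotient.mk (MulAction.orbitRel N X) x).out
  have hrep_mem : ∀ x, rep x ∈ MulAction.orbit N x := by
    intro x
    have h : (MulAction.orbitRel N X) (rep x) x := Quotient.mk_out (s := MulAction.orbitRel N X) x
    exact (MulAction.orbitRel_apply).1 h
  have hrep_eq : ∀ (n : N) (x : X), rep (n • x) = rep x := by
    intro n x
    have : Quotient.mk (MulAction.orbitRel N X) (n • x) = Quotient.mk (MulAction.orbitRel N X) x :=
      Quotient.sound ((MulAction.orbitRel_apply).2 (MulAction.mem_orbit x n))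
    show (Quotient.mk (MulAction.orbitRel N X) (n • x)).out = _
    rw [this]
  refine ⟨fun x => if x = rep x ∧ x ∈ Y then ((Nat.card (MulAction.stabilizer N x) : k))⁻¹ else 0,
    fun x hx => by simp [hx], ?_⟩
  intro x hx
  obtain ⟨m, hm⟩ := MulAction.mem_orbit_iff.1 (hrep_mem x)
  have hx0Y : rep x ∈ Y := by rw [← hm]; exact hYinv m x hx
  have hterm : ∀ n : N, (if n⁻¹ • x = rep (n⁻¹ • x) ∧ n⁻¹ • x ∈ Y then
      ((Nat.card (MulAction.stabilizer N (n⁻¹ • x)) : k))⁻¹ else 0) =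
      if n⁻¹ • x = rep x then ((Nat.card (MulAction.stabilizer N (rep x)) : k))⁻¹ else 0 := by
    intro n
    rw [hrep_eq]
    by_cases h : n⁻¹ • x = rep x
    · rw [if_pos ⟨h, hYinv _ _ hx⟩, if_pos h, h]
    · rw [if_neg (fun hh => h hh.1), if_neg h]
  show ∑ n : N, (if n⁻¹ • x = rep (n⁻¹ • x) ∧ n⁻¹ • x ∈ Y then
      ((Nat.card (MulAction.stabilizer N (n⁻¹ • x)) : k))⁻¹ else 0) = 1
  rw [Finset.sum_congr rfl (fun n _ => hterm n), Finset.sum_ite, Finset.sum_const_zero, add_zero,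
    Finset.sum_const, nsmul_eq_mul]
  have h1 : ∀ n : N, n⁻¹ • x = rep x → m * n ∈ MulAction.stabilizer N (rep x) := by
    intro n hn
    have hx' : x = n • rep x := by rw [← hn, smul_inv_smul]
    rw [MulAction.mem_stabilizer_iff, mul_smul, ← hx', hm]
  have h2 : ∀ s : N, s ∈ MulAction.stabilizer N (rep x) → (m⁻¹ * s)⁻¹ • x = rep x := by
    intro s hs
    have hs' : s • rep x = rep x := MulAction.mem_stabilizer_iff.1 hs
    rw [mul_inv_rev, inv_inv, mul_smul, hm]
    calc s⁻¹ • rep x = s⁻¹ • (s • rep x) := by rw [hs']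
      _ = rep x := inv_smul_smul _ _
  have hcard : (Finset.univ.filter (fun n : N => n⁻¹ • x = rep x)).card
      = Nat.card (MulAction.stabilizer N (rep x)) := by
    rw [Nat.card_eq_fintype_card, ← Fintype.card_subtype]
    exact Fintype.card_congr
      { toFun := fun n => ⟨m * n.1, h1 n.1 n.2⟩
        invFun := fun s => ⟨m⁻¹ * s.1, h2 s.1 s.2⟩
        left_inv := fun n => by ext; simp
        right_inv := fun s => by ext; simp }
  rw [hcard]
  exact mul_inv_cancel₀ (hY _ hx0Y)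

end Weight

section Schur

variable {k : Type v} [Field k] [IsAlgClosed k] {G : Type u} [Group G]
  {S : Type*} [AddCommGroup S] [Module k S] [FiniteDimensional k S]

/-- Schur's lemma over an algebraically closed field. -/
theorem schur_scalar (ρ : Representation k G S) (hirr : ρ.IsIrreducible) (Θ : S →ₗ[k] S)
    (hΘ : ∀ g : G, Θ ∘ₗ ρ g = ρ g ∘ₗ Θ) : ∃ c : k, Θ = c • LinearMap.id := by
  have := hirr
  obtain ⟨c, hc⟩ :=
    (Representation.IsIrreducible.algebraMap_intertwiningMap_bijective_of_isAlgClosed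
      (ρ := ρ)).2 ⟨Θ, hΘ⟩
  refine ⟨c, ?_⟩
  have := congrArg Representation.IntertwiningMap.toLinearMap hc
  rw [Representation.IntertwiningMap.algebraMap_apply,
    Representation.IntertwiningMap.toLinearMap_smul] at this
  exact this.symm

end Schur

section Main

variable {k : Type v} [Field k] {G : Type u} [Group G]
  {S : Type*} [AddCommGroup S] [Module k S]

/-- `θ g = ρ g ψ ρ g⁻¹` -/
def conjEnd (ρ : Representation k G S) (ψ : S →ₗ[k] S) (g : G) : S →ₗ[k] S :=
  ρ g * ψ * ρ g⁻¹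

theorem conjEnd_one (ρ : Representation k G S) (ψ : S →ₗ[k] S) : conjEnd ρ ψ 1 = ψ := by
  unfold conjEnd
  rw [inv_one, map_one, one_mul, mul_one]

theorem conjEnd_mul_right (ρ : Representation k G S) (ψ : S →ₗ[k] S) (g n : G)
    (hn : ψ * ρ n = ρ n * ψ) : conjEnd ρ ψ (g * n) = conjEnd ρ ψ g := by
  unfold conjEnd
  rw [mul_inv_rev, map_mul, map_mul]
  have h1 : ρ n * ρ n⁻¹ = 1 := by rw [← map_mul, mul_inv_cancel, map_one]
  calc ρ g * ρ n * ψ * (ρ n⁻¹ * ρ g⁻¹) = ρ g * (ρ n * ψ) * ρ n⁻¹ * ρ g⁻¹ := by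
        simp only [mul_assoc]
    _ = ρ g * (ψ * ρ n) * ρ n⁻¹ * ρ g⁻¹ := by rw [hn]
    _ = ρ g * ψ * (ρ n * ρ n⁻¹) * ρ g⁻¹ := by simp only [mul_assoc]
    _ = ρ g * ψ * ρ g⁻¹ := by rw [h1, mul_one]

theorem conj_conjEnd (ρ : Representation k G S) (ψ : S →ₗ[k] S) (h g : G) :
    ρ h * conjEnd ρ ψ g * ρ h⁻¹ = conjEnd ρ ψ (h * g) := by
  unfold conjEnd
  rw [mul_inv_rev, map_mul, map_mul]
  simp only [mul_assoc]

end Main

/-- **(M-E) ENDO.** -/
theorem end_eq_scalar_add_trace {k : Type v} [Field k] [IsAlgClosed k] {G : Type u} [Group G]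
    [Fintype G] (p : ℕ) [Fact p.Prime] [CharP k p] (N : Subgroup G) [Fintype N]
    (hTI : ∀ g : G, g ∉ N → ∀ x : G, x ∈ N → g⁻¹ * x * g ∈ N → ¬ p ∣ orderOf x)
    {S : Type*} [AddCommGroup S] [Module k S] [FiniteDimensional k S] (ρ : Representation k G S)
    (hirr : ρ.IsIrreducible) (ψ : S →ₗ[k] S) (hψ : ∀ n : N, ψ ∘ₗ ρ n = ρ n ∘ₗ ψ) :
    ∃ c : k, Cfsg.Agent.Helper16.IsRepTrace (ρ.comp N.subtype) (ρ.comp N.subtype)
      (ψ - c • LinearMap.id) := by
  classical
  let θq : G ⧸ N → (S →ₗ[k] S) := fun q => conjEnd ρ ψ q.out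
  have hψ' : ∀ n : G, n ∈ N → ψ * ρ n = ρ n * ψ := fun n hn => hψ ⟨n, hn⟩
  have hA : ∀ g : G, conjEnd ρ ψ g = θq (QuotientGroup.mk g) := by
    intro g
    obtain ⟨n, hn⟩ := QuotientGroup.mk_out_eq_mul N g
    show _ = conjEnd ρ ψ (QuotientGroup.mk g : G ⧸ N).out
    rw [hn, conjEnd_mul_right ρ ψ g n (hψ' n n.2)]
  have hB : ∀ (h : G) (q : G ⧸ N), ρ h * θq q * ρ h⁻¹ = θq (h • q) := by
    intro h q
    show ρ h * conjEnd ρ ψ q.out * ρ h⁻¹ = _
    rw [conj_conjEnd, hA]
    congr 1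
    conv_rhs => rw [← QuotientGroup.out_eq' q]
    rfl
  -- the sum over all cosets is a scalar
  have hC : ∀ h : G, (∑ q : G ⧸ N, θq q) * ρ h = ρ h * (∑ q : G ⧸ N, θq q) := by
    intro h
    have h1 : ρ h * (∑ q : G ⧸ N, θq q) * ρ h⁻¹ = ∑ q : G ⧸ N, θq q := by
      rw [Finset.mul_sum, Finset.sum_mul]
      rw [Finset.sum_congr rfl (fun q _ => hB h q)]
      exact Equiv.sum_comp (MulAction.toPerm h) θq
    have h2 : ρ h⁻¹ * ρ h = 1 := by rw [← map_mul, inv_mul_cancel, map_one]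
    calc (∑ q : G ⧸ N, θq q) * ρ h = ρ h * (∑ q : G ⧸ N, θq q) * ρ h⁻¹ * ρ h := by rw [h1]
      _ = ρ h * (∑ q : G ⧸ N, θq q) * (ρ h⁻¹ * ρ h) := by simp only [mul_assoc]
      _ = ρ h * (∑ q : G ⧸ N, θq q) := by rw [h2, mul_one]
  obtain ⟨c, hc⟩ := schur_scalar ρ hirr (∑ q : G ⧸ N, θq q) hC
  refine ⟨c, ?_⟩
  -- the base coset
  have hq0 : θq (QuotientGroup.mk (1 : G)) = ψ := by rw [← hA, conjEnd_one]
  have hsm : ∀ (n : N) (q : G ⧸ N), n • q = (n : G) • q := fun _ _ => rfl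
  have hfix : ∀ n : N, n • (QuotientGroup.mk (1 : G) : G ⧸ N) = QuotientGroup.mk (1 : G) := by
    intro n
    rw [hsm, MulAction.Quotient.smul_mk, smul_eq_mul, mul_one]
    exact QuotientGroup.eq.2 (by simp)
  -- weights
  have hYinv : ∀ (n : N) (q : G ⧸ N), q ∈ {q : G ⧸ N | q ≠ QuotientGroup.mk (1 : G)} →
      n • q ∈ {q : G ⧸ N | q ≠ QuotientGroup.mk (1 : G)} := by
    intro n q hq hnq
    apply hq
    have : n⁻¹ • (n • q) = n⁻¹ • (QuotientGroup.mk (1 : G) : G ⧸ N) := by rw [hnq]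
    rwa [inv_smul_smul, hfix] at this
  have hY : ∀ q ∈ {q : G ⧸ N | q ≠ QuotientGroup.mk (1 : G)},
      (Nat.card (MulAction.stabilizer N q) : k) ≠ 0 := by
    intro q hq h0
    induction q using QuotientGroup.induction_on with
    | H g =>
      have hg : g ∉ N := by
        intro hg
        apply hq
        exact QuotientGroup.eq.2 (by simpa using hg)
      rw [CharP.cast_eq_zero_iff k p] at h0
      obtain ⟨s, hs⟩ := exists_prime_orderOf_dvd_card' p h0
      have hsx : orderOf (((s : N) : G)) = p := by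
        rw [Subgroup.orderOf_coe, Subgroup.orderOf_coe, hs]
      have hstab : (s : N) • (QuotientGroup.mk g : G ⧸ N) = QuotientGroup.mk g :=
        MulAction.mem_stabilizer_iff.1 s.2
      rw [hsm, MulAction.Quotient.smul_mk, smul_eq_mul] at hstab
      have hmem : g⁻¹ * ((s : N) : G) * g ∈ N := by
        have := QuotientGroup.eq.1 hstab.symm
        rwa [← mul_assoc] at this
      exact hTI g hg _ (s : N).2 hmem (by rw [hsx])
  obtain ⟨w, hw0, hw1⟩ := exists_weight (k := k) (N := ↥N) (X := G ⧸ N)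
    {q : G ⧸ N | q ≠ QuotientGroup.mk (1 : G)} hYinv hY
  -- the trace of the weighted sum
  have hcoef : ∀ q : G ⧸ N, (∑ n : N, w (n⁻¹ • q)) =
      if q = QuotientGroup.mk (1 : G) then 0 else 1 := by
    intro q
    by_cases hq : q = QuotientGroup.mk (1 : G)
    · rw [if_pos hq, hq]
      apply Finset.sum_eq_zero
      intro n _
      rw [hfix]
      exact hw0 _ (fun h => h rfl)
    · rw [if_neg hq]
      exact hw1 q hq
  have hclaim : repTr (ρ.comp N.subtype) (ρ.comp N.subtype) (∑ q : G ⧸ N, w q • θq q)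
      = (∑ q : G ⧸ N, θq q) - ψ := by
    have e1 : repTr (ρ.comp N.subtype) (ρ.comp N.subtype) (∑ q : G ⧸ N, w q • θq q)
        = ∑ n : N, ρ (n : G) * (∑ q : G ⧸ N, w q • θq q) * ρ ((n : G))⁻¹ := by
      unfold repTr
      refine Finset.sum_congr rfl (fun n _ => ?_)
      rfl
    rw [e1]
    have e2 : ∀ n : N, ρ (n : G) * (∑ q : G ⧸ N, w q • θq q) * ρ ((n : G))⁻¹
        = ∑ q : G ⧸ N, w (n⁻¹ • q) • θq q := by
      intro n
      rw [Finset.mul_sum, Finset.sum_mul]
      have e3 : ∀ q : G ⧸ N, ρ (n : G) * (w q • θq q) * ρ ((n : G))⁻¹ = w q • θq (n • q) := by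
        intro q
        rw [mul_smul_comm, smul_mul_assoc, hB, hsm]
      rw [Finset.sum_congr rfl (fun q _ => e3 q)]
      rw [← Equiv.sum_comp (MulAction.toPerm n) (fun q => w (n⁻¹ • q) • θq q)]
      refine Finset.sum_congr rfl (fun q _ => ?_)
      show _ = w (n⁻¹ • (n • q)) • θq (n • q)
      rw [inv_smul_smul]
    rw [Finset.sum_congr rfl (fun n _ => e2 n), Finset.sum_comm]
    have e4 : ∀ q : G ⧸ N, (∑ n : N, w (n⁻¹ • q) • θq q)
        = θq q - (if q = QuotientGroup.mk (1 : G) then θq (QuotientGroup.mk (1 : G)) else 0) := by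
      intro q
      rw [← Finset.sum_smul, hcoef]
      by_cases hq : q = QuotientGroup.mk (1 : G)
      · rw [if_pos hq, if_pos hq, zero_smul, hq, sub_self]
      · rw [if_neg hq, if_neg hq, one_smul, sub_zero]
    rw [Finset.sum_congr rfl (fun q _ => e4 q), Finset.sum_sub_distrib, Finset.sum_ite_eq',
      if_pos (Finset.mem_univ _), hq0]
  refine ⟨-(∑ q : G ⧸ N, w q • θq q), ?_⟩
  rw [repTr_neg, hclaim, hc]
  abel

end Cfsg.Agent.Helper24.RepE
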