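import Mathlib
import Cfsg.Agent.Helper16.DefOneSetup
import Cfsg.Agent.Helper16.ModDefs
import Cfsg.Agent.Helper16.LocalRing
import Cfsg.Agent.Helper78.Residue
import Cfsg.Agent.Helper22.ResFieldAlgClosed
import Cfsg.Agent.Helper57.DZIdem
import Cfsg.Agent.Helper37.DefOneDZb
import Cfsg.Agent.Helper97.ModExist
import Cfsg.Agent.Helper48.DefOneNSide
import Cfsg.Agent.Helper89.DefOneSplit
import Cfsg.Agent.Helper34.Density
import Cfsg.Agent.Helper14.RepCount
import Cfsg.Agent.Helper24.RepE
import Cfsg.Agent.Helper74.CharBasic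

set_option autoImplicit false
set_option linter.unusedSectionVars false

/-!
# The module assembly of the defect-one engine: piece (MZ-2) of helper16's WANTED #5465 (helper24)

`#{χ ∈ Irr(G) of defect zero} + #Irr(N_G(P)/P) ≤ #{p-regular classes of G}` when `|P| = p`,
from the module-theoretic pieces (M-A)..(M-I).  (MZ-1) and (MZ-3) enter as hypotheses in
`module_count_of`.
-/

namespace Cfsg.Agent.Helper24.DefOneMZ2

open Cfsg Cfsg.Agent.Helper16 Cfsg.Agent.Helper16.DefOne

universe u v

section Sum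

variable {k : Type v} [Field k] {G : Type u} [Group G] {ι₀ ι₁ : Type*}

/-- the disjoint union of two families of simple modules without common members -/
noncomputable def sumFamily (F₀ : SimpleRepFamily k G ι₀) (F₁ : SimpleRepFamily k G ι₁)
    (hne : ∀ a i, IsEmpty ((F₀.ρ a).Equiv (F₁.ρ i))) : SimpleRepFamily k G (ι₀ ⊕ ι₁) where
  V := fun x => match x with
    | Sum.inl a => F₀.V a
    | Sum.inr i => F₁.V i
  acg := fun x => match x with
    | Sum.inl a => F₀.acg a
    | Sum.inr i => F₁.acg i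
  mod := fun x => match x with
    | Sum.inl a => F₀.mod a
    | Sum.inr i => F₁.mod i
  fd := fun x => match x with
    | Sum.inl a => F₀.fd a
    | Sum.inr i => F₁.fd i
  ρ := fun x => match x with
    | Sum.inl a => F₀.ρ a
    | Sum.inr i => F₁.ρ i
  irr := fun x => match x with
    | Sum.inl a => F₀.irr a
    | Sum.inr i => F₁.irr i
  ne := fun x y hxy => match x, y, hxy with
    | Sum.inl a, Sum.inl b, h => F₀.ne a b (fun e => h (by rw [e]))
    | Sum.inl a, Sum.inr i, _ => hne a i
    | Sum.inr i, Sum.inl a, _ => ⟨fun E => (hne a i).false E.symm⟩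
    | Sum.inr i, Sum.inr j, h => F₁.ne i j (fun e => h (by rw [e]))

end Sum

section Main

variable {G : Type u} [Group G] [Fintype G] {p : ℕ} [Fact p.Prime]

/-- **(MZ-2)** with (MZ-1) and (MZ-3) as hypotheses. -/
theorem module_count_of (M : Ideal AlgInt) [M.IsPrime] (hM : IsPModular p M) (P : Sylow p G)
    (hP : Nat.card P = p)
    (hnor : nor P = Subgroup.normalizer ((P : Subgroup G) : Set G))
    [((P : Subgroup G).subgroupOf (nor P)).Normal]
    (hMZ1 : ∃ F : SimpleRepFamily (Helper78.ResField M) ↥(nor P)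
        (IrrCharacter (↥(nor P) ⧸ (P : Subgroup G).subgroupOf (nor P))),
      ∀ i, ∀ x ∈ (P : Subgroup G).subgroupOf (nor P), F.ρ i x = 1)
    (hMZ3 : ∀ g : G, g ∉ nor P → ∀ x : G, x ∈ nor P → g⁻¹ * x * g ∈ nor P → ¬ p ∣ orderOf x) :
    Nat.card {χ : IrrCharacter G // ¬ p ∣ Nat.card G / charDegree (χ : G → ℂ)} +
      Nat.card (IrrCharacter (↥(nor P) ⧸ (P : Subgroup G).subgroupOf (nor P))) ≤
    Nat.card {c : ConjClasses G // ∃ g : G, ConjClasses.mk g = c ∧ ¬ p ∣ orderOf g} := by
  classical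
  have hp : p.Prime := Fact.out
  have hcharP : CharP (Helper78.ResField M) p := Helper78.resField_charP hM
  have hac : IsAlgClosed (Helper78.ResField M) :=
    Helper22.ResFieldAlgClosed.resField_isAlgClosed M
  -- facts on `K = P` inside `N`
  have hPN : (P : Subgroup G) ≤ nor P := by rw [hnor]; exact Subgroup.le_normalizer
  have hKcard : Nat.card ((P : Subgroup G).subgroupOf (nor P)) = p := by
    rw [Nat.card_congr (Subgroup.subgroupOfEquivOfLe hPN).toEquiv]
    exact hP
  have hKidx : ¬ p ∣ ((P : Subgroup G).subgroupOf (nor P)).index := by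
    intro h
    have h1 : (P : Subgroup G).relIndex (nor P) ∣ (P : Subgroup G).index :=
      Subgroup.relIndex_dvd_index_of_le hPN
    exact P.not_dvd_index (dvd_trans h h1)
  -- the defect zero family
  obtain ⟨e, hc, hi, ho, hne, htr⟩ :=
    Helper57.DZIdem.exists_defectZero_idempotents (G := G) p M hM
  obtain ⟨F₀, hproj⟩ :=
    Helper37.DefOneDZb.exists_simpleRepFamily_of_idempotents e hc hi ho hne htr
  -- the family of `N / P`
  obtain ⟨F₁, hF₁⟩ := hMZ1
  -- the simple `G`-modules above the members of `F₁`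
  have hex : ∀ i : IrrCharacter (↥(nor P) ⧸ (P : Subgroup G).subgroupOf (nor P)),
      ∃ (S : Type u) (_ : AddCommGroup S) (_ : Module (Helper78.ResField M) S)
        (_ : FiniteDimensional (Helper78.ResField M) S)
        (ρ : Representation (Helper78.ResField M) G S), ρ.IsIrreducible ∧
        ∃ ψ : S →ₗ[Helper78.ResField M] F₁.V i,
          (∀ n : nor P, ψ ∘ₗ ρ n = F₁.ρ i n ∘ₗ ψ) ∧
            ¬ IsRepTrace (ρ.comp (nor P).subtype) (F₁.ρ i) ψ := fun i =>
    haveI := Helper14.RepCount.nontrivial_of_isIrreducible (F₁.ρ i) (F₁.irr i)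
    Helper97.ModExist.exists_irreducible_nonTrace p (nor P)
      ((P : Subgroup G).subgroupOf (nor P)) (by rw [hKcard]) (F₁.ρ i) (hF₁ i)
  choose S iS1 iS2 iS3 ρ hirr ψ hψ hψn using hex
  -- (M-F) and (M-E)
  have hsplit : Helper48.DefOneNSide.SplitStmt (Helper78.ResField M) ↥(nor P)
      ((P : Subgroup G).subgroupOf (nor P)) := by
    intro V _ _ _ _ ρ'
    exact Helper89.DefOneSplit.exists_summand_simple_top p
      ((P : Subgroup G).subgroupOf (nor P)) hKcard hKidx ρ'
  -- the second family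
  have hne₂ : ∀ i j, i ≠ j → IsEmpty ((ρ i).Equiv (ρ j)) := by
    intro i j hij
    refine ⟨fun E => ?_⟩
    have hE : ∀ g : G, E.toLinearEquiv.toLinearMap ∘ₗ ρ i g = ρ j g ∘ₗ E.toLinearEquiv.toLinearMap :=
      fun g => E.isIntertwining' g
    have hEs : ∀ g : G, E.toLinearEquiv.symm.toLinearMap ∘ₗ ρ j g
        = ρ i g ∘ₗ E.toLinearEquiv.symm.toLinearMap := by
      intro g
      ext w
      have h := LinearMap.congr_fun (hE g) (E.toLinearEquiv.symm w)
      have h' : E.toLinearEquiv (ρ i g (E.toLinearEquiv.symm w))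
          = ρ j g (E.toLinearEquiv (E.toLinearEquiv.symm w)) := h
      rw [LinearEquiv.apply_symm_apply] at h'
      show E.toLinearEquiv.symm (ρ j g w) = ρ i g (E.toLinearEquiv.symm w)
      rw [← h', LinearEquiv.symm_apply_apply]
    -- the transported map
    have hψ' : ∀ n : nor P, (ψ j ∘ₗ E.toLinearEquiv.toLinearMap) ∘ₗ ((ρ i).comp (nor P).subtype) n
        = F₁.ρ j n ∘ₗ (ψ j ∘ₗ E.toLinearEquiv.toLinearMap) := by
      intro n
      have h1 : E.toLinearEquiv.toLinearMap ∘ₗ ((ρ i).comp (nor P).subtype) n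
          = ρ j n ∘ₗ E.toLinearEquiv.toLinearMap := hE n
      rw [LinearMap.comp_assoc, h1, ← LinearMap.comp_assoc, hψ j n, LinearMap.comp_assoc]
    have hψ'n : ¬ IsRepTrace ((ρ i).comp (nor P).subtype) (F₁.ρ j)
        (ψ j ∘ₗ E.toLinearEquiv.toLinearMap) := by
      intro htrace
      apply hψn j
      have h2 := IsRepTrace.comp_right (τ := (ρ j).comp (nor P).subtype) htrace
        E.toLinearEquiv.symm.toLinearMap (fun n => hEs n)
      have h3 : (ψ j ∘ₗ E.toLinearEquiv.toLinearMap) ∘ₗ E.toLinearEquiv.symm.toLinearMap = ψ j := by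
        ext w
        show ψ j (E.toLinearEquiv (E.toLinearEquiv.symm w)) = ψ j w
        rw [LinearEquiv.apply_symm_apply]
      rw [h3] at h2
      exact h2
    have hend : ∀ f : S i →ₗ[Helper78.ResField M] S i,
        (∀ γ : nor P, f ∘ₗ ((ρ i).comp (nor P).subtype) γ
          = ((ρ i).comp (nor P).subtype) γ ∘ₗ f) →
        ∃ c : Helper78.ResField M, IsRepTrace ((ρ i).comp (nor P).subtype)
          ((ρ i).comp (nor P).subtype) (f - c • LinearMap.id) := fun f hf =>
      Cfsg.Agent.Helper24.RepE.end_eq_scalar_add_trace p (nor P) hMZ3 (ρ i) (hirr i) f hf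
    obtain ⟨E'⟩ := Helper48.DefOneNSide.nonempty_equiv_of_nonTrace'
      ((P : Subgroup G).subgroupOf (nor P)) hsplit ((ρ i).comp (nor P).subtype)
      (F₁.ρ i) (F₁.ρ j) (F₁.irr i) (F₁.irr j) (hF₁ i) (hF₁ j) hend (ψ i) (hψ i) (hψn i)
      (ψ j ∘ₗ E.toLinearEquiv.toLinearMap) hψ' hψ'n
    exact (F₁.ne i j hij).false E'
  let F₂ : SimpleRepFamily (Helper78.ResField M) G
      (IrrCharacter (↥(nor P) ⧸ (P : Subgroup G).subgroupOf (nor P))) :=
    { V := S, acg := iS1, mod := iS2, fd := iS3, ρ := ρ, irr := hirr, ne := hne₂ }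
  -- no member of `F₀` is isomorphic to a member of `F₂`
  have hcross : ∀ a i, IsEmpty ((F₀.ρ a).Equiv (F₂.ρ i)) := by
    intro a i
    refine ⟨fun E => ?_⟩
    have h1 : IsTraceProj (ρ i) :=
      IsTraceProj.of_equiv (hproj a) E.toLinearEquiv (fun g => E.isIntertwining' g)
    have h2 : IsTraceProj ((ρ i).comp (nor P).subtype) := IsTraceProj.restrict h1 (nor P)
    exact hψn i (IsTraceProj.isRepTrace_of_comm h2 (ψ i) (hψ i))
  -- count
  have : Finite (IrrCharacter G) := Helper74.irr_finite (G := G)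
  have : Finite (IrrCharacter (↥(nor P) ⧸ (P : Subgroup G).subgroupOf (nor P))) :=
    Helper74.irr_finite
  letI : Fintype {χ : IrrCharacter G // ¬ p ∣ Nat.card G / charDegree (χ : G → ℂ)} :=
    Fintype.ofFinite _
  letI : Fintype (IrrCharacter (↥(nor P) ⧸ (P : Subgroup G).subgroupOf (nor P))) :=
    Fintype.ofFinite _
  have hdens := fun f => Helper34.Density.exists_groupAlgebra_action (sumFamily F₀ F₂ hcross) f
  have hcount := Helper14.RepCount.SimpleRepFamily.card_le_of_density p
    (sumFamily F₀ F₂ hcross) hdens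
  rw [Fintype.card_sum] at hcount
  have e0 : Nat.card {χ : IrrCharacter G // ¬ p ∣ Nat.card G / charDegree (χ : G → ℂ)}
      = Fintype.card {χ : IrrCharacter G // ¬ p ∣ Nat.card G / charDegree (χ : G → ℂ)} :=
    Nat.card_eq_fintype_card
  have e1 : Nat.card (IrrCharacter (↥(nor P) ⧸ (P : Subgroup G).subgroupOf (nor P)))
      = Fintype.card (IrrCharacter (↥(nor P) ⧸ (P : Subgroup G).subgroupOf (nor P))) :=
    Nat.card_eq_fintype_card
  rw [e0, e1]
  exact hcount

end Main

end Cfsg.Agent.Helper24.DefOneMZ2
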