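import Mathlib
import Cfsg.Agent.Helper24.DefOneMZ2
import Cfsg.Agent.Helper48.DefOneMZ1
import Cfsg.Agent.Helper48.DefOneMZ3

set_option autoImplicit false
set_option linter.unusedSectionVars false

/-!
# The module assembly of the defect-one engine: (MZ-2) of helper16's WANTED #5465, exact signature
(helper24)
-/

namespace Cfsg.Agent.Helper24.DefOneMZ2

open Cfsg Cfsg.Agent.Helper16 Cfsg.Agent.Helper16.DefOne

universe u

/-- **(MZ-2)** `#{χ ∈ Irr(G) of defect zero} + #Irr(N_G(P)/P) ≤ #{p-regular classes of G}` when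
`|P| = p`. -/
theorem module_count {G : Type u} [Group G] [Fintype G] {p : ℕ} [Fact p.Prime]
    (M : Ideal AlgInt) (hM : IsPModular p M) (P : Sylow p G) (hP : Nat.card P = p)
    (hnor : nor P = Subgroup.normalizer ((P : Subgroup G) : Set G))
    [((P : Subgroup G).subgroupOf (nor P)).Normal] :
    Nat.card {χ : IrrCharacter G // ¬ p ∣ Nat.card G / charDegree (χ : G → ℂ)} +
      Nat.card (IrrCharacter (↥(nor P) ⧸ (P : Subgroup G).subgroupOf (nor P))) ≤
    Nat.card {c : ConjClasses G // ∃ g : G, ConjClasses.mk g = c ∧ ¬ p ∣ orderOf g} := by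
  classical
  have : M.IsPrime := IsPModular.isPrime hM
  have hPN : (P : Subgroup G) ≤ nor P := by rw [hnor]; exact Subgroup.le_normalizer
  have hKidx : ¬ p ∣ ((P : Subgroup G).subgroupOf (nor P)).index := by
    intro h
    have h1 : (P : Subgroup G).relIndex (nor P) ∣ (P : Subgroup G).index :=
      Subgroup.relIndex_dvd_index_of_le hPN
    exact P.not_dvd_index (dvd_trans h h1)
  exact module_count_of M hM P hP hnor
    (Cfsg.Agent.Helper48.DefOneMZ.exists_family_quotient p M hM _ hKidx)
    (Cfsg.Agent.Helper48.DefOneMZ.not_dvd_orderOf_of_conj_mem_nor P hP hnor)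

end Cfsg.Agent.Helper24.DefOneMZ2
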