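import Mathlib.GroupTheory.Sylow
import Mathlib.GroupTheory.PGroup
import Mathlib.GroupTheory.Nilpotent
import Mathlib.GroupTheory.Commutator.Basic
import Mathlib.Algebra.Group.Subgroup.Pointwise

/-!
# Coprime action, elementwise, inside an ambient group (helper24)

Everything is phrased for an ambient group `G`, a subgroup that is acted upon by conjugation and a
single element `a` normalizing it (a subgroup `A ≤ N_G(P)` acts coprimely iff each of its elements does).
-/

set_option autoImplicit false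

namespace Cfsg.Agent.Helper24

open scoped Pointwise

variable {G : Type*} [Group G]

/-- If `a n a⁻¹ = z n` with `z` commuting with `a`, and the orders of `a` and `z` are coprime,
then `a` and `n` commute. -/
theorem commute_of_conj_eq_mul (a n z : G) (hconj : a * n * a⁻¹ = z * n)
    (hza : a * z = z * a) (hcop : (orderOf a).Coprime (orderOf z)) : a * n = n * a := by
  have hpow : ∀ k : ℕ, a ^ k * n * (a ^ k)⁻¹ = z ^ k * n := by
    intro k
    induction k with
    | zero => simp
    | succ k ih =>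
      have hzk : a * z ^ k = z ^ k * a := (Commute.pow_right (show Commute a z from hza) k)
      calc a ^ (k + 1) * n * (a ^ (k + 1))⁻¹
          = a * (a ^ k * n * (a ^ k)⁻¹) * a⁻¹ := by
            rw [pow_succ']; group
        _ = a * (z ^ k * n) * a⁻¹ := by rw [ih]
        _ = (a * z ^ k) * n * a⁻¹ := by group
        _ = z ^ k * (a * n * a⁻¹) := by rw [hzk]; group
        _ = z ^ (k + 1) * n := by rw [hconj, pow_succ]; group
  have h1 := hpow (orderOf a)
  rw [pow_orderOf_eq_one] at h1
  have hz1 : z ^ orderOf a = 1 := by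
    have : n = z ^ orderOf a * n := by simpa using h1
    have h2 : z ^ orderOf a * n = 1 * n := by rw [one_mul]; exact this.symm
    exact mul_right_cancel h2
  have hdvd : orderOf z ∣ orderOf a := orderOf_dvd_of_pow_eq_one hz1
  have hz : orderOf z = 1 := Nat.eq_one_of_dvd_coprimes hcop.symm (dvd_refl _) hdvd
  rw [orderOf_eq_one_iff] at hz
  rw [hz, one_mul] at hconj
  calc a * n = a * n * a⁻¹ * a := by group
    _ = n * a := by rw [hconj]

/-- If `a` commutes with the commutator `a x a⁻¹ x⁻¹` and their orders are coprime then `a` commutes with `x`. -/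
theorem commute_of_commute_commutator (a x : G)
    (h : a * (a * x * a⁻¹ * x⁻¹) = (a * x * a⁻¹ * x⁻¹) * a)
    (hcop : (orderOf a).Coprime (orderOf (a * x * a⁻¹ * x⁻¹))) : a * x = x * a :=
  commute_of_conj_eq_mul a x (a * x * a⁻¹ * x⁻¹) (by group) h hcop

/-- The order of an element of a `p`-subgroup is coprime to any number coprime to `p`. -/
theorem coprime_orderOf_of_mem {p : ℕ} {P : Subgroup G} (hP : IsPGroup p P) {x : G} (hx : x ∈ P)
    {m : ℕ} (hm : m.Coprime p) : m.Coprime (orderOf x) := by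
  obtain ⟨k, hk⟩ := hP ⟨x, hx⟩
  have hxk : x ^ p ^ k = 1 := by
    have := congrArg (fun y : P => (y : G)) hk
    simpa using this
  exact Nat.Coprime.coprime_dvd_right (orderOf_dvd_of_pow_eq_one hxk) (Nat.Coprime.pow_right k hm)

/-- Conjugation by an element of the normalizer keeps elements inside the subgroup. -/
theorem conj_mem_of_mem_normalizer {H : Subgroup G} {a : G} (ha : a ∈ Subgroup.normalizer (H : Set G))
    {x : G} (hx : x ∈ H) : a * x * a⁻¹ ∈ H :=
  (Subgroup.mem_normalizer_iff.mp ha x).mp hx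

theorem conj_inv_mem_of_mem_normalizer {H : Subgroup G} {a : G} (ha : a ∈ Subgroup.normalizer (H : Set G))
    {x : G} (hx : x ∈ H) : a⁻¹ * x * a ∈ H :=
  (Subgroup.mem_normalizer_iff''.mp ha x).mp hx

/-- **Thompson's `P × Q` lemma**, elementwise form. `U` and `P` are `p`-subgroups, `P` normalizes `U`,
`a` normalizes `U`, has order coprime to `p`, commutes with `P`, and centralizes `C_U(P)`.
Then `a` centralizes `U`. -/
theorem thompson_PxQ [Finite G] {p : ℕ} [Fact p.Prime] {U P : Subgroup G} (hU : IsPGroup p U) (hP : IsPGroup p P)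
    (hPU : P ≤ Subgroup.normalizer (U : Set G)) {a : G} (ha : a ∈ Subgroup.normalizer (U : Set G))
    (hcop : (orderOf a).Coprime p) (haP : ∀ b ∈ P, a * b = b * a)
    (hC : ∀ u ∈ U, (∀ b ∈ P, b * u = u * b) → a * u = u * a) :
    ∀ u ∈ U, a * u = u * a := by
  classical
  -- C = C_U(a)
  set C : Subgroup G := U ⊓ Subgroup.centralizer ({a} : Set G) with hCdef
  have hCmem : ∀ x, x ∈ C ↔ x ∈ U ∧ a * x = x * a := by
    intro x
    rw [hCdef, Subgroup.mem_inf, Subgroup.mem_centralizer_iff]
    constructor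
    · rintro ⟨h1, h2⟩; exact ⟨h1, h2 a rfl⟩
    · rintro ⟨h1, h2⟩; exact ⟨h1, fun y hy => by rw [Set.mem_singleton_iff.mp hy]; exact h2⟩
  -- P normalizes C
  have hPC : P ≤ Subgroup.normalizer (C : Set G) := by
    intro b hb
    have key : ∀ (b : G), b ∈ P → ∀ c, c ∈ C → b * c * b⁻¹ ∈ C := by
      intro b hb c hc
      rw [hCmem] at hc ⊢
      refine ⟨conj_mem_of_mem_normalizer (hPU hb) hc.1, ?_⟩
      have h1 := haP b hb
      have h2 := hc.2
      have h1' : a * b⁻¹ = b⁻¹ * a := by
        calc a * b⁻¹ = b⁻¹ * (b * a) * b⁻¹ := by group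
          _ = b⁻¹ * (a * b) * b⁻¹ := by rw [h1]
          _ = b⁻¹ * a := by group
      calc a * (b * c * b⁻¹) = (a * b) * c * b⁻¹ := by group
        _ = b * (a * c) * b⁻¹ := by rw [h1]; group
        _ = b * c * (a * b⁻¹) := by rw [h2]; group
        _ = b * c * b⁻¹ * a := by rw [h1']; group
    rw [Subgroup.mem_normalizer_iff]
    intro c
    constructor
    · exact key b hb c
    · intro h
      have := key b⁻¹ (P.inv_mem hb) _ h
      simpa [mul_assoc] using this
  set D : Subgroup G := C ⊔ P with hDdef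
  set T : Subgroup G := U ⊔ P with hTdef
  have hDT : D ≤ T := sup_le (le_trans inf_le_left le_sup_left) le_sup_right
  -- U ∩ D ≤ C
  have hUD : ∀ x, x ∈ U → x ∈ D → x ∈ C := by
    intro x hxU hxD
    have hset : (D : Set G) = (C : Set G) * (P : Set G) :=
      Subgroup.coe_mul_of_right_le_normalizer_left C P hPC
    have : x ∈ (C : Set G) * (P : Set G) := by rw [← hset]; exact hxD
    obtain ⟨c, hc, b, hb, hcb⟩ := Set.mem_mul.mp this
    have hcU : c ∈ U := ((hCmem c).mp hc).1
    have hbU : b ∈ U := by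
      have : b = c⁻¹ * x := by rw [← hcb]; group
      rw [this]; exact U.mul_mem (U.inv_mem hcU) hxU
    have hbC : b ∈ C := (hCmem b).mpr ⟨hbU, haP b hb⟩
    rw [← hcb]; exact C.mul_mem hc hbC
  by_contra hcon
  push Not at hcon
  obtain ⟨u₀, hu₀U, hu₀⟩ := hcon
  have hTp : IsPGroup p T := IsPGroup.to_sup_of_normal_left' hU hP hPU
  have : Group.IsNilpotent T := hTp.isNilpotent
  have hDlt : D.subgroupOf T < ⊤ := by
    rw [lt_top_iff_ne_top]
    intro htop
    apply hu₀
    have hu₀T : u₀ ∈ T := (le_sup_left : U ≤ T) hu₀U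
    have : (⟨u₀, hu₀T⟩ : T) ∈ D.subgroupOf T := by rw [htop]; trivial
    rw [Subgroup.mem_subgroupOf] at this
    exact ((hCmem u₀).mp (hUD u₀ hu₀U this)).2
  have hnc := (Group.normalizerCondition_of_isNilpotent (G := T)) (D.subgroupOf T) hDlt
  obtain ⟨y, hyN, hyD⟩ := SetLike.exists_of_lt hnc
  -- write y = x * b
  have hsetT : (T : Set G) = (U : Set G) * (P : Set G) :=
    Subgroup.coe_mul_of_right_le_normalizer_left U P hPU
  have hyT : (y : G) ∈ (U : Set G) * (P : Set G) := by rw [← hsetT]; exact y.2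
  obtain ⟨x, hxU, b₀, hb₀, hxb⟩ := Set.mem_mul.mp hyT
  have hb₀D : b₀ ∈ D := (le_sup_right : P ≤ D) hb₀
  have hxnotD : x ∉ D := by
    intro hxD
    apply hyD
    rw [Subgroup.mem_subgroupOf, ← hxb]
    exact D.mul_mem hxD hb₀D
  -- x normalizes D (in the needed direction)
  have hxnorm : ∀ d, d ∈ D → x⁻¹ * d * x ∈ D := by
    intro d hd
    have hdT : d ∈ T := hDT hd
    have h1 := (Subgroup.mem_normalizer_iff''.mp hyN) ⟨d, hdT⟩
    have h2 : (⟨d, hdT⟩ : T) ∈ D.subgroupOf T := by rw [Subgroup.mem_subgroupOf]; exact hd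
    have h3 := h1.mp h2
    rw [Subgroup.mem_subgroupOf] at h3
    have h4 : (y : G)⁻¹ * d * (y : G) ∈ D := by simpa using h3
    have : x⁻¹ * d * x = b₀ * ((y : G)⁻¹ * d * (y : G)) * b₀⁻¹ := by
      rw [← hxb]; group
    rw [this]
    exact D.mul_mem (D.mul_mem hb₀D h4) (D.inv_mem hb₀D)
  have hxC : x ∉ C := fun h => hxnotD ((le_sup_left : C ≤ D) h)
  -- the commutators x⁻¹ b x b⁻¹ lie in C
  have hcb : ∀ b ∈ P, x⁻¹ * b * x * b⁻¹ ∈ C := by
    intro b hb
    have hbD : b ∈ D := (le_sup_right : P ≤ D) hb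
    apply hUD
    · have : x⁻¹ * b * x * b⁻¹ = x⁻¹ * (b * x * b⁻¹) := by group
      rw [this]
      exact U.mul_mem (U.inv_mem hxU) (conj_mem_of_mem_normalizer (hPU hb) hxU)
    · exact D.mul_mem (hxnorm b hbD) (D.inv_mem hbD)
  -- z = a x a⁻¹ x⁻¹ commutes with P
  set z : G := a * x * a⁻¹ * x⁻¹ with hzdef
  have hzU : z ∈ U := U.mul_mem (conj_mem_of_mem_normalizer ha hxU) (U.inv_mem hxU)
  have hzP : ∀ b ∈ P, b * z = z * b := by
    intro b hb
    have hab := haP b hb
    have hc := ((hCmem _).mp (hcb b hb)).2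
    set c : G := x⁻¹ * b * x * b⁻¹ with hcdef
    have hbx : b * x * b⁻¹ = x * c := by rw [hcdef]; group
    have hac' : c * a⁻¹ = a⁻¹ * c := by
      calc c * a⁻¹ = a⁻¹ * (a * c) * a⁻¹ := by group
        _ = a⁻¹ * (c * a) * a⁻¹ := by rw [hc]
        _ = a⁻¹ * c := by group
    have hba : b * a * b⁻¹ = a := by rw [← hab]; group
    have : b * z * b⁻¹ = z := by
      calc b * z * b⁻¹ = (b * a * b⁻¹) * (b * x * b⁻¹) * (b * a * b⁻¹)⁻¹ * (b * x * b⁻¹)⁻¹ := by
            rw [hzdef]; group
        _ = a * (x * c) * a⁻¹ * (x * c)⁻¹ := by rw [hba, hbx]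
        _ = a * x * (c * a⁻¹) * c⁻¹ * x⁻¹ := by group
        _ = a * x * (a⁻¹ * c) * c⁻¹ * x⁻¹ := by rw [hac']
        _ = z := by rw [hzdef]; group
    calc b * z = (b * z * b⁻¹) * b := by group
      _ = z * b := by rw [this]
  have haz : a * z = z * a := hC z hzU hzP
  have hcop' : (orderOf a).Coprime (orderOf z) := coprime_orderOf_of_mem hU hzU hcop
  have hax : a * x = x * a := commute_of_commute_commutator a x haz hcop'
  exact hxC ((hCmem x).mpr ⟨hxU, hax⟩)

/-- The order of an element of a subgroup divides the order of the subgroup. -/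
theorem orderOf_dvd_card_of_mem {H : Subgroup G} {x : G} (hx : x ∈ H) : orderOf x ∣ Nat.card H := by
  have : orderOf (⟨x, hx⟩ : H) ∣ Nat.card H := orderOf_dvd_natCard _
  rwa [Subgroup.orderOf_mk] at this

/-- **Abelian `Ω₁` lemma**, elementwise: if `a` normalizes the abelian subgroup `V`, has order coprime to
`#V` and commutes with every element of prime order of `V`, then `a` centralizes `V`. -/
theorem commute_of_commute_prime_order [Finite G] {V : Subgroup G}
    (hV : ∀ x ∈ V, ∀ y ∈ V, x * y = y * x) {a : G} (ha : a ∈ Subgroup.normalizer (V : Set G))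
    (hcop : (orderOf a).Coprime (Nat.card V)) (hΩ : ∀ v ∈ V, (orderOf v).Prime → a * v = v * a) :
    ∀ v ∈ V, a * v = v * a := by
  suffices H : ∀ n : ℕ, ∀ v : G, orderOf v = n → v ∈ V → a * v = v * a from
    fun v hv => H (orderOf v) v rfl hv
  intro n
  induction n using Nat.strong_induction_on with
  | _ n ih => ?_
  intro v h hv
  by_cases hv1 : v = 1
  · subst hv1; simp
  have hn0 : 0 < n := by rw [← h]; exact orderOf_pos v
  have hn1 : n ≠ 1 := by
    intro h1; rw [h1] at h; exact hv1 (orderOf_eq_one_iff.mp h)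
  set q := n.minFac with hqdef
  have hq : q.Prime := Nat.minFac_prime hn1
  have hqn : q ∣ n := Nat.minFac_dvd n
  -- a commutes with v ^ q by induction
  have hvq : a * v ^ q = v ^ q * a := by
    have hord : orderOf (v ^ q) = n / q := by
      rw [orderOf_pow' v hq.ne_zero, h, Nat.gcd_eq_right hqn]
    have hlt : n / q < n := Nat.div_lt_self hn0 hq.one_lt
    exact ih (n / q) hlt (v ^ q) hord (V.pow_mem hv q)
  set y : G := a * v * a⁻¹ with hydef
  have hyV : y ∈ V := conj_mem_of_mem_normalizer ha hv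
  set w : G := a * v * a⁻¹ * v⁻¹ with hwdef
  have hwV : w ∈ V := V.mul_mem hyV (V.inv_mem hv)
  have hwq : w ^ q = 1 := by
    have hcomm : Commute y v⁻¹ := hV y hyV v⁻¹ (V.inv_mem hv)
    have h1 : w ^ q = y ^ q * (v⁻¹) ^ q := by
      rw [hwdef, ← hydef]; exact hcomm.mul_pow q
    have h2 : y ^ q = v ^ q := by
      rw [hydef, conj_pow]
      calc a * v ^ q * a⁻¹ = (a * v ^ q) * a⁻¹ := rfl
        _ = v ^ q * a * a⁻¹ := by rw [hvq]
        _ = v ^ q := by group
    rw [h1, h2, inv_pow, mul_inv_cancel]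
  have haw : a * w = w * a := by
    have hdvd : orderOf w ∣ q := orderOf_dvd_of_pow_eq_one hwq
    rcases (Nat.dvd_prime hq).mp hdvd with h1 | h1
    · rw [orderOf_eq_one_iff.mp h1]; simp
    · exact hΩ w hwV (h1 ▸ hq)
  have hcop' : (orderOf a).Coprime (orderOf w) :=
    Nat.Coprime.coprime_dvd_right (orderOf_dvd_card_of_mem hwV) hcop
  exact commute_of_commute_commutator a v haw hcop'

end Cfsg.Agent.Helper24
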