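import Cfsg.Agent.S1949

/-!
# A small-exponent critical subgroup of a `p`-subgroup (helper24)

`S1949` restated for a `p`-subgroup `P` of an ambient finite group `X`, with the automorphisms
coming from `N_X(P)`.
-/

set_option autoImplicit false
open scoped commutatorElement

namespace Cfsg.Agent.Helper24

/-- Every `p`-subgroup `P` of a finite group has a subgroup `D`, invariant under `N(P)`, of exponent
`p` (`4` if `p = 2`), with `[D, P] ≤ Z(D)`, such that every `p'`-element of `N(P)` centralizing `D`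
centralizes `P`. -/
theorem exists_small_exponent_crit {X : Type*} [Group X] [Finite X] {p : ℕ} [Fact p.Prime]
    (P : Subgroup X) (hP : IsPGroup p P) :
    ∃ D : Subgroup X, D ≤ P ∧
      (∀ g ∈ Subgroup.normalizer (P : Set X), ∀ x ∈ D, g * x * g⁻¹ ∈ D) ∧
      (∀ x ∈ D, x ^ p = 1 ∨ (p = 2 ∧ x ^ 4 = 1)) ∧
      (∀ x ∈ D, ∀ y ∈ P, ⁅x, y⁆ ∈ D ∧ ∀ z ∈ D, ⁅x, y⁆ * z = z * ⁅x, y⁆) ∧
      (∀ g ∈ Subgroup.normalizer (P : Set X), (orderOf g).Coprime p →
        (∀ x ∈ D, g * x = x * g) → ∀ x ∈ P, g * x = x * g) := by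
  obtain ⟨D₀, h1, -, h3, h4, h5, -⟩ := Cfsg.Agent.S1949.result (P := ↥P) hP ⊤ le_top
  refine ⟨D₀.map P.subtype, Subgroup.map_subtype_le D₀, ?_, ?_, ?_, ?_⟩
  · intro g hg x hx
    obtain ⟨x₀, hx₀, rfl⟩ := Subgroup.mem_map.mp hx
    set α : MulAut ↥P := P.normalizerMonoidHom ⟨g, hg⟩ with hα
    have h := h1 α (Subgroup.mem_top α)
    have hmem : α x₀ ∈ D₀ := by
      rw [← h]
      exact Subgroup.mem_map_of_mem _ hx₀
    refine Subgroup.mem_map.mpr ⟨α x₀, hmem, ?_⟩
    rw [hα]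
    simp
  · intro x hx
    obtain ⟨x₀, hx₀, rfl⟩ := Subgroup.mem_map.mp hx
    rcases h3 x₀ hx₀ with h | ⟨h2, h⟩
    · left
      have := congrArg (P.subtype) h
      simpa using this
    · right
      refine ⟨h2, ?_⟩
      have := congrArg (P.subtype) h
      simpa using this
  · intro x hx y hy
    obtain ⟨x₀, hx₀, rfl⟩ := Subgroup.mem_map.mp hx
    have hc : ⁅x₀, (⟨y, hy⟩ : ↥P)⁆ ∈ D₀ ⊓ Subgroup.centralizer (D₀ : Set ↥P) :=
      h4 (Subgroup.commutator_mem_commutator hx₀ (Subgroup.mem_top _))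
    have hcoe : ⁅P.subtype x₀, y⁆ = P.subtype ⁅x₀, (⟨y, hy⟩ : ↥P)⁆ := by
      rw [map_commutatorElement]; rfl
    rw [hcoe]
    refine ⟨Subgroup.mem_map_of_mem _ (Subgroup.mem_inf.mp hc).1, ?_⟩
    intro z hz
    obtain ⟨z₀, hz₀, rfl⟩ := Subgroup.mem_map.mp hz
    have := Subgroup.mem_centralizer_iff.mp (Subgroup.mem_inf.mp hc).2 z₀ hz₀
    rw [← map_mul, ← map_mul, this]
  · intro g hg hcop hfix x hx
    set α : MulAut ↥P := P.normalizerMonoidHom ⟨g, hg⟩ with hα
    have hord : orderOf α ∣ orderOf g := by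
      have h1' : orderOf α ∣ orderOf (⟨g, hg⟩ : ↥(Subgroup.normalizer (P : Set X))) :=
        orderOf_map_dvd _ _
      rwa [Subgroup.orderOf_mk] at h1'
    have hcopα : (orderOf α).Coprime p := Nat.Coprime.coprime_dvd_left hord hcop
    have hfixα : ∀ x₀ ∈ D₀, α x₀ = x₀ := by
      intro x₀ hx₀
      apply Subtype.ext
      rw [hα, Subgroup.normalizerMonoidHom_apply_apply_coe]
      have := hfix (P.subtype x₀) (Subgroup.mem_map_of_mem _ hx₀)
      show g * (x₀ : X) * g⁻¹ = x₀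
      rw [show g * (x₀ : X) = (x₀ : X) * g from this, mul_inv_cancel_right]
    have hα1 : α = 1 := h5 α (Subgroup.mem_top α) hcopα hfixα
    have h := congrArg (fun β : MulAut ↥P => ((β ⟨x, hx⟩ : ↥P) : X)) hα1
    simp only [hα, Subgroup.normalizerMonoidHom_apply_apply_coe, MulAut.one_apply] at h
    calc g * x = (g * x * g⁻¹) * g := by group
      _ = x * g := by rw [h]

end Cfsg.Agent.Helper24
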