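import Cfsg.Agent.Helper24.Omega
import Cfsg.Agent.Helper24.Coprime
import Mathlib.GroupTheory.SemidirectProduct

/-!
# Coprime automorphisms of a `p`-group, via the holomorph (helper24)

The elementwise lemmas of `Helper24/Omega.lean` and `Helper24/Coprime.lean` (the `Ω` theorem and
Thompson's `P × Q` lemma) restated for an automorphism `α : MulAut P` and `α`-invariant subgroups.
-/

set_option autoImplicit false

namespace Cfsg.Agent.Helper24

variable {P : Type*} [Group P]

/-- **`Ω` theorem for automorphisms**: `α` has order prime to `p`, `Q` is an `α`-invariant subgroup of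
the `p`-group `P`, and `α` fixes each `x ∈ Q` with `x ^ p = 1` or (`p = 2` and `x ^ 4 = 1`). Then
`α` fixes `Q` elementwise. -/
theorem aut_fix_of_fix_omega [Finite P] {p : ℕ} [Fact p.Prime] (hP : IsPGroup p P)
    (α : MulAut P) (hcop : (orderOf α).Coprime p) (Q : Subgroup P)
    (hQ : ∀ x ∈ Q, α x ∈ Q)
    (hΩ : ∀ x ∈ Q, (x ^ p = 1 ∨ (p = 2 ∧ x ^ 4 = 1)) → α x = x) : ∀ x ∈ Q, α x = x := by
  let φ : MulAut P →* MulAut P := MonoidHom.id _
  let X := P ⋊[φ] MulAut P
  have : Finite X := Finite.of_equiv _ (SemidirectProduct.equivProd (φ := φ)).symm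
  let inl : P →* X := SemidirectProduct.inl
  let inr : MulAut P →* X := SemidirectProduct.inr
  have hinl : Function.Injective inl := SemidirectProduct.inl_injective (φ := φ)
  set Q' : Subgroup X := Q.map inl with hQ'def
  have hQ' : IsPGroup p Q' := by
    intro ⟨y, hy⟩
    obtain ⟨n, hn, rfl⟩ := Subgroup.mem_map.mp hy
    obtain ⟨k, hk⟩ := hP n
    refine ⟨k, Subtype.ext ?_⟩
    simp only [Subgroup.coe_pow, Subgroup.coe_one]
    rw [← map_pow, hk, map_one]
  set a : X := inr α with ha
  have hconj : ∀ (b : MulAut P) (n : P), inr b * inl n * (inr b)⁻¹ = inl (b n) := by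
    intro b n
    have := SemidirectProduct.inl_aut (φ := φ) b n
    rw [map_inv] at this
    exact this.symm
  have haQ' : a ∈ Subgroup.normalizer (Q' : Set X) := by
    apply Subgroup.mem_normalizer_fintype
    intro y hy
    obtain ⟨n, hn, rfl⟩ := Subgroup.mem_map.mp hy
    rw [ha, hconj]
    exact Subgroup.mem_map_of_mem _ (hQ n hn)
  have hord : orderOf a = orderOf α := orderOf_injective inr SemidirectProduct.inr_injective α
  have hcop' : (orderOf a).Coprime p := by rw [hord]; exact hcop
  have hΩ' : ∀ y ∈ Q', (y ^ p = 1 ∨ (p = 2 ∧ y ^ 4 = 1)) → a * y = y * a := by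
    intro y hy hyy
    obtain ⟨n, hn, rfl⟩ := Subgroup.mem_map.mp hy
    have hn' : n ^ p = 1 ∨ (p = 2 ∧ n ^ 4 = 1) := by
      rcases hyy with h | ⟨h2, h⟩
      · left; apply hinl; rw [map_pow, map_one]; exact h
      · right; refine ⟨h2, ?_⟩; apply hinl; rw [map_pow, map_one]; exact h
    have h1 := hconj α n
    rw [hΩ n hn hn'] at h1
    calc a * inl n = (inr α * inl n * (inr α)⁻¹) * inr α := (inv_mul_cancel_right _ _).symm
      _ = inl n * a := by rw [h1]
  have key := commute_of_commute_omega hcop' Q' hQ' haQ' hΩ'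
  intro n hn
  have h1 := key (inl n) (Subgroup.mem_map_of_mem _ hn)
  have h2 := hconj α n
  have h3 : inr α * inl n * (inr α)⁻¹ = inl n := by
    calc inr α * inl n * (inr α)⁻¹ = (a * inl n) * (inr α)⁻¹ := rfl
      _ = (inl n * a) * (inr α)⁻¹ := by rw [h1]
      _ = inl n := mul_inv_cancel_right _ _
  rw [h3] at h2
  exact (hinl h2).symm

/-- **Thompson's `P × Q` lemma for automorphisms** (Gorenstein 5.3.4 when `C_U(A) ≤ A`): `α` has order
prime to `p`, `U` is an `α`-invariant subgroup of the `p`-group `P`, `A` normalizes `U` and is fixed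
elementwise by `α`, and `α` fixes `C_U(A)` elementwise. Then `α` fixes `U` elementwise. -/
theorem aut_fix_of_fix_centralizer [Finite P] {p : ℕ} [Fact p.Prime] (hP : IsPGroup p P)
    (α : MulAut P) (hcop : (orderOf α).Coprime p) (U A : Subgroup P)
    (hU : ∀ x ∈ U, α x ∈ U) (hAU : A ≤ Subgroup.normalizer (U : Set P))
    (hA : ∀ b ∈ A, α b = b)
    (hC : ∀ u ∈ U, (∀ b ∈ A, b * u = u * b) → α u = u) : ∀ u ∈ U, α u = u := by
  let φ : MulAut P →* MulAut P := MonoidHom.id _
  let X := P ⋊[φ] MulAut P
  have : Finite X := Finite.of_equiv _ (SemidirectProduct.equivProd (φ := φ)).symm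
  let inl : P →* X := SemidirectProduct.inl
  let inr : MulAut P →* X := SemidirectProduct.inr
  have hinl : Function.Injective inl := SemidirectProduct.inl_injective (φ := φ)
  have hpg : ∀ Q : Subgroup P, IsPGroup p (Q.map inl) := by
    intro Q ⟨y, hy⟩
    obtain ⟨n, hn, rfl⟩ := Subgroup.mem_map.mp hy
    obtain ⟨k, hk⟩ := hP n
    refine ⟨k, Subtype.ext ?_⟩
    simp only [Subgroup.coe_pow, Subgroup.coe_one]
    rw [← map_pow, hk, map_one]
  set U' : Subgroup X := U.map inl with hU'def
  set A' : Subgroup X := A.map inl with hA'def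
  set a : X := inr α with ha
  have hconj : ∀ (b : MulAut P) (n : P), inr b * inl n * (inr b)⁻¹ = inl (b n) := by
    intro b n
    have := SemidirectProduct.inl_aut (φ := φ) b n
    rw [map_inv] at this
    exact this.symm
  have haU' : a ∈ Subgroup.normalizer (U' : Set X) := by
    apply Subgroup.mem_normalizer_fintype
    intro y hy
    obtain ⟨n, hn, rfl⟩ := Subgroup.mem_map.mp hy
    rw [ha, hconj]
    exact Subgroup.mem_map_of_mem _ (hU n hn)
  have hA'U' : A' ≤ Subgroup.normalizer (U' : Set X) := by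
    intro y hy
    obtain ⟨b, hb, rfl⟩ := Subgroup.mem_map.mp hy
    apply Subgroup.mem_normalizer_fintype
    intro z hz
    obtain ⟨n, hn, rfl⟩ := Subgroup.mem_map.mp hz
    rw [← map_inv, ← map_mul, ← map_mul]
    exact Subgroup.mem_map_of_mem _ (conj_mem_of_mem_normalizer (hAU hb) hn)
  have hord : orderOf a = orderOf α := orderOf_injective inr SemidirectProduct.inr_injective α
  have hcop' : (orderOf a).Coprime p := by rw [hord]; exact hcop
  have hcomm : ∀ n : P, α n = n → a * inl n = inl n * a := by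
    intro n hn
    have h1 := hconj α n
    rw [hn] at h1
    calc a * inl n = (inr α * inl n * (inr α)⁻¹) * inr α := (inv_mul_cancel_right _ _).symm
      _ = inl n * a := by rw [h1]
  have haA' : ∀ b ∈ A', a * b = b * a := by
    intro y hy
    obtain ⟨b, hb, rfl⟩ := Subgroup.mem_map.mp hy
    exact hcomm b (hA b hb)
  have hC' : ∀ u ∈ U', (∀ b ∈ A', b * u = u * b) → a * u = u * a := by
    intro y hy hyb
    obtain ⟨u, hu, rfl⟩ := Subgroup.mem_map.mp hy
    apply hcomm u
    apply hC u hu
    intro b hb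
    apply hinl
    rw [map_mul, map_mul]
    exact hyb (inl b) (Subgroup.mem_map_of_mem _ hb)
  have key := thompson_PxQ (hpg U) (hpg A) hA'U' haU' hcop' haA' hC'
  intro n hn
  have h1 := key (inl n) (Subgroup.mem_map_of_mem _ hn)
  have h2 := hconj α n
  have h3 : inr α * inl n * (inr α)⁻¹ = inl n := by
    calc inr α * inl n * (inr α)⁻¹ = (a * inl n) * (inr α)⁻¹ := rfl
      _ = (inl n * a) * (inr α)⁻¹ := by rw [h1]
      _ = inl n := mul_inv_cancel_right _ _
  rw [h3] at h2
  exact (hinl h2).symm

/-- An automorphism of order prime to `p` of a `p`-group that fixes `x⁻¹ * α x` for all `x`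
is trivial. -/
theorem aut_eq_one_of_fix_comm [Finite P] {p : ℕ} [Fact p.Prime] (hP : IsPGroup p P)
    (α : MulAut P) (hcop : (orderOf α).Coprime p)
    (h : ∀ x : P, α (x⁻¹ * α x) = x⁻¹ * α x) : α = 1 := by
  ext x
  set y := x⁻¹ * α x with hy
  have hαx : α x = x * y := by rw [hy]; group
  have hpow : ∀ n : ℕ, (α ^ n) x = x * y ^ n := by
    intro n
    induction n with
    | zero => simp
    | succ n ih =>
      rw [pow_succ', MulAut.mul_apply, ih, map_mul, map_pow, hαx, h x, pow_succ', mul_assoc]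
  have h1 := hpow (orderOf α)
  rw [pow_orderOf_eq_one, MulAut.one_apply] at h1
  have h2 : y ^ orderOf α = 1 := by
    have : x * y ^ orderOf α = x * 1 := by rw [mul_one]; exact h1.symm
    exact mul_left_cancel this
  have h3 : orderOf y ∣ orderOf α := orderOf_dvd_of_pow_eq_one h2
  obtain ⟨k, hk⟩ := hP y
  have h4 : orderOf y ∣ p ^ k := orderOf_dvd_of_pow_eq_one hk
  have h5 : orderOf y = 1 := by
    have hc : (orderOf α).Coprime (p ^ k) := Nat.Coprime.pow_right k hcop
    exact Nat.eq_one_of_dvd_coprimes hc h3 h4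
  have h6 : y = 1 := orderOf_eq_one_iff.mp h5
  rw [MulAut.one_apply, hαx, h6, mul_one]

end Cfsg.Agent.Helper24
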