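import Mathlib
import Cfsg.Agent.Helper1.HKK.Basic
import Cfsg.Agent.Helper1.HKK.LoopDefs
import Cfsg.Agent.Helper1.HKK.GroupDefs

/-!
# (A2d) of helper1's S3779 (Higman–Kreknin–Kostrikin): multilinearity of left-normed brackets

Left-normed brackets of sums of homogeneous elements lie in the sum of the lower central family.
-/

set_option autoImplicit false

namespace Cfsg.Agent.Helper24.HKK

open Cfsg.Agent.Helper1.HKK

/-- bracket of a sum of elements of `lcf M c` with a sum of homogeneous elements -/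
theorem lie_mem_iSup_lcf_succ {n : ℕ} {K : Type*} [LieRing K] (M : ZMod n → AddSubgroup K)
    (c : ℕ) (x y : K) (hx : x ∈ ⨆ d, lcf M c d) (hy : y ∈ ⨆ k, M k) :
    ⁅x, y⁆ ∈ ⨆ d, lcf M (c + 1) d := by
  refine AddSubgroup.iSup_induction (fun d => lcf M c d)
    (C := fun x => ⁅x, y⁆ ∈ ⨆ d, lcf M (c + 1) d) hx ?_ ?_ ?_
  · intro i x hxi
    refine AddSubgroup.iSup_induction M
      (C := fun y => ⁅x, y⁆ ∈ ⨆ d, lcf M (c + 1) d) hy ?_ ?_ ?_
    · intro j y hyj
      exact AddSubgroup.mem_iSup_of_mem (i + j) (mem_lcfStep_of_mem hxi hyj)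
    · rw [lie_zero]
      exact zero_mem _
    · intro y1 y2 h1 h2
      rw [lie_add]
      exact add_mem h1 h2
  · rw [zero_lie]
    exact zero_mem _
  · intro x1 x2 h1 h2
    rw [add_lie]
    exact add_mem h1 h2

/-- general form: start from any level `c` -/
theorem lnb_mem_iSup_lcf_add {n : ℕ} {K : Type*} [LieRing K] (M : ZMod n → AddSubgroup K)
    (ys : List K) (hys : ∀ y ∈ ys, y ∈ ⨆ k, M k) :
    ∀ (c : ℕ) (x : K), x ∈ ⨆ d, lcf M c d → lnb x ys ∈ ⨆ d, lcf M (c + ys.length) d := by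
  induction ys with
  | nil =>
    intro c x hx
    rw [lnb_nil, List.length_nil, Nat.add_zero]
    exact hx
  | cons y ys ih =>
    intro c x hx
    have hy : y ∈ ⨆ k, M k := hys y (List.mem_cons_self)
    have hys' : ∀ z ∈ ys, z ∈ ⨆ k, M k := fun z hz => hys z (List.mem_cons_of_mem _ hz)
    have h1 := lie_mem_iSup_lcf_succ M c x y hx hy
    have h2 := ih hys' (c + 1) ⁅x, y⁆ h1
    rw [lnb_cons, List.length_cons]
    have e : c + (ys.length + 1) = c + 1 + ys.length := by omega
    rw [e]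
    exact h2

/-- (A2d) multilinearity: left-normed brackets of sums of homogeneous elements. -/
theorem lnb_mem_iSup_lcf {n : ℕ} {K : Type*} [LieRing K] (M : ZMod n → AddSubgroup K) (x : K) (ys : List K)
    (hx : x ∈ ⨆ k, M k) (hys : ∀ y ∈ ys, y ∈ ⨆ k, M k) :
    lnb x ys ∈ ⨆ d, lcf M ys.length d := by
  have h := lnb_mem_iSup_lcf_add M ys hys 0 x hx
  rwa [Nat.zero_add] at h

end Cfsg.Agent.Helper24.HKK
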