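import Mathlib

set_option autoImplicit false

/-!
# Zassenhaus project: lifting a Klein triple through a central extension by an involution
-/

namespace Cfsg.Agent.Helper24.Zas

/-- A "binary tetrahedral" triple relative to the involution `z`. -/
def HasTriple {G : Type*} [Group G] (z : G) : Prop :=
  ∃ I J x : G, I ^ 2 = z ∧ J ^ 2 = z ∧ J * I * J⁻¹ = I⁻¹ ∧ x ^ 3 = 1 ∧ x * I * x⁻¹ = J ∧
    x * J * x⁻¹ = I * J

/-- A Klein four-group with an element of order `3` permuting its involutions. -/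
def HasKleinTriple (Q : Type*) [Group Q] : Prop :=
  ∃ a b c : Q, a ≠ 1 ∧ b ≠ 1 ∧ a ≠ b ∧ a ^ 2 = 1 ∧ b ^ 2 = 1 ∧ a * b = b * a ∧ c ^ 3 = 1 ∧
    c * a * c⁻¹ = b ∧ c * b * c⁻¹ = a * b

theorem HasKleinTriple.of_equiv {Q Q' : Type*} [Group Q] [Group Q'] (e : Q ≃* Q')
    (h : HasKleinTriple Q') : HasKleinTriple Q := by
  obtain ⟨a, b, c, ha, hb, hab, ha2, hb2, hcomm, hc3, hca, hcb⟩ := h
  refine ⟨e.symm a, e.symm b, e.symm c, ?_, ?_, ?_, ?_, ?_, ?_, ?_, ?_, ?_⟩
  · intro h; apply ha; simpa using congrArg e h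
  · intro h; apply hb; simpa using congrArg e h
  · intro h; apply hab; simpa using congrArg e h
  · rw [← map_pow, ha2, map_one]
  · rw [← map_pow, hb2, map_one]
  · rw [← map_mul, ← map_mul, hcomm]
  · rw [← map_pow, hc3, map_one]
  · rw [← map_inv, ← map_mul, ← map_mul, hca]
  · rw [← map_inv, ← map_mul, ← map_mul, ← map_mul, hcb]

theorem HasTriple.map {G H : Type*} [Group G] [Group H] (f : G →* H) {z : G} (h : HasTriple z) :
    HasTriple (f z) := by
  obtain ⟨I, J, x, h1, h2, h3, h4, h5, h6⟩ := h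
  refine ⟨f I, f J, f x, ?_, ?_, ?_, ?_, ?_, ?_⟩
  · rw [← map_pow, h1]
  · rw [← map_pow, h2]
  · rw [← map_inv, ← map_mul, ← map_mul, h3, map_inv]
  · rw [← map_pow, h4, map_one]
  · rw [← map_inv, ← map_mul, ← map_mul, h5]
  · rw [← map_inv, ← map_mul, ← map_mul, h6, map_mul]

theorem kleinTriple_S4 : HasKleinTriple (Equiv.Perm (Fin 4)) :=
  ⟨Equiv.swap 0 1 * Equiv.swap 2 3, Equiv.swap 0 3 * Equiv.swap 1 2,
    Equiv.swap 0 1 * Equiv.swap 1 2, by decide, by decide, by decide, by decide, by decide,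
    by decide, by decide, by decide, by decide⟩

theorem kleinTriple_A4 : HasKleinTriple (alternatingGroup (Fin 4)) :=
  ⟨⟨Equiv.swap 0 1 * Equiv.swap 2 3, Equiv.Perm.mem_alternatingGroup.mpr (by decide)⟩, ⟨Equiv.swap 0 3 * Equiv.swap 1 2, Equiv.Perm.mem_alternatingGroup.mpr (by decide)⟩,
    ⟨Equiv.swap 0 1 * Equiv.swap 1 2, Equiv.Perm.mem_alternatingGroup.mpr (by decide)⟩, by decide, by decide, by decide, by decide,
    by decide, by decide, by decide, by decide, by decide⟩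

theorem kleinTriple_A5 : HasKleinTriple (alternatingGroup (Fin 5)) :=
  ⟨⟨Equiv.swap 0 1 * Equiv.swap 2 3, Equiv.Perm.mem_alternatingGroup.mpr (by decide)⟩, ⟨Equiv.swap 0 3 * Equiv.swap 1 2, Equiv.Perm.mem_alternatingGroup.mpr (by decide)⟩,
    ⟨Equiv.swap 0 1 * Equiv.swap 1 2, Equiv.Perm.mem_alternatingGroup.mpr (by decide)⟩, by decide, by decide, by decide, by decide,
    by decide, by decide, by decide, by decide, by decide⟩

set_option maxRecDepth 100000 in
theorem exponent_S4 (q : Equiv.Perm (Fin 4)) :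
    q ^ 1 = 1 ∨ q ^ 2 = 1 ∨ q ^ 3 = 1 ∨ q ^ 4 = 1 ∨ q ^ 5 = 1 := by
  revert q; decide

theorem exponent_A4 (q : alternatingGroup (Fin 4)) :
    q ^ 1 = 1 ∨ q ^ 2 = 1 ∨ q ^ 3 = 1 ∨ q ^ 4 = 1 ∨ q ^ 5 = 1 := by
  revert q; decide

set_option maxRecDepth 100000 in
theorem exponent_A5 (q : alternatingGroup (Fin 5)) :
    q ^ 1 = 1 ∨ q ^ 2 = 1 ∨ q ^ 3 = 1 ∨ q ^ 4 = 1 ∨ q ^ 5 = 1 := by
  revert q; decide


/-- Lifting a Klein triple through a central extension by the unique involution. -/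
theorem hasTriple_of_kleinTriple {Γ Q : Type*} [Group Γ] [Group Q] (f : Γ →* Q)
    (hf : Function.Surjective f) (z : Γ) (hz2 : z ^ 2 = 1) (hzc : ∀ g, g * z = z * g)
    (hker : ∀ g, f g = 1 ↔ g = 1 ∨ g = z)
    (hinv : ∀ g : Γ, g ^ 2 = 1 → g = 1 ∨ g = z)
    (hQ : HasKleinTriple Q) : HasTriple z := by
  obtain ⟨a, b, c, ha, hb, hab, ha2, hb2, hcomm, hc3, hca, hcb⟩ := hQ
  obtain ⟨I, rfl⟩ := hf a
  obtain ⟨b', rfl⟩ := hf b
  obtain ⟨c', rfl⟩ := hf c
  have hfz : f z = 1 := (hker z).mpr (Or.inr rfl)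
  have hzz : z * z = 1 := by rw [← pow_two]; exact hz2
  have hzinv : z⁻¹ = z := inv_eq_of_mul_eq_one_left hzz
  have hcoset : ∀ g h : Γ, f g = f h → g = h ∨ g = h * z := by
    intro g h hgh
    have : f (h⁻¹ * g) = 1 := by rw [map_mul, map_inv, hgh, inv_mul_cancel]
    rcases (hker _).mp this with h1 | h1
    · left; exact (inv_mul_eq_one.mp h1).symm
    · right; rw [← h1]; group
  have hsq : ∀ g : Γ, f g ≠ 1 → (f g) ^ 2 = 1 → g ^ 2 = z := by
    intro g hg1 hg2
    have : f (g ^ 2) = 1 := by rw [map_pow, hg2]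
    rcases (hker _).mp this with h1 | h1
    · exfalso
      apply hg1
      rcases hinv g h1 with h2 | h2
      · rw [h2, map_one]
      · rw [h2, hfz]
    · exact h1
  have hI2 : I ^ 2 = z := hsq I ha ha2
  have hb'2 : b' ^ 2 = z := hsq b' hb hb2
  have hIinv : I⁻¹ = I * z := by
    apply inv_eq_of_mul_eq_one_right
    rw [← mul_assoc, ← pow_two, hI2, hzz]
  -- b' inverts I
  have hbI : b' * I * b'⁻¹ = I⁻¹ := by
    have h1 : f (b' * I * b'⁻¹) = f I := by
      rw [map_mul, map_mul, map_inv, ← hcomm, mul_inv_cancel_right]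
    rcases hcoset _ _ h1 with h2 | h2
    · exfalso
      have h3 : b' * I = I * b' := by
        calc b' * I = (b' * I * b'⁻¹) * b' := by group
          _ = I * b' := by rw [h2]
      have h4 : (I * b') ^ 2 = 1 := by
        have : (I * b') ^ 2 = I ^ 2 * b' ^ 2 := by
          rw [pow_two, pow_two, pow_two]
          calc I * b' * (I * b') = I * (b' * I) * b' := by group
            _ = I * (I * b') * b' := by rw [h3]
            _ = I * I * (b' * b') := by group
        rw [this, hI2, hb'2, hzz]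
      have h5 : f (I * b') = 1 := by
        rcases hinv _ h4 with h6 | h6
        · rw [h6, map_one]
        · rw [h6, hfz]
      rw [map_mul] at h5
      apply hab
      have h7 : f b' * f b' = 1 := by rw [← pow_two]; exact hb2
      calc f I = f I * (f b' * f b') := by rw [h7, mul_one]
        _ = (f I * f b') * f b' := by group
        _ = f b' := by rw [h5, one_mul]
    · rw [h2, hIinv]
  -- normalise c
  obtain ⟨c, hc3', hfc⟩ : ∃ c : Γ, c ^ 3 = 1 ∧ f c = f c' := by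
    have : f (c' ^ 3) = 1 := by rw [map_pow, hc3]
    rcases (hker _).mp this with h1 | h1
    · exact ⟨c', h1, rfl⟩
    · refine ⟨c' * z, ?_, by rw [map_mul, hfz, mul_one]⟩
      have hcz : Commute c' z := hzc c'
      rw [hcz.mul_pow, h1]
      have : z ^ 3 = z := by rw [pow_succ, hz2, one_mul]
      rw [this, hzz]
  have hconjz : ∀ g : Γ, g * z * g⁻¹ = z := by
    intro g
    rw [hzc g]; group
  set J := c * I * c⁻¹ with hJ
  have hfJ : f J = f b' := by
    rw [hJ, map_mul, map_mul, map_inv, hfc, ← map_inv, ← map_mul, ← map_mul]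
    rw [map_mul, map_mul, map_inv]; exact hca
  have hJ2 : J ^ 2 = z := by
    rw [hJ, conj_pow, hI2, hconjz]
  have hJI : J * I * J⁻¹ = I⁻¹ := by
    rcases hcoset _ _ hfJ with h1 | h1
    · rw [h1]; exact hbI
    · rw [h1, ← hbI]
      have : (b' * z)⁻¹ = z * b'⁻¹ := by rw [mul_inv_rev, hzinv]
      rw [this]
      calc b' * z * I * (z * b'⁻¹) = b' * ((z * I) * z) * b'⁻¹ := by group
        _ = b' * ((I * z) * z) * b'⁻¹ := by rw [hzc I]
        _ = b' * I * b'⁻¹ := by rw [mul_assoc I, hzz, mul_one]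
  have hfcJ : f (c * J * c⁻¹) = f (I * J) := by
    rw [map_mul, map_mul, map_inv, hfc, hfJ, map_mul, hfJ]
    exact hcb
  have hc2 : c * c = c⁻¹ := by
    apply eq_inv_of_mul_eq_one_left
    rw [← hc3', pow_succ, pow_two]
  rcases hcoset _ _ hfcJ with h1 | h1
  · exact ⟨I, J, c, hI2, hJ2, hJI, hc3', rfl, h1⟩
  · -- use `(I, c J c⁻¹, c⁻¹)`
    set J' := c * J * c⁻¹ with hJ'
    have hJ'2 : J' ^ 2 = z := by rw [hJ', conj_pow, hJ2, hconjz]
    have hJ'I : J' * I * J'⁻¹ = I⁻¹ := by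
      rw [h1]
      have : (I * J * z)⁻¹ = z * J⁻¹ * I⁻¹ := by rw [mul_inv_rev, mul_inv_rev, hzinv, mul_assoc]
      rw [this]
      calc I * J * z * I * (z * J⁻¹ * I⁻¹) = I * J * ((z * I) * z) * J⁻¹ * I⁻¹ := by group
        _ = I * J * ((I * z) * z) * J⁻¹ * I⁻¹ := by rw [hzc I]
        _ = I * (J * I * J⁻¹) * I⁻¹ := by rw [mul_assoc I z z, hzz, mul_one]; group
        _ = I⁻¹ := by rw [hJI]; group
    have hcI : c⁻¹ * I * c⁻¹⁻¹ = J' := by
      rw [hJ', hJ, inv_inv]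
      calc c⁻¹ * I * c = (c * c) * I * (c * c)⁻¹ := by rw [hc2, inv_inv]
        _ = c * (c * I * c⁻¹) * c⁻¹ := by group
    have hcJ' : c⁻¹ * J' * c⁻¹⁻¹ = I * J' := by
      have e1 : c⁻¹ * J' * c⁻¹⁻¹ = J := by rw [hJ']; group
      rw [e1, h1]
      calc J = (I * I) * J * z := by
              rw [← pow_two, hI2, hzc (z * J), ← mul_assoc, hzz, one_mul]
        _ = I * (I * J * z) := by group
    refine ⟨I, J', c⁻¹, hI2, hJ'2, hJ'I, ?_, hcI, hcJ'⟩
    rw [inv_pow, hc3', inv_one]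

end Cfsg.Agent.Helper24.Zas
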