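import Mathlib
import Cfsg.Agent.S0016
import Cfsg.Agent.Helper24.ZasLift

/-!
# Zassenhaus project: abstract group-theoretic context and basic lemmas
-/

set_option autoImplicit false
set_option linter.style.haveILetI false
set_option linter.deprecated false

open Subgroup

namespace Cfsg.Agent.Helper24.Zas

/-- The abstract context extracted from a fixed-point-free linear representation. -/
structure ZCtx (G : Type*) [Group G] (z : G) : Prop where
  hz1 : z ≠ 1
  hz2 : z ^ 2 = 1
  invol : ∀ g : G, g ^ 2 = 1 → g = 1 ∨ g = z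
  abel : ∀ B : Subgroup G, (∀ a ∈ B, ∀ b ∈ B, a * b = b * a) → IsCyclic B
  pair : ∀ x y : G, x ≠ 1 → x ^ 3 = 1 → y ^ 2 = z →
    x * y = y * x ∨ y * x * y⁻¹ = x⁻¹ ∨
      (HasTriple z ∧ ∃ n : ℕ, 3 ≤ n ∧ n ≤ 5 ∧ ((x * y) ^ n = 1 ∨ (x * y) ^ n = z))
  lemB : ∀ I J x k : G, I ^ 2 = z → J ^ 2 = z → J * I * J⁻¹ = I⁻¹ → x ^ 3 = 1 →
    x * I * x⁻¹ = J → x * J * x⁻¹ = I * J → k * I = I * k → J * k * J⁻¹ = k⁻¹ → k ^ 8 = 1
  frob7 : ∀ x w : G, w ^ 7 = 1 → x ^ 3 = 1 → x * w * x⁻¹ ∈ zpowers w → x * w = w * x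

variable {G : Type*} [Group G] {z : G}

theorem ZCtx.central (C : ZCtx G z) (g : G) : g * z = z * g := by
  have h : (g * z * g⁻¹) ^ 2 = 1 := by
    rw [conj_pow, C.hz2, mul_one, mul_inv_cancel]
  rcases C.invol _ h with h1 | h1
  · exfalso
    apply C.hz1
    have : z = g⁻¹ * (g * z * g⁻¹) * g := by group
    rw [this, h1]
    group
  · calc g * z = (g * z * g⁻¹) * g := by group
      _ = z * g := by rw [h1]

theorem ZCtx.zz (C : ZCtx G z) : z * z = 1 := by rw [← pow_two]; exact C.hz2

theorem ZCtx.zinv (C : ZCtx G z) : z⁻¹ = z := inv_eq_of_mul_eq_one_left C.zz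

/-- A homomorphism from a perfect group with commuting values is trivial. -/
theorem perfect_map_eq_one {H : Type*} [Group H] (hperf : commutator G = ⊤) (f : G →* H)
    (hc : ∀ a b : G, f a * f b = f b * f a) (g : G) : f g = 1 := by
  have hle : commutator G ≤ f.ker := by
    rw [commutator_def, Subgroup.commutator_le]
    intro a _ b _
    rw [MonoidHom.mem_ker, map_commutatorElement, commutatorElement_def, hc a b]
    group
  have hg : g ∈ f.ker := hle (hperf ▸ mem_top g)
  exact hg

/-- A cyclic normal subgroup of a perfect group is central. -/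
theorem cyclic_normal_central (hperf : commutator G = ⊤) (N : Subgroup G) [hN : N.Normal]
    (hc : IsCyclic N) (n : G) (hn : n ∈ N) (g : G) : g * n = n * g := by
  have hcomm : ∀ a b : MulAut N, a * b = b * a := by
    intro a b
    apply (IsCyclic.mulAutMulEquiv N).injective
    rw [map_mul, map_mul, mul_comm]
  have h1 := perfect_map_eq_one hperf (MulAut.conjNormal : G →* MulAut N)
    (fun a b => hcomm _ _) g
  have h2 := congrArg (fun σ : MulAut N => ((σ ⟨n, hn⟩ : N) : G)) h1
  simp only [MulAut.one_apply, MulAut.conjNormal_apply] at h2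
  calc g * n = (g * n * g⁻¹) * g := by group
    _ = n * g := by rw [h2]

/-- In a finite cyclic group, elements of order dividing a prime `r` lie in any subgroup of
order `r`. -/
theorem mem_zpowers_of_cyclic {H : Type*} [Group H] [Finite H] [IsCyclic H] {r : ℕ}
    (hr : r.Prime) {x y : H} (hx1 : x ≠ 1) (hxr : x ^ r = 1) (hyr : y ^ r = 1) :
    y ∈ zpowers x := by
  classical
  haveI := Fintype.ofFinite H
  haveI : Fact r.Prime := ⟨hr⟩
  have hle := IsCyclic.card_pow_eq_one_le (α := H) hr.pos
  have hsub : (Finset.univ.filter (fun a : H => a ∈ zpowers x)) ⊆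
      Finset.univ.filter (fun a : H => a ^ r = 1) := by
    intro a ha
    simp only [Finset.mem_filter, Finset.mem_univ, true_and] at ha ⊢
    obtain ⟨k, rfl⟩ := Subgroup.mem_zpowers_iff.mp ha
    rw [← zpow_natCast, ← zpow_mul, mul_comm, zpow_mul, zpow_natCast, hxr, one_zpow]
  have hcard : (Finset.univ.filter (fun a : H => a ∈ zpowers x)).card = r := by
    rw [← Fintype.card_subtype, ← orderOf_eq_prime hxr hx1]
    exact Fintype.card_zpowers
  have heq := Finset.eq_of_subset_of_card_le hsub (by rw [hcard]; exact hle)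
  have hy : y ∈ Finset.univ.filter (fun a : H => a ^ r = 1) := by simp [hyr]
  rw [← heq] at hy
  simpa using hy

/-- Commuting elements of prime order generate the same cyclic subgroup. -/
theorem ZCtx.mem_zpowers_of_comm [Finite G] (C : ZCtx G z) {r : ℕ} (hr : r.Prime) {c h : G}
    (hc1 : c ≠ 1) (hcr : c ^ r = 1) (hhr : h ^ r = 1) (hch : c * h = h * c) :
    h ∈ zpowers c := by
  have hcomm : ∀ a ∈ ({c, h} : Set G), ∀ b ∈ ({c, h} : Set G), a * b = b * a := by
    intro a ha b hb
    simp only [Set.mem_insert_iff, Set.mem_singleton_iff] at ha hb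
    rcases ha with rfl | rfl <;> rcases hb with rfl | rfl
    · rfl
    · exact hch
    · exact hch.symm
    · rfl
  let B : Subgroup G := closure {c, h}
  have hB : ∀ a ∈ B, ∀ b ∈ B, a * b = b * a := by
    intro a ha b hb
    have := (Subgroup.closureCommGroupOfComm hcomm).mul_comm ⟨a, ha⟩ ⟨b, hb⟩
    exact congrArg Subtype.val this
  haveI : IsCyclic B := C.abel B hB
  have hcB : c ∈ B := subset_closure (by simp)
  have hhB : h ∈ B := subset_closure (by simp)
  have key := mem_zpowers_of_cyclic (H := B) hr (x := ⟨c, hcB⟩) (y := ⟨h, hhB⟩)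
    (fun e => hc1 (congrArg Subtype.val e)) (Subtype.ext (by simpa using hcr))
    (Subtype.ext (by simpa using hhr))
  obtain ⟨k, hk⟩ := Subgroup.mem_zpowers_iff.mp key
  rw [Subgroup.mem_zpowers_iff]
  refine ⟨k, ?_⟩
  have := congrArg Subtype.val hk
  simpa using this

/-- **Transfer lemma**: in a perfect group with a cyclic Sylow `r`-subgroup `R`, an element of
order `r` of `R` is not centralized by the normalizer of the subgroup it generates. -/
theorem exists_normalizing_not_centralizing [Finite G] (hperf : commutator G = ⊤) {r : ℕ}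
    [hr : Fact r.Prime] (R : Sylow r G) (hR : IsCyclic R) (x : G) (hxR : x ∈ R) (hx1 : x ≠ 1)
    (hxr : x ^ r = 1) : ∃ g : G, g * x * g⁻¹ ∈ zpowers x ∧ g * x * g⁻¹ ≠ x := by
  by_contra hcon
  push Not at hcon
  letI : CommGroup R := IsCyclic.commGroup
  have hord : orderOf x = r := orderOf_eq_prime hxr hx1
  -- conjugates of powers of x lying in R are fixed
  have key : ∀ (k : ℕ) (g₀ : G), g₀⁻¹ * x ^ k * g₀ ∈ (R : Subgroup G) →
      g₀⁻¹ * x ^ k * g₀ = x ^ k := by
    intro k g₀ hmem
    by_cases hk1 : x ^ k = 1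
    · rw [hk1]; group
    -- the conjugate lies in zpowers x
    have hyr : (g₀⁻¹ * x ^ k * g₀) ^ r = 1 := by
      have : g₀⁻¹ * x ^ k * g₀ = g₀⁻¹ * x ^ k * g₀⁻¹⁻¹ := by rw [inv_inv]
      rw [this, conj_pow, ← pow_mul, mul_comm, pow_mul, hxr, one_pow]
      group
    have h1 : (⟨g₀⁻¹ * x ^ k * g₀, hmem⟩ : R) ∈ zpowers (⟨x, hxR⟩ : R) :=
      mem_zpowers_of_cyclic hr.out (fun e => hx1 (congrArg Subtype.val e))
        (Subtype.ext (by simpa using hxr)) (Subtype.ext (by simpa using hyr))
    obtain ⟨j, hj⟩ := Subgroup.mem_zpowers_iff.mp h1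
    have hj' : x ^ j = g₀⁻¹ * x ^ k * g₀ := by
      have := congrArg Subtype.val hj
      simpa using this
    -- x is a power of x ^ k
    have hxk : (⟨x, hxR⟩ : R) ∈ zpowers (⟨x ^ k, (R : Subgroup G).pow_mem hxR k⟩ : R) :=
      mem_zpowers_of_cyclic hr.out (fun e => hk1 (congrArg Subtype.val e))
        (Subtype.ext (by
          show (x ^ k) ^ r = 1
          rw [← pow_mul, mul_comm, pow_mul, hxr, one_pow]))
        (Subtype.ext (by simpa using hxr))
    obtain ⟨i, hi⟩ := Subgroup.mem_zpowers_iff.mp hxk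
    have hi' : (x ^ k) ^ i = x := by
      have := congrArg Subtype.val hi
      simpa using this
    have hconj : g₀⁻¹ * x * g₀⁻¹⁻¹ ∈ zpowers x := by
      rw [inv_inv]
      have : g₀⁻¹ * x * g₀ = (g₀⁻¹ * x ^ k * g₀) ^ i := by
        have h2 : g₀⁻¹ * x ^ k * g₀ = g₀⁻¹ * x ^ k * g₀⁻¹⁻¹ := by rw [inv_inv]
        rw [h2, conj_zpow, hi', inv_inv]
      rw [this, ← hj', ← zpow_mul]
      exact Subgroup.zpow_mem_zpowers x _
    have hfix := hcon g₀⁻¹ hconj
    rw [inv_inv] at hfix
    calc g₀⁻¹ * x ^ k * g₀ = (g₀⁻¹ * x * g₀) ^ k := by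
          have h2 : g₀⁻¹ * x * g₀ = g₀⁻¹ * x * g₀⁻¹⁻¹ := by rw [inv_inv]
          rw [h2, conj_pow, inv_inv]
      _ = x ^ k := by rw [hfix]
  have htr := MonoidHom.transfer_eq_pow (MonoidHom.id R) x key
  have h1 := perfect_map_eq_one hperf (MonoidHom.transfer (MonoidHom.id R))
    (fun a b => mul_comm _ _) x
  rw [h1] at htr
  have h2 : x ^ (R : Subgroup G).index = 1 := by
    have := congrArg Subtype.val htr
    simpa using this.symm
  have h3 : r ∣ (R : Subgroup G).index := by
    have := orderOf_dvd_of_pow_eq_one h2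
    rwa [hord] at this
  exact R.not_dvd_index h3

/-- Burnside's transfer theorem in a perfect group. -/
theorem burnside_perfect [Finite G] (hperf : commutator G = ⊤) {r : ℕ} [Fact r.Prime]
    (P : Sylow r G) (hNC : normalizer (P : Set G) ≤ centralizer (P : Set G)) :
    (P : Subgroup G) = ⊥ := by
  have hcomp := MonoidHom.ker_transferSylow_isComplement' P hNC
  have h1 := perfect_map_eq_one hperf (MonoidHom.transferSylow P hNC)
    (fun a b => Subtype.ext (hNC (le_normalizer (MonoidHom.transferSylow P hNC b).2) _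
      (MonoidHom.transferSylow P hNC a).2))
  have hk : (MonoidHom.transferSylow P hNC).ker = ⊤ := by
    ext g
    simp [MonoidHom.mem_ker, h1 g]
  rw [hk] at hcomp
  exact Subgroup.isComplement'_top_left.mp hcomp

/-- **Lemma P**: a quotient of a perfect group all of whose Sylow subgroups are cyclic is
trivial. -/
theorem eq_top_of_cyclic_sylow_images [Finite G] (hperf : commutator G = ⊤) (N : Subgroup G)
    [N.Normal]
    (h : ∀ (r : ℕ) [Fact r.Prime], ∃ P : Sylow r G,
      IsCyclic ((P : Subgroup G).map (QuotientGroup.mk' N))) : N = ⊤ := by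
  have hQ : commutator (G ⧸ N) = ⊤ := by
    rw [commutator_def, ← Subgroup.map_top_of_surjective (QuotientGroup.mk' N)
      (QuotientGroup.mk'_surjective N), ← Subgroup.map_commutator, ← commutator_def, hperf]
  haveI : IsZGroup (G ⧸ N) := by
    refine ⟨fun r hr P' => ?_⟩
    haveI : Fact r.Prime := ⟨hr⟩
    obtain ⟨P, hP⟩ := h r
    let P₀ : Sylow r (G ⧸ N) := P.mapSurjective (QuotientGroup.mk'_surjective N)
    obtain ⟨g, hg⟩ := MulAction.exists_smul_eq (G ⧸ N) P₀ P'
    haveI : IsCyclic P₀ := hP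
    rw [← hg]
    exact isCyclic_of_surjective (Sylow.equivSMul P₀ g) (Sylow.equivSMul P₀ g).surjective
  by_contra hne
  haveI : Nontrivial (G ⧸ N) := by
    by_contra hnt
    rw [not_nontrivial_iff_subsingleton] at hnt
    apply hne
    rw [eq_top_iff]
    intro g _
    rw [← QuotientGroup.eq_one_iff]
    exact Subsingleton.elim _ _
  have := IsSolvable.commutator_lt_top_of_nontrivial (G ⧸ N)
  rw [hQ] at this
  exact lt_irrefl _ this

/-- `r`-subgroups are cyclic or generalized quaternion. -/
theorem ZCtx.pgroup_struct [Finite G] (C : ZCtx G z) (r : ℕ) [hr : Fact r.Prime]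
    (T : Subgroup G) (hT : IsPGroup r T) :
    IsCyclic T ∨ (r = 2 ∧ ∃ n : ℕ, Nonempty (T ≃* QuaternionGroup (2 ^ n))) := by
  apply Cfsg.Agent.S0016.result r hT
  -- uniqueness of the subgroup of order r
  have main : ∀ H : Subgroup T, Nat.card H = r →
      ∃ c : T, c ≠ 1 ∧ c ^ r = 1 ∧ (∀ t : T, c * t = t * c) := by
    intro H hH
    haveI : Nontrivial T := by
      have h1 : 1 < Nat.card H := by rw [hH]; exact hr.out.one_lt
      haveI : Nontrivial H := Finite.one_lt_card_iff_nontrivial.mp h1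
      obtain ⟨a, ha⟩ := exists_ne (1 : H)
      exact ⟨⟨(a : T), 1, fun e => ha (Subtype.ext e)⟩⟩
    have hcen := hT.center_nontrivial
    have hcenP : IsPGroup r (Subgroup.center T) := hT.to_subgroup _
    obtain ⟨k, hk⟩ := IsPGroup.iff_card.mp hcenP
    have hk0 : k ≠ 0 := by
      rintro rfl
      have h1 : Nat.card (Subgroup.center T) = 1 := by simpa using hk
      have h2 := Finite.one_lt_card (α := Subgroup.center T)
      omega
    obtain ⟨w, hw⟩ := exists_prime_orderOf_dvd_card' r
      (show r ∣ Nat.card (Subgroup.center T) by rw [hk]; exact dvd_pow_self r hk0)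
    refine ⟨(w : T), ?_, ?_, ?_⟩
    · intro h
      have : w = 1 := Subtype.ext h
      rw [this, orderOf_one] at hw
      exact hr.out.one_lt.ne hw
    · have := pow_orderOf_eq_one w
      rw [hw] at this
      have := congrArg Subtype.val this
      simpa using this
    · intro t
      exact (Subgroup.mem_center_iff.mp w.2 t).symm
  have sub : ∀ H : Subgroup T, Nat.card H = r → ∀ c : T, c ≠ 1 → c ^ r = 1 →
      (∀ t : T, c * t = t * c) → H = zpowers c := by
    intro H hH c hc1 hcr hcc
    apply Subgroup.eq_of_le_of_card_ge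
    · intro t ht
      have htr : t ^ r = 1 := by
        have := pow_card_eq_one' (G := H) (x := ⟨t, ht⟩)
        rw [hH] at this
        have := congrArg Subtype.val this
        simpa using this
      have key := C.mem_zpowers_of_comm hr.out (c := (c : G)) (h := (t : G))
        (fun e => hc1 (Subtype.ext e))
        (by have := congrArg Subtype.val hcr; simpa using this)
        (by have := congrArg Subtype.val htr; simpa using this)
        (by have := congrArg Subtype.val (hcc t); simpa using this)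
      obtain ⟨k, hk⟩ := Subgroup.mem_zpowers_iff.mp key
      rw [Subgroup.mem_zpowers_iff]
      exact ⟨k, Subtype.ext (by simpa using hk)⟩
    · rw [hH, Nat.card_zpowers, orderOf_eq_prime hcr hc1]
  intro H K hH hK
  obtain ⟨c, hc1, hcr, hcc⟩ := main H hH
  rw [sub H hH c hc1 hcr hcc, sub K hK c hc1 hcr hcc]

/-- The normal `2`-complement of a subgroup with cyclic Sylow `2`-subgroups. -/
theorem exists_odd_complement [Finite G] (D : Subgroup G) (h2 : 2 ∣ Nat.card D)
    (P : Sylow 2 D) (hP : IsCyclic P) :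
    ∃ O : Subgroup G, (∀ g : G, g ∈ O ↔ g ∈ D ∧ Odd (orderOf g)) ∧
      ∀ d : D, ∃ o ∈ O, ∃ t ∈ (P : Subgroup D), (d : G) = o * (t : G) := by
  have hp : (Nat.card D).minFac = 2 := (Nat.minFac_eq_two_iff _).mpr h2
  have hNC := hP.normalizer_le_centralizer hp
  have hcomp := IsCyclic.isComplement' hp hP
  have hKodd := MonoidHom.not_dvd_card_ker_transferSylow P hNC
  set φ := MonoidHom.transferSylow P hNC with hφ
  refine ⟨φ.ker.map D.subtype, ?_, ?_⟩
  · intro g
    constructor
    · rintro ⟨d, hd, rfl⟩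
      refine ⟨d.2, ?_⟩
      have h1 : orderOf ((D.subtype d : G)) = orderOf (⟨d, hd⟩ : φ.ker) := by
        rw [← Subgroup.orderOf_coe (⟨d, hd⟩ : φ.ker)]
        exact (Subgroup.orderOf_coe d).symm ▸ rfl
      rw [h1]
      have hdvd := orderOf_dvd_natCard (⟨d, hd⟩ : φ.ker)
      rw [← Nat.not_even_iff_odd, even_iff_two_dvd]
      exact fun h => hKodd (h.trans hdvd)
    · rintro ⟨hgD, hodd⟩
      refine ⟨⟨g, hgD⟩, ?_, rfl⟩
      show (⟨g, hgD⟩ : D) ∈ φ.ker
      rw [MonoidHom.mem_ker]
      have h1 : orderOf (φ ⟨g, hgD⟩) ∣ orderOf g := by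
        have := orderOf_map_dvd φ (⟨g, hgD⟩ : D)
        rwa [show orderOf (⟨g, hgD⟩ : D) = orderOf g from Subgroup.orderOf_mk g hgD] at this
      obtain ⟨k, hk⟩ := (IsPGroup.iff_orderOf.mp P.isPGroup') (φ ⟨g, hgD⟩)
      rw [hk] at h1
      have hk0 : k = 0 := by
        by_contra hk0
        have : 2 ∣ orderOf g := (dvd_pow_self 2 hk0).trans h1
        rw [← even_iff_two_dvd, ← Nat.not_odd_iff_even] at this
        exact this hodd
      rw [hk0, pow_zero] at hk
      exact orderOf_eq_one_iff.mp hk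
  · intro d
    obtain ⟨⟨k, t⟩, hkt⟩ := hcomp.2 d
    refine ⟨(k : D), ⟨k, k.2, rfl⟩, (t : D), t.2, ?_⟩
    have := congrArg Subtype.val hkt
    simpa using this.symm

end Cfsg.Agent.Helper24.Zas
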