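import Mathlib
import Cfsg.Agent.S0106
import Cfsg.Agent.Helper24.ZasGrpA

/-!
# Zassenhaus project: existence of a binary tetrahedral triple
-/

set_option autoImplicit false
set_option linter.style.haveILetI false
set_option linter.deprecated false

open Subgroup

namespace Cfsg.Agent.Helper24.Zas

section Quat
open QuaternionGroup
variable {m : ℕ} [NeZero m]

theorem quat_am_ne_one : (a (m : ZMod (2 * m)) : QuaternionGroup m) ≠ 1 := by
  rw [QuaternionGroup.one_def]
  intro h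
  have h1 : ((m : ℕ) : ZMod (2 * m)) = 0 := by injection h
  rw [ZMod.natCast_eq_zero_iff] at h1
  have h2 := Nat.le_of_dvd (Nat.pos_of_ne_zero (NeZero.ne m)) h1
  have h3 := NeZero.ne m
  omega

theorem quat_two_m : ((m : ZMod (2 * m)) + m) = 0 := by
  have : ((2 * m : ℕ) : ZMod (2 * m)) = 0 := ZMod.natCast_self _
  push_cast at this
  rw [← this]; ring

theorem quat_am_sq : ((a (m : ZMod (2 * m)) : QuaternionGroup m)) ^ 2 = 1 := by
  rw [sq, a_mul_a, QuaternionGroup.one_def, quat_two_m]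

theorem quat_a_eq (i : ZMod (2 * m)) :
    (a i : QuaternionGroup m) = xa 0 * xa (i - (m : ZMod (2 * m))) := by
  rw [xa_mul_xa]
  congr 1
  ring

theorem quat_a_eq_pow (i : ZMod (2 * m)) : (a i : QuaternionGroup m) = a 1 ^ i.val := by
  rw [a_one_pow, ZMod.natCast_zmod_val]

theorem quat_xa_eq (i j : ZMod (2 * m)) : (xa i : QuaternionGroup m) = a (j - i) * xa j := by
  rw [a_mul_xa]
  congr 1
  ring

theorem quat_conj (j : ZMod (2 * m)) : (a 1 : QuaternionGroup m) * xa j * a 1 = xa j := by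
  rw [a_mul_xa, xa_mul_a]
  congr 1
  ring

end Quat

variable {G : Type*} [Group G] {z : G}

/-- A solvable quotient of a perfect group is trivial. -/
theorem eq_top_of_solvable_quotient (hperf : commutator G = ⊤) (N : Subgroup G) [N.Normal]
    [Group.IsSolvable (G ⧸ N)] : N = ⊤ := by
  have hQ : commutator (G ⧸ N) = ⊤ := by
    rw [commutator_def, ← Subgroup.map_top_of_surjective (QuotientGroup.mk' N)
      (QuotientGroup.mk'_surjective N), ← Subgroup.map_commutator, ← commutator_def, hperf]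
  by_contra hne
  haveI : Nontrivial (G ⧸ N) := by
    by_contra hnt
    rw [not_nontrivial_iff_subsingleton] at hnt
    apply hne
    rw [eq_top_iff]
    intro g _
    rw [← QuotientGroup.eq_one_iff]
    exact Subsingleton.elim _ _
  have := IsSolvable.commutator_lt_top_of_nontrivial (G ⧸ N)
  rw [hQ] at this
  exact lt_irrefl _ this

theorem three_dvd_card_SL23 :
    3 ∣ Nat.card (Matrix.SpecialLinearGroup (Fin 2) (ZMod 3)) := by
  let u : Matrix.SpecialLinearGroup (Fin 2) (ZMod 3) :=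
    ⟨!![1, 1; 0, 1], by simp [Matrix.det_fin_two]⟩
  have h3 : u ^ 3 = 1 := by decide
  have h1 : u ≠ 1 := by
    intro h
    have h2 := congrArg (fun M : Matrix.SpecialLinearGroup (Fin 2) (ZMod 3) => M.1 0 1) h
    revert h2
    simp [u]
  have h4 := orderOf_eq_prime h3 h1
  have h5 := orderOf_dvd_natCard u
  rwa [h4] at h5

theorem ZCtx.two_dvd_card [Finite G] (C : ZCtx G z) : 2 ∣ Nat.card G := by
  have := orderOf_dvd_natCard z
  rwa [orderOf_eq_prime C.hz2 C.hz1] at this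

theorem ZCtx.sylow_two_quat [Finite G] (C : ZCtx G z) (hperf : commutator G = ⊤)
    (S : Sylow 2 G) : ∃ n : ℕ, 1 ≤ n ∧ Nonempty (S ≃* QuaternionGroup (2 ^ n)) := by
  have h2G := C.two_dvd_card
  have hnc : ¬ IsCyclic S := by
    intro hc
    have hp : (Nat.card G).minFac = 2 := (Nat.minFac_eq_two_iff _).mpr h2G
    have hNC := hc.normalizer_le_centralizer hp
    exact S.ne_bot_of_dvd_card h2G (burnside_perfect hperf S hNC)
  rcases C.pgroup_struct 2 S S.isPGroup' with h | ⟨_, n, ⟨e⟩⟩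
  · exact absurd h hnc
  · refine ⟨n, ?_, ⟨e⟩⟩
    by_contra hn
    have hn0 : n = 0 := by omega
    subst hn0
    apply hnc
    haveI : IsCyclic (QuaternionGroup (2 ^ 0)) := by
      rw [pow_zero]; exact QuaternionGroup.quaternionGroup_one_isCyclic
    exact isCyclic_of_surjective e.symm e.symm.surjective

theorem ZCtx.exists_order_three [Finite G] (C : ZCtx G z) (hperf : commutator G = ⊤) :
    ∃ x : G, x ≠ 1 ∧ x ^ 3 = 1 := by
  obtain S : Sylow 2 G := default
  obtain ⟨n, hn, hS⟩ := C.sylow_two_quat hperf S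
  have h3 : 3 ∣ Nat.card G := by
    rcases Cfsg.Agent.S0106.result S n hn hS with ⟨P, N, hN, hcomp⟩ | ⟨H, K, hK, ⟨f⟩⟩
    · exfalso
      haveI := hN
      have hcard : Nat.card (G ⧸ N) = Nat.card P := by
        rw [← Subgroup.index_eq_card]; exact hcomp.symm.index_eq_card
      obtain ⟨k, hk⟩ := IsPGroup.iff_card.mp P.isPGroup'
      have hQ2 : IsPGroup 2 (G ⧸ N) := IsPGroup.of_card (hcard.trans hk)
      haveI : Group.IsNilpotent (G ⧸ N) := hQ2.isNilpotent
      have hNtop : N = ⊤ := eq_top_of_solvable_quotient hperf N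
      rw [hNtop] at hcomp
      exact P.ne_bot_of_dvd_card C.two_dvd_card (Subgroup.isComplement'_top_left.mp hcomp)
    · have h1 : 3 ∣ Nat.card (H ⧸ K.subgroupOf H) := by
        rw [Nat.card_congr f.toEquiv]; exact three_dvd_card_SL23
      exact h1.trans ((Subgroup.card_quotient_dvd_card _).trans
        (Subgroup.card_subgroup_dvd_card H))
  obtain ⟨x, hx⟩ := exists_prime_orderOf_dvd_card' 3 h3
  refine ⟨x, fun h => ?_, ?_⟩
  · rw [h, orderOf_one] at hx; norm_num at hx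
  · rw [← hx]; exact pow_orderOf_eq_one x

/-- The normalizer of a subgroup of order three, as an explicit subgroup. -/
def invNorm (x : G) : Subgroup G where
  carrier := {g | g * x * g⁻¹ = x ∨ g * x * g⁻¹ = x⁻¹}
  one_mem' := by left; group
  mul_mem' := by
    intro g h hg hh
    have e : g * h * x * (g * h)⁻¹ = g * (h * x * h⁻¹) * g⁻¹ := by group
    simp only [Set.mem_setOf_eq] at hg hh ⊢
    rw [e]
    rcases hh with hh | hh <;> rw [hh]
    · exact hg
    · have e2 : g * x⁻¹ * g⁻¹ = (g * x * g⁻¹)⁻¹ := by group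
      rw [e2]
      rcases hg with hg | hg <;> rw [hg]
      · right; rfl
      · left; rw [inv_inv]
  inv_mem' := by
    intro g hg
    simp only [Set.mem_setOf_eq, inv_inv] at hg ⊢
    rcases hg with hg | hg
    · left
      calc g⁻¹ * x * g = g⁻¹ * (g * x * g⁻¹) * g := by rw [hg]
        _ = x := by group
    · right
      have : x = g⁻¹ * x⁻¹ * g := by
        calc x = g⁻¹ * (g * x * g⁻¹) * g := by group
          _ = g⁻¹ * x⁻¹ * g := by rw [hg]
      calc g⁻¹ * x * g = (g⁻¹ * x⁻¹ * g)⁻¹ := by group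
        _ = x⁻¹ := by rw [← this]

theorem mem_invNorm {x g : G} : g ∈ invNorm x ↔ g * x * g⁻¹ = x ∨ g * x * g⁻¹ = x⁻¹ := Iff.rfl

/-- **Existence of a triple.** -/
theorem ZCtx.hasTriple [Finite G] (C : ZCtx G z) (hperf : commutator G = ⊤) : HasTriple z := by
  by_contra hno
  obtain ⟨x, hx1, hx3⟩ := C.exists_order_three hperf
  -- the normal subgroup generated by the elements of order four
  let N : Subgroup G := normalClosure {y | y ^ 2 = z}
  have hgen : ∀ y : G, y ^ 2 = z → y ∈ invNorm x := by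
    intro y hy
    rcases C.pair x y hx1 hx3 hy with h | h | ⟨h, _⟩
    · left
      calc y * x * y⁻¹ = (x * y) * y⁻¹ := by rw [h]
        _ = x := by group
    · right; exact h
    · exact absurd h hno
  have hNle : N ≤ invNorm x := by
    show closure (Group.conjugatesOfSet {y | y ^ 2 = z}) ≤ _
    rw [closure_le]
    intro a ha
    obtain ⟨b, hb, hconj⟩ := Group.mem_conjugatesOfSet_iff.mp ha
    obtain ⟨c, hc⟩ := isConj_iff.mp hconj
    apply hgen
    have hb' : b ^ 2 = z := hb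
    rw [← hc, conj_pow, hb', C.central c]
    group
  have hNtop : N = ⊤ := by
    apply eq_top_of_cyclic_sylow_images hperf N
    intro r hr
    rcases eq_or_ne r 2 with rfl | hr2
    · obtain S : Sylow 2 G := default
      refine ⟨S, ?_⟩
      obtain ⟨n, hn, ⟨e⟩⟩ := C.sylow_two_quat hperf S
      obtain ⟨m, hm0, ⟨e⟩⟩ : ∃ m : ℕ, m ≠ 0 ∧ Nonempty (S ≃* QuaternionGroup m) :=
        ⟨2 ^ n, by positivity, ⟨e⟩⟩
      haveI : NeZero m := ⟨hm0⟩
      have hw : ((e.symm (QuaternionGroup.a (m : ZMod (2 * m))) : S) : G) = z := by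
        have h1 : (e.symm (QuaternionGroup.a (m : ZMod (2 * m))) : S) ^ 2 = 1 := by
          rw [← map_pow, quat_am_sq, map_one]
        have h2 : (e.symm (QuaternionGroup.a (m : ZMod (2 * m))) : S) ≠ 1 := by
          intro h
          apply quat_am_ne_one (m := m)
          apply e.symm.injective
          rw [h, map_one]
        have h1' : ((e.symm (QuaternionGroup.a (m : ZMod (2 * m))) : S) : G) ^ 2 = 1 := by
          have := congrArg Subtype.val h1
          simpa using this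
        rcases C.invol _ h1' with h | h
        · exact absurd (Subtype.ext h) h2
        · exact h
      have hxa : ∀ i, ((e.symm (QuaternionGroup.xa i) : S) : G) ∈ N := by
        intro i
        apply subset_normalClosure
        show ((e.symm (QuaternionGroup.xa i) : S) : G) ^ 2 = z
        rw [← hw, ← QuaternionGroup.xa_sq i, map_pow]
        rfl
      have hSN : (S : Subgroup G) ≤ N := by
        intro s hs
        have hs' : s = ((e.symm (e ⟨s, hs⟩) : S) : G) := by simp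
        rw [hs']
        rcases e ⟨s, hs⟩ with i | i
        · rw [quat_a_eq i, map_mul]
          exact mul_mem (hxa _) (hxa _)
        · exact hxa i
      have hbot : (S : Subgroup G).map (QuotientGroup.mk' N) = ⊥ := by
        rw [Subgroup.map_eq_bot_iff, QuotientGroup.ker_mk']
        exact hSN
      rw [hbot]
      exact isCyclic_of_subsingleton
    · obtain P : Sylow r G := default
      refine ⟨P, ?_⟩
      have hPc : IsCyclic P := by
        rcases C.pgroup_struct r P P.isPGroup' with h | ⟨h, _⟩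
        · exact h
        · exact absurd h hr2
      exact isCyclic_of_surjective ((QuotientGroup.mk' N).subgroupMap (P : Subgroup G))
        (MonoidHom.subgroupMap_surjective _ _)
  have hall : ∀ g : G, g * x * g⁻¹ = x ∨ g * x * g⁻¹ = x⁻¹ :=
    fun g => hNle (hNtop ▸ mem_top g)
  haveI hxn : (zpowers x).Normal := by
    refine ⟨fun n hn g => ?_⟩
    obtain ⟨k, rfl⟩ := mem_zpowers_iff.mp hn
    rw [← conj_zpow]
    rcases hall g with h | h <;> rw [h]
    · exact zpow_mem_zpowers x k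
    · rw [inv_zpow']; exact zpow_mem_zpowers x (-k)
  have hcen := cyclic_normal_central hperf (zpowers x) inferInstance x (mem_zpowers x)
  have h3g : IsPGroup 3 (zpowers x) :=
    IsPGroup.of_card (n := 1) (by rw [Nat.card_zpowers, orderOf_eq_prime hx3 hx1, pow_one])
  obtain ⟨R, hR⟩ := h3g.exists_le_sylow
  have hRc : IsCyclic R := by
    rcases C.pgroup_struct 3 R R.isPGroup' with h | ⟨h, _⟩
    · exact h
    · norm_num at h
  obtain ⟨g, _, hg⟩ := exists_normalizing_not_centralizing hperf R hRc x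
    (hR (mem_zpowers x)) hx1 hx3
  apply hg
  rw [hcen g]
  group

/-- A standard triple. -/
structure Triple (z I J x : G) : Prop where
  hI : I ^ 2 = z
  hJ : J ^ 2 = z
  hJI : J * I * J⁻¹ = I⁻¹
  hx : x ^ 3 = 1
  hxI : x * I * x⁻¹ = J
  hxJ : x * J * x⁻¹ = I * J

namespace Triple

variable {I J x : G}

theorem II (T : Triple z I J x) : I * I = z := by rw [← pow_two]; exact T.hI

theorem JJ (T : Triple z I J x) : J * J = z := by rw [← pow_two]; exact T.hJ

theorem Iinv (C : ZCtx G z) (T : Triple z I J x) : I⁻¹ = z * I := by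
  apply inv_eq_of_mul_eq_one_right
  rw [← mul_assoc, C.central I, mul_assoc, T.II, C.zz]

theorem Jinv (C : ZCtx G z) (T : Triple z I J x) : J⁻¹ = z * J := by
  apply inv_eq_of_mul_eq_one_right
  rw [← mul_assoc, C.central J, mul_assoc, T.JJ, C.zz]

theorem JI (C : ZCtx G z) (T : Triple z I J x) : J * I = z * I * J := by
  have h := T.hJI
  rw [T.Iinv C] at h
  calc J * I = (J * I * J⁻¹) * J := by group
    _ = z * I * J := by rw [h]

theorem I_pow_four (C : ZCtx G z) (T : Triple z I J x) : I ^ 4 = 1 := by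
  rw [show 4 = 2 * 2 from rfl, pow_mul, T.hI, C.hz2]

theorem J_pow_four (C : ZCtx G z) (T : Triple z I J x) : J ^ 4 = 1 := by
  rw [show 4 = 2 * 2 from rfl, pow_mul, T.hJ, C.hz2]

theorem IJ_sq (C : ZCtx G z) (T : Triple z I J x) : (I * J) ^ 2 = z := by
  rw [pow_two]
  calc I * J * (I * J) = I * (J * I) * J := by group
    _ = I * (z * I * J) * J := by rw [T.JI C]
    _ = (I * z) * (I * (J * J)) := by group
    _ = (z * I) * (I * (J * J)) := by rw [C.central I]
    _ = z * (I * I) * (J * J) := by group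
    _ = z := by rw [T.II, T.JJ, C.zz, one_mul]

theorem not_comm (C : ZCtx G z) (T : Triple z I J x) : I * J ≠ J * I := by
  intro h
  have h1 : J * I * J⁻¹ = I := by rw [← h]; group
  rw [T.hJI] at h1
  have h2 : I * I = 1 := by
    nth_rewrite 1 [← h1]
    group
  rw [T.II] at h2
  exact C.hz1 h2

theorem I_ne_one (C : ZCtx G z) (T : Triple z I J x) : I ≠ 1 := by
  rintro rfl
  have := T.hI
  rw [one_pow] at this
  exact C.hz1 this.symm

theorem rot (C : ZCtx G z) (T : Triple z I J x) : Triple z J (I * J) x where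
  hI := T.hJ
  hJ := T.IJ_sq C
  hJI := by
    rw [T.Jinv C]
    calc I * J * J * (I * J)⁻¹ = I * J * I⁻¹ := by group
      _ = I * J * (z * I) := by rw [T.Iinv C]
      _ = I * (J * z) * I := by group
      _ = I * (z * J) * I := by rw [C.central J]
      _ = (I * z) * (J * I) := by group
      _ = (z * I) * (z * I * J) := by rw [C.central I, T.JI C]
      _ = z * (I * z) * I * J := by group
      _ = z * (z * I) * I * J := by rw [C.central I]
      _ = (z * z) * (I * I) * J := by group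
      _ = z * J := by rw [C.zz, one_mul, T.II]
  hx := T.hx
  hxI := T.hxJ
  hxJ := by
    calc x * (I * J) * x⁻¹ = (x * I * x⁻¹) * (x * J * x⁻¹) := by group
      _ = J * (I * J) := by rw [T.hxI, T.hxJ]

theorem conj (C : ZCtx G z) (T : Triple z I J x) (g : G) :
    Triple z (g * I * g⁻¹) (g * J * g⁻¹) (g * x * g⁻¹) where
  hI := by rw [conj_pow, T.hI, C.central g]; group
  hJ := by rw [conj_pow, T.hJ, C.central g]; group
  hJI := by
    calc g * J * g⁻¹ * (g * I * g⁻¹) * (g * J * g⁻¹)⁻¹ = g * (J * I * J⁻¹) * g⁻¹ := by group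
      _ = (g * I * g⁻¹)⁻¹ := by rw [T.hJI]; group
  hx := by rw [conj_pow, T.hx]; group
  hxI := by
    calc g * x * g⁻¹ * (g * I * g⁻¹) * (g * x * g⁻¹)⁻¹ = g * (x * I * x⁻¹) * g⁻¹ := by group
      _ = g * J * g⁻¹ := by rw [T.hxI]
  hxJ := by
    calc g * x * g⁻¹ * (g * J * g⁻¹) * (g * x * g⁻¹)⁻¹ = g * (x * J * x⁻¹) * g⁻¹ := by group
      _ = g * (I * J) * g⁻¹ := by rw [T.hxJ]
      _ = g * I * g⁻¹ * (g * J * g⁻¹) := by group

end Triple

theorem isPGroup_zpowers_of_pow_four {y : G} (h : y ^ 4 = 1) : IsPGroup 2 (zpowers y) := by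
  rintro ⟨g, hg⟩
  obtain ⟨k, rfl⟩ := mem_zpowers_iff.mp hg
  refine ⟨2, Subtype.ext ?_⟩
  show (y ^ k) ^ (2 ^ 2) = 1
  rw [← zpow_natCast, ← zpow_mul, mul_comm, zpow_mul, zpow_natCast]
  norm_num
  rw [h, one_zpow]

theorem mem_normalizer_zpowers {a g : G} (h : g * a * g⁻¹ ∈ zpowers a)
    (h' : g⁻¹ * a * g ∈ zpowers a) : g ∈ normalizer (zpowers a : Set G) := by
  rw [mem_set_normalizer_iff]
  intro n
  constructor
  · intro hn
    obtain ⟨k, rfl⟩ := mem_zpowers_iff.mp hn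
    rw [← conj_zpow]
    exact zpow_mem h k
  · intro hn
    obtain ⟨k, hk⟩ := mem_zpowers_iff.mp hn
    have : n = (g⁻¹ * a * g) ^ k := by
      have h2 : g⁻¹ * a * g = g⁻¹ * a * g⁻¹⁻¹ := by rw [inv_inv]
      rw [h2, conj_zpow, hk]
      group
    rw [this]
    exact zpow_mem h' k

/-- Data describing the Sylow `2`-subgroup containing a standard triple. -/
structure SylData (z I J : G) (S : Sylow 2 G) (α : G) : Prop where
  hIS : I ∈ S
  hJS : J ∈ S
  hαS : α ∈ S
  hJα : J * α * J⁻¹ = α⁻¹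
  hall : ∀ s ∈ S, ∃ i : ℤ, s = α ^ i ∨ s = α ^ i * J
  hcase : (α = I ∧ Nonempty (S ≃* QuaternionGroup 2)) ∨
    (α ^ 2 = I ∧ α ^ 8 = 1 ∧ Nonempty (S ≃* QuaternionGroup 4))

theorem sylData_inv_aux {J α : G} {S : Sylow 2 G} (hJα : J * α * J⁻¹ = α⁻¹)
    (hall : ∀ s ∈ S, ∃ i : ℤ, s = α ^ i ∨ s = α ^ i * J) :
    J * α⁻¹ * J⁻¹ = α⁻¹⁻¹ ∧ ∀ s ∈ S, ∃ i : ℤ, s = α⁻¹ ^ i ∨ s = α⁻¹ ^ i * J := by
  constructor
  · rw [inv_inv]
    calc J * α⁻¹ * J⁻¹ = (J * α * J⁻¹)⁻¹ := by group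
      _ = α := by rw [hJα, inv_inv]
  · intro s hs
    obtain ⟨i, hi⟩ := hall s hs
    refine ⟨-i, ?_⟩
    rw [inv_zpow', neg_neg]
    exact hi

/-- **The Sylow `2`-subgroup has order `8` or `16`.** -/
theorem ZCtx.exists_sylData [Finite G] (C : ZCtx G z) (hperf : commutator G = ⊤) :
    ∃ (I J x α : G) (S : Sylow 2 G), Triple z I J x ∧ SylData z I J S α := by
  obtain ⟨I₀, J₀, x, h1, h2, h3, h4, h5, h6⟩ := C.hasTriple hperf
  have T₀ : Triple z I₀ J₀ x := ⟨h1, h2, h3, h4, h5, h6⟩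
  have hU : IsPGroup 2 (zpowers J₀ ⊔ zpowers I₀ : Subgroup G) := by
    apply IsPGroup.to_sup_of_normal_right' (isPGroup_zpowers_of_pow_four (T₀.J_pow_four C))
      (isPGroup_zpowers_of_pow_four (T₀.I_pow_four C))
    rw [zpowers_le]
    apply mem_normalizer_zpowers
    · rw [T₀.hJI]; exact inv_mem (mem_zpowers I₀)
    · have : J₀⁻¹ * I₀ * J₀ = I₀⁻¹ := by
        have e1 : I₀ = J₀⁻¹ * (J₀ * I₀ * J₀⁻¹) * J₀ := by group
        rw [T₀.hJI] at e1
        calc J₀⁻¹ * I₀ * J₀ = (J₀⁻¹ * I₀⁻¹ * J₀)⁻¹ := by group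
          _ = I₀⁻¹ := by rw [← e1]
      rw [this]; exact inv_mem (mem_zpowers I₀)
  obtain ⟨S, hS⟩ := hU.exists_le_sylow
  have hI₀S : I₀ ∈ S := hS (mem_sup_right (mem_zpowers I₀))
  have hJ₀S : J₀ ∈ S := hS (mem_sup_left (mem_zpowers J₀))
  obtain ⟨n, hn, ⟨e⟩⟩ := C.sylow_two_quat hperf S
  obtain ⟨m, hm0, ⟨e⟩⟩ : ∃ m : ℕ, m ≠ 0 ∧ Nonempty (S ≃* QuaternionGroup m) :=
    ⟨2 ^ n, by positivity, ⟨e⟩⟩
  haveI : NeZero m := ⟨hm0⟩
  let ψ : QuaternionGroup m →* G := (S : Subgroup G).subtype.comp e.symm.toMonoidHom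
  have hψinj : Function.Injective ψ :=
    (Subgroup.subtype_injective _).comp e.symm.injective
  have hψS : ∀ q, ψ q ∈ S := fun q => (e.symm q).2
  have hψsurj : ∀ s ∈ S, ∃ q, ψ q = s := fun s hs => ⟨e ⟨s, hs⟩, by simp [ψ]⟩
  -- rotate the triple
  obtain ⟨I, J, T, hIS, hJS, c, hc⟩ : ∃ I J, Triple z I J x ∧ I ∈ S ∧ J ∈ S ∧
      ∃ c, ψ (QuaternionGroup.a c) = I := by
    obtain ⟨qI, hqI⟩ := hψsurj I₀ hI₀S
    obtain ⟨qJ, hqJ⟩ := hψsurj J₀ hJ₀S
    cases qI with
    | a c => exact ⟨I₀, J₀, T₀, hI₀S, hJ₀S, c, hqI⟩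
    | xa i =>
      cases qJ with
      | a c => exact ⟨J₀, I₀ * J₀, T₀.rot C, hJ₀S, mul_mem hI₀S hJ₀S, c, hqJ⟩
      | xa j =>
        refine ⟨I₀ * J₀, J₀ * (I₀ * J₀), (T₀.rot C).rot C, mul_mem hI₀S hJ₀S,
          mul_mem hJ₀S (mul_mem hI₀S hJ₀S), (m : ZMod (2 * m)) + j - i, ?_⟩
        rw [← hqI, ← hqJ, ← map_mul, QuaternionGroup.xa_mul_xa]
  obtain ⟨qJ, hqJ⟩ := hψsurj J hJS
  obtain ⟨j, rfl⟩ : ∃ j, qJ = QuaternionGroup.xa j := by
    cases qJ with
    | a c' =>
      exfalso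
      apply T.not_comm C
      rw [← hc, ← hqJ, ← map_mul, ← map_mul, QuaternionGroup.a_mul_a, QuaternionGroup.a_mul_a,
        add_comm]
    | xa j => exact ⟨j, rfl⟩
  set α₀ := ψ (QuaternionGroup.a 1) with hα₀
  have hα₀I : α₀ * I = I * α₀ := by
    rw [← hc, hα₀, ← map_mul, ← map_mul, QuaternionGroup.a_mul_a, QuaternionGroup.a_mul_a,
      add_comm]
  have hJα₀ : J * α₀ * J⁻¹ = α₀⁻¹ := by
    have h1 : α₀ * J * α₀ = J := by rw [← hqJ, hα₀, ← map_mul, ← map_mul, quat_conj]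
    apply eq_inv_of_mul_eq_one_right
    calc α₀ * (J * α₀ * J⁻¹) = (α₀ * J * α₀) * J⁻¹ := by group
      _ = 1 := by rw [h1]; group
  have h8 : α₀ ^ 8 = 1 := C.lemB I J x α₀ T.hI T.hJ T.hJI T.hx T.hxI T.hxJ hα₀I hJα₀
  have hord : orderOf α₀ = 2 * m := by
    rw [hα₀, orderOf_injective ψ hψinj, QuaternionGroup.orderOf_a_one]
  have hm8 : 2 * m ∣ 8 := by rw [← hord]; exact orderOf_dvd_of_pow_eq_one h8
  obtain ⟨k, hk⟩ : ∃ k : ℕ, k = c.val := ⟨_, rfl⟩
  have hIpow : I = α₀ ^ k := by rw [hk, ← hc, hα₀, ← map_pow, ← quat_a_eq_pow]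
  have hI2 : ¬ (2 * m ∣ 2 * k) := by
    intro h
    have h' : orderOf α₀ ∣ 2 * k := by rw [hord]; exact h
    rw [orderOf_dvd_iff_pow_eq_one, mul_comm, pow_mul, ← hIpow, T.hI] at h'
    exact C.hz1 h'
  have hI4 : 2 * m ∣ 4 * k := by
    have h' : orderOf α₀ ∣ 4 * k := by
      rw [orderOf_dvd_iff_pow_eq_one, mul_comm, pow_mul, ← hIpow]
      exact T.I_pow_four C
    rwa [hord] at h'
  have hcl : k < 2 * m := by rw [hk]; exact ZMod.val_lt c
  have hall₀ : ∀ s ∈ S, ∃ i : ℤ, s = α₀ ^ i ∨ s = α₀ ^ i * J := by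
    intro s hs
    obtain ⟨q, rfl⟩ := hψsurj s hs
    cases q with
    | a i =>
      exact ⟨(i.val : ℤ), Or.inl (by rw [zpow_natCast, hα₀, ← map_pow, ← quat_a_eq_pow])⟩
    | xa i =>
      refine ⟨((j - i).val : ℤ), Or.inr ?_⟩
      rw [zpow_natCast, hα₀, ← hqJ, ← map_pow, ← map_mul, ← quat_a_eq_pow, ← quat_xa_eq]
  have hα₀S : α₀ ∈ S := hψS _
  obtain ⟨hJα₁, hall₁⟩ := sylData_inv_aux hJα₀ hall₀
  have hm : m = 1 ∨ m = 2 ∨ m = 4 := by
    have key : ∀ m' : ℕ, m' ≠ 0 → 2 * m' ∣ 8 → m' = 1 ∨ m' = 2 ∨ m' = 4 := by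
      intro m' h0 h
      have h8' := Nat.le_of_dvd (by norm_num) h
      have h4' : m' ≤ 4 := by omega
      interval_cases m' <;> omega
    exact key m hm0 hm8
  rcases hm with rfl | rfl | rfl
  · omega
  · have hc' : k = 1 ∨ k = 3 := by omega
    have h4 : α₀ ^ 4 = 1 := by
      have := pow_orderOf_eq_one α₀
      rwa [hord] at this
    rcases hc' with hc' | hc'
    · refine ⟨I, J, x, α₀, S, T, ⟨hIS, hJS, hα₀S, hJα₀, hall₀, Or.inl ⟨?_, ⟨e⟩⟩⟩⟩
      rw [hIpow, hc', pow_one]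
    · refine ⟨I, J, x, α₀⁻¹, S, T, ⟨hIS, hJS, inv_mem hα₀S, hJα₁, hall₁, Or.inl ⟨?_, ⟨e⟩⟩⟩⟩
      rw [hIpow, hc']
      apply inv_eq_of_mul_eq_one_left
      rw [← pow_succ]
      exact h4
  · have hc' : k = 2 ∨ k = 6 := by omega
    rcases hc' with hc' | hc'
    · refine ⟨I, J, x, α₀, S, T, ⟨hIS, hJS, hα₀S, hJα₀, hall₀, Or.inr ⟨?_, h8, ⟨e⟩⟩⟩⟩
      rw [hIpow, hc']
    · refine ⟨I, J, x, α₀⁻¹, S, T, ⟨hIS, hJS, inv_mem hα₀S, hJα₁, hall₁,
        Or.inr ⟨?_, ?_, ⟨e⟩⟩⟩⟩
      · rw [hIpow, hc', inv_pow]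
        apply inv_eq_of_mul_eq_one_left
        rw [← pow_add]
        exact h8
      · rw [inv_pow, h8, inv_one]

end Cfsg.Agent.Helper24.Zas
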