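import Mathlib
import Cfsg.Agent.Helper24.ZasGrpB

/-!
# Zassenhaus project: structure of the centralizer of an element of order four
-/

set_option autoImplicit false
set_option linter.style.haveILetI false
set_option linter.deprecated false
set_option linter.unusedSectionVars false

open Subgroup

namespace Cfsg.Agent.Helper24.Zas

variable {G : Type*} [Group G] {z : G}

/-- Sylow conjugacy inside a subgroup. -/
theorem exists_conj_into_sylow [Finite G] {r : ℕ} [Fact r.Prime] (N : Subgroup G)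
    (P : Sylow r N) (Q : Subgroup G) (hQN : Q ≤ N) (hQ : IsPGroup r Q) :
    ∃ n ∈ N, ∀ q ∈ Q, n * q * n⁻¹ ∈ (P : Subgroup N).map N.subtype := by
  have hQ' : IsPGroup r (Q.subgroupOf N) := hQ.comap_subtype
  obtain ⟨Q₁, hQ₁⟩ := hQ'.exists_le_sylow
  obtain ⟨n, hn⟩ := MulAction.exists_smul_eq N Q₁ P
  refine ⟨(n : G), n.2, fun q hq => ?_⟩
  have h1 : (⟨q, hQN hq⟩ : N) ∈ (Q₁ : Subgroup N) := hQ₁ (by rw [mem_subgroupOf]; exact hq)
  have h2 : n * ⟨q, hQN hq⟩ * n⁻¹ ∈ ((n • Q₁ : Sylow r N) : Subgroup N) := by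
    rw [Sylow.smul_def, Sylow.pointwise_smul_def]
    have := Subgroup.smul_mem_pointwise_smul _ (MulAut.conj n) _ h1
    simpa [MulAut.smul_def] using this
  rw [hn] at h2
  exact ⟨_, h2, rfl⟩

theorem exists_conj_into_sylow' [Finite G] {r : ℕ} [Fact r.Prime] (S : Sylow r G)
    (N : Subgroup G) (hSN : (S : Subgroup G) ≤ N) (Q : Subgroup G) (hQN : Q ≤ N)
    (hQ : IsPGroup r Q) : ∃ n ∈ N, ∀ q ∈ Q, n * q * n⁻¹ ∈ S := by
  obtain ⟨n, hn, h⟩ := exists_conj_into_sylow N (S.subtype hSN) Q hQN hQ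
  refine ⟨n, hn, fun q hq => ?_⟩
  obtain ⟨y, hy, hyq⟩ := h q hq
  rw [SetLike.mem_coe, Sylow.coe_subtype, mem_subgroupOf] at hy
  rw [← hyq]
  exact hy

/-- In a finite cyclic group, elements of order dividing `n` lie in any cyclic subgroup of
order `n`. -/
theorem mem_zpowers_of_cyclic' {H : Type*} [Group H] [Finite H] [IsCyclic H] {n : ℕ}
    (hn : 0 < n) {x y : H} (hx : orderOf x = n) (hy : y ^ n = 1) : y ∈ zpowers x := by
  classical
  haveI := Fintype.ofFinite H
  have hle := IsCyclic.card_pow_eq_one_le (α := H) hn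
  have hxn : x ^ n = 1 := by rw [← hx]; exact pow_orderOf_eq_one x
  have hsub : (Finset.univ.filter (fun a : H => a ∈ zpowers x)) ⊆
      Finset.univ.filter (fun a : H => a ^ n = 1) := by
    intro a ha
    simp only [Finset.mem_filter, Finset.mem_univ, true_and] at ha ⊢
    obtain ⟨k, rfl⟩ := Subgroup.mem_zpowers_iff.mp ha
    rw [← zpow_natCast, ← zpow_mul, mul_comm, zpow_mul, zpow_natCast, hxn, one_zpow]
  have hcard : (Finset.univ.filter (fun a : H => a ∈ zpowers x)).card = n := by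
    rw [← Fintype.card_subtype, ← hx]
    exact Fintype.card_zpowers
  have heq := Finset.eq_of_subset_of_card_le hsub (by rw [hcard]; exact hle)
  have hy' : y ∈ Finset.univ.filter (fun a : H => a ^ n = 1) := by simp [hy]
  rw [← heq] at hy'
  simpa using hy'

theorem quat_central {m : ℕ} [NeZero m] (q : QuaternionGroup m) (hq : ∀ p, p * q = q * p)
    (hq2 : q ^ 2 ≠ 1) : m = 1 := by
  cases q with
  | a i =>
    exfalso
    apply hq2
    have h := hq (QuaternionGroup.xa 0)
    rw [QuaternionGroup.xa_mul_a, QuaternionGroup.a_mul_xa] at h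
    have h' : (0 : ZMod (2 * m)) + i = 0 - i := by injection h
    rw [sq, QuaternionGroup.a_mul_a, QuaternionGroup.one_def]
    congr 1
    linear_combination h'
  | xa i =>
    have h := hq (QuaternionGroup.a 1)
    rw [QuaternionGroup.a_mul_xa, QuaternionGroup.xa_mul_a] at h
    have h' : i - 1 = i + 1 := by injection h
    have h2 : ((2 : ℕ) : ZMod (2 * m)) = 0 := by
      push_cast
      linear_combination (-1 : ZMod (2 * m)) * h'
    rw [ZMod.natCast_eq_zero_iff] at h2
    have h3 := Nat.le_of_dvd (by norm_num) h2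
    have h4 := NeZero.ne m
    omega

/-- A `2`-subgroup with a central element of order four is cyclic. -/
theorem ZCtx.cyclic_of_central_four [Finite G] (C : ZCtx G z) (T' : Subgroup G)
    (hT' : IsPGroup 2 T') (y : G) (hy : y ∈ T') (hy2 : y ^ 2 = z)
    (hyc : ∀ t ∈ T', t * y = y * t) : IsCyclic T' := by
  rcases C.pgroup_struct 2 T' hT' with h | ⟨_, n, ⟨e⟩⟩
  · exact h
  · haveI : NeZero (2 ^ n) := ⟨by positivity⟩
    have hm : 2 ^ n = 1 := by
      apply quat_central (e ⟨y, hy⟩)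
      · intro p
        obtain ⟨t, rfl⟩ := e.surjective p
        rw [← map_mul, ← map_mul]
        congr 1
        exact Subtype.ext (hyc t t.2)
      · intro h
        rw [← map_pow, ← e.map_one] at h
        have h1 := e.injective h
        have h2 := congrArg Subtype.val h1
        simp only [SubmonoidClass.mk_pow, OneMemClass.coe_one] at h2
        exact C.hz1 (hy2 ▸ h2)
    haveI : IsCyclic (QuaternionGroup (2 ^ n)) := by
      rw [hm]; exact QuaternionGroup.quaternionGroup_one_isCyclic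
    exact isCyclic_of_surjective e.symm e.symm.surjective

namespace SylData

variable {I J x α : G} {S : Sylow 2 G}

theorem alpha_comm_I (D : SylData z I J S α) : α * I = I * α := by
  rcases D.hcase with ⟨h, _⟩ | ⟨h, _⟩
  · rw [h]
  · rw [← h, ← pow_succ', ← pow_succ]

theorem alpha_pow_eight (C : ZCtx G z) (T : Triple z I J x) (D : SylData z I J S α) :
    α ^ 8 = 1 := by
  rcases D.hcase with ⟨h, _⟩ | ⟨_, h, _⟩
  · rw [h, show 8 = 4 * 2 from rfl, pow_mul, T.I_pow_four C, one_pow]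
  · exact h

theorem alpha_sq_ne (C : ZCtx G z) (T : Triple z I J x) (D : SylData z I J S α) :
    α ^ 2 ≠ 1 := by
  rcases D.hcase with ⟨h, _⟩ | ⟨h, _⟩
  · rw [h, T.hI]; exact C.hz1
  · rw [h]; exact T.I_ne_one C

theorem four_dvd_order [Finite G] (C : ZCtx G z) (T : Triple z I J x)
    (D : SylData z I J S α) : 4 ∣ orderOf α := by
  have h8 : orderOf α ∣ 2 ^ 3 := orderOf_dvd_of_pow_eq_one (D.alpha_pow_eight C T)
  obtain ⟨k, hk, hk'⟩ := (Nat.dvd_prime_pow Nat.prime_two).mp h8
  have h2 : ¬ orderOf α ∣ 2 := fun h => D.alpha_sq_ne C T (orderOf_dvd_iff_pow_eq_one.mp h)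
  rw [hk'] at h2 ⊢
  have : 2 ≤ k := by
    by_contra hlt
    have : k = 0 ∨ k = 1 := by omega
    rcases this with rfl | rfl <;> simp at h2
  exact pow_dvd_pow 2 this

theorem J_conj_zpow (D : SylData z I J S α) (i : ℤ) : J * α ^ i * J⁻¹ = (α ^ i)⁻¹ := by
  rw [← conj_zpow, D.hJα, inv_zpow]

theorem aJ_sq (T : Triple z I J x) (D : SylData z I J S α) (i : ℤ) :
    (α ^ i * J) ^ 2 = z := by
  rw [pow_two]
  calc α ^ i * J * (α ^ i * J) = α ^ i * (J * α ^ i * J⁻¹) * (J * J) := by group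
    _ = z := by rw [D.J_conj_zpow, T.JJ]; group

/-- Exponent of the Sylow `2`-subgroup. -/
theorem pow_order [Finite G] (C : ZCtx G z) (T : Triple z I J x) (D : SylData z I J S α)
    (s : G) (hs : s ∈ S) : s ^ orderOf α = 1 := by
  obtain ⟨i, rfl | rfl⟩ := D.hall s hs
  · rw [← zpow_natCast, ← zpow_mul, mul_comm, zpow_mul, zpow_natCast, pow_orderOf_eq_one,
      one_zpow]
  · obtain ⟨k, hk⟩ := D.four_dvd_order C T
    rw [hk, show 4 * k = 2 * (2 * k) from by ring, pow_mul, D.aJ_sq T, pow_mul, C.hz2, one_pow]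

theorem comm_I_mem (C : ZCtx G z) (T : Triple z I J x) (D : SylData z I J S α) (s : G)
    (hs : s ∈ S) (hsI : s * I = I * s) : ∃ i : ℤ, s = α ^ i := by
  obtain ⟨i, rfl | rfl⟩ := D.hall s hs
  · exact ⟨i, rfl⟩
  · exfalso
    apply T.not_comm C
    have hαI : α ^ i * I = I * α ^ i := by
      have : Commute α I := D.alpha_comm_I
      exact (this.zpow_left i).eq
    calc I * J = (α ^ i)⁻¹ * (I * α ^ i) * J := by rw [← hαI]; group
      _ = (α ^ i)⁻¹ * (I * (α ^ i * J)) := by group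
      _ = (α ^ i)⁻¹ * (α ^ i * J * I) := by rw [hsI]
      _ = J * I := by group

/-- Every `2`-element has order dividing the order of `α`. -/
theorem pow_order_of_two_elt [Finite G] (C : ZCtx G z) (T : Triple z I J x)
    (D : SylData z I J S α) (t : G) (ht : ∃ k : ℕ, t ^ 2 ^ k = 1) : t ^ orderOf α = 1 := by
  obtain ⟨k, hk⟩ := ht
  have h2 : IsPGroup 2 (zpowers t) := by
    rintro ⟨g, hg⟩
    obtain ⟨j, rfl⟩ := mem_zpowers_iff.mp hg
    refine ⟨k, Subtype.ext ?_⟩
    show (t ^ j) ^ (2 ^ k) = 1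
    rw [← zpow_natCast, ← zpow_mul, mul_comm, zpow_mul, zpow_natCast, hk, one_zpow]
  obtain ⟨n, -, hn⟩ := exists_conj_into_sylow' S ⊤ le_top (zpowers t) le_top h2
  have h1 := D.pow_order C T _ (hn t (mem_zpowers t))
  rw [conj_pow] at h1
  calc t ^ orderOf α = n⁻¹ * (n * t ^ orderOf α * n⁻¹) * n := by group
    _ = 1 := by rw [h1]; group

end SylData

/-- **Structure of the centralizer of `I`.** -/
theorem cent_struct [Finite G] (C : ZCtx G z) {I J x α : G} {S : Sylow 2 G}
    (T : Triple z I J x) (D : SylData z I J S α) :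
    ∃ O : Subgroup G, (∀ g, g ∈ O ↔ g * I = I * g ∧ Odd (orderOf g)) ∧
      (∀ o ∈ O, o * J = J * o) ∧
      (∀ d, d * I = I * d → ∃ o ∈ O, ∃ i : ℤ, d = o * α ^ i) := by
  let Dc : Subgroup G := centralizer {I}
  have hmemD : ∀ g, g ∈ Dc ↔ g * I = I * g := fun g => mem_centralizer_singleton_iff
  have hαD : α ∈ Dc := (hmemD α).2 D.alpha_comm_I
  have hαp : IsPGroup 2 (zpowers (⟨α, hαD⟩ : Dc)) := by
    rintro ⟨g, hg⟩
    obtain ⟨j, rfl⟩ := mem_zpowers_iff.mp hg
    refine ⟨3, Subtype.ext ?_⟩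
    show ((⟨α, hαD⟩ : Dc) ^ j) ^ (2 ^ 3) = 1
    rw [← zpow_natCast, ← zpow_mul, mul_comm, zpow_mul, zpow_natCast]
    have : (⟨α, hαD⟩ : Dc) ^ (2 ^ 3) = 1 := Subtype.ext (by
      simpa using D.alpha_pow_eight C T)
    rw [this, one_zpow]
  obtain ⟨P, hP⟩ := hαp.exists_le_sylow
  have hαP : (⟨α, hαD⟩ : Dc) ∈ P := hP (mem_zpowers _)
  have hPc : IsCyclic P := by
    let T'' : Subgroup G := (P : Subgroup Dc).map Dc.subtype ⊔ zpowers I
    have hT''D : T'' ≤ Dc := sup_le (map_subtype_le _) (zpowers_le.2 ((hmemD I).2 rfl))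
    have hT''2 : IsPGroup 2 T'' := by
      apply IsPGroup.to_sup_of_normal_right' (P.isPGroup'.map _)
        (isPGroup_zpowers_of_pow_four (T.I_pow_four C))
      intro t ht
      have htD : t ∈ Dc := map_subtype_le _ ht
      have hc := (hmemD t).1 htD
      apply mem_normalizer_zpowers
      · rw [show t * I * t⁻¹ = I by rw [hc]; group]; exact mem_zpowers I
      · rw [show t⁻¹ * I * t = I by rw [mul_assoc, ← hc]; group]; exact mem_zpowers I
    haveI : IsCyclic T'' := C.cyclic_of_central_four T'' hT''2 I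
      (mem_sup_right (mem_zpowers I)) T.hI (fun t ht => (hmemD t).1 (hT''D ht))
    let f : (P : Subgroup Dc) →* T'' :=
      { toFun := fun p => ⟨((p : Dc) : G), mem_sup_left ⟨(p : Dc), p.2, rfl⟩⟩
        map_one' := rfl
        map_mul' := fun a b => rfl }
    apply isCyclic_of_injective f
    intro a b hab
    apply Subtype.ext
    apply Subtype.ext
    exact congrArg (fun t : T'' => (t : G)) hab
  have h2D : 2 ∣ Nat.card Dc := by
    have hzD : z ∈ Dc := (hmemD z).2 (C.central I).symm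
    have := orderOf_dvd_natCard (⟨z, hzD⟩ : Dc)
    rwa [orderOf_eq_prime (Subtype.ext (by simpa using C.hz2))
      (fun e => C.hz1 (congrArg Subtype.val e))] at this
  obtain ⟨O, hO, hdec⟩ := exists_odd_complement Dc h2D P hPc
  have hOmem : ∀ g, g ∈ O ↔ g * I = I * g ∧ Odd (orderOf g) := fun g => by
    rw [hO, hmemD]
  refine ⟨O, hOmem, ?_, ?_⟩
  · intro o ho
    obtain ⟨hoI, hoodd⟩ := (hOmem o).1 ho
    set o' := J * o * J⁻¹ with ho'
    have hJinvI : J⁻¹ * I * J = I⁻¹ := by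
      have e1 : I = J⁻¹ * (J * I * J⁻¹) * J := by group
      rw [T.hJI] at e1
      calc J⁻¹ * I * J = (J⁻¹ * I⁻¹ * J)⁻¹ := by group
        _ = I⁻¹ := by rw [← e1]
    have hoI' : o * I⁻¹ = I⁻¹ * o := by
      calc o * I⁻¹ = I⁻¹ * (I * o) * I⁻¹ := by group
        _ = I⁻¹ * (o * I) * I⁻¹ := by rw [hoI]
        _ = I⁻¹ * o := by group
    have ho'I : o' * I = I * o' := by
      calc o' * I = J * o * (J⁻¹ * I * J) * J⁻¹ := by rw [ho']; group
        _ = J * (o * I⁻¹) * J⁻¹ := by rw [hJinvI]; group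
        _ = J * (I⁻¹ * o) * J⁻¹ := by rw [hoI']
        _ = J * (J⁻¹ * I * J) * o * J⁻¹ := by rw [hJinvI]; group
        _ = I * o' := by rw [ho']; group
    have ho'odd : Odd (orderOf o') := by
      have : orderOf o' = orderOf o := by
        rw [ho', ← MulAut.conj_apply]
        exact (MulAut.conj J).orderOf_eq o
      rw [this]; exact hoodd
    have ho'O : o' ∈ O := (hOmem o').2 ⟨ho'I, ho'odd⟩
    set c := o⁻¹ * o' with hc
    have hcO : c ∈ O := mul_mem (inv_mem ho) ho'O
    obtain ⟨hcI, hcodd⟩ := (hOmem c).1 hcO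
    have hJc : J * c * J⁻¹ = c⁻¹ := by
      have h1 : J * o' * J⁻¹ = o := by
        calc J * o' * J⁻¹ = (J * J) * o * (J * J)⁻¹ := by rw [ho']; group
          _ = z * o * z⁻¹ := by rw [T.JJ]
          _ = o := by rw [← C.central o]; group
      calc J * c * J⁻¹ = (J * o * J⁻¹)⁻¹ * (J * o' * J⁻¹) := by rw [hc]; group
        _ = o'⁻¹ * o := by rw [h1]
        _ = c⁻¹ := by rw [hc]; group
    have hc8 := C.lemB I J x c T.hI T.hJ T.hJI T.hx T.hxI T.hxJ hcI hJc
    have hc1 : c = 1 := by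
      have h1 : orderOf c ∣ 2 ^ 3 := orderOf_dvd_of_pow_eq_one hc8
      have h2 : Nat.Coprime (orderOf c) (2 ^ 3) :=
        Nat.Coprime.pow_right 3 (Nat.coprime_two_right.mpr hcodd)
      exact orderOf_eq_one_iff.mp (Nat.Coprime.eq_one_of_dvd h2 h1)
    have heq : o' = o := by
      calc o' = o * c := by rw [hc]; group
        _ = o := by rw [hc1, mul_one]
    calc o * J = (J * o * J⁻¹) * J := by rw [← ho', heq]
      _ = J * o := by group
  · intro d hd
    obtain ⟨o, ho, t, htP, hdt⟩ := hdec ⟨d, (hmemD d).2 hd⟩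
    haveI := hPc
    have hexp : ((t : Dc) : G) ^ orderOf α = 1 := by
      apply D.pow_order_of_two_elt C T
      obtain ⟨k, hk⟩ := P.isPGroup' ⟨t, htP⟩
      refine ⟨k, ?_⟩
      have := congrArg (fun p : P => ((p : Dc) : G)) hk
      simpa using this
    have hord : orderOf (⟨⟨α, hαD⟩, hαP⟩ : P) = orderOf α := by
      rw [Subgroup.orderOf_mk, Subgroup.orderOf_mk]
    have key := mem_zpowers_of_cyclic' (H := P) (orderOf_pos α) (x := ⟨⟨α, hαD⟩, hαP⟩)
      (y := ⟨t, htP⟩) hord (Subtype.ext (Subtype.ext (by simpa using hexp)))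
    obtain ⟨i, hi⟩ := mem_zpowers_iff.mp key
    refine ⟨o, ho, i, ?_⟩
    have h3 := congrArg (fun p : P => ((p : Dc) : G)) hi
    simp only [SubgroupClass.coe_zpow] at h3
    rw [h3]
    exact hdt

/-- No element of order three centralizes `I`. -/
theorem no_three_central [Finite G] (C : ZCtx G z) {I J x α : G} {S : Sylow 2 G}
    (T : Triple z I J x) (D : SylData z I J S α) (w : G) (hw3 : w ^ 3 = 1)
    (hwI : w * I = I * w) : w = 1 := by
  by_contra hw1
  obtain ⟨O, hOmem, hOJ, -⟩ := cent_struct C T D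
  have hwO : w ∈ O := by
    rw [hOmem]
    refine ⟨hwI, ?_⟩
    rw [orderOf_eq_prime hw3 hw1]
    exact ⟨1, rfl⟩
  have hwJ := hOJ w hwO
  let R' : Subgroup G := centralizer ({I, J} : Set G)
  have hmemR : ∀ g, g ∈ R' ↔ g * I = I * g ∧ g * J = J * g := by
    intro g
    show g ∈ centralizer ({I, J} : Set G) ↔ _
    rw [mem_centralizer_iff]
    constructor
    · intro h
      exact ⟨(h I (by simp)).symm, (h J (by simp)).symm⟩
    · rintro ⟨h1, h2⟩ y hy
      simp only [Set.mem_insert_iff, Set.mem_singleton_iff] at hy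
      rcases hy with rfl | rfl
      · exact h1.symm
      · exact h2.symm
  let N : Subgroup G := normalizer (R' : Set G)
  have hJIJ : J * I * J = I := by
    calc J * I * J = (J * I * J⁻¹) * (J * J) := by group
      _ = z * I * z := by rw [T.hJI, T.JJ, T.Iinv C]
      _ = (z * z) * I := by rw [mul_assoc, C.central I]; group
      _ = I := by rw [C.zz, one_mul]
  have hxIJ : x * (I * J) * x⁻¹ = I := by
    calc x * (I * J) * x⁻¹ = (x * I * x⁻¹) * (x * J * x⁻¹) := by group
      _ = J * (I * J) := by rw [T.hxI, T.hxJ]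
      _ = J * I * J := by group
      _ = I := hJIJ
  have hxN : x ∈ N := by
    apply mem_normalizer_fintype
    intro g hg
    obtain ⟨hgI, hgJ⟩ := (hmemR g).1 hg
    have hgIJ : g * (I * J) = (I * J) * g := by
      rw [← mul_assoc, hgI, mul_assoc, hgJ, ← mul_assoc]
    show x * g * x⁻¹ ∈ R'
    rw [hmemR]
    constructor
    · calc x * g * x⁻¹ * I = x * g * x⁻¹ * (x * (I * J) * x⁻¹) := by rw [hxIJ]
        _ = x * (g * (I * J)) * x⁻¹ := by group
        _ = x * ((I * J) * g) * x⁻¹ := by rw [hgIJ]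
        _ = (x * (I * J) * x⁻¹) * (x * g * x⁻¹) := by group
        _ = I * (x * g * x⁻¹) := by rw [hxIJ]
    · calc x * g * x⁻¹ * J = x * g * x⁻¹ * (x * I * x⁻¹) := by rw [T.hxI]
        _ = x * (g * I) * x⁻¹ := by group
        _ = x * (I * g) * x⁻¹ := by rw [hgI]
        _ = (x * I * x⁻¹) * (x * g * x⁻¹) := by group
        _ = J * (x * g * x⁻¹) := by rw [T.hxI]
  have hwR : w ∈ R' := (hmemR w).2 ⟨hwI, hwJ⟩
  have hwN : w ∈ N := le_normalizer hwR
  have hw3g : IsPGroup 3 (zpowers (⟨w, hwN⟩ : N)) := by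
    apply IsPGroup.of_card (n := 1)
    rw [Nat.card_zpowers, pow_one]
    exact orderOf_eq_prime (Subtype.ext (by simpa using hw3))
      (fun e => hw1 (congrArg Subtype.val e))
  obtain ⟨P, hP⟩ := hw3g.exists_le_sylow
  have hwP : (⟨w, hwN⟩ : N) ∈ P := hP (mem_zpowers _)
  have hx1 : x ≠ 1 := by
    rintro rfl
    have h1 := T.hxI
    simp only [one_mul, inv_one, mul_one] at h1
    apply T.not_comm C
    rw [h1]
  have hx3g : IsPGroup 3 (zpowers x) := by
    apply IsPGroup.of_card (n := 1)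
    rw [Nat.card_zpowers, pow_one]
    exact orderOf_eq_prime T.hx hx1
  obtain ⟨n, hnN, hn⟩ := exists_conj_into_sylow N P (zpowers x) (zpowers_le.2 hxN) hx3g
  have hx₁ := hn x (mem_zpowers x)
  let P₃ : Subgroup G := (P : Subgroup N).map N.subtype
  have hP₃ : IsPGroup 3 P₃ := P.isPGroup'.map _
  have hP₃c : IsCyclic P₃ := by
    rcases C.pgroup_struct 3 P₃ hP₃ with h | ⟨h, _⟩
    · exact h
    · norm_num at h
  have hwP₃ : w ∈ P₃ := ⟨⟨w, hwN⟩, hwP, rfl⟩
  have hcomm : w * (n * x * n⁻¹) = (n * x * n⁻¹) * w := by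
    letI := IsCyclic.commGroup (α := P₃)
    have := mul_comm (⟨w, hwP₃⟩ : P₃) ⟨n * x * n⁻¹, hx₁⟩
    exact congrArg Subtype.val this
  have hx₁3 : (n * x * n⁻¹) ^ 3 = 1 := by rw [conj_pow, T.hx]; group
  have hmem := C.mem_zpowers_of_comm Nat.prime_three hw1 hw3 hx₁3 hcomm
  have hx₁R : n * x * n⁻¹ ∈ R' := (zpowers_le.2 hwR) hmem
  have hxR : x ∈ R' := (mem_normalizer_iff.mp hnN x).2 hx₁R
  have hxI' := ((hmemR x).1 hxR).1
  apply T.not_comm C
  have : J = I := by
    rw [← T.hxI, hxI']; group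
  rw [this]

end Cfsg.Agent.Helper24.Zas
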