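import Mathlib
import Cfsg.Agent.Helper24.ZasGrpC

/-!
# Zassenhaus project: the central quotient is simple
-/

set_option autoImplicit false
set_option linter.style.haveILetI false
set_option linter.deprecated false
set_option linter.unusedSectionVars false

open Subgroup

namespace Cfsg.Agent.Helper24.Zas

variable {G : Type*} [Group G] {z : G}

theorem ZCtx.normal_Z (C : ZCtx G z) : (zpowers z).Normal := by
  refine ⟨fun n hn g => ?_⟩
  obtain ⟨k, rfl⟩ := mem_zpowers_iff.mp hn
  have : g * z ^ k * g⁻¹ = z ^ k := by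
    have hc : Commute g z := C.central g
    rw [(hc.zpow_right k).eq]; group
  rw [this]; exact zpow_mem_zpowers z k

theorem ZCtx.mem_Z (C : ZCtx G z) (g : G) : g ∈ zpowers z ↔ g = 1 ∨ g = z := by
  constructor
  · intro h
    obtain ⟨k, rfl⟩ := mem_zpowers_iff.mp h
    apply C.invol
    rw [← zpow_natCast, ← zpow_mul, mul_comm, zpow_mul, zpow_natCast, C.hz2, one_zpow]
  · rintro (rfl | rfl)
    · exact one_mem _
    · exact mem_zpowers _

theorem ZCtx.two_elt_cases (C : ZCtx G z) (k : ℕ) (t : G) (ht : t ^ 2 ^ k = 1)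
    (hno : ∀ j : ℕ, (t ^ j) ^ 2 ≠ z) : t = 1 ∨ t = z := by
  induction k generalizing t with
  | zero => left; simpa using ht
  | succ k ih =>
    have h1 : (t ^ 2) ^ 2 ^ k = 1 := by rw [← pow_mul, ← pow_succ']; exact ht
    have h2 : ∀ j : ℕ, ((t ^ 2) ^ j) ^ 2 ≠ z := fun j => by
      have := hno (2 * j)
      rwa [pow_mul] at this
    rcases ih (t ^ 2) h1 h2 with h | h
    · exact C.invol t h
    · exact absurd h (by have := hno 1; rwa [pow_one] at this)

theorem conj_comm {a b g : G} (h : a * b = b * a) :
    (g * a * g⁻¹) * (g * b * g⁻¹) = (g * b * g⁻¹) * (g * a * g⁻¹) := by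
  calc (g * a * g⁻¹) * (g * b * g⁻¹) = g * (a * b) * g⁻¹ := by group
    _ = g * (b * a) * g⁻¹ := by rw [h]
    _ = _ := by group

/-- Central elements lie in `{1, z}`. -/
theorem central_mem [Finite G] (C : ZCtx G z) (hperf : commutator G = ⊤) {I J x : G}
    (T : Triple z I J x) (c : G) (hc : ∀ g, g * c = c * g) : c = 1 ∨ c = z := by
  have hpf : ∀ r : ℕ, r.Prime → r ∣ orderOf c → r = 2 := by
    intro r hr hdvd
    by_contra hr2
    haveI : Fact r.Prime := ⟨hr⟩
    set c' := c ^ (orderOf c / r) with hc'
    have hord : orderOf c' = r := orderOf_pow_orderOf_div (orderOf_pos c).ne' hdvd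
    have hc'1 : c' ≠ 1 := by
      intro h
      rw [h, orderOf_one] at hord
      exact hr.one_lt.ne hord
    have hc'r : c' ^ r = 1 := by
      have := pow_orderOf_eq_one c'
      rwa [hord] at this
    have hc'c : ∀ g, g * c' = c' * g := fun g =>
      (Commute.pow_right (show Commute g c from hc g) _).eq
    have hrg : IsPGroup r (zpowers c') :=
      IsPGroup.of_card (n := 1) (by rw [Nat.card_zpowers, hord, pow_one])
    obtain ⟨R, hR⟩ := hrg.exists_le_sylow
    have hRc : IsCyclic R := by
      rcases C.pgroup_struct r R R.isPGroup' with h | ⟨h, _⟩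
      · exact h
      · exact absurd h hr2
    obtain ⟨g, _, hg⟩ := exists_normalizing_not_centralizing hperf R hRc c'
      (hR (mem_zpowers c')) hc'1 hc'r
    apply hg
    rw [hc'c g]
    group
  have h2k : orderOf c = 2 ^ (orderOf c).primeFactorsList.length :=
    Nat.eq_prime_pow_of_unique_prime_dvd (orderOf_pos c).ne' (fun {d} hd hdv => hpf d hd hdv)
  apply C.two_elt_cases _ c (by rw [← h2k]; exact pow_orderOf_eq_one c)
  intro j hy
  obtain ⟨y, hy'⟩ : ∃ y, y = c ^ j := ⟨_, rfl⟩
  rw [← hy'] at hy
  have hyc : ∀ g, Commute g y := fun g => by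
    rw [hy']; exact Commute.pow_right (show Commute g c from hc g) j
  have h1 : (y * I⁻¹) ^ 2 = 1 := by
    rw [pow_two]
    calc y * I⁻¹ * (y * I⁻¹) = y * (I⁻¹ * y) * I⁻¹ := by group
      _ = y * (y * I⁻¹) * I⁻¹ := by rw [(hyc I⁻¹).eq]
      _ = y ^ 2 * (I ^ 2)⁻¹ := by rw [pow_two, pow_two]; group
      _ = 1 := by rw [hy, T.hI]; group
  have hζ : Commute J (y * I⁻¹) := by
    rcases C.invol _ h1 with h | h <;> rw [h]
    · exact Commute.one_right J
    · exact C.central J
  have hJI : Commute J ((y * I⁻¹)⁻¹ * y) := hζ.inv_right.mul_right (hyc J)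
  have hI : (y * I⁻¹)⁻¹ * y = I := by group
  rw [hI] at hJI
  exact T.not_comm C hJI.eq.symm

/-- A normal subgroup containing an element of order four contains `I`. -/
theorem I_mem_of_four [Finite G] (C : ZCtx G z) {I J x α : G} {S : Sylow 2 G}
    (T : Triple z I J x) (D : SylData z I J S α) (N : Subgroup G) [hN : N.Normal] (y : G)
    (hyN : y ∈ N) (hy2 : y ^ 2 = z) : I ∈ N := by
  have key_a : ∀ y' ∈ N, y' ^ 2 = z → y' * I = I * y' → I ∈ N := by
    intro y' hy'N hy'2 hcomm
    have hc : Commute y' I⁻¹ := (show Commute y' I from hcomm).inv_right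
    have h1 : (y' * I⁻¹) ^ 2 = 1 := by
      rw [hc.mul_pow, hy'2, inv_pow, T.hI, mul_inv_cancel]
    rcases C.invol _ h1 with h | h
    · have : y' = I := by rw [← mul_inv_eq_one]; exact h
      rw [← this]; exact hy'N
    · have : y' = I⁻¹ := by
        rw [T.Iinv C, ← h]; group
      have h2 : I = y'⁻¹ := by rw [this, inv_inv]
      rw [h2]; exact inv_mem hy'N
  have hxIJ : x * (I * J) * x⁻¹ = I := by
    have hJIJ : J * I * J = I := by
      calc J * I * J = (J * I * J⁻¹) * (J * J) := by group
        _ = z * I * z := by rw [T.hJI, T.JJ, T.Iinv C]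
        _ = (z * z) * I := by rw [mul_assoc, C.central I]; group
        _ = I := by rw [C.zz, one_mul]
    calc x * (I * J) * x⁻¹ = (x * I * x⁻¹) * (x * J * x⁻¹) := by group
      _ = J * (I * J) := by rw [T.hxI, T.hxJ]
      _ = J * I * J := by group
      _ = I := hJIJ
  have hy4 : y ^ 4 = 1 := by
    rw [show 4 = 2 * 2 from rfl, pow_mul, hy2, C.hz2]
  obtain ⟨n, -, hn⟩ := exists_conj_into_sylow' S ⊤ le_top (zpowers y) le_top
    (isPGroup_zpowers_of_pow_four hy4)
  set y' := n * y * n⁻¹ with hy'
  have hy'S : y' ∈ S := hn y (mem_zpowers y)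
  have hy'N : y' ∈ N := hN.conj_mem y hyN n
  have hy'2 : y' ^ 2 = z := by rw [hy', conj_pow, hy2, C.central n]; group
  obtain ⟨i, hi | hi⟩ := D.hall y' hy'S
  · apply key_a y' hy'N hy'2
    rw [hi]
    exact ((show Commute α I from D.alpha_comm_I).zpow_left i).eq
  · rcases D.hcase with ⟨hαI, _⟩ | ⟨hα2, _⟩
    · -- order eight
      obtain ⟨k, hk | hk⟩ := Int.even_or_odd' i
      · -- y' = z^k * J commutes with J
        have hy'J : y' * J = J * y' := by
          have e1 : y' = z ^ k * J := by rw [hi, hαI, hk, zpow_mul, zpow_two, T.II]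
          have hzk : Commute (z ^ k) J :=
            (show Commute z J from (C.central J).symm).zpow_left k
          rw [e1]
          exact (hzk.mul_left (Commute.refl J)).eq
        have h1 := conj_comm (g := x * x) hy'J
        have h2 : x * x * J * (x * x)⁻¹ = I := by
          calc x * x * J * (x * x)⁻¹ = x * (x * J * x⁻¹) * x⁻¹ := by group
            _ = I := by rw [T.hxJ, hxIJ]
        rw [h2] at h1
        apply key_a _ (hN.conj_mem y' hy'N (x * x)) _ h1
        rw [conj_pow, hy'2, C.central (x * x)]; group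
      · -- y' = z^k * (I * J) commutes with I * J
        have hy'IJ : y' * (I * J) = (I * J) * y' := by
          have e1 : y' = z ^ k * (I * J) := by
            rw [hi, hαI, hk, zpow_add, zpow_one, zpow_mul, zpow_two, T.II]
            group
          have hzk : Commute (z ^ k) (I * J) :=
            (show Commute z (I * J) from (C.central (I * J)).symm).zpow_left k
          rw [e1]
          exact (hzk.mul_left (Commute.refl (I * J))).eq
        have h1 := conj_comm (g := x) hy'IJ
        rw [hxIJ] at h1
        apply key_a _ (hN.conj_mem y' hy'N x) _ h1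
        rw [conj_pow, hy'2, C.central x]; group
    · -- order sixteen: the commutator with α is I
      have hJα' : J * α⁻¹ * J⁻¹ = α := by
        calc J * α⁻¹ * J⁻¹ = (J * α * J⁻¹)⁻¹ := by group
          _ = α := by rw [D.hJα, inv_inv]
      have hc : α * y' * α⁻¹ * y'⁻¹ = I := by
        rw [hi]
        calc α * (α ^ i * J) * α⁻¹ * (α ^ i * J)⁻¹
            = α * α ^ i * (J * α⁻¹ * J⁻¹) * (α ^ i)⁻¹ := by group
          _ = α * α ^ i * α * (α ^ i)⁻¹ := by rw [hJα']
          _ = α ^ 2 := by group
          _ = I := hα2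
      rw [← hc]
      exact mul_mem (hN.conj_mem y' hy'N α) (inv_mem hy'N)

/-- A proper normal subgroup has no elements of order four. -/
theorem no_four_of_proper [Finite G] (C : ZCtx G z) (hperf : commutator G = ⊤)
    {I J x α : G} {S : Sylow 2 G} (T : Triple z I J x) (D : SylData z I J S α)
    (N : Subgroup G) [hN : N.Normal] (hNtop : N ≠ ⊤) : ∀ y ∈ N, y ^ 2 ≠ z := by
  intro y hyN hy2
  have hI := I_mem_of_four C T D N y hyN hy2
  have hJ : J ∈ N := by rw [← T.hxI]; exact hN.conj_mem I hI x
  apply hNtop
  apply eq_top_of_cyclic_sylow_images hperf N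
  intro r hr
  rcases eq_or_ne r 2 with rfl | hr2
  · refine ⟨S, ?_⟩
    have hJ1 : QuotientGroup.mk' N J = 1 := (QuotientGroup.eq_one_iff J).mpr hJ
    have hle : (S : Subgroup G).map (QuotientGroup.mk' N) ≤
        zpowers (QuotientGroup.mk' N α) := by
      rintro _ ⟨s, hs, rfl⟩
      obtain ⟨i, rfl | rfl⟩ := D.hall s hs
      · rw [map_zpow]; exact zpow_mem_zpowers _ i
      · rw [map_mul, map_zpow, hJ1, mul_one]; exact zpow_mem_zpowers _ i
    exact isCyclic_of_injective (Subgroup.inclusion hle) (Subgroup.inclusion_injective hle)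
  · obtain P : Sylow r G := default
    refine ⟨P, ?_⟩
    have hPc : IsCyclic P := by
      rcases C.pgroup_struct r P P.isPGroup' with h | ⟨h, _⟩
      · exact h
      · exact absurd h hr2
    exact isCyclic_of_surjective ((QuotientGroup.mk' N).subgroupMap (P : Subgroup G))
      (MonoidHom.subgroupMap_surjective _ _)

/-- Normal subgroups of odd order are trivial. -/
theorem odd_normal_trivial [Finite G] (C : ZCtx G z) (hperf : commutator G = ⊤) {I J x : G}
    (T : Triple z I J x) (M : Subgroup G) [hM : M.Normal] (hodd : ∀ g ∈ M, Odd (orderOf g)) :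
    M = ⊥ := by
  have hcent : ∀ c ∈ M, (∀ g, g * c = c * g) → c = 1 := by
    intro c hcM hc
    rcases central_mem C hperf T c hc with h | h
    · exact h
    · exfalso
      have := hodd c hcM
      rw [h, orderOf_eq_prime C.hz2 C.hz1] at this
      exact (by decide : ¬ Odd 2) this
  haveI : IsZGroup M := by
    refine ⟨fun r hr P => ?_⟩
    haveI : Fact r.Prime := ⟨hr⟩
    let e := Subgroup.equivMapOfInjective (P : Subgroup M) M.subtype M.subtype_injective
    have hPm : IsPGroup r ((P : Subgroup M).map M.subtype) := P.isPGroup'.map _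
    rcases C.pgroup_struct r _ hPm with h | ⟨_, n, ⟨f⟩⟩
    · exact isCyclic_of_surjective e.symm e.symm.surjective
    · exfalso
      haveI : NeZero (2 ^ n) := ⟨by positivity⟩
      set q := f.symm (QuaternionGroup.xa 0) with hq
      have hqM : (q : G) ∈ M := map_subtype_le _ q.2
      have h4 : orderOf (q : G) = 4 := by
        rw [Subgroup.orderOf_coe, hq, f.symm.orderOf_eq, QuaternionGroup.orderOf_xa]
      have := hodd _ hqM
      rw [h4] at this
      exact (by decide : ¬ Odd 4) this
  -- the commutator subgroup is cyclic and normal, hence central, hence trivial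
  have hcomm : ⁅M, M⁆ = ⊥ := by
    rw [Subgroup.eq_bot_iff_forall]
    intro c hc
    have hcM : c ∈ M := Subgroup.commutator_le_left M M hc
    apply hcent c hcM
    have hcyc : IsCyclic (⁅M, M⁆ : Subgroup G) := by
      rw [← Subgroup.map_subtype_commutator]
      haveI := IsZGroup.isCyclic_commutator M
      let e := Subgroup.equivMapOfInjective (_root_.commutator M) M.subtype
        M.subtype_injective
      exact isCyclic_of_surjective e e.surjective
    intro g
    exact cyclic_normal_central hperf ⁅M, M⁆ hcyc c hc g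
  have hab : ∀ a ∈ M, ∀ b ∈ M, a * b = b * a := by
    intro a ha b hb
    have h1 := (Subgroup.commutator_eq_bot_iff_le_centralizer.mp hcomm) ha
    exact (mem_centralizer_iff.mp h1 b hb).symm
  have hcyc : IsCyclic M := C.abel M hab
  rw [Subgroup.eq_bot_iff_forall]
  intro c hc
  exact hcent c hc (fun g => cyclic_normal_central hperf M hcyc c hc g)

/-- A normal subgroup without elements of order four is contained in `{1, z}`. -/
theorem le_Z_of_no_four [Finite G] (C : ZCtx G z) (hperf : commutator G = ⊤) {I J x : G}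
    (T : Triple z I J x) (N : Subgroup G) [hN : N.Normal] (hno : ∀ y ∈ N, y ^ 2 ≠ z) :
    N ≤ zpowers z := by
  have h2elt : ∀ t ∈ N, (∃ k : ℕ, t ^ 2 ^ k = 1) → t = 1 ∨ t = z := by
    rintro t ht ⟨k, hk⟩
    exact C.two_elt_cases k t hk (fun j => hno _ (pow_mem ht j))
  by_cases h2 : 2 ∣ Nat.card N
  · obtain P : Sylow 2 N := default
    have hPelt : ∀ p : N, p ∈ P → (p : G) ∈ zpowers z := by
      intro p hp
      rw [C.mem_Z]
      apply h2elt _ p.2
      obtain ⟨k, hk⟩ := P.isPGroup' ⟨p, hp⟩
      refine ⟨k, ?_⟩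
      have := congrArg (fun q : P => ((q : N) : G)) hk
      simpa using this
    have hPc : IsCyclic P := by
      let f : (P : Subgroup N) →* zpowers z :=
        { toFun := fun p => ⟨((p : N) : G), hPelt p p.2⟩
          map_one' := rfl
          map_mul' := fun a b => rfl }
      apply isCyclic_of_injective f
      intro a b hab
      apply Subtype.ext
      apply Subtype.ext
      exact congrArg (fun t : zpowers z => (t : G)) hab
    obtain ⟨O, hO, hdec⟩ := exists_odd_complement N h2 P hPc
    haveI hOn : O.Normal := by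
      refine ⟨fun o ho g => ?_⟩
      rw [hO] at ho ⊢
      refine ⟨hN.conj_mem o ho.1 g, ?_⟩
      have : orderOf (g * o * g⁻¹) = orderOf o := by
        rw [← MulAut.conj_apply]; exact (MulAut.conj g).orderOf_eq o
      rw [this]; exact ho.2
    have hObot : O = ⊥ := odd_normal_trivial C hperf T O (fun g hg => ((hO g).1 hg).2)
    intro d hd
    obtain ⟨o, ho, t, htP, hdt⟩ := hdec ⟨d, hd⟩
    rw [hObot, Subgroup.mem_bot] at ho
    have : d = (t : G) := by
      have h := hdt
      rw [ho, one_mul] at h
      exact h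
    rw [this]
    exact hPelt t htP
  · have hodd : ∀ g ∈ N, Odd (orderOf g) := by
      intro g hg
      rw [← Nat.not_even_iff_odd, even_iff_two_dvd]
      intro h
      apply h2
      have h1 : orderOf (⟨g, hg⟩ : N) ∣ Nat.card N := orderOf_dvd_natCard _
      rw [Subgroup.orderOf_mk] at h1
      exact h.trans h1
    rw [odd_normal_trivial C hperf T N hodd]
    exact bot_le

/-- **The central quotient is simple.** -/
theorem simple_quotient [Finite G] (C : ZCtx G z) (hperf : commutator G = ⊤)
    {I J x α : G} {S : Sylow 2 G} (T : Triple z I J x) (D : SylData z I J S α)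
    [hZ : (zpowers z).Normal] : IsSimpleGroup (G ⧸ zpowers z) := by
  haveI : Nontrivial (G ⧸ zpowers z) := by
    refine ⟨⟨(I : G ⧸ zpowers z), 1, ?_⟩⟩
    intro h
    rw [QuotientGroup.eq_one_iff, C.mem_Z] at h
    rcases h with h | h
    · exact T.I_ne_one C h
    · have := T.hI
      rw [h, C.hz2] at this
      exact C.hz1 this.symm
  refine ⟨fun Nb hNb => ?_⟩
  haveI := hNb
  let N : Subgroup G := Nb.comap (QuotientGroup.mk' (zpowers z))
  haveI hNn : N.Normal := inferInstance
  by_cases hNtop : N = ⊤
  · right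
    rw [eq_top_iff]
    intro q _
    obtain ⟨g, rfl⟩ := QuotientGroup.mk'_surjective (zpowers z) q
    have : g ∈ N := hNtop ▸ mem_top g
    exact this
  · left
    have hle := le_Z_of_no_four C hperf T N (no_four_of_proper C hperf T D N hNtop)
    rw [Subgroup.eq_bot_iff_forall]
    intro q hq
    obtain ⟨g, rfl⟩ := QuotientGroup.mk'_surjective (zpowers z) q
    have hg : g ∈ N := hq
    exact (QuotientGroup.eq_one_iff g).mpr (hle hg)

end Cfsg.Agent.Helper24.Zas
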