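import Mathlib
import Cfsg.Agent.S3278
import Cfsg.Agent.S3378
import Cfsg.Agent.Helper24.ZasGrpD

/-!
# Zassenhaus project: the case of a Sylow `2`-subgroup of order eight
-/

set_option autoImplicit false
set_option linter.style.haveILetI false
set_option linter.deprecated false
set_option linter.unusedSectionVars false

open Subgroup

namespace Cfsg.Agent.Helper24.Zas

variable {G : Type*} [Group G] {z : G}

section Quot

variable [hZ : (zpowers z).Normal]

theorem pi_eq_one (C : ZCtx G z) (g : G) :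
    (QuotientGroup.mk' (zpowers z) g = 1) ↔ g = 1 ∨ g = z := by
  rw [QuotientGroup.mk'_apply, QuotientGroup.eq_one_iff, C.mem_Z]

theorem pi_eq (C : ZCtx G z) (a b : G) :
    QuotientGroup.mk' (zpowers z) a = QuotientGroup.mk' (zpowers z) b ↔
      a = b ∨ a = z * b := by
  rw [QuotientGroup.mk'_apply, QuotientGroup.mk'_apply, QuotientGroup.eq, C.mem_Z]
  constructor
  · rintro (h | h)
    · left; exact inv_mul_eq_one.mp h
    · right
      have hb : b = a * z := by rw [← h]; group
      rw [hb, ← mul_assoc, ← C.central a, mul_assoc, C.zz, mul_one]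
  · rintro (rfl | rfl)
    · left; group
    · right
      calc (z * b)⁻¹ * b = b⁻¹ * z⁻¹ * b := by group
        _ = b⁻¹ * (z * b) := by rw [C.zinv]; group
        _ = b⁻¹ * (b * z) := by rw [C.central b]
        _ = z := by group

theorem card_eq_two_mul [Finite G] (C : ZCtx G z) :
    Nat.card G = Nat.card (G ⧸ zpowers z) * 2 := by
  rw [Subgroup.card_eq_card_quotient_mul_card_subgroup (zpowers z), Nat.card_zpowers,
    orderOf_eq_prime C.hz2 C.hz1]

theorem perfect_quotient (hperf : commutator G = ⊤) (N : Subgroup G) [N.Normal] :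
    commutator (G ⧸ N) = ⊤ := by
  rw [commutator_def, ← Subgroup.map_top_of_surjective (QuotientGroup.mk' N)
    (QuotientGroup.mk'_surjective N), ← Subgroup.map_commutator, ← commutator_def, hperf]

end Quot

/-- Odd-order elements centralizing `I` centralize the second element of any triple through
`I`. -/
theorem odd_comm_of_triple (C : ZCtx G z) {I J x : G} (T : Triple z I J x) (O : Subgroup G)
    (hOmem : ∀ g, g ∈ O ↔ g * I = I * g ∧ Odd (orderOf g)) : ∀ o ∈ O, o * J = J * o := by
  intro o ho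
  obtain ⟨hoI, hoodd⟩ := (hOmem o).1 ho
  set o' := J * o * J⁻¹ with ho'
  have hJinvI : J⁻¹ * I * J = I⁻¹ := by
    have e1 : I = J⁻¹ * (J * I * J⁻¹) * J := by group
    rw [T.hJI] at e1
    calc J⁻¹ * I * J = (J⁻¹ * I⁻¹ * J)⁻¹ := by group
      _ = I⁻¹ := by rw [← e1]
  have hoI' : o * I⁻¹ = I⁻¹ * o := by
    calc o * I⁻¹ = I⁻¹ * (I * o) * I⁻¹ := by group
      _ = I⁻¹ * (o * I) * I⁻¹ := by rw [hoI]
      _ = I⁻¹ * o := by group
  have ho'I : o' * I = I * o' := by
    calc o' * I = J * o * (J⁻¹ * I * J) * J⁻¹ := by rw [ho']; group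
      _ = J * (o * I⁻¹) * J⁻¹ := by rw [hJinvI]; group
      _ = J * (I⁻¹ * o) * J⁻¹ := by rw [hoI']
      _ = J * (J⁻¹ * I * J) * o * J⁻¹ := by rw [hJinvI]; group
      _ = I * o' := by rw [ho']; group
  have ho'odd : Odd (orderOf o') := by
    have : orderOf o' = orderOf o := by
      rw [ho', ← MulAut.conj_apply]
      exact (MulAut.conj J).orderOf_eq o
    rw [this]; exact hoodd
  have ho'O : o' ∈ O := (hOmem o').2 ⟨ho'I, ho'odd⟩
  set c := o⁻¹ * o' with hc
  have hcO : c ∈ O := mul_mem (inv_mem ho) ho'O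
  obtain ⟨hcI, hcodd⟩ := (hOmem c).1 hcO
  have hJc : J * c * J⁻¹ = c⁻¹ := by
    have h1 : J * o' * J⁻¹ = o := by
      calc J * o' * J⁻¹ = (J * J) * o * (J * J)⁻¹ := by rw [ho']; group
        _ = z * o * z⁻¹ := by rw [T.JJ]
        _ = o := by rw [← C.central o]; group
    calc J * c * J⁻¹ = (J * o * J⁻¹)⁻¹ * (J * o' * J⁻¹) := by rw [hc]; group
      _ = o'⁻¹ * o := by rw [h1]
      _ = c⁻¹ := by rw [hc]; group
  have hc8 := C.lemB I J x c T.hI T.hJ T.hJI T.hx T.hxI T.hxJ hcI hJc
  have hc1 : c = 1 := by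
    have h1 : orderOf c ∣ 2 ^ 3 := orderOf_dvd_of_pow_eq_one hc8
    have h2 : Nat.Coprime (orderOf c) (2 ^ 3) :=
      Nat.Coprime.pow_right 3 (Nat.coprime_two_right.mpr hcodd)
    exact orderOf_eq_one_iff.mp (Nat.Coprime.eq_one_of_dvd h2 h1)
  have heq : o' = o := by
    calc o' = o * c := by rw [hc]; group
      _ = o := by rw [hc1, mul_one]
  calc o * J = (J * o * J⁻¹) * J := by rw [← ho', heq]
    _ = J * o := by group

/-- Elements normalizing `⟨I⟩` lie in `O · S`. -/
theorem normalizer_I_decomp (C : ZCtx G z) {I J x α : G} {S : Sylow 2 G}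
    (T : Triple z I J x) (D : SylData z I J S α) (O : Subgroup G)
    (hdec : ∀ d, d * I = I * d → ∃ o ∈ O, ∃ i : ℤ, d = o * α ^ i) (g : G)
    (hg : g * I = I * g ∨ g * I = z * I * g) : ∃ o ∈ O, ∃ s ∈ S, g = o * s := by
  rcases hg with hg | hg
  · obtain ⟨o, ho, i, hi⟩ := hdec g hg
    exact ⟨o, ho, α ^ i, zpow_mem D.hαS i, hi⟩
  · have h1 : (g * J) * I = I * (g * J) := by
      calc g * J * I = g * (J * I) := by group
        _ = g * (z * I * J) := by rw [T.JI C]
        _ = (g * z) * I * J := by group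
        _ = z * (g * I) * J := by rw [C.central g]; group
        _ = z * (z * I * g) * J := by rw [hg]
        _ = (z * z) * I * g * J := by group
        _ = I * (g * J) := by rw [C.zz]; group
    obtain ⟨o, ho, i, hi⟩ := hdec (g * J) h1
    refine ⟨o, ho, α ^ i * J⁻¹, mul_mem (zpow_mem D.hαS i) (inv_mem D.hJS), ?_⟩
    calc g = (g * J) * J⁻¹ := by group
      _ = o * (α ^ i * J⁻¹) := by rw [hi]; group

theorem card_A5 : Nat.card (alternatingGroup (Fin 5)) = 60 := by
  rw [Nat.card_eq_fintype_card]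
  have h := two_mul_card_alternatingGroup (α := Fin 5)
  rw [Fintype.card_perm, Fintype.card_fin] at h
  have : Nat.factorial 5 = 120 := by decide
  omega

/-- **Order eight**: the group is `SL(2, 5)`. -/
theorem case_eight [Finite G] (C : ZCtx G z) (hperf : commutator G = ⊤) {I J x α : G}
    {S : Sylow 2 G} (T : Triple z I J x) (D : SylData z I J S α) (hα : α = I)
    (e : S ≃* QuaternionGroup 2) :
    Nonempty (G ≃* Matrix.SpecialLinearGroup (Fin 2) (ZMod 5)) := by
  haveI hZ := C.normal_Z
  haveI hsimple := simple_quotient C hperf T D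
  obtain ⟨O, hOmem, hOJ, hdec⟩ := cent_struct C T D
  let π := QuotientGroup.mk' (zpowers z)
  have hπs : Function.Surjective π := QuotientGroup.mk'_surjective _
  -- the order of the Sylow subgroup of the quotient
  have hcardS : Nat.card S = 8 := by
    rw [Nat.card_congr e.toEquiv, Nat.card_eq_fintype_card, QuaternionGroup.card]
  have hG2 := card_eq_two_mul C
  have hv : (Nat.card G).factorization 2 = 3 := by
    have h1 := S.card_eq_multiplicity
    rw [hcardS] at h1
    have h2 : 2 ^ 3 = 2 ^ (Nat.card G).factorization 2 := by rw [← h1]; norm_num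
    exact (Nat.pow_right_injective (le_refl 2) h2).symm
  have hvq : (Nat.card (G ⧸ zpowers z)).factorization 2 = 2 := by
    have h0 : Nat.card (G ⧸ zpowers z) ≠ 0 := Nat.card_pos.ne'
    have h1 : (Nat.card (G ⧸ zpowers z) * 2).factorization 2
        = (Nat.card (G ⧸ zpowers z)).factorization 2 + 1 := by
      rw [Nat.factorization_mul h0 (by norm_num), Finsupp.add_apply,
        Nat.prime_two.factorization_self]
    rw [← hG2, hv] at h1
    omega
  let Sb : Sylow 2 (G ⧸ zpowers z) := S.mapSurjective hπs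
  have hSb : (Sb : Subgroup (G ⧸ zpowers z)) = (S : Subgroup G).map π := rfl
  have hcardSb : Nat.card Sb = 4 := by
    have := Sb.card_eq_multiplicity
    rw [hvq] at this
    exact this
  set S₀ : Subgroup (G ⧸ zpowers z) := (S : Subgroup G).map π with hS₀
  have hcardS₀ : Nat.card S₀ = 4 := hcardSb
  -- elements of S
  have hSI : ∀ s ∈ S, s * I = I * s ∨ s * I = z * I * s := by
    intro s hs
    obtain ⟨i, rfl | rfl⟩ := D.hall s hs
    · left
      exact ((show Commute α I from D.alpha_comm_I).zpow_left i).eq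
    · right
      have hc := ((show Commute α I from D.alpha_comm_I).zpow_left i).eq
      calc α ^ i * J * I = α ^ i * (J * I) := by group
        _ = α ^ i * (z * I * J) := by rw [T.JI C]
        _ = (α ^ i * z) * I * J := by group
        _ = z * (α ^ i * I) * J := by rw [C.central (α ^ i)]; group
        _ = z * (I * α ^ i) * J := by rw [hc]
        _ = z * I * (α ^ i * J) := by group
  have hSsq : ∀ s ∈ S, s ^ 2 = 1 ∨ s ^ 2 = z := by
    intro s hs
    obtain ⟨i, rfl | rfl⟩ := D.hall s hs
    · rw [← C.mem_Z, hα, ← zpow_natCast, ← zpow_mul, mul_comm, zpow_mul, zpow_natCast, T.hI]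
      exact zpow_mem_zpowers z i
    · right; exact D.aJ_sq T i
  have hπI2 : π I ^ 2 = 1 := by
    rw [← map_pow, T.hI, pi_eq_one C]; right; rfl
  have hπI1 : π I ≠ 1 := by
    rw [Ne, pi_eq_one C]
    rintro (h | h)
    · exact T.I_ne_one C h
    · have := T.hI
      rw [h, C.hz2] at this
      exact C.hz1 this.symm
  have hx : orderOf (π I) = 2 := orderOf_eq_prime hπI2 hπI1
  have hle : S₀ ≤ centralizer ({π I} : Set (G ⧸ zpowers z)) := by
    rintro _ ⟨s, hs, rfl⟩
    rw [mem_centralizer_singleton_iff, ← map_mul, ← map_mul, pi_eq C]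
    rcases hSI s hs with h | h
    · left; exact h
    · right; rw [h, mul_assoc]
  have hK : IsKleinFour S₀ := by
    refine ⟨hcardS₀, ?_⟩
    have h1 : Monoid.exponent S₀ ∣ 2 := by
      apply Monoid.exponent_dvd_of_forall_pow_eq_one
      rintro ⟨_, s, hs, rfl⟩
      apply Subtype.ext
      show π s ^ 2 = 1
      rw [← map_pow, pi_eq_one C]
      exact hSsq s hs
    have h2 : Monoid.exponent S₀ ≠ 1 := by
      rw [Ne, Monoid.exp_eq_one_iff]
      intro hsub
      have : Nat.card S₀ ≤ 1 := Finite.card_le_one_iff_subsingleton.mpr hsub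
      omega
    rcases (Nat.dvd_prime Nat.prime_two).mp h1 with h | h
    · exact absurd h h2
    · exact h
  have hodd : ¬ 2 ∣ S₀.relIndex (centralizer ({π I} : Set (G ⧸ zpowers z))) := by
    intro h
    have h1 := h.trans (Subgroup.relIndex_dvd_index_of_le hle)
    exact Sb.not_dvd_index h1
  have hOS : ∀ o ∈ O, ∀ s ∈ S, o * s * o⁻¹ = s := by
    intro o ho s hs
    have hoI := ((hOmem o).1 ho).1
    have hoJ := hOJ o ho
    have hoα : Commute o α := by rw [hα]; exact hoI
    obtain ⟨i, rfl | rfl⟩ := D.hall s hs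
    · rw [(hoα.zpow_right i).eq]; group
    · have : Commute o (α ^ i * J) := (hoα.zpow_right i).mul_right hoJ
      rw [this.eq]; group
  have hn : (S₀.subgroupOf (centralizer ({π I} : Set (G ⧸ zpowers z)))).Normal := by
    rw [Subgroup.normal_subgroupOf_iff_le_normalizer hle]
    intro c hc
    obtain ⟨g, rfl⟩ := hπs c
    rw [mem_centralizer_singleton_iff, ← map_mul, ← map_mul, pi_eq C] at hc
    have hg' : g * I = I * g ∨ g * I = z * I * g := by
      rcases hc with h | h
      · left; exact h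
      · right; rw [h, mul_assoc]
    obtain ⟨o, ho, s₀, hs₀, rfl⟩ := normalizer_I_decomp C T D O hdec g hg'
    apply mem_normalizer_fintype
    rintro _ ⟨s, hs, rfl⟩
    refine ⟨o * s₀ * s * (o * s₀)⁻¹, ?_, by simp⟩
    have : o * s₀ * s * (o * s₀)⁻¹ = o * (s₀ * s * s₀⁻¹) * o⁻¹ := by group
    rw [this, hOS o ho _ (mul_mem (mul_mem hs₀ hs) (inv_mem hs₀))]
    exact mul_mem (mul_mem hs₀ hs) (inv_mem hs₀)
  obtain ⟨f⟩ := Cfsg.Agent.S3278.result (π I) hx S₀ hle hK hodd hn
  have hcardQ : Nat.card (G ⧸ zpowers z) = 60 := by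
    rw [Nat.card_congr f.toEquiv, card_A5]
  have hcardG : Nat.card G = 120 := by rw [hG2, hcardQ]
  have hns : ¬ Group.IsSolvable G := by
    intro hsol
    haveI : Nontrivial G := ⟨⟨z, 1, C.hz1⟩⟩
    have := IsSolvable.commutator_lt_top_of_nontrivial G
    rw [hperf] at this
    exact lt_irrefl _ this
  have hsyl : ∀ P : Sylow 2 G, Nonempty ((P : Subgroup G) ≃* QuaternionGroup 2) := by
    intro P
    obtain ⟨g, rfl⟩ := MulAction.exists_smul_eq G S P
    exact ⟨(Sylow.equivSMul S g).symm.trans e⟩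
  exact Cfsg.Agent.S3378.result.1 G hcardG hns hsyl

end Cfsg.Agent.Helper24.Zas
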