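import Mathlib
import Cfsg.Agent.S0111
import Cfsg.Agent.Helper24.ZasGrpE

/-!
# Zassenhaus project: order sixteen, the second quaternion subgroup carries a triple
-/

set_option autoImplicit false
set_option linter.style.haveILetI false
set_option linter.deprecated false
set_option linter.unusedSectionVars false

open Subgroup

namespace Cfsg.Agent.Helper24.Zas

variable {G : Type*} [Group G] {z : G}

/-- A quaternion pair. -/
structure QP (z I A : G) : Prop where
  hI : I ^ 2 = z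
  hA : A ^ 2 = z
  hAI : A * I * A⁻¹ = I⁻¹

namespace QP

variable {I A : G}

theorem II (Q : QP z I A) : I * I = z := by rw [← pow_two]; exact Q.hI

theorem AA (Q : QP z I A) : A * A = z := by rw [← pow_two]; exact Q.hA

theorem Iinv (C : ZCtx G z) (Q : QP z I A) : I⁻¹ = z * I := by
  apply inv_eq_of_mul_eq_one_right
  rw [← mul_assoc, C.central I, mul_assoc, Q.II, C.zz]

theorem Ainv (C : ZCtx G z) (Q : QP z I A) : A⁻¹ = z * A := by
  apply inv_eq_of_mul_eq_one_right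
  rw [← mul_assoc, C.central A, mul_assoc, Q.AA, C.zz]

theorem AI (C : ZCtx G z) (Q : QP z I A) : A * I = z * I * A := by
  have h := Q.hAI
  rw [Q.Iinv C] at h
  calc A * I = (A * I * A⁻¹) * A := by group
    _ = z * I * A := by rw [h]

theorem AIA (C : ZCtx G z) (Q : QP z I A) : A * I * A = I := by
  calc A * I * A = (A * I * A⁻¹) * (A * A) := by group
    _ = z * I * z := by rw [Q.hAI, Q.AA, Q.Iinv C]
    _ = (z * z) * I := by rw [mul_assoc, C.central I]; group
    _ = I := by rw [C.zz, one_mul]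

theorem IAI (C : ZCtx G z) (Q : QP z I A) : I * A * I = A := by
  calc I * A * I = I * (A * I) := by group
    _ = I * (z * I * A) := by rw [Q.AI C]
    _ = (I * z) * I * A := by group
    _ = z * (I * I) * A := by rw [C.central I]; group
    _ = A := by rw [Q.II, C.zz, one_mul]

theorem not_comm (C : ZCtx G z) (Q : QP z I A) : I * A ≠ A * I := by
  intro h
  have h1 : A * I * A⁻¹ = I := by rw [← h]; group
  rw [Q.hAI] at h1
  have h2 : I * I = 1 := by
    nth_rewrite 1 [← h1]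
    group
  rw [Q.II] at h2
  exact C.hz1 h2

/-- An element commuting with `I` whose square is `z` is `I` or `I⁻¹`. -/
theorem eq_of_comm (C : ZCtx G z) (Q : QP z I A) (y : G) (hy2 : y ^ 2 = z)
    (hcomm : y * I = I * y) : y = I ∨ y = I⁻¹ := by
  have hc : Commute y I⁻¹ := (show Commute y I from hcomm).inv_right
  have h1 : (y * I⁻¹) ^ 2 = 1 := by
    rw [hc.mul_pow, hy2, inv_pow, Q.hI, mul_inv_cancel]
  rcases C.invol _ h1 with h | h
  · left; rw [← mul_inv_eq_one]; exact h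
  · right; rw [Q.Iinv C, ← h]; group

/-- The product pair. -/
theorem prod (C : ZCtx G z) (Q : QP z I A) : QP z I (A * I) where
  hI := Q.hI
  hA := by
    rw [pow_two]
    calc A * I * (A * I) = (A * I * A) * I := by group
      _ = z := by rw [Q.AIA C, Q.II]
  hAI := by
    calc A * I * I * (A * I)⁻¹ = A * I * A⁻¹ := by group
      _ = I⁻¹ := Q.hAI

theorem inv (C : ZCtx G z) (Q : QP z I A) : QP z I A⁻¹ where
  hI := Q.hI
  hA := by rw [inv_pow, Q.hA, C.zinv]
  hAI := by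
    rw [inv_inv]
    have e1 : I = A⁻¹ * (A * I * A⁻¹) * A := by group
    rw [Q.hAI] at e1
    calc A⁻¹ * I * A = (A⁻¹ * I⁻¹ * A)⁻¹ := by group
      _ = I⁻¹ := by rw [← e1]

end QP

theorem Triple.toQP {I J x : G} (T : Triple z I J x) : QP z I J := ⟨T.hI, T.hJ, T.hJI⟩

/-- **Rotation lemma**: an element rotating a quaternion pair yields a triple. -/
theorem triple_of_rotation [Finite G] (C : ZCtx G z) {I J₂ γ : G} (Q : QP z I J₂)
    (hγI : γ * I * γ⁻¹ = J₂) (hγJ : γ * J₂ * γ⁻¹ = I * J₂)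
    (hno3 : ∀ w : G, w ^ 3 = 1 → w * I = I * w → w = 1) : ∃ x₂, Triple z I J₂ x₂ := by
  have hJIJ := Q.AIA C
  obtain ⟨g3, hg3⟩ : ∃ g3, g3 = γ * γ * γ := ⟨_, rfl⟩
  have hg3' : γ ^ 3 = g3 := by rw [hg3, pow_succ, pow_succ, pow_one]
  have h3I : Commute g3 I := by
    have h : g3 * I * g3⁻¹ = I := by
      calc g3 * I * g3⁻¹ = γ * (γ * (γ * I * γ⁻¹) * γ⁻¹) * γ⁻¹ := by rw [hg3]; group
        _ = γ * (γ * J₂ * γ⁻¹) * γ⁻¹ := by rw [hγI]
        _ = γ * (I * J₂) * γ⁻¹ := by rw [hγJ]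
        _ = (γ * I * γ⁻¹) * (γ * J₂ * γ⁻¹) := by group
        _ = J₂ * (I * J₂) := by rw [hγI, hγJ]
        _ = J₂ * I * J₂ := by group
        _ = I := hJIJ
    show g3 * I = I * g3
    calc g3 * I = (g3 * I * g3⁻¹) * g3 := by group
      _ = I * g3 := by rw [h]
  have h3J : Commute g3 J₂ := by
    have h : g3 * J₂ * g3⁻¹ = J₂ := by
      calc g3 * J₂ * g3⁻¹ = γ * (γ * (γ * J₂ * γ⁻¹) * γ⁻¹) * γ⁻¹ := by rw [hg3]; group
        _ = γ * (γ * (I * J₂) * γ⁻¹) * γ⁻¹ := by rw [hγJ]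
        _ = γ * ((γ * I * γ⁻¹) * (γ * J₂ * γ⁻¹)) * γ⁻¹ := by group
        _ = γ * (J₂ * (I * J₂)) * γ⁻¹ := by rw [hγI, hγJ]
        _ = γ * (J₂ * I * J₂) * γ⁻¹ := by group
        _ = γ * I * γ⁻¹ := by rw [hJIJ]
        _ = J₂ := hγI
    show g3 * J₂ = J₂ * g3
    calc g3 * J₂ = (g3 * J₂ * g3⁻¹) * g3 := by group
      _ = J₂ * g3 := by rw [h]
  -- powers congruent to one modulo three act like γ
  have hact : ∀ q : ℕ, γ ^ (3 * q + 1) * I * (γ ^ (3 * q + 1))⁻¹ = J₂ ∧
      γ ^ (3 * q + 1) * J₂ * (γ ^ (3 * q + 1))⁻¹ = I * J₂ := by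
    intro q
    have e1 : γ ^ (3 * q + 1) = g3 ^ q * γ := by rw [pow_succ, pow_mul, hg3']
    obtain ⟨P, hP⟩ : ∃ P, P = g3 ^ q := ⟨_, rfl⟩
    have hPI : Commute P I := by rw [hP]; exact h3I.pow_left q
    have hPJ : Commute P J₂ := by rw [hP]; exact h3J.pow_left q
    rw [e1, ← hP]
    constructor
    · calc P * γ * I * (P * γ)⁻¹ = P * (γ * I * γ⁻¹) * P⁻¹ := by group
        _ = P * J₂ * P⁻¹ := by rw [hγI]
        _ = J₂ := by rw [hPJ.eq]; group
    · calc P * γ * J₂ * (P * γ)⁻¹ = P * (γ * J₂ * γ⁻¹) * P⁻¹ := by group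
        _ = P * (I * J₂) * P⁻¹ := by rw [hγJ]
        _ = I * J₂ := by rw [(hPI.mul_right hPJ).eq]; group
  obtain ⟨a, m', hm', hn⟩ := Nat.exists_eq_pow_mul_and_not_dvd (orderOf_pos γ).ne' 3
    (by norm_num)
  -- choose the exponent
  obtain ⟨t, q', ht, hta⟩ : ∃ t q' : ℕ, t = 3 * q' + 1 ∧ (γ ^ t) ^ 3 ^ a = 1 := by
    have h12 : m' % 3 = 1 ∨ m' % 3 = 2 := by omega
    rcases h12 with h | h
    · refine ⟨m', m' / 3, by omega, ?_⟩
      rw [← pow_mul, mul_comm, ← hn]
      exact pow_orderOf_eq_one γ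
    · refine ⟨2 * m', (2 * m') / 3, by omega, ?_⟩
      rw [← pow_mul, show 2 * m' * 3 ^ a = (3 ^ a * m') * 2 from by ring, ← hn, pow_mul,
        pow_orderOf_eq_one, one_pow]
  obtain ⟨x₂, hx₂⟩ : ∃ x₂, x₂ = γ ^ t := ⟨_, rfl⟩
  rw [← hx₂] at hta
  obtain ⟨hxI, hxJ⟩ := hact q'
  rw [← ht, ← hx₂] at hxI hxJ
  have hx₂ne : x₂ ≠ 1 := by
    rintro rfl
    simp only [one_mul, inv_one, mul_one] at hxI
    apply Q.not_comm C
    rw [hxI]
  have hx₂3I : Commute (x₂ ^ 3) I := by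
    have : x₂ ^ 3 = g3 ^ t := by rw [hx₂, ← pow_mul, mul_comm, pow_mul, hg3']
    rw [this]
    exact h3I.pow_left t
  obtain ⟨b, hb, hbo⟩ := (Nat.dvd_prime_pow Nat.prime_three).mp (orderOf_dvd_of_pow_eq_one hta)
  have hx₂3 : x₂ ^ 3 = 1 := by
    rcases b with _ | _ | b
    · rw [pow_zero, orderOf_eq_one_iff] at hbo
      exact absurd hbo hx₂ne
    · rw [zero_add, pow_one] at hbo
      rw [← hbo]
      exact pow_orderOf_eq_one x₂
    · exfalso
      have hw3 : (x₂ ^ 3 ^ (b + 1)) ^ 3 = 1 := by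
        rw [← pow_mul, ← pow_succ, ← hbo]
        exact pow_orderOf_eq_one x₂
      have hwI : x₂ ^ 3 ^ (b + 1) * I = I * x₂ ^ 3 ^ (b + 1) := by
        rw [pow_succ', pow_mul]
        exact (hx₂3I.pow_left _).eq
      have hw1 := hno3 _ hw3 hwI
      have hdvd := orderOf_dvd_of_pow_eq_one hw1
      rw [hbo] at hdvd
      have h1 : 3 ^ (b + 1 + 1) ≤ 3 ^ (b + 1) := Nat.le_of_dvd (by positivity) hdvd
      have h2 : 3 ^ (b + 1) < 3 ^ (b + 1 + 1) := Nat.pow_lt_pow_right (by norm_num) (by omega)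
      omega
  exact ⟨x₂, ⟨Q.hI, Q.hA, Q.hAI, hx₂3, hxI, hxJ⟩⟩

/-- **Order sixteen**: the second quaternion subgroup carries a triple. -/
theorem second_triple [Finite G] (C : ZCtx G z) (hperf : commutator G = ⊤) {I J x α : G}
    {S : Sylow 2 G} (T : Triple z I J x) (D : SylData z I J S α) (hα2 : α ^ 2 = I)
    (e16 : S ≃* QuaternionGroup 4) :
    ∃ J₂ x₂, Triple z I J₂ x₂ ∧
      (∀ o : G, o * I = I * o → o * J₂ = J₂ * o → o * (α * J) = (α * J) * o) := by
  haveI hZ := C.normal_Z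
  haveI hsimple := simple_quotient C hperf T D
  let π := QuotientGroup.mk' (zpowers z)
  have hπs : Function.Surjective π := QuotientGroup.mk'_surjective _
  obtain ⟨A, hAdef⟩ : ∃ A, A = α * J := ⟨_, rfl⟩
  have hAS : A ∈ S := by rw [hAdef]; exact mul_mem D.hαS D.hJS
  have hαI : Commute α I := D.alpha_comm_I
  have hJα' : J * α⁻¹ * J⁻¹ = α := by
    calc J * α⁻¹ * J⁻¹ = (J * α * J⁻¹)⁻¹ := by group
      _ = α := by rw [D.hJα, inv_inv]
  have QA : QP z I A := by
    refine ⟨T.hI, ?_, ?_⟩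
    · have := D.aJ_sq T 1
      rwa [zpow_one, ← hAdef] at this
    · rw [hAdef]
      calc α * J * I * (α * J)⁻¹ = α * (J * I * J⁻¹) * α⁻¹ := by group
        _ = α * I⁻¹ * α⁻¹ := by rw [T.hJI]
        _ = I⁻¹ := by rw [(hαI.inv_right).eq]; group
  have hαA : α * A * α⁻¹ = I * A := by
    rw [hAdef]
    calc α * (α * J) * α⁻¹ = α * α * (J * α⁻¹ * J⁻¹) * J := by group
      _ = α * α * α * J := by rw [hJα']
      _ = α ^ 2 * (α * J) := by rw [pow_two]; group
      _ = I * (α * J) := by rw [hα2]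
  -- the orders
  have hcardS : Nat.card S = 16 := by
    rw [Nat.card_congr e16.toEquiv, Nat.card_eq_fintype_card, QuaternionGroup.card]
  have hG2 := card_eq_two_mul C
  have hv : (Nat.card G).factorization 2 = 4 := by
    have h1 := S.card_eq_multiplicity
    rw [hcardS] at h1
    have h2 : 2 ^ 4 = 2 ^ (Nat.card G).factorization 2 := by rw [← h1]; norm_num
    exact (Nat.pow_right_injective (le_refl 2) h2).symm
  have hvq : (Nat.card (G ⧸ zpowers z)).factorization 2 = 3 := by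
    have h0 : Nat.card (G ⧸ zpowers z) ≠ 0 := Nat.card_pos.ne'
    have h1 : (Nat.card (G ⧸ zpowers z) * 2).factorization 2
        = (Nat.card (G ⧸ zpowers z)).factorization 2 + 1 := by
      rw [Nat.factorization_mul h0 (by norm_num), Finsupp.add_apply,
        Nat.prime_two.factorization_self]
    rw [← hG2, hv] at h1
    omega
  let Sb : Sylow 2 (G ⧸ zpowers z) := S.mapSurjective hπs
  have hSb : (Sb : Subgroup (G ⧸ zpowers z)) = (S : Subgroup G).map π := rfl
  have hcardSb : Nat.card Sb = 8 := by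
    have := Sb.card_eq_multiplicity
    rw [hvq] at this
    exact this
  have hπI1 : π I ≠ 1 := by
    rw [Ne, pi_eq_one C]
    rintro (h | h)
    · exact T.I_ne_one C h
    · have := T.hI
      rw [h, C.hz2] at this
      exact C.hz1 this.symm
  have hordα : orderOf (π α) = 2 ^ (1 + 1) := by
    apply orderOf_eq_prime_pow
    · rw [pow_one, ← map_pow, hα2]; exact hπI1
    · rw [← map_pow, pi_eq_one C]
      right
      rw [show 2 ^ (1 + 1) = 2 * 2 from rfl, pow_mul, hα2, T.hI]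
  let Qs : Subgroup (G ⧸ zpowers z) := zpowers (π α)
  have hQP : Qs ≤ (Sb : Subgroup (G ⧸ zpowers z)) := by
    rw [zpowers_le, hSb]
    exact ⟨α, D.hαS, rfl⟩
  have hQi : Qs.relIndex (Sb : Subgroup (G ⧸ zpowers z)) = 2 := by
    have h1 := Subgroup.relIndex_mul_index hQP
    have h2 := Subgroup.card_mul_index Qs
    have h3 := Subgroup.card_mul_index (Sb : Subgroup (G ⧸ zpowers z))
    have h4 : Nat.card Qs = 4 := by
      rw [Nat.card_zpowers, hordα]; norm_num
    rw [h4] at h2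
    rw [hcardSb] at h3
    have hpos : 0 < (Sb : Subgroup (G ⧸ zpowers z)).index := by
      rcases Nat.eq_zero_or_pos (Sb : Subgroup (G ⧸ zpowers z)).index with h | h
      · rw [h, mul_zero] at h3
        have : 0 < Nat.card (G ⧸ zpowers z) := Nat.card_pos
        omega
      · exact h
    have h5 : Qs.index = 2 * (Sb : Subgroup (G ⧸ zpowers z)).index := by omega
    rw [h5] at h1
    exact Nat.eq_of_mul_eq_mul_right hpos h1
  have hA1 : A ≠ 1 := by
    rintro h
    have := QA.hA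
    rw [h, one_pow] at this
    exact C.hz1 this.symm
  have hAz : A ≠ z := by
    rintro h
    have := QA.hA
    rw [h, C.hz2] at this
    exact C.hz1 this.symm
  have hu : orderOf (π A) = 2 := by
    apply orderOf_eq_prime
    · rw [← map_pow, QA.hA, pi_eq_one C]; right; rfl
    · rw [Ne, pi_eq_one C]
      rintro (h | h)
      · exact hA1 h
      · exact hAz h
  have huP : π A ∈ (Sb : Subgroup (G ⧸ zpowers z)) := by
    rw [hSb]; exact ⟨A, hAS, rfl⟩
  -- elements whose image lies in ⟨π α⟩ commute with I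
  have hcommI : ∀ y : G, π y ∈ Qs → y * I = I * y := by
    intro y hy
    obtain ⟨i, hi⟩ := mem_zpowers_iff.mp hy
    rw [← map_zpow, eq_comm, pi_eq C] at hi
    have hαi : Commute (α ^ i) I := hαI.zpow_left i
    rcases hi with h | h
    · rw [h]; exact hαi.eq
    · rw [h]
      exact (((show Commute z I from (C.central I).symm)).mul_left hαi).eq
  have huQ : π A ∉ Qs := by
    intro h
    exact QA.not_comm C (hcommI A h).symm
  -- Thompson transfer
  have hfus : ∃ g : G, g * A * g⁻¹ = I ∨ g * A * g⁻¹ = I⁻¹ := by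
    rcases Cfsg.Agent.S0111.result Sb Qs hQP hQi (π A) hu huP huQ with
      ⟨M, hMn, hMi, -⟩ | ⟨gb, hgb⟩
    · exfalso
      rcases hsimple.eq_bot_or_eq_top_of_normal M hMn with h | h
      · rw [h, Subgroup.index_bot] at hMi
        have h8 : 8 ∣ Nat.card (G ⧸ zpowers z) := by
          rw [← hcardSb]; exact Subgroup.card_subgroup_dvd_card _
        rw [hMi] at h8
        omega
      · rw [h, Subgroup.index_top] at hMi
        omega
    · obtain ⟨g, rfl⟩ := hπs gb
      refine ⟨g, ?_⟩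
      have h1 : π (g * A * g⁻¹) ∈ Qs := by
        rw [map_mul, map_mul, map_inv]; exact hgb
      apply QA.eq_of_comm C _ _ (hcommI _ h1)
      rw [conj_pow, QA.hA, C.central g]; group
  obtain ⟨g, hg⟩ := hfus
  -- conjugate g * I * g⁻¹ into S inside the normalizer of ⟨I⟩
  let Nn : Subgroup G := normalizer (zpowers I : Set G)
  have hSI : ∀ s ∈ S, s * I * s⁻¹ = I ∨ s * I * s⁻¹ = I⁻¹ := by
    intro s hs
    obtain ⟨i, rfl | rfl⟩ := D.hall s hs
    · left
      rw [(hαI.zpow_left i).eq]; group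
    · right
      calc α ^ i * J * I * (α ^ i * J)⁻¹ = α ^ i * (J * I * J⁻¹) * (α ^ i)⁻¹ := by group
        _ = α ^ i * I⁻¹ * (α ^ i)⁻¹ := by rw [T.hJI]
        _ = I⁻¹ := by rw [((hαI.zpow_left i).inv_right).eq]; group
  have hmemz : ∀ y : G, (y = I ∨ y = I⁻¹) → y ∈ zpowers I := by
    rintro y (rfl | rfl)
    · exact mem_zpowers _
    · exact inv_mem (mem_zpowers _)
  have hSN : (S : Subgroup G) ≤ Nn := by
    intro s hs
    apply mem_normalizer_zpowers
    · exact hmemz _ (hSI s hs)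
    · have := hSI s⁻¹ (inv_mem hs)
      rw [inv_inv] at this
      exact hmemz _ this
  have hgI4 : (g * I * g⁻¹) ^ 4 = 1 := by
    rw [conj_pow, T.I_pow_four C]; group
  have hgIN : g * I * g⁻¹ ∈ Nn := by
    -- I = (g * A * g⁻¹)^{±1}, and I normalizes ⟨A⟩
    have h1 : I * A * I⁻¹ = A⁻¹ := by
      have := (QA.inv C)
      -- use the pair (A, I)
      calc I * A * I⁻¹ = I * (A * I⁻¹ * A⁻¹) * A := by group
        _ = I * (A * I * A⁻¹)⁻¹ * A := by group
        _ = I * I * A := by rw [QA.hAI, inv_inv]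
        _ = z * A := by rw [QA.II]
        _ = A⁻¹ := (QA.Ainv C).symm
    have h2 : I⁻¹ * A * I = A⁻¹ := by
      have e1 : A = I⁻¹ * (I * A * I⁻¹) * I := by group
      rw [h1] at e1
      calc I⁻¹ * A * I = (I⁻¹ * A⁻¹ * I)⁻¹ := by group
        _ = A⁻¹ := by rw [← e1]
    have hc1 : (g * I * g⁻¹) * (g * A * g⁻¹) * (g * I * g⁻¹)⁻¹ = (g * A * g⁻¹)⁻¹ := by
      calc (g * I * g⁻¹) * (g * A * g⁻¹) * (g * I * g⁻¹)⁻¹ = g * (I * A * I⁻¹) * g⁻¹ := by
            group
        _ = (g * A * g⁻¹)⁻¹ := by rw [h1]; group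
    have hc2 : (g * I * g⁻¹)⁻¹ * (g * A * g⁻¹) * (g * I * g⁻¹) = (g * A * g⁻¹)⁻¹ := by
      calc (g * I * g⁻¹)⁻¹ * (g * A * g⁻¹) * (g * I * g⁻¹) = g * (I⁻¹ * A * I) * g⁻¹ := by
            group
        _ = (g * A * g⁻¹)⁻¹ := by rw [h2]; group
    rcases hg with hg | hg
    · rw [hg] at hc1 hc2
      exact mem_normalizer_zpowers (hc1 ▸ inv_mem (mem_zpowers I))
        (hc2 ▸ inv_mem (mem_zpowers I))
    · rw [hg, inv_inv] at hc1 hc2
      apply mem_normalizer_zpowers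
      · have : (g * I * g⁻¹) * I * (g * I * g⁻¹)⁻¹ = I⁻¹ := by
          have e : (g * I * g⁻¹) * I * (g * I * g⁻¹)⁻¹
              = ((g * I * g⁻¹) * I⁻¹ * (g * I * g⁻¹)⁻¹)⁻¹ := by group
          rw [e, hc1]
        rw [this]; exact inv_mem (mem_zpowers I)
      · have : (g * I * g⁻¹)⁻¹ * I * (g * I * g⁻¹) = I⁻¹ := by
          have e : (g * I * g⁻¹)⁻¹ * I * (g * I * g⁻¹)
              = ((g * I * g⁻¹)⁻¹ * I⁻¹ * (g * I * g⁻¹))⁻¹ := by group
          rw [e, hc2]
        rw [this]; exact inv_mem (mem_zpowers I)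
  obtain ⟨n, hnN, hn⟩ := exists_conj_into_sylow' S Nn hSN (zpowers (g * I * g⁻¹))
    (zpowers_le.2 hgIN) (isPGroup_zpowers_of_pow_four hgI4)
  obtain ⟨h, hh⟩ : ∃ h, h = n * g := ⟨_, rfl⟩
  have hyS : h * I * h⁻¹ ∈ S := by
    have := hn _ (mem_zpowers (g * I * g⁻¹))
    have e : h * I * h⁻¹ = n * (g * I * g⁻¹) * n⁻¹ := by rw [hh]; group
    rw [e]; exact this
  -- h * A * h⁻¹ is I or I⁻¹
  have hhA : h * A * h⁻¹ = I ∨ h * A * h⁻¹ = I⁻¹ := by
    have e : h * A * h⁻¹ = n * (g * A * g⁻¹) * n⁻¹ := by rw [hh]; group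
    have hmem : h * A * h⁻¹ ∈ zpowers I := by
      rw [e]
      have hgA : g * A * g⁻¹ ∈ zpowers I := hmemz _ hg
      exact (mem_normalizer_iff.mp hnN _).1 hgA
    obtain ⟨k, hk⟩ := mem_zpowers_iff.mp hmem
    apply T.toQP.eq_of_comm C
    · rw [conj_pow, QA.hA, C.central h]; group
    · rw [← hk]
      exact ((Commute.refl I).zpow_left k).eq
  -- the element A' = h⁻¹ * I * h
  obtain ⟨A', hA'⟩ : ∃ A', A' = h⁻¹ * I * h := ⟨_, rfl⟩
  have hA'cases : A' = A ∨ A' = A⁻¹ := by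
    rcases hhA with h1 | h1
    · left
      rw [hA', ← h1]; group
    · right
      rw [hA']
      have : I = (h * A * h⁻¹)⁻¹ := by rw [h1, inv_inv]
      rw [this]; group
  have QA' : QP z I A' := by
    rcases hA'cases with h1 | h1 <;> rw [h1]
    · exact QA
    · exact QA.inv C
  have hαA' : α * A' * α⁻¹ = I * A' := by
    rcases hA'cases with h1 | h1 <;> rw [h1]
    · exact hαA
    · calc α * A⁻¹ * α⁻¹ = (α * A * α⁻¹)⁻¹ := by group
        _ = A⁻¹ * I⁻¹ := by rw [hαA]; group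
        _ = (A⁻¹ * I⁻¹ * A) * A⁻¹ := by group
        _ = I * A⁻¹ := by
            have e1 : A⁻¹ * I⁻¹ * A = (A⁻¹ * I * A)⁻¹ := by group
            have e2 := (QA.inv C).hAI
            rw [inv_inv] at e2
            rw [e1, e2, inv_inv]
  have hhA' : h * A' * h⁻¹ = I := by rw [hA']; group
  -- y = h * I * h⁻¹ does not commute with I
  have hynot : ¬ (h * I * h⁻¹) * I = I * (h * I * h⁻¹) := by
    intro hc
    apply QA'.not_comm C
    have := conj_comm (g := h⁻¹) hc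
    rw [inv_inv] at this
    have e1 : h⁻¹ * (h * I * h⁻¹) * h = I := by group
    rw [e1, ← hA'] at this
    exact this
  obtain ⟨i, hi | hi⟩ := D.hall _ hyS
  · exfalso
    apply hynot
    rw [hi]
    exact (hαI.zpow_left i).eq
  -- α * y * α⁻¹ = I * y
  have hαy : α * (h * I * h⁻¹) * α⁻¹ = I * (h * I * h⁻¹) := by
    rw [hi]
    calc α * (α ^ i * J) * α⁻¹ = α * α ^ i * (J * α⁻¹ * J⁻¹) * J := by group
      _ = α * α ^ i * α * J := by rw [hJα']
      _ = α ^ 2 * (α ^ i * J) := by rw [pow_two]; group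
      _ = I * (α ^ i * J) := by rw [hα2]
  obtain ⟨β, hβ⟩ : ∃ β, β = h⁻¹ * α * h := ⟨_, rfl⟩
  have hβI : β * I * β⁻¹ = A' * I := by
    calc β * I * β⁻¹ = h⁻¹ * (α * (h * I * h⁻¹) * α⁻¹) * h := by rw [hβ]; group
      _ = h⁻¹ * (I * (h * I * h⁻¹)) * h := by rw [hαy]
      _ = (h⁻¹ * I * h) * I := by group
      _ = A' * I := by rw [← hA']
  have hβA' : β * A' * β⁻¹ = A' := by
    calc β * A' * β⁻¹ = h⁻¹ * (α * (h * A' * h⁻¹) * α⁻¹) * h := by rw [hβ]; group
      _ = h⁻¹ * (α * I * α⁻¹) * h := by rw [hhA']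
      _ = h⁻¹ * I * h := by rw [hαI.eq]; group
      _ = A' := hA'.symm
  obtain ⟨γ, hγ⟩ : ∃ γ, γ = β * α := ⟨_, rfl⟩
  have hγI : γ * I * γ⁻¹ = A' * I := by
    calc γ * I * γ⁻¹ = β * (α * I * α⁻¹) * β⁻¹ := by rw [hγ]; group
      _ = β * I * β⁻¹ := by rw [hαI.eq]; group
      _ = A' * I := hβI
  have hγJ : γ * (A' * I) * γ⁻¹ = I * (A' * I) := by
    calc γ * (A' * I) * γ⁻¹ = β * ((α * A' * α⁻¹) * (α * I * α⁻¹)) * β⁻¹ := by
          rw [hγ]; group
      _ = β * ((I * A') * I) * β⁻¹ := by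
          rw [hαA', show α * I * α⁻¹ = I by rw [hαI.eq]; group]
      _ = (β * I * β⁻¹) * (β * A' * β⁻¹) * (β * I * β⁻¹) := by group
      _ = (A' * I) * A' * (A' * I) := by rw [hβI, hβA']
      _ = A' * (I * (A' * A') * I) := by group
      _ = A' * (I * z * I) := by rw [QA'.AA]
      _ = A' * ((z * z)) := by
          rw [C.central I, mul_assoc, QA'.II]
      _ = A' := by rw [C.zz, mul_one]
      _ = I * A' * I := (QA'.IAI C).symm
      _ = I * (A' * I) := by group
  obtain ⟨x₂, hT₂⟩ := triple_of_rotation C (QA'.prod C) hγI hγJ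
    (fun w hw3 hwI => no_three_central C T D w hw3 hwI)
  refine ⟨A' * I, x₂, hT₂, ?_⟩
  intro o hoI hoJ
  -- o commutes with A' = (A' * I) * I⁻¹
  have h1 : Commute o A' := by
    have : A' = (A' * I) * I⁻¹ := by group
    rw [this]
    exact (show Commute o (A' * I) from hoJ).mul_right
      ((show Commute o I from hoI).inv_right)
  rw [← hAdef]
  rcases hA'cases with h2 | h2
  · rw [← h2]; exact h1.eq
  · have : Commute o A'⁻¹ := h1.inv_right
    rw [h2, inv_inv] at this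
    exact this.eq

end Cfsg.Agent.Helper24.Zas
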