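import Mathlib
import Cfsg.Agent.Helper24.ZasGrpF

/-!
# Zassenhaus project: order sixteen, the odd part of the centralizer of `I` is trivial
-/

set_option autoImplicit false
set_option linter.style.haveILetI false
set_option linter.deprecated false
set_option linter.unusedSectionVars false

open Subgroup

namespace Cfsg.Agent.Helper24.Zas

variable {G : Type*} [Group G] {z : G}

/-- An element of a group of odd order whose smallest prime divisor is `r` cannot act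
non-trivially on a subgroup of order `r`. -/
theorem no_action_minFac [Finite G] (O : Subgroup G) {r : ℕ} [hr : Fact r.Prime]
    (hrmin : (Nat.card O).minFac = r) (o x₀ : G) (ho : o ∈ O) (hx₀ : orderOf x₀ = r)
    (hconj : o * x₀ * o⁻¹ ∈ zpowers x₀) : o * x₀ * o⁻¹ = x₀ := by
  have hfin : IsOfFinOrder x₀ := isOfFinOrder_of_finite x₀
  obtain ⟨k, hk⟩ : ∃ k : ℕ, x₀ ^ k = o * x₀ * o⁻¹ :=
    (Submonoid.mem_powers_iff _ _).mp (mem_powers_iff_mem_zpowers.mpr hconj)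
  have hpow : ∀ m : ℕ, o ^ m * x₀ * (o ^ m)⁻¹ = x₀ ^ (k ^ m) := by
    intro m
    induction m with
    | zero => simp
    | succ m ih =>
      calc o ^ (m + 1) * x₀ * (o ^ (m + 1))⁻¹ = o * (o ^ m * x₀ * (o ^ m)⁻¹) * o⁻¹ := by
            rw [pow_succ']; group
        _ = o * x₀ ^ (k ^ m) * o⁻¹ := by rw [ih]
        _ = (o * x₀ * o⁻¹) ^ (k ^ m) := by rw [conj_pow]
        _ = x₀ ^ (k ^ (m + 1)) := by rw [← hk, ← pow_mul, pow_succ']
  set d := orderOf o with hd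
  have h1 : x₀ ^ (k ^ d) = x₀ ^ 1 := by
    rw [← hpow d, hd, pow_orderOf_eq_one, pow_one]; group
  rw [pow_eq_pow_iff_modEq, hx₀] at h1
  have h2 : ((k : ZMod r)) ^ d = 1 := by
    have := (ZMod.natCast_eq_natCast_iff _ _ _).mpr h1
    push_cast at this
    exact this
  have hdpos : 0 < d := orderOf_pos o
  have hu0 : (k : ZMod r) ≠ 0 := by
    intro h
    rw [h, zero_pow hdpos.ne'] at h2
    exact zero_ne_one h2
  have h3 : (k : ZMod r) ^ (r - 1) = 1 := ZMod.pow_card_sub_one_eq_one hu0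
  have hcop : Nat.Coprime d (r - 1) := by
    apply Nat.coprime_of_dvd
    intro s hs hsd hsr
    have hdO : d ∣ Nat.card O := by
      have := orderOf_dvd_natCard (⟨o, ho⟩ : O)
      rwa [Subgroup.orderOf_mk] at this
    have h4 : r ≤ s := by
      rw [← hrmin]
      exact Nat.minFac_le_of_dvd hs.two_le (hsd.trans hdO)
    have h5 : 0 < r - 1 := by have := hr.out.two_le; omega
    have h6 := Nat.le_of_dvd h5 hsr
    omega
  have h7 : orderOf (k : ZMod r) = 1 := by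
    have a1 : orderOf (k : ZMod r) ∣ d := orderOf_dvd_of_pow_eq_one h2
    have a2 : orderOf (k : ZMod r) ∣ r - 1 := orderOf_dvd_of_pow_eq_one h3
    exact Nat.eq_one_of_dvd_coprimes hcop a1 a2
  rw [orderOf_eq_one_iff] at h7
  have h8 : k ≡ 1 [MOD r] := by
    rw [← ZMod.natCast_eq_natCast_iff]
    push_cast
    exact h7
  rw [← hk]
  have : x₀ ^ k = x₀ ^ 1 := by rw [pow_eq_pow_iff_modEq, hx₀]; exact h8
  rw [this, pow_one]

/-- **Order sixteen**: the odd part of the centralizer of `I` is trivial. -/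
theorem O_trivial [Finite G] (C : ZCtx G z) (hperf : commutator G = ⊤) {I J x α : G}
    {S : Sylow 2 G} (T : Triple z I J x) (D : SylData z I J S α) (hα2 : α ^ 2 = I)
    (e16 : S ≃* QuaternionGroup 4) (O : Subgroup G)
    (hOmem : ∀ g, g ∈ O ↔ g * I = I * g ∧ Odd (orderOf g))
    (hdec : ∀ d, d * I = I * d → ∃ o ∈ O, ∃ i : ℤ, d = o * α ^ i) : O = ⊥ := by
  obtain ⟨J₂, x₂, T₂, hcomm⟩ := second_triple C hperf T D hα2 e16
  have hOJ := odd_comm_of_triple C T O hOmem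
  have hOJ₂ := odd_comm_of_triple C T₂ O hOmem
  have hα8 : α ^ 8 = 1 := D.alpha_pow_eight C T
  -- O centralizes S
  have hOα : ∀ o ∈ O, Commute o α := by
    intro o ho
    have h1 : Commute o (α * J) := hcomm o ((hOmem o).1 ho).1 (hOJ₂ o ho)
    have h2 : Commute o J⁻¹ := (show Commute o J from hOJ o ho).inv_right
    have : α = (α * J) * J⁻¹ := by group
    rw [this]
    exact h1.mul_right h2
  have hOS : ∀ o ∈ O, ∀ s ∈ S, Commute o s := by
    intro o ho s hs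
    obtain ⟨i, rfl | rfl⟩ := D.hall s hs
    · exact (hOα o ho).zpow_right i
    · exact ((hOα o ho).zpow_right i).mul_right (hOJ o ho)
  by_contra hne
  have hcard1 : Nat.card O ≠ 1 := by
    intro h
    exact hne (Subgroup.card_eq_one.mp h)
  obtain ⟨r, hrdef⟩ : ∃ r, r = (Nat.card O).minFac := ⟨_, rfl⟩
  have hrp : r.Prime := hrdef ▸ Nat.minFac_prime hcard1
  haveI : Fact r.Prime := ⟨hrp⟩
  have hrdvd : r ∣ Nat.card O := hrdef ▸ Nat.minFac_dvd _
  obtain ⟨x₀', hx₀'⟩ := exists_prime_orderOf_dvd_card' r hrdvd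
  obtain ⟨x₀, hx₀def⟩ : ∃ x₀ : G, x₀ = (x₀' : G) := ⟨_, rfl⟩
  have hx₀O : x₀ ∈ O := hx₀def ▸ x₀'.2
  have hx₀ord : orderOf x₀ = r := by rw [hx₀def, Subgroup.orderOf_coe]; exact hx₀'
  have hx₀1 : x₀ ≠ 1 := by
    intro h
    rw [h, orderOf_one] at hx₀ord
    exact hrp.one_lt.ne hx₀ord
  have hx₀r : x₀ ^ r = 1 := by rw [← hx₀ord]; exact pow_orderOf_eq_one x₀
  have hr2 : r ≠ 2 := by
    intro h
    have := ((hOmem x₀).1 hx₀O).2
    rw [hx₀ord, h] at this
    exact (by decide : ¬ Odd 2) this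
  have hrg : IsPGroup r (zpowers x₀) :=
    IsPGroup.of_card (n := 1) (by rw [Nat.card_zpowers, hx₀ord, pow_one])
  obtain ⟨R, hR⟩ := hrg.exists_le_sylow
  have hRc : IsCyclic R := by
    rcases C.pgroup_struct r R R.isPGroup' with h | ⟨h, _⟩
    · exact h
    · exact absurd h hr2
  obtain ⟨n₀, hn₀mem, hn₀ne⟩ := exists_normalizing_not_centralizing hperf R hRc x₀
    (hR (mem_zpowers x₀)) hx₀1 hx₀r
  obtain ⟨x₁, hx₁⟩ : ∃ x₁, x₁ = n₀ * x₀ * n₀⁻¹ := ⟨_, rfl⟩
  rw [← hx₁] at hn₀mem hn₀ne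
  have hx₁O : x₁ ∈ O := (zpowers_le.2 hx₀O) hn₀mem
  -- Frattini argument
  let Dx : Subgroup G := centralizer {x₁}
  have hSDx : (S : Subgroup G) ≤ Dx := by
    intro s hs
    rw [mem_centralizer_singleton_iff]
    exact (hOS x₁ hx₁O s hs).eq.symm
  let Q : Subgroup G := (S : Subgroup G).map (MulAut.conj n₀).toMonoidHom
  have hQ2 : IsPGroup 2 Q := S.isPGroup'.map _
  have hQDx : Q ≤ Dx := by
    rintro _ ⟨s, hs, rfl⟩
    rw [mem_centralizer_singleton_iff]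
    show n₀ * s * n₀⁻¹ * x₁ = x₁ * (n₀ * s * n₀⁻¹)
    rw [hx₁]
    exact conj_comm (hOS x₀ hx₀O s hs).eq.symm
  obtain ⟨c, hcDx, hc⟩ := exists_conj_into_sylow' S Dx hSDx Q hQDx hQ2
  obtain ⟨n', hn'⟩ : ∃ n', n' = c * n₀ := ⟨_, rfl⟩
  have hn'S : ∀ s ∈ S, n' * s * n'⁻¹ ∈ S := by
    intro s hs
    have := hc (n₀ * s * n₀⁻¹) ⟨s, hs, rfl⟩
    have e : n' * s * n'⁻¹ = c * (n₀ * s * n₀⁻¹) * c⁻¹ := by rw [hn']; group
    rw [e]; exact this
  have hn'x : n' * x₀ * n'⁻¹ = x₁ := by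
    have hcx : c * x₁ = x₁ * c := mem_centralizer_singleton_iff.mp hcDx
    calc n' * x₀ * n'⁻¹ = c * (n₀ * x₀ * n₀⁻¹) * c⁻¹ := by rw [hn']; group
      _ = c * x₁ * c⁻¹ := by rw [hx₁]
      _ = x₁ := by rw [hcx]; group
  -- n' normalizes ⟨α⟩, hence ⟨I⟩
  have hα4 : α ^ 4 = z := by
    rw [show 4 = 2 * 2 from rfl, pow_mul, hα2, T.hI]
  have hn'α : ∃ j : ℤ, n' * α * n'⁻¹ = α ^ j := by
    obtain ⟨j, hj | hj⟩ := D.hall _ (hn'S α D.hαS)
    · exact ⟨j, hj⟩
    · exfalso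
      have h1 : (n' * α * n'⁻¹) ^ 4 = z := by
        rw [conj_pow, hα4, C.central n']; group
      rw [hj, show 4 = 2 * 2 from rfl, pow_mul, D.aJ_sq T, C.hz2] at h1
      exact C.hz1 h1.symm
  obtain ⟨j, hj⟩ := hn'α
  have hn'I : n' * I * n'⁻¹ = I ∨ n' * I * n'⁻¹ = I⁻¹ := by
    apply T.toQP.eq_of_comm C
    · rw [conj_pow, T.hI, C.central n']; group
    · have e : n' * I * n'⁻¹ = (α ^ j) ^ 2 := by
        rw [← hj, conj_pow, hα2]
      rw [e]
      have hαI : Commute α I := D.alpha_comm_I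
      exact ((hαI.zpow_left j).pow_left 2).eq
  have hn'I' : n' * I = I * n' ∨ n' * I = z * I * n' := by
    rcases hn'I with h | h
    · left
      calc n' * I = (n' * I * n'⁻¹) * n' := by group
        _ = I * n' := by rw [h]
    · right
      calc n' * I = (n' * I * n'⁻¹) * n' := by group
        _ = z * I * n' := by rw [h, T.Iinv C]
  obtain ⟨o, ho, s₀, hs₀, hos⟩ := normalizer_I_decomp C T D O hdec n' hn'I'
  have hox : o * x₀ * o⁻¹ = x₁ := by
    have hsx : s₀ * x₀ * s₀⁻¹ = x₀ := by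
      rw [← (hOS x₀ hx₀O s₀ hs₀).eq]; group
    calc o * x₀ * o⁻¹ = o * (s₀ * x₀ * s₀⁻¹) * o⁻¹ := by rw [hsx]
      _ = n' * x₀ * n'⁻¹ := by rw [hos]; group
      _ = x₁ := hn'x
  have := no_action_minFac O hrdef.symm o x₀ ho hx₀ord (hox ▸ hn₀mem)
  rw [hox] at this
  exact hn₀ne this

end Cfsg.Agent.Helper24.Zas
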