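import Mathlib
import Cfsg.Agent.S0848
import Cfsg.Agent.S0497
import Cfsg.Agent.S1003
import Cfsg.Agent.Helper45.Dihedral
import Cfsg.Agent.Helper24.ZasGrpG

/-!
# Zassenhaus project: order sixteen is impossible; the main group-theoretic theorem
-/

set_option autoImplicit false
set_option linter.style.haveILetI false
set_option linter.deprecated false
set_option linter.unusedSectionVars false

open Subgroup

namespace Cfsg.Agent.Helper24.Zas

variable {G : Type*} [Group G] {z : G}

theorem perm6_no_nine (σ : Equiv.Perm (Fin 6)) (h9 : σ ^ 9 = 1) : σ ^ 3 = 1 := by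
  rw [← orderOf_dvd_iff_pow_eq_one, ← Equiv.Perm.lcm_cycleType, Multiset.lcm_dvd]
  intro n hn
  have h1 : n ∣ 9 := (Equiv.Perm.dvd_of_mem_cycleType hn).trans (orderOf_dvd_of_pow_eq_one h9)
  have h2 : 2 ≤ n := Equiv.Perm.two_le_of_mem_cycleType hn
  have h3 : n ≤ 6 := by
    have := Equiv.Perm.le_card_support_of_mem_cycleType hn
    have h4 : σ.support.card ≤ Fintype.card (Fin 6) := Finset.card_le_univ _
    simp at h4
    omega
  interval_cases n <;> omega

/-- **Order sixteen**: the order of the central quotient. -/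
theorem card_quotient_sixteen [Finite G] (C : ZCtx G z) (hperf : commutator G = ⊤)
    {I J x α : G} {S : Sylow 2 G} (T : Triple z I J x) (D : SylData z I J S α)
    (hα2 : α ^ 2 = I) (e16 : S ≃* QuaternionGroup 4) [hZ : (zpowers z).Normal] :
    Nat.card (G ⧸ zpowers z) = 168 ∨ Nat.card (G ⧸ zpowers z) = 360 := by
  obtain ⟨O, hOmem, hOJ, hdec⟩ := cent_struct C T D
  have hObot := O_trivial C hperf T D hα2 e16 O hOmem hdec
  let π := QuotientGroup.mk' (zpowers z)
  have hπs : Function.Surjective π := QuotientGroup.mk'_surjective _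
  have hαI : Commute α I := D.alpha_comm_I
  have hπI1 : π I ≠ 1 := by
    rw [Ne, pi_eq_one C]
    rintro (h | h)
    · exact T.I_ne_one C h
    · have := T.hI
      rw [h, C.hz2] at this
      exact C.hz1 this.symm
  have hπI2 : π I ^ 2 = 1 := by
    rw [← map_pow, T.hI, pi_eq_one C]; right; rfl
  have hordI : orderOf (π I) = 2 := orderOf_eq_prime hπI2 hπI1
  have hordα : orderOf (π α) = 2 ^ (1 + 1) := by
    apply orderOf_eq_prime_pow
    · rw [pow_one, ← map_pow, hα2]; exact hπI1
    · rw [← map_pow, pi_eq_one C]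
      right
      rw [show 2 ^ (1 + 1) = 2 * 2 from rfl, pow_mul, hα2, T.hI]
  let Cb : Subgroup (G ⧸ zpowers z) := centralizer {π I}
  have hmemCb : ∀ q, q ∈ Cb ↔ q * π I = π I * q := fun q => mem_centralizer_singleton_iff
  -- elements of Cb come from S
  have hCbS : ∀ q ∈ Cb, ∃ s ∈ S, π s = q := by
    intro q hq
    obtain ⟨g, rfl⟩ := hπs q
    rw [hmemCb, ← map_mul, ← map_mul, pi_eq C] at hq
    have hg' : g * I = I * g ∨ g * I = z * I * g := by
      rcases hq with h | h
      · left; exact h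
      · right; rw [h, mul_assoc]
    obtain ⟨o, ho, s₀, hs₀, rfl⟩ := normalizer_I_decomp C T D O hdec g hg'
    rw [hObot, Subgroup.mem_bot] at ho
    exact ⟨s₀, hs₀, by rw [ho, one_mul]⟩
  have hαCb : π α ∈ Cb := by
    rw [hmemCb, ← map_mul, ← map_mul, hαI.eq]
  have hJCb : π J ∈ Cb := by
    rw [hmemCb, ← map_mul, ← map_mul, pi_eq C]
    right
    rw [T.JI C, mul_assoc]
  have hcommI : ∀ y : G, π y ∈ zpowers (π α) → y * I = I * y := by
    intro y hy
    obtain ⟨i, hi⟩ := mem_zpowers_iff.mp hy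
    rw [← map_zpow, eq_comm, pi_eq C] at hi
    have hαi : Commute (α ^ i) I := hαI.zpow_left i
    rcases hi with h | h
    · rw [h]; exact hαi.eq
    · rw [h]
      exact (((show Commute z I from (C.central I).symm)).mul_left hαi).eq
  have hdih : Nonempty (Cb ≃* DihedralGroup 4) := by
    apply Cfsg.Agent.Helper45.nonempty_mulEquiv_dihedral 4 (⟨π α, hαCb⟩ : Cb) ⟨π J, hJCb⟩
    · rw [Subgroup.orderOf_mk, hordα]; norm_num
    · apply Subtype.ext
      show π J * π J = 1
      rw [← map_mul, T.JJ, pi_eq_one C]; right; rfl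
    · apply Subtype.ext
      show π J * π α * (π J)⁻¹ = (π α)⁻¹
      rw [← map_inv, ← map_mul, ← map_mul, D.hJα, map_inv]
    · intro h
      obtain ⟨i, hi⟩ := mem_zpowers_iff.mp h
      have h1 : π J ∈ zpowers (π α) := by
        rw [mem_zpowers_iff]
        refine ⟨i, ?_⟩
        have := congrArg Subtype.val hi
        simpa using this
      exact T.not_comm C (hcommI J h1).symm
    · intro g
      obtain ⟨s, hs, hsg⟩ := hCbS g.1 g.2
      obtain ⟨i, rfl | rfl⟩ := D.hall s hs
      · left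
        rw [mem_zpowers_iff]
        refine ⟨i, Subtype.ext ?_⟩
        rw [← hsg, map_zpow]
        simp
      · right
        rw [mem_zpowers_iff]
        refine ⟨-i, Subtype.ext ?_⟩
        have e1 : J * (α ^ i * J) = (α ^ i)⁻¹ * z := by
          calc J * (α ^ i * J) = (J * α ^ i * J⁻¹) * (J * J) := by group
            _ = (α ^ i)⁻¹ * z := by rw [D.J_conj_zpow, T.JJ]
        have e2 : π J * g.1 = π ((α ^ i)⁻¹) := by
          rw [← hsg, ← map_mul, e1, pi_eq C]
          right
          rw [C.central]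
        simp only [SubgroupClass.coe_zpow, Subgroup.coe_mul]
        rw [e2, map_inv, map_zpow, zpow_neg]
  obtain ⟨e⟩ := hdih
  exact Cfsg.Agent.S0848.result (perfect_quotient hperf (zpowers z)) (π I) hordI e

/-- The quotient cannot have order `168`. -/
theorem not_168 [Finite G] (C : ZCtx G z) (hperf : commutator G = ⊤)
    [hZ : (zpowers z).Normal] [hsimple : IsSimpleGroup (G ⧸ zpowers z)]
    (h : Nat.card (G ⧸ zpowers z) = 168) : False := by
  let π := QuotientGroup.mk' (zpowers z)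
  have hπs : Function.Surjective π := QuotientGroup.mk'_surjective _
  have hperfQ := perfect_quotient hperf (zpowers z)
  obtain ⟨-, -, h7⟩ := Cfsg.Agent.S1003.result h
  haveI : Fact (Nat.Prime 7) := ⟨by norm_num⟩
  obtain P : Sylow 7 (G ⧸ zpowers z) := default
  let Np : Subgroup (G ⧸ zpowers z) := normalizer (P : Set (G ⧸ zpowers z))
  have hidx : Np.index = 8 := by rw [← h7]; exact (P.card_eq_index_normalizer).symm
  have hcardNp : Nat.card Np = 21 := by
    have := Subgroup.card_mul_index Np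
    rw [hidx, h] at this
    omega
  have hcardP : Nat.card P = 7 := by
    obtain ⟨k, hk⟩ := IsPGroup.iff_card.mp P.isPGroup'
    have h1 := Subgroup.card_mul_index (P : Subgroup (G ⧸ zpowers z))
    have h2 := P.not_dvd_index
    rw [hk, h] at h1
    rcases k with _ | _ | k
    · exfalso
      rw [pow_zero, one_mul] at h1
      rw [h1] at h2
      omega
    · rw [hk]; norm_num
    · exfalso
      rw [pow_succ, pow_succ] at h1
      have : 49 ∣ 168 := ⟨7 ^ k * (P : Subgroup (G ⧸ zpowers z)).index, by rw [← h1]; ring⟩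
      omega
  haveI : IsCyclic P := isCyclic_of_prime_card hcardP
  obtain ⟨w₀, hw₀⟩ := IsCyclic.exists_generator (α := P)
  have hw₀ord : orderOf w₀ = 7 := by
    rw [orderOf_eq_card_of_forall_mem_zpowers hw₀, hcardP]
  obtain ⟨wb, hwb⟩ : ∃ wb : G ⧸ zpowers z, wb = (w₀ : G ⧸ zpowers z) := ⟨_, rfl⟩
  have hwbP : wb ∈ P := hwb ▸ w₀.2
  have hwbord : orderOf wb = 7 := by rw [hwb, Subgroup.orderOf_coe]; exact hw₀ord
  have hwb7 : wb ^ 7 = 1 := by rw [← hwbord]; exact pow_orderOf_eq_one wb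
  have hPz : ∀ p ∈ P, p ∈ zpowers wb := by
    intro p hp
    obtain ⟨k, hk⟩ := mem_zpowers_iff.mp (hw₀ ⟨p, hp⟩)
    rw [mem_zpowers_iff]
    refine ⟨k, ?_⟩
    have := congrArg Subtype.val hk
    rw [hwb]
    simpa using this
  -- an element of order three in the normalizer
  obtain ⟨x₀, hx₀⟩ := exists_prime_orderOf_dvd_card' (G := Np) 3 (by rw [hcardNp]; norm_num)
  obtain ⟨xb, hxb⟩ : ∃ xb : G ⧸ zpowers z, xb = (x₀ : G ⧸ zpowers z) := ⟨_, rfl⟩
  have hxbN : xb ∈ Np := hxb ▸ x₀.2
  have hxbord : orderOf xb = 3 := by rw [hxb, Subgroup.orderOf_coe]; exact hx₀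
  have hxb3 : xb ^ 3 = 1 := by rw [← hxbord]; exact pow_orderOf_eq_one xb
  have hconjP : xb * wb * xb⁻¹ ∈ zpowers wb :=
    hPz _ ((mem_normalizer_iff.mp hxbN wb).1 hwbP)
  by_cases hcomm : xb * wb = wb * xb
  · -- the normalizer centralizes P: Burnside
    let Cw : Subgroup (G ⧸ zpowers z) := centralizer {wb}
    have hwbN : wb ∈ Np := le_normalizer hwbP
    have hx_in : xb ∈ Cw ⊓ Np := ⟨mem_centralizer_singleton_iff.mpr hcomm, hxbN⟩
    have hw_in : wb ∈ Cw ⊓ Np := ⟨mem_centralizer_singleton_iff.mpr rfl, hwbN⟩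
    have h3 : 3 ∣ Nat.card (Cw ⊓ Np : Subgroup (G ⧸ zpowers z)) := by
      have := orderOf_dvd_natCard (⟨xb, hx_in⟩ : (Cw ⊓ Np : Subgroup (G ⧸ zpowers z)))
      rwa [Subgroup.orderOf_mk, hxbord] at this
    have h7' : 7 ∣ Nat.card (Cw ⊓ Np : Subgroup (G ⧸ zpowers z)) := by
      have := orderOf_dvd_natCard (⟨wb, hw_in⟩ : (Cw ⊓ Np : Subgroup (G ⧸ zpowers z)))
      rwa [Subgroup.orderOf_mk, hwbord] at this
    have h21 : 21 ∣ Nat.card (Cw ⊓ Np : Subgroup (G ⧸ zpowers z)) :=
      Nat.Coprime.mul_dvd_of_dvd_of_dvd (by norm_num) h3 h7'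
    have hle : Nat.card Np ≤ Nat.card (Cw ⊓ Np : Subgroup (G ⧸ zpowers z)) := by
      rw [hcardNp]
      exact Nat.le_of_dvd Nat.card_pos h21
    have heq : Cw ⊓ Np = Np := Subgroup.eq_of_le_of_card_ge inf_le_right hle
    have hNC : Np ≤ centralizer (P : Set (G ⧸ zpowers z)) := by
      intro n hn
      have hn' : n ∈ Cw ⊓ Np := by rw [heq]; exact hn
      have hnw : n ∈ Cw := hn'.1
      have hnw' : Commute n wb := mem_centralizer_singleton_iff.mp hnw
      rw [mem_centralizer_iff]
      intro p hp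
      obtain ⟨k, rfl⟩ := mem_zpowers_iff.mp (hPz p hp)
      exact (hnw'.zpow_right k).eq.symm
    have hbot := burnside_perfect hperfQ P hNC
    exact P.ne_bot_of_dvd_card (by rw [h]; norm_num) hbot
  · -- lift to G
    obtain ⟨x', hx'⟩ := hπs xb
    obtain ⟨w', hw'⟩ := hπs wb
    have hx'3 : x' ^ 3 = 1 ∨ x' ^ 3 = z := by
      rw [← pi_eq_one C, map_pow]
      show π x' ^ 3 = 1
      rw [hx', hxb3]
    have hw'7 : w' ^ 7 = 1 ∨ w' ^ 7 = z := by
      rw [← pi_eq_one C, map_pow]
      show π w' ^ 7 = 1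
      rw [hw', hwb7]
    have hx'6 : x' ^ 6 = 1 := by
      rw [show 6 = 3 * 2 from rfl, pow_mul]
      rcases hx'3 with h1 | h1 <;> rw [h1]
      · exact one_pow 2
      · exact C.hz2
    have hw'14 : w' ^ 14 = 1 := by
      rw [show 14 = 7 * 2 from rfl, pow_mul]
      rcases hw'7 with h1 | h1 <;> rw [h1]
      · exact one_pow 2
      · exact C.hz2
    obtain ⟨x, hxdef⟩ : ∃ x, x = x' ^ 4 := ⟨_, rfl⟩
    obtain ⟨w, hwdef⟩ : ∃ w, w = w' ^ 8 := ⟨_, rfl⟩
    have hx3 : x ^ 3 = 1 := by
      rw [hxdef, ← pow_mul, show 4 * 3 = 6 * 2 from rfl, pow_mul, hx'6, one_pow]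
    have hw7 : w ^ 7 = 1 := by
      rw [hwdef, ← pow_mul, show 8 * 7 = 14 * 4 from rfl, pow_mul, hw'14, one_pow]
    have hπx : π x = xb := by
      rw [hxdef, map_pow, hx', show 4 = 3 + 1 from rfl, pow_add, hxb3, one_mul, pow_one]
    have hπw : π w = wb := by
      rw [hwdef, map_pow, hw', show 8 = 7 + 1 from rfl, pow_add, hwb7, one_mul, pow_one]
    have hmem : x * w * x⁻¹ ∈ zpowers w := by
      obtain ⟨k, hk⟩ := mem_zpowers_iff.mp hconjP
      have h1 : π (x * w * x⁻¹) = π (w ^ k) := by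
        rw [map_mul, map_mul, map_inv, map_zpow, hπx, hπw, hk]
      rw [pi_eq C] at h1
      rcases h1 with h1 | h1
      · rw [h1]; exact zpow_mem_zpowers w k
      · exfalso
        have h2 : (x * w * x⁻¹) ^ 7 = 1 := by rw [conj_pow, hw7]; group
        have hzc : Commute z (w ^ k) := (C.central (w ^ k)).symm
        rw [h1, hzc.mul_pow] at h2
        have h3 : (w ^ k) ^ 7 = 1 := by
          rw [← zpow_natCast, ← zpow_mul, mul_comm, zpow_mul, zpow_natCast, hw7, one_zpow]
        have h4 : z ^ 7 = z := by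
          rw [show 7 = 2 * 3 + 1 from rfl, pow_add, pow_mul, C.hz2, one_pow, one_mul, pow_one]
        rw [h3, h4, mul_one] at h2
        exact C.hz1 h2
    have hfrob := C.frob7 x w hw7 hx3 hmem
    apply hcomm
    rw [← hπx, ← hπw, ← map_mul, ← map_mul, hfrob]

/-- The quotient cannot have order `360`. -/
theorem not_360 [Finite G] (C : ZCtx G z)
    [hZ : (zpowers z).Normal] [hsimple : IsSimpleGroup (G ⧸ zpowers z)]
    (h : Nat.card (G ⧸ zpowers z) = 360) : False := by
  let π := QuotientGroup.mk' (zpowers z)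
  obtain ⟨f⟩ := Cfsg.Agent.S0497.result h
  have hG : Nat.card G = 720 := by rw [card_eq_two_mul C, h]
  haveI : Fact (Nat.Prime 3) := ⟨by norm_num⟩
  obtain P : Sylow 3 G := default
  have hcardP : Nat.card P = 9 := by
    obtain ⟨k, hk⟩ := IsPGroup.iff_card.mp P.isPGroup'
    have h1 := Subgroup.card_mul_index (P : Subgroup G)
    have h2 := P.not_dvd_index
    rw [hk, hG] at h1
    rcases k with _ | _ | _ | k
    · exfalso
      rw [pow_zero, one_mul] at h1
      rw [h1] at h2
      omega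
    · exfalso
      rw [zero_add, pow_one] at h1
      have : (P : Subgroup G).index = 240 := by omega
      rw [this] at h2
      omega
    · rw [hk]; norm_num
    · exfalso
      rw [pow_succ, pow_succ, pow_succ] at h1
      have : 27 ∣ 720 := ⟨3 ^ k * (P : Subgroup G).index, by rw [← h1]; ring⟩
      omega
  haveI : IsCyclic P := by
    rcases C.pgroup_struct 3 P P.isPGroup' with h1 | ⟨h1, _⟩
    · exact h1
    · norm_num at h1
  obtain ⟨w₀, hw₀⟩ := IsCyclic.exists_generator (α := P)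
  have hw₀ord : orderOf w₀ = 9 := by
    rw [orderOf_eq_card_of_forall_mem_zpowers hw₀, hcardP]
  obtain ⟨w, hw⟩ : ∃ w : G, w = (w₀ : G) := ⟨_, rfl⟩
  have hword : orderOf w = 9 := by rw [hw, Subgroup.orderOf_coe]; exact hw₀ord
  have hw9 : w ^ 9 = 1 := by rw [← hword]; exact pow_orderOf_eq_one w
  obtain ⟨σ, hσ⟩ : ∃ σ : alternatingGroup (Fin 6), σ = f (π w) := ⟨_, rfl⟩
  have hσ9 : σ ^ 9 = 1 := by rw [hσ, ← map_pow, ← map_pow, hw9, map_one, map_one]
  have hσ3 : σ ^ 3 = 1 := by
    apply Subtype.ext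
    have := perm6_no_nine (σ : Equiv.Perm (Fin 6)) (by
      have := congrArg Subtype.val hσ9
      simpa using this)
    simpa using this
  rw [hσ, ← map_pow, ← map_pow] at hσ3
  have h3 : π (w ^ 3) = 1 := f.injective (by rw [hσ3, map_one])
  rw [pi_eq_one C] at h3
  have hw6 : w ^ 6 = 1 := by
    rw [show 6 = 3 * 2 from rfl, pow_mul]
    rcases h3 with h1 | h1 <;> rw [h1]
    · exact one_pow 2
    · exact C.hz2
  have := orderOf_dvd_of_pow_eq_one hw6
  rw [hword] at this
  omega

/-- **Main group-theoretic theorem.** -/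
theorem ZCtx.main [Finite G] (C : ZCtx G z) (hperf : commutator G = ⊤) :
    Nonempty (G ≃* Matrix.SpecialLinearGroup (Fin 2) (ZMod 5)) := by
  obtain ⟨I, J, x, α, S, T, D⟩ := C.exists_sylData hperf
  rcases D.hcase with ⟨hα, ⟨e⟩⟩ | ⟨hα2, -, ⟨e16⟩⟩
  · exact case_eight C hperf T D hα e
  · exfalso
    haveI hZ := C.normal_Z
    haveI hsimple := simple_quotient C hperf T D
    rcases card_quotient_sixteen C hperf T D hα2 e16 with h | h
    · exact not_168 C hperf h
    · exact not_360 C h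

end Cfsg.Agent.Helper24.Zas
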