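import Mathlib

set_option autoImplicit false

/-!
# Zassenhaus project: common eigenvector for a pair `X, Y` with `X² + X + 1 = 0`, `Y² = -1`
-/

namespace Cfsg.Agent.Helper24.Zas

variable {E : Type*} [Field E] [IsAlgClosed E] {W : Type*} [AddCommGroup W] [Module E W]
  [FiniteDimensional E W] [Nontrivial W]

/-- common eigenvector of `X` and `t = XY + YX + Y`, and the resulting `2 × 2` shape. -/
theorem exists_common_eigen (X Y : Module.End E W) (hX : X * X + X + 1 = 0) (hY : Y * Y = -1) :
    ∃ (l τ : E) (v : W), v ≠ 0 ∧ l * l + l + 1 = 0 ∧ X v = l • v ∧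
      X (Y v) = τ • v + (l * l) • Y v ∧ Y (Y v) = - v := by
  set t : Module.End E W := X * Y + Y * X + Y with ht
  have h1 : X * X = -X - 1 := by
    have := hX
    rw [add_assoc] at this
    rw [eq_neg_of_add_eq_zero_left this]; abel
  have h1' : ∀ w : Module.End E W, X * (X * w) = -(X * w) - w := fun w => by
    rw [← mul_assoc, h1]; noncomm_ring
  have htX : t * X = X * t := by
    simp only [ht, add_mul, mul_add, mul_assoc, h1, h1', mul_sub, mul_neg, mul_one]
    abel
  obtain ⟨l, hl⟩ := Module.End.exists_eigenvalue X
  have hUne : X.eigenspace l ≠ ⊥ := Module.End.hasEigenvalue_iff.mp hl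
  haveI : Nontrivial (X.eigenspace l) := Submodule.nontrivial_iff_ne_bot.mpr hUne
  have hinv : ∀ u ∈ X.eigenspace l, t u ∈ X.eigenspace l := by
    intro u hu
    rw [Module.End.mem_eigenspace_iff] at hu ⊢
    have : X (t u) = t (X u) := by
      have := congrArg (fun f : Module.End E W => f u) htX
      simpa using this.symm
    rw [this, hu, map_smul]
  obtain ⟨τ, hτ⟩ := Module.End.exists_eigenvalue (t.restrict hinv)
  obtain ⟨⟨v, hvU⟩, hv⟩ := hτ.exists_hasEigenvector
  have hv0 : v ≠ 0 := by
    intro h0
    apply hv.2
    exact Subtype.ext h0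
  have htv : t v = τ • v := by
    have := hv.1
    rw [Module.End.mem_eigenspace_iff] at this
    have := congrArg Subtype.val this
    simpa using this
  have hXv : X v = l • v := Module.End.mem_eigenspace_iff.mp hvU
  have hl2 : l * l + l + 1 = 0 := by
    have := congrArg (fun f : Module.End E W => f v) hX
    simp only [LinearMap.add_apply, Module.End.mul_apply, Module.End.one_apply,
      LinearMap.zero_apply, hXv, map_smul] at this
    have h2 : (l * l + l + 1) • v = 0 := by
      rw [add_smul, add_smul, one_smul, mul_smul]; exact this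
    rcases smul_eq_zero.mp h2 with h | h
    · exact h
    · exact absurd h hv0
  refine ⟨l, τ, v, hv0, hl2, hXv, ?_, ?_⟩
  · have h3 : t v = X (Y v) + l • Y v + Y v := by
      simp only [ht, LinearMap.add_apply, Module.End.mul_apply, hXv, map_smul]
    rw [htv] at h3
    have hll : l * l = -l - 1 := by linear_combination hl2
    rw [hll, sub_smul, neg_smul, one_smul, h3]
    abel
  · have := congrArg (fun f : Module.End E W => f v) hY
    simpa using this

end Cfsg.Agent.Helper24.Zas
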