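import Mathlib

set_option autoImplicit false

/-!
# Zassenhaus project: fixed-point-free ring representations

A monoid hom `ρ : G →* A` into a ring is *fpf* if `ρ g - 1` is a unit for every `g ≠ 1`.
-/

namespace Cfsg.Agent.Helper24.Zas

variable {G : Type*} [Group G] {A : Type*} [Ring A]

/-- A monoid hom into a ring is *fpf* if `ρ g - 1` is a unit for every `g ≠ 1`. -/
def Fpf (ρ : G →* A) : Prop := ∀ g : G, g ≠ 1 → IsUnit (ρ g - 1)

namespace Fpf

variable {ρ : G →* A}

theorem eq_one_of_map_eq_one [Nontrivial A] (h : Fpf ρ) {g : G} (hg : ρ g = 1) : g = 1 := by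
  by_contra hne
  have := h g hne
  rw [hg, sub_self] at this
  exact not_isUnit_zero this

theorem injective [Nontrivial A] (h : Fpf ρ) : Function.Injective ρ := by
  intro a b hab
  have : ρ (a * b⁻¹) = 1 := by
    rw [map_mul, hab, ← map_mul, mul_inv_cancel, map_one]
  exact mul_inv_eq_one.mp (h.eq_one_of_map_eq_one this)

theorem eq_zero_of_mul_eq_zero (h : Fpf ρ) {g : G} (hg : g ≠ 1) {a : A}
    (ha : (ρ g - 1) * a = 0) : a = 0 :=
  (h g hg).mul_right_eq_zero.mp ha

theorem eq_zero_of_mul_eq_zero' (h : Fpf ρ) {g : G} (hg : g ≠ 1) {a : A}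
    (ha : a * (ρ g - 1) = 0) : a = 0 :=
  (h g hg).mul_left_eq_zero.mp ha

theorem geom_sum_eq_zero (h : Fpf ρ) {g : G} (hg : g ≠ 1) {n : ℕ} (hn : g ^ n = 1) :
    ∑ i ∈ Finset.range n, ρ g ^ i = 0 := by
  apply h.eq_zero_of_mul_eq_zero hg
  rw [mul_geom_sum, ← map_pow, hn, map_one, sub_self]

theorem map_eq_neg_one (h : Fpf ρ) {g : G} (hg : g ≠ 1) (h2 : g ^ 2 = 1) : ρ g = -1 := by
  have := h.geom_sum_eq_zero hg h2
  rw [Finset.sum_range_succ, Finset.sum_range_one, pow_zero, pow_one] at this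
  exact eq_neg_of_add_eq_zero_right this

theorem cube (h : Fpf ρ) {g : G} (hg : g ≠ 1) (h3 : g ^ 3 = 1) :
    ρ g * ρ g + ρ g + 1 = 0 := by
  have := h.geom_sum_eq_zero hg h3
  simp only [Finset.sum_range_succ, Finset.sum_range_zero, pow_zero, pow_one, zero_add,
    pow_two] at this
  rw [← this]; abel

theorem involution_unique [Nontrivial A] (h : Fpf ρ) {g k : G} (hg : g ≠ 1) (hg2 : g ^ 2 = 1)
    (hk : k ≠ 1) (hk2 : k ^ 2 = 1) : g = k :=
  h.injective (by rw [h.map_eq_neg_one hg hg2, h.map_eq_neg_one hk hk2])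

theorem involution_central [Nontrivial A] (h : Fpf ρ) {z : G} (hz2 : z ^ 2 = 1) (g : G) :
    g * z = z * g := by
  by_cases hz : z = 1
  · simp [hz]
  · have h1 : g * z * g⁻¹ = z := by
      apply h.involution_unique _ _ hz hz2
      · intro hh
        apply hz
        have : z = g⁻¹ * (g * z * g⁻¹) * g := by group
        rw [this, hh]; group
      · rw [conj_pow, hz2]; group
    calc g * z = (g * z * g⁻¹) * g := by group
      _ = z * g := by rw [h1]

theorem isUnit_two (h : Fpf ρ) {z : G} (hz : z ≠ 1) (hz2 : z ^ 2 = 1) : IsUnit (2 : A) := by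
  have h1 := h z hz
  rw [h.map_eq_neg_one hz hz2] at h1
  have : (-1 - 1 : A) = -2 := by norm_num
  rw [this] at h1
  exact (IsUnit.neg_iff _).mp h1

theorem sq_ne_one_of_cube {g : G} (hg : g ≠ 1) (h3 : g ^ 3 = 1) : g ^ 2 ≠ 1 := by
  intro h2
  apply hg
  calc g = g ^ 3 * (g ^ 2)⁻¹ := by group
    _ = 1 := by rw [h3, h2]; simp

theorem isUnit_three (h : Fpf ρ) {g : G} (hg : g ≠ 1) (h3 : g ^ 3 = 1) : IsUnit (3 : A) := by
  have hg2 : g ^ 2 ≠ 1 := sq_ne_one_of_cube hg h3
  have hc := h.cube hg h3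
  have hu := (h g hg).mul (h (g ^ 2) hg2)
  have : (ρ g - 1) * (ρ (g ^ 2) - 1) = 3 := by
    rw [map_pow]
    have h3' : ρ g ^ 3 = 1 := by rw [← map_pow, h3, map_one]
    have e : (ρ g - 1) * (ρ g ^ 2 - 1) = ρ g ^ 3 - ρ g * ρ g - ρ g + 1 := by noncomm_ring
    have hc' : ρ g * ρ g = -ρ g - 1 := by
      have := hc
      rw [add_assoc] at this
      rw [eq_neg_of_add_eq_zero_left this]; abel
    rw [e, h3', hc']; abel_nf
    norm_num
  rwa [this] at hu

/-- An element of order `p` cannot exist if the ring has characteristic `p`. -/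
theorem not_dvd_card [Nontrivial A] [Finite G] (h : Fpf ρ) (p : ℕ) [hp : Fact p.Prime]
    [CharP A p] : ¬ p ∣ Nat.card G := by
  intro hdvd
  obtain ⟨g, hg⟩ := exists_prime_orderOf_dvd_card' p hdvd
  have hg1 : g ≠ 1 := by
    intro h1
    rw [h1, orderOf_one] at hg
    exact hp.out.ne_one hg.symm
  have hgp : g ^ p = 1 := by rw [← hg]; exact pow_orderOf_eq_one g
  have hu := h g hg1
  have hcomm : Commute (ρ g) 1 := Commute.one_right _
  have : (ρ g - 1) ^ p = 0 := by
    rw [sub_pow_char_of_commute p hcomm, one_pow, ← map_pow, hgp, map_one, sub_self]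
  have := hu.pow p
  rw [‹(ρ g - 1) ^ p = 0›] at this
  exact not_isUnit_zero this

/-- Abelian subgroups are cyclic. -/
theorem isCyclic_of_comm [Finite A] [Nontrivial A] (h : Fpf ρ) (B : Subgroup G) [Finite B]
    (hB : ∀ a ∈ B, ∀ b ∈ B, a * b = b * a) : IsCyclic B := by
  classical
  let s : Set A := ρ '' (B : Set G)
  have hcomm : ∀ x ∈ s, ∀ y ∈ s, x * y = y * x := by
    rintro _ ⟨a, ha, rfl⟩ _ ⟨b, hb, rfl⟩
    rw [← map_mul, ← map_mul, hB a ha b hb]
  letI : CommRing (Subring.closure s) := Subring.closureCommRingOfComm hcomm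
  obtain ⟨m, hm⟩ := Ideal.exists_maximal (Subring.closure s)
  letI := Ideal.Quotient.field m
  let f0 : B →* Subring.closure s :=
    { toFun := fun b => ⟨ρ b, Subring.subset_closure ⟨b, b.2, rfl⟩⟩
      map_one' := by ext; simp
      map_mul' := fun a b => by ext; simp }
  let f : B →* (Subring.closure s ⧸ m) := (Ideal.Quotient.mk m).toMonoidHom.comp f0
  have hf : Function.Injective f := by
    rw [injective_iff_map_eq_one]
    intro b hb
    by_contra hb1
    have hb1' : (b : G) ≠ 1 := fun e => hb1 (Subtype.ext e)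
    have hmem : f0 b - 1 ∈ m := by
      rw [← Ideal.Quotient.eq_zero_iff_mem, map_sub, map_one]
      have : (Ideal.Quotient.mk m) (f0 b) = 1 := hb
      rw [this, sub_self]
    have hinj : Function.Injective (fun t : Subring.closure s => (f0 b - 1) * t) := by
      intro t1 t2 ht
      have ht' : ((f0 b - 1) * (t1 - t2) : Subring.closure s) = 0 := by
        rw [mul_sub]; exact sub_eq_zero.mpr ht
      have ht'' : (ρ b - 1) * ((t1 : A) - (t2 : A)) = 0 := by
        have := congrArg (Subtype.val) ht'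
        simpa [f0] using this
      have := h.eq_zero_of_mul_eq_zero hb1' ht''
      exact Subtype.ext (sub_eq_zero.mp this)
    obtain ⟨t, ht⟩ := (Finite.injective_iff_surjective.mp hinj) 1
    have hunit : IsUnit (f0 b - 1) := IsUnit.of_mul_eq_one t ht
    exact hm.ne_top (Ideal.eq_top_of_isUnit_mem m hmem hunit)
  exact isCyclic_of_injective_ringHom f hf

end Fpf

end Cfsg.Agent.Helper24.Zas
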