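import Mathlib
import Cfsg.Agent.Helper24.ZasRing

set_option autoImplicit false

/-!
# Zassenhaus project: the graph subgroup of a `2`-dimensional invariant subspace
-/

namespace Cfsg.Agent.Helper24.Zas

open Matrix

variable {E : Type*} [Field E] {W : Type*} [AddCommGroup W] [Module E W]
variable {G : Type*} [Group G]

/-- the linear map `c ↦ c 0 • v + c 1 • w` -/
def pairMap (v w : W) : (Fin 2 → E) →ₗ[E] W where
  toFun c := c 0 • v + c 1 • w
  map_add' c d := by
    simp only [Pi.add_apply, add_smul]; abel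
  map_smul' a c := by
    simp only [Pi.smul_apply, smul_eq_mul, mul_smul, RingHom.id_apply, smul_add]

theorem pairMap_apply (v w : W) (c : Fin 2 → E) : pairMap v w c = c 0 • v + c 1 • w := rfl

theorem Fpf.eq_one_of_fixed {ρ : G →* Module.End E W} (h : Fpf ρ) {g : G} {v : W} (hv : v ≠ 0)
    (hg : ρ g v = v) : g = 1 := by
  by_contra hne
  have hu := h g hne
  rw [Module.End.isUnit_iff] at hu
  apply hv
  apply hu.1
  rw [map_zero, LinearMap.sub_apply, hg, Module.End.one_apply, sub_self]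

/-- the graph subgroup: pairs `(g, M)` such that `ρ g` acts on the image of `pairMap v w`
through the matrix `M`. -/
def relSub (ρ : G →* Module.End E W) (v w : W) :
    Subgroup (G × Matrix.SpecialLinearGroup (Fin 2) E) where
  carrier := {q | ∀ c : Fin 2 → E, ρ q.1 (pairMap v w c) = pairMap v w ((q.2 : Matrix (Fin 2) (Fin 2) E).mulVec c)}
  one_mem' := by
    intro c
    simp
  mul_mem' := by
    intro a b ha hb c
    simp only [Prod.fst_mul, Prod.snd_mul, map_mul, Module.End.mul_apply]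
    rw [hb c, ha, Matrix.mulVec_mulVec, Matrix.SpecialLinearGroup.coe_mul]
  inv_mem' := by
    intro a ha c
    have h1 := ha (((a.2⁻¹ : Matrix.SpecialLinearGroup (Fin 2) E) : Matrix (Fin 2) (Fin 2) E).mulVec c)
    rw [Matrix.mulVec_mulVec, ← Matrix.SpecialLinearGroup.coe_mul, mul_inv_cancel,
      Matrix.SpecialLinearGroup.coe_one, Matrix.one_mulVec] at h1
    simp only [Prod.fst_inv, Prod.snd_inv]
    rw [← h1, ← Module.End.mul_apply, ← map_mul, inv_mul_cancel, map_one, Module.End.one_apply]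

theorem mem_relSub {ρ : G →* Module.End E W} {v w : W}
    {q : G × Matrix.SpecialLinearGroup (Fin 2) E} :
    q ∈ relSub ρ v w ↔ ∀ c : Fin 2 → E, ρ q.1 (pairMap v w c) = pairMap v w ((q.2 : Matrix (Fin 2) (Fin 2) E).mulVec c) :=
  Iff.rfl

section

variable {ρ : G →* Module.End E W} {v w : W}

theorem relSub_snd_unique (hind : ∀ c : Fin 2 → E, pairMap v w c = 0 → c = 0)
    {q q' : G × Matrix.SpecialLinearGroup (Fin 2) E} (hq : q ∈ relSub ρ v w)
    (hq' : q' ∈ relSub ρ v w) (h1 : q.1 = q'.1) : q.2 = q'.2 := by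
  apply Subtype.ext
  apply Matrix.toLin'.injective
  apply LinearMap.ext
  intro c
  rw [Matrix.toLin'_apply, Matrix.toLin'_apply]
  have h2 : pairMap v w ((q.2 : Matrix (Fin 2) (Fin 2) E).mulVec c) = pairMap v w ((q'.2 : Matrix (Fin 2) (Fin 2) E).mulVec c) := by
    rw [← hq c, ← hq' c, h1]
  have h3 : pairMap v w ((q.2 : Matrix (Fin 2) (Fin 2) E).mulVec c - (q'.2 : Matrix (Fin 2) (Fin 2) E).mulVec c) = 0 := by
    rw [map_sub, h2, sub_self]
  exact sub_eq_zero.mp (hind _ h3)

theorem relSub_fst_eq_one (h : Fpf ρ) (hv : v ≠ 0)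
    {q : G × Matrix.SpecialLinearGroup (Fin 2) E} (hq : q ∈ relSub ρ v w) (h1 : q.2 = 1) :
    q.1 = 1 := by
  apply h.eq_one_of_fixed hv
  have := hq (![1, 0] : Fin 2 → E)
  rw [h1, Matrix.SpecialLinearGroup.coe_one, Matrix.one_mulVec] at this
  simpa [pairMap_apply] using this

theorem relSub_fst_unique (h : Fpf ρ) (hv : v ≠ 0)
    {q q' : G × Matrix.SpecialLinearGroup (Fin 2) E} (hq : q ∈ relSub ρ v w)
    (hq' : q' ∈ relSub ρ v w) (h1 : q.2 = q'.2) : q.1 = q'.1 := by
  have h2 : q * q'⁻¹ ∈ relSub ρ v w := (relSub ρ v w).mul_mem hq ((relSub ρ v w).inv_mem hq')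
  have h3 : (q * q'⁻¹).2 = 1 := by
    rw [Prod.snd_mul, Prod.snd_inv, h1, mul_inv_cancel]
  have := relSub_fst_eq_one h hv h2 h3
  rw [Prod.fst_mul, Prod.fst_inv] at this
  exact mul_inv_eq_one.mp this

/-- `-1` on the subspace forces `g = z`. -/
theorem relSub_fst_eq_z [Nontrivial W] (h : Fpf ρ) (hv : v ≠ 0) {z : G} (hz : z ≠ 1)
    (hz2 : z ^ 2 = 1)
    {q : G × Matrix.SpecialLinearGroup (Fin 2) E} (hq : q ∈ relSub ρ v w)
    (h1 : ∀ c : Fin 2 → E, (q.2 : Matrix (Fin 2) (Fin 2) E).mulVec c = -c) : q.1 = z := by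
  have hzz : z * z = 1 := by rw [← pow_two]; exact hz2
  have : q.1 * z = 1 := by
    apply h.eq_one_of_fixed hv
    have h2 := hq (![1, 0] : Fin 2 → E)
    rw [h1] at h2
    have hρz : ρ z = -1 := h.map_eq_neg_one hz hz2
    rw [map_mul, Module.End.mul_apply, hρz]
    have h3 : pairMap v w (![1, 0] : Fin 2 → E) = v := by simp [pairMap_apply]
    rw [map_neg, h3] at h2
    simp only [LinearMap.neg_apply, Module.End.one_apply, map_neg, h2, neg_neg]
  calc q.1 = q.1 * z * z := by rw [mul_assoc, hzz, mul_one]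
    _ = z := by rw [this, one_mul]

end

/-- the matrix of `X` -/
def matX (l τ : E) (hl : l * l + l + 1 = 0) : Matrix.SpecialLinearGroup (Fin 2) E :=
  ⟨!![l, τ; 0, l * l], by
    rw [Matrix.det_fin_two_of]
    linear_combination (l - 1) * hl⟩

/-- the matrix of `Y` -/
def matY : Matrix.SpecialLinearGroup (Fin 2) E :=
  ⟨!![0, -1; 1, 0], by
    rw [Matrix.det_fin_two_of]; ring⟩

theorem matX_mem {ρ : G →* Module.End E W} {v : W} {x y : G} {l τ : E}
    (hl : l * l + l + 1 = 0) (hXv : ρ x v = l • v)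
    (hXw : ρ x (ρ y v) = τ • v + (l * l) • ρ y v) :
    (x, matX l τ hl) ∈ relSub ρ v (ρ y v) := by
  intro c
  simp only [pairMap_apply, map_add, map_smul, hXv, hXw, matX, Matrix.mulVec, dotProduct,
    Fin.sum_univ_two, Matrix.of_apply, Matrix.cons_val', Matrix.cons_val_zero,
    Matrix.cons_val_one, Matrix.empty_val', Matrix.cons_val_fin_one]
  module

theorem matY_mem {ρ : G →* Module.End E W} {v : W} {y : G}
    (hYw : ρ y (ρ y v) = - v) :
    (y, (matY : Matrix.SpecialLinearGroup (Fin 2) E)) ∈ relSub ρ v (ρ y v) := by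
  intro c
  simp only [pairMap_apply, map_add, map_smul, hYw, matY, Matrix.mulVec, dotProduct,
    Fin.sum_univ_two, Matrix.of_apply, Matrix.cons_val', Matrix.cons_val_zero,
    Matrix.cons_val_one, Matrix.empty_val', Matrix.cons_val_fin_one]
  module

end Cfsg.Agent.Helper24.Zas
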