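import Mathlib
import Cfsg.Agent.Helper46.DkMain
import Cfsg.Agent.Helper46.PSL2Card
import Cfsg.Agent.Helper46.SubfieldPSL
import Cfsg.Agent.Helper24.ZasRing
import Cfsg.Agent.Helper24.ZasPairA
import Cfsg.Agent.Helper24.ZasPairB
import Cfsg.Agent.Helper24.ZasLift

set_option autoImplicit false

/-!
# Zassenhaus project: the pair theorem (an element of order 3 and an element of order 4)
-/

namespace Cfsg.Agent.Helper24.Zas

open Matrix Cfsg.Agent.Helper46.Dk

section GroupLemmas

variable {G : Type*} [Group G]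

theorem z_eq_one_of_twisted_comm {x y z : G} (hzc : ∀ g : G, g * z = z * g)
    (hz2 : z ^ 2 = 1) (hx3 : x ^ 3 = 1) (hxy : x * y = y * x * z) : z = 1 := by
  have h1 : x * y * x⁻¹ = y * z := by
    rw [hxy]
    calc y * x * z * x⁻¹ = y * (x * z) * x⁻¹ := by group
      _ = y * (z * x) * x⁻¹ := by rw [hzc x]
      _ = y * z := by group
  have hz : x * z * x⁻¹ = z := by rw [hzc x]; group
  have h2 : (x * x) * y * (x * x)⁻¹ = y * z * z := by
    calc (x * x) * y * (x * x)⁻¹ = x * (x * y * x⁻¹) * x⁻¹ := by group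
      _ = x * (y * z) * x⁻¹ := by rw [h1]
      _ = (x * y * x⁻¹) * (x * z * x⁻¹) := by group
      _ = y * z * z := by rw [h1, hz]
  have h3 : (x * (x * x)) * y * (x * (x * x))⁻¹ = y * z * z * z := by
    calc (x * (x * x)) * y * (x * (x * x))⁻¹ = x * ((x * x) * y * (x * x)⁻¹) * x⁻¹ := by group
      _ = x * (y * z * z) * x⁻¹ := by rw [h2]
      _ = (x * y * x⁻¹) * (x * z * x⁻¹) * (x * z * x⁻¹) := by group
      _ = y * z * z * z := by rw [h1, hz]
  have hx3' : x * (x * x) = 1 := by rw [← hx3, pow_succ, pow_two]; group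
  rw [hx3'] at h3
  have hzz : z * z = 1 := by rw [← pow_two]; exact hz2
  have h4 : y * z = y * 1 := by
    calc y * z = y * z * (z * z) := by rw [hzz, mul_one]
      _ = y * z * z * z := by group
      _ = 1 * y * 1⁻¹ := h3.symm
      _ = y * 1 := by group
  exact mul_left_cancel h4

theorem z_eq_one_of_twisted_inv {x y z : G} (hzc : ∀ g : G, g * z = z * g)
    (hz2 : z ^ 2 = 1) (hx3 : x ^ 3 = 1) (hxy : y * x * y⁻¹ = x⁻¹ * z) : z = 1 := by
  have h1 : (y * x * y⁻¹) ^ 3 = 1 := by rw [conj_pow, hx3]; group
  rw [hxy] at h1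
  have hc : Commute x⁻¹ z := hzc x⁻¹
  rw [hc.mul_pow, inv_pow, hx3, inv_one, one_mul] at h1
  calc z = z ^ 3 * (z ^ 2)⁻¹ := by group
    _ = 1 := by rw [h1, hz2]; simp

theorem conj_eq_inv_of_sq {x y : G} (h : (x * y) ^ 2 = y ^ 2) : y * x * y⁻¹ = x⁻¹ := by
  have h1 : x * y * x = y := by
    have : x * y * x * y = y * y := by
      rw [← pow_two y, ← h, pow_two]; group
    exact mul_right_cancel this
  calc y * x * y⁻¹ = x⁻¹ * (x * y * x) * y⁻¹ := by group
    _ = x⁻¹ := by rw [h1]; group

theorem comm_of_mul_mem_center {x y z : G} (hzc : ∀ g : G, g * z = z * g)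
    (h : x * y = 1 ∨ x * y = z) : x * y = y * x := by
  rcases h with h | h
  · have : y = x⁻¹ := eq_inv_of_mul_eq_one_right h
    rw [this]; group
  · have : y = x⁻¹ * z := by rw [← h]; group
    rw [this]
    calc x * (x⁻¹ * z) = z := by group
      _ = x⁻¹ * (z * x) := by rw [← hzc x]; group
      _ = x⁻¹ * z * x := by group

end GroupLemmas

section Main

variable {E : Type*} [Field E] [IsAlgClosed E]
  {W : Type*} [AddCommGroup W] [Module E W] [FiniteDimensional E W] [Nontrivial W]
  {G : Type*} [Group G] [Finite G]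

local notation "SL2" => Matrix.SpecialLinearGroup (Fin 2) E

set_option maxHeartbeats 1600000 in
/-- **The pair theorem.** -/
theorem pair_cases (p : ℕ) [hp : Fact p.Prime] [CharP E p]
    (ρ : G →* Module.End E W) (h : Fpf ρ) {x y z : G} (hx1 : x ≠ 1)
    (hx3 : x ^ 3 = 1) (hz1 : z ≠ 1) (hz2 : z ^ 2 = 1) (hy : y ^ 2 = z) :
    x * y = y * x ∨ y * x * y⁻¹ = x⁻¹ ∨
      (HasTriple z ∧ ∃ n : ℕ, 3 ≤ n ∧ n ≤ 5 ∧ ((x * y) ^ n = 1 ∨ (x * y) ^ n = z)) := by
  classical
  have hzc : ∀ g : G, g * z = z * g := h.involution_central hz2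
  have hzz : z * z = 1 := by rw [← pow_two]; exact hz2
  have hX := h.cube hx1 hx3
  have hρz : ρ z = -1 := h.map_eq_neg_one hz1 hz2
  have hY : ρ y * ρ y = -1 := by rw [← map_mul, ← pow_two, hy, hρz]
  haveI : CharP (Module.End E W) p :=
    charP_of_injective_algebraMap (algebraMap E (Module.End E W)).injective p
  have hpG : ¬ p ∣ Nat.card G := h.not_dvd_card p
  have hp2 : p ≠ 2 := by
    rintro rfl
    apply hpG
    have : orderOf z = 2 := orderOf_eq_prime hz2 hz1
    rw [← this]; exact orderOf_dvd_natCard z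
  obtain ⟨l, τ, v, hv0, hl, hXv, hXw, hYw⟩ := exists_common_eigen (ρ x) (ρ y) hX hY
  by_cases hind : ∀ c : Fin 2 → E, pairMap v (ρ y v) c = 0 → c = 0
  swap
  · -- dependent case: `x` and `y` commute
    left
    push Not at hind
    obtain ⟨c, hc0, hcne⟩ := hind
    have hc1 : c 1 ≠ 0 := by
      intro h1
      rw [pairMap_apply, h1, zero_smul, add_zero] at hc0
      rcases smul_eq_zero.mp hc0 with h0 | h0
      · apply hcne
        funext i
        fin_cases i
        · simpa using h0
        · simpa using h1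
      · exact hv0 h0
    obtain ⟨μ, hμ⟩ : ∃ μ : E, ρ y v = μ • v := by
      refine ⟨-(c 0 / c 1), ?_⟩
      rw [pairMap_apply] at hc0
      have h2 : c 1 • ρ y v = -(c 0 • v) := eq_neg_of_add_eq_zero_right hc0
      calc ρ y v = (c 1)⁻¹ • (c 1 • ρ y v) := by
              rw [smul_smul, inv_mul_cancel₀ hc1, one_smul]
        _ = -(c 0 / c 1) • v := by
              rw [h2, smul_neg, smul_smul, neg_smul]
              congr 2
              field_simp
    have hfix : ρ ((y * x)⁻¹ * (x * y)) v = v := by
      have h1 : ρ (x * y) v = ρ (y * x) v := by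
        rw [map_mul, map_mul, Module.End.mul_apply, Module.End.mul_apply, hμ, map_smul, hXv,
          map_smul, hμ, smul_smul, smul_smul, mul_comm]
      rw [map_mul, Module.End.mul_apply, h1, ← Module.End.mul_apply, ← map_mul, inv_mul_cancel,
        map_one, Module.End.one_apply]
    have h5 := h.eq_one_of_fixed hv0 hfix
    exact (inv_mul_eq_one.mp h5).symm
  · -- independent case
    set w := ρ y v with hw
    let gx : G × SL2 := (x, matX l τ hl)
    let gy : G × SL2 := (y, matY)
    have hgx : gx ∈ relSub ρ v w := matX_mem hl hXv hXw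
    have hgy : gy ∈ relSub ρ v w := matY_mem hYw
    let Γ : Subgroup (G × SL2) := Subgroup.closure {gx, gy}
    have hΓR : Γ ≤ relSub ρ v w := by
      rw [Subgroup.closure_le]
      rintro q (rfl | rfl)
      · exact hgx
      · exact hgy
    let fstΓ : Γ →* G := (MonoidHom.fst G SL2).comp Γ.subtype
    let ρ₀ : Γ →* SL2 := (MonoidHom.snd G SL2).comp Γ.subtype
    have hfst_inj : Function.Injective fstΓ := by
      intro a b hab
      apply Subtype.ext
      exact Prod.ext hab (relSub_snd_unique hind (hΓR a.2) (hΓR b.2) hab)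
    have hinj : Function.Injective ρ₀ := by
      intro a b hab
      apply Subtype.ext
      exact Prod.ext (relSub_fst_unique h hv0 (hΓR a.2) (hΓR b.2) hab) hab
    haveI : Finite Γ := Finite.of_injective fstΓ hfst_inj
    let γx : Γ := ⟨gx, Subgroup.subset_closure (by simp)⟩
    let γy : Γ := ⟨gy, Subgroup.subset_closure (by simp)⟩
    have hfx : fstΓ γx = x := rfl
    have hfy : fstΓ γy = y := rfl
    have hpΓ : ¬ p ∣ Nat.card Γ := fun hd =>
      hpG (hd.trans (Subgroup.card_dvd_of_injective fstΓ hfst_inj))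
    -- `γz`
    let γz : Γ := γy ^ 2
    have hfz : fstΓ γz = z := by rw [map_pow, hfy, hy]
    have hγz_mem : γz ∈ Zr ρ₀ := by
      rw [mem_Zr, mem_center_iff']
      have : ρ₀ γz = matY * matY := by rw [map_pow, pow_two]; rfl
      rw [this]
      refine ⟨?_, ?_, ?_⟩
      · rw [mul_01]; simp [matY]
      · rw [mul_10]; simp [matY]
      · rw [mul_00, mul_11]; simp [matY]
    have hZr : ∀ γ : Γ, γ ∈ Zr ρ₀ ↔ (fstΓ γ = 1 ∨ fstΓ γ = z) := by
      intro γ
      constructor
      · intro hγ
        rw [mem_Zr, mem_center_iff'] at hγ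
        obtain ⟨h01, h10, h00⟩ := hγ
        have hρ₀ : ρ₀ γ = (γ : G × SL2).2 := rfl
        rw [hρ₀] at h01 h10 h00
        have hdet := ((γ : G × SL2).2).2
        rw [Matrix.det_fin_two, h01, h10, ← h00] at hdet
        have hsq : (((γ : G × SL2).2).1 0 0 - 1) * (((γ : G × SL2).2).1 0 0 + 1) = 0 := by
          linear_combination hdet
        rcases mul_eq_zero.mp hsq with h1 | h1
        · left
          have h1' : ((γ : G × SL2).2).1 0 0 = 1 := sub_eq_zero.mp h1
          apply relSub_fst_eq_one h hv0 (hΓR γ.2)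
          apply Subtype.ext
          ext i j
          fin_cases i <;> fin_cases j
          · simpa using h1'
          · simpa using h01
          · simpa using h10
          · simpa [← h00] using h1'
        · right
          have h1' : ((γ : G × SL2).2).1 0 0 = -1 := eq_neg_of_add_eq_zero_left h1
          apply relSub_fst_eq_z h hv0 hz1 hz2 (hΓR γ.2)
          intro c
          funext i
          have e00 : ((γ : G × SL2).2 : Matrix (Fin 2) (Fin 2) E) 0 0 = -1 := h1'
          have e01 : ((γ : G × SL2).2 : Matrix (Fin 2) (Fin 2) E) 0 1 = 0 := h01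
          have e10 : ((γ : G × SL2).2 : Matrix (Fin 2) (Fin 2) E) 1 0 = 0 := h10
          have e11 : ((γ : G × SL2).2 : Matrix (Fin 2) (Fin 2) E) 1 1 = -1 := by
            rw [← h1', h00]
          fin_cases i
          · simp [Matrix.mulVec, dotProduct, Fin.sum_univ_two, e00, e01]
          · simp [Matrix.mulVec, dotProduct, Fin.sum_univ_two, e10, e11]
      · rintro (h1 | h1)
        · have : γ = 1 := hfst_inj (by rw [h1, map_one])
          rw [this]; exact Subgroup.one_mem _
        · have : γ = γz := hfst_inj (by rw [h1, hfz])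
          rw [this]; exact hγz_mem
    let π : Γ →* Γ ⧸ Zr ρ₀ := QuotientGroup.mk' (Zr ρ₀)
    have hπsurj : Function.Surjective π := QuotientGroup.mk'_surjective _
    have hπ1 : ∀ γ : Γ, π γ = 1 ↔ (fstΓ γ = 1 ∨ fstΓ γ = z) := fun γ => by
      rw [← hZr γ]; exact QuotientGroup.eq_one_iff γ
    have hπ : ∀ γ γ' : Γ, π γ = π γ' → fstΓ γ = fstΓ γ' ∨ fstΓ γ = fstΓ γ' * z := by
      intro γ γ' hγ
      have h1 : π (γ'⁻¹ * γ) = 1 := by rw [map_mul, map_inv, hγ, inv_mul_cancel]
      rcases (hπ1 _).mp h1 with h2 | h2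
      · left
        rw [map_mul, map_inv] at h2
        exact (inv_mul_eq_one.mp h2).symm
      · right
        rw [map_mul, map_inv] at h2
        rw [← h2]; group
    have hγx3 : γx ^ 3 = 1 := hfst_inj (by rw [map_pow, hfx, hx3, map_one])
    have hcomm_case : π γx * π γy = π γy * π γx → x * y = y * x := by
      intro hc
      have h1 : π (γx * γy) = π (γy * γx) := by rw [map_mul, map_mul, hc]
      rcases hπ _ _ h1 with h2 | h2
      · rw [map_mul, map_mul, hfx, hfy] at h2; exact h2
      · exfalso
        apply hz1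
        rw [map_mul, map_mul, hfx, hfy] at h2
        exact z_eq_one_of_twisted_comm hzc hz2 hx3 h2
    -- final step for `A₄`, `S₄`, `A₅`
    have finish : HasKleinTriple (Γ ⧸ Zr ρ₀) →
        (∀ q : Γ ⧸ Zr ρ₀, q ^ 1 = 1 ∨ q ^ 2 = 1 ∨ q ^ 3 = 1 ∨ q ^ 4 = 1 ∨ q ^ 5 = 1) →
        (x * y = y * x ∨ y * x * y⁻¹ = x⁻¹ ∨
          (HasTriple z ∧ ∃ n : ℕ, 3 ≤ n ∧ n ≤ 5 ∧ ((x * y) ^ n = 1 ∨ (x * y) ^ n = z))) := by
      intro hK hexp
      have hγz2 : γz ^ 2 = 1 := hfst_inj (by rw [map_pow, hfz, hz2, map_one])
      have hγzc : ∀ g : Γ, g * γz = γz * g := fun g =>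
        hfst_inj (by rw [map_mul, map_mul, hfz, hzc])
      have hker : ∀ g : Γ, π g = 1 ↔ g = 1 ∨ g = γz := by
        intro g
        rw [hπ1]
        constructor
        · rintro (h1 | h1)
          · left; exact hfst_inj (by rw [h1, map_one])
          · right; exact hfst_inj (by rw [h1, hfz])
        · rintro (h1 | h1)
          · left; rw [h1, map_one]
          · right; rw [h1, hfz]
      have hinvΓ : ∀ g : Γ, g ^ 2 = 1 → g = 1 ∨ g = γz := by
        intro g hg
        by_cases hg1 : g = 1
        · left; exact hg1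
        · right
          apply hfst_inj
          rw [hfz]
          apply h.involution_unique _ _ hz1 hz2
          · intro h1; apply hg1; exact hfst_inj (by rw [h1, map_one])
          · rw [← map_pow, hg, map_one]
      have hT : HasTriple z := by
        have := (hasTriple_of_kleinTriple π hπsurj γz hγz2 hγzc hker hinvΓ hK).map fstΓ
        rwa [hfz] at this
      have hpow : ∀ n : ℕ, (π (γx * γy)) ^ n = 1 → ((x * y) ^ n = 1 ∨ (x * y) ^ n = z) := by
        intro n hn
        rw [← map_pow] at hn
        have := (hπ1 _).mp hn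
        rwa [map_pow, map_mul, hfx, hfy] at this
      rcases hexp (π (γx * γy)) with h1 | h1 | h1 | h1 | h1
      · left
        have := hpow 1 h1
        rw [pow_one] at this
        exact comm_of_mul_mem_center hzc this
      · rcases hpow 2 h1 with h2 | h2
        · left
          apply comm_of_mul_mem_center hzc
          by_cases h3 : x * y = 1
          · left; exact h3
          · right; exact h.involution_unique h3 h2 hz1 hz2
        · right; left
          apply conj_eq_inv_of_sq
          rw [h2, hy]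
      · right; right
        exact ⟨hT, 3, le_refl _, by norm_num, hpow 3 h1⟩
      · right; right
        exact ⟨hT, 4, by norm_num, by norm_num, hpow 4 h1⟩
      · right; right
        exact ⟨hT, 5, by norm_num, le_refl _, hpow 5 h1⟩
    rcases dickson_main (ρ := ρ₀) p hinj with hcyc | ⟨n, a, -, -, ⟨e⟩⟩ | ⟨x₀, hx₀, -⟩ | ⟨⟨e⟩⟩ |
      ⟨⟨e⟩⟩ | ⟨⟨e⟩⟩ | ⟨K, hKfin, -, hcases⟩
    · -- cyclic
      left
      apply hcomm_case
      haveI := hcyc
      exact (IsCyclic.isMulCommutative (α := Γ ⧸ Zr ρ₀)).is_comm.comm _ _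
    · -- dihedral
      have hqx3 : (e (π γx)) ^ 3 = 1 := by
        rw [← map_pow, ← map_pow, hγx3, map_one, map_one]
      rcases hqx : e (π γx) with i | i
      · rcases hqy : e (π γy) with j | j
        · left
          apply hcomm_case
          apply e.injective
          rw [map_mul, map_mul, hqx, hqy]
          simp [add_comm]
        · right; left
          have h1 : π (γy * γx * γy⁻¹) = π γx⁻¹ := by
            apply e.injective
            rw [map_mul, map_mul, map_inv, map_inv, map_mul, map_mul, map_inv, hqx, hqy]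
            simp [hqx]
          rcases hπ _ _ h1 with h2 | h2
          · rw [map_mul, map_mul, map_inv, map_inv, hfx, hfy] at h2; exact h2
          · exfalso
            apply hz1
            rw [map_mul, map_mul, map_inv, map_inv, hfx, hfy] at h2
            exact z_eq_one_of_twisted_inv hzc hz2 hx3 h2
      · exfalso
        rw [hqx] at hqx3
        have h1 : (DihedralGroup.sr i) ^ 3 = DihedralGroup.sr i := by simp [pow_succ]
        rw [h1, DihedralGroup.one_def] at hqx3
        cases hqx3
    · -- unipotent element: impossible in a `p'`-group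
      exfalso
      obtain ⟨c, hc, -⟩ := exists_conj_Uni ρ₀ hx₀
      obtain ⟨h10, h01, h00, h11⟩ := PU_pow_char p hc
      have h1 : x₀ ^ p ∈ Zr (conjRep ρ₀ c) := by
        rw [mem_Zr, map_pow, mem_center_iff']
        exact ⟨h01, h10, by rw [h00, h11]⟩
      rw [Zr_conjRep] at h1
      have hcop : p.Coprime (orderOf x₀) := by
        rw [Nat.Prime.coprime_iff_not_dvd hp.out]
        intro hd
        exact hpΓ (hd.trans (orderOf_dvd_natCard x₀))
      obtain ⟨m, hm⟩ := exists_pow_eq_self_of_coprime hcop
      apply hx₀.1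
      rw [← hm]
      exact Subgroup.pow_mem _ h1 m
    · exact finish (HasKleinTriple.of_equiv e kleinTriple_A4) (fun q => by
        have := exponent_A4 (e q)
        simpa only [← map_pow, e.map_eq_one_iff] using this)
    · exact finish (HasKleinTriple.of_equiv e kleinTriple_S4) (fun q => by
        have := exponent_S4 (e q)
        simpa only [← map_pow, e.map_eq_one_iff] using this)
    · exact finish (HasKleinTriple.of_equiv e kleinTriple_A5) (fun q => by
        have := exponent_A5 (e q)
        simpa only [← map_pow, e.map_eq_one_iff] using this)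
    · -- `PSL₂(K)` or `PGL₂(K)`: order divisible by `p`
      exfalso
      haveI := hKfin
      haveI : Fintype K := Fintype.ofFinite K
      haveI : CharP K p := RingHom.charP K.subtype K.subtype_injective p
      obtain ⟨k, -, hk⟩ := FiniteField.card K p
      have hpK : p ∣ Fintype.card K := by
        rw [hk]; exact dvd_pow_self p k.ne_zero
      have hdvdΓ : Nat.card (Γ ⧸ Zr ρ₀) ∣ Nat.card Γ := Subgroup.card_quotient_dvd_card _
      rcases hcases with ⟨⟨e⟩⟩ | ⟨⟨e⟩⟩
      · have h1 := card_PSL2_mul_gcd (F := K)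
        have h2 : p ∣ Nat.card (Matrix.ProjectiveSpecialLinearGroup (Fin 2) K) *
            Nat.gcd 2 (Fintype.card K - 1) := by
          rw [h1]; exact hpK.mul_right _
        rcases (Nat.Prime.dvd_mul hp.out).mp h2 with h3 | h3
        · apply hpΓ
          rw [← Nat.card_congr e.toEquiv] at h3
          exact h3.trans hdvdΓ
        · have h4 : p ∣ 2 := h3.trans (Nat.gcd_dvd_left _ _)
          exact hp2 ((Nat.prime_dvd_prime_iff_eq hp.out Nat.prime_two).mp h4)
      · have h1 := Cfsg.Agent.Helper46.card_PGL2 (K := K)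
        apply hpΓ
        have h3 : p ∣ Nat.card (Matrix.ProjGenLinGroup (Fin 2) K) := by
          rw [h1]; exact hpK.mul_right _
        rw [← Nat.card_congr e.toEquiv] at h3
        exact h3.trans hdvdΓ

end Main

end Cfsg.Agent.Helper24.Zas
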