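import Mathlib
import Cfsg.Agent.Helper24.ZasPairC

set_option autoImplicit false

/-!
# Zassenhaus project: the pair theorem for modules over `ZMod p`
-/

namespace Cfsg.Agent.Helper24.Zas

/-- **The pair theorem** for a fixed-point-free representation on a finite `ZMod p`-module. -/
theorem pair_cases_zmod (p : ℕ) [hp : Fact p.Prime] {V : Type*} [AddCommGroup V]
    [Module (ZMod p) V] [Finite V] [Nontrivial V] {G : Type*} [Group G] [Finite G]
    (ρ : G →* Module.End (ZMod p) V) (h : Fpf ρ) {x y z : G} (hx1 : x ≠ 1)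
    (hx3 : x ^ 3 = 1) (hz1 : z ≠ 1) (hz2 : z ^ 2 = 1) (hy : y ^ 2 = z) :
    x * y = y * x ∨ y * x * y⁻¹ = x⁻¹ ∨
      (HasTriple z ∧ ∃ n : ℕ, 3 ≤ n ∧ n ≤ 5 ∧ ((x * y) ^ n = 1 ∨ (x * y) ^ n = z)) := by
  classical
  haveI : Module.Finite (ZMod p) V := Module.Finite.of_finite
  let E := AlgebraicClosure (ZMod p)
  let ι := Module.Free.ChooseBasisIndex (ZMod p) V
  let b : Module.Basis ι (ZMod p) V := Module.Free.chooseBasis (ZMod p) V
  haveI : Nonempty ι := b.index_nonempty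
  let φ₁ : Module.End (ZMod p) V →+* Matrix ι ι (ZMod p) :=
    (LinearMap.toMatrixAlgEquiv b : Module.End (ZMod p) V ≃ₐ[ZMod p] Matrix ι ι (ZMod p))
  let φ₂ : Matrix ι ι (ZMod p) →+* Matrix ι ι E := (algebraMap (ZMod p) E).mapMatrix
  let φ₃ : Matrix ι ι E →+* Module.End E (ι → E) :=
    (Matrix.toLinAlgEquiv' : Matrix ι ι E ≃ₐ[E] Module.End E (ι → E))
  let φ : Module.End (ZMod p) V →+* Module.End E (ι → E) := φ₃.comp (φ₂.comp φ₁)
  let ρ' : G →* Module.End E (ι → E) := (φ : Module.End (ZMod p) V →* Module.End E (ι → E)).comp ρ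
  have h' : Fpf ρ' := by
    intro g hg
    have h1 : ρ' g - 1 = φ (ρ g - 1) := by
      rw [map_sub, map_one]; rfl
    rw [h1]
    exact (h g hg).map φ
  exact pair_cases p ρ' h' hx1 hx3 hz1 hz2 hy

end Cfsg.Agent.Helper24.Zas
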