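import Mathlib

set_option autoImplicit false
set_option linter.unusedSimpArgs false

/-!
# Zassenhaus project: quaternion computations in a noncommutative ring
-/

namespace Cfsg.Agent.Helper24.Zas

section

variable {A : Type*} [Ring A] {i j X : A}

/-- The element of order three normalizing the quaternion units is `-(1 + i + j + ij)/2`. -/
theorem two_X_eq (hii : i * i = -1) (hjj : j * j = -1) (hji : j * i = -(i * j))
    (hXi : X * i = j * X) (hXj : X * j = i * j * X) (hX : X * X + X + 1 = 0)
    (h2 : IsUnit (2 : A)) : X + X = -(1 + i + j + i * j) := by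
  have hii' : ∀ w : A, i * (i * w) = -w := fun w => by rw [← mul_assoc, hii, neg_one_mul]
  have hjj' : ∀ w : A, j * (j * w) = -w := fun w => by rw [← mul_assoc, hjj, neg_one_mul]
  have hji' : ∀ w : A, j * (i * w) = -(i * (j * w)) := fun w => by
    rw [← mul_assoc, hji, neg_mul, mul_assoc]
  have hXi' : ∀ w : A, X * (i * w) = j * (X * w) := fun w => by
    rw [← mul_assoc, hXi, mul_assoc]
  have hXj0 : X * j = i * (j * X) := by rw [hXj, mul_assoc]
  have hXj' : ∀ w : A, X * (j * w) = i * (j * (X * w)) := fun w => by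
    rw [← mul_assoc, hXj0, mul_assoc, mul_assoc]
  have hXX : X * X = -X - 1 := by
    have := hX
    rw [add_assoc] at this
    rw [eq_neg_of_add_eq_zero_left this]; abel
  have hXX' : ∀ w : A, X * (X * w) = -(X * w) - w := fun w => by
    rw [← mul_assoc, hXX]; noncomm_ring
  set u : A := i + j + i * j with hu
  set T : A := X + X + 1 with hT
  set S : A := T + u with hS
  -- `S i = j S`
  have hSi : S * i = j * S := by
    simp only [hS, hT, hu, add_mul, mul_add, mul_assoc, one_mul, mul_one, hii, hii', hjj, hjj',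
      hji, hji', hXi, hXi', hXj0, hXj', mul_neg, neg_mul, neg_neg]
    abel
  have hSj : S * j = i * (j * S) := by
    simp only [hS, hT, hu, add_mul, mul_add, mul_assoc, one_mul, mul_one, hii, hii', hjj, hjj',
      hji, hji', hXi, hXi', hXj0, hXj', mul_neg, neg_mul, neg_neg]
    abel
  -- `(T - u) S = 0`
  have hTuS : (T - u) * S = 0 := by
    simp only [hS, hT, hu, add_mul, mul_add, sub_mul, mul_sub, mul_assoc, one_mul, mul_one, hii,
      hii', hjj, hjj', hji, hji', hXi, hXi', hXj0, hXj', hXX, hXX', mul_neg, neg_mul, neg_neg]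
    abel
  have hSS : S * S = (u + u) * S := by
    have : (T - u) = S - (u + u) := by rw [hS]; abel
    rw [this, sub_mul] at hTuS
    exact sub_eq_zero.mp hTuS
  -- `S S i` in two ways
  have h1 : S * S * i = i * (j * (S * S)) := by
    rw [mul_assoc, hSi, ← mul_assoc, hSj, mul_assoc, mul_assoc]
  have h2' : (u + u) * S * i = (u + u) * (j * S) := by rw [mul_assoc, hSi]
  rw [hSS] at h1
  rw [h2'] at h1
  -- `(u + u) j S = i j (u + u) S`
  have h3 : ((u + u) * j - i * (j * (u + u))) * S = 0 := by
    rw [sub_mul, mul_assoc, mul_assoc, mul_assoc, h1, sub_self]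
  have h4 : (u + u) * j - i * (j * (u + u)) = 2 * ((i - 1) * j) := by
    simp only [hu, add_mul, mul_add, sub_mul, mul_assoc, one_mul, mul_one, hii, hii', hjj, hjj',
      hji, hji', mul_neg, neg_mul, neg_neg, two_mul]
    abel
  rw [h4] at h3
  have h5 : (i - 1) * j * S = 0 := by
    rw [mul_assoc 2] at h3
    exact h2.mul_right_eq_zero.mp h3
  have h6 : (i + 1) * ((i - 1) * j * S) = -(2 * (j * S)) := by
    simp only [add_mul, mul_add, sub_mul, mul_sub, mul_assoc, one_mul, mul_one, hii, hii', two_mul,
      neg_mul, mul_neg]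
    abel
  rw [h5, mul_zero] at h6
  have h7 : j * S = 0 := by
    have : 2 * (j * S) = 0 := by
      have := h6.symm
      exact neg_eq_zero.mp this
    exact h2.mul_right_eq_zero.mp this
  have h8 : S = 0 := by
    have : j * (j * S) = 0 := by rw [h7, mul_zero]
    rw [hjj'] at this
    exact neg_eq_zero.mp this
  have h9 : X + X = S - (1 + u) := by rw [hS, hT]; abel
  rw [h9, h8, hu]; abel

/-- The trace-like element of the pair `(x, J k)`. -/
theorem two_t_eq {κ κ' : A} (hii : i * i = -1) (hjj : j * j = -1) (hji : j * i = -(i * j))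
    (hXX : X + X = -(1 + i + j + i * j))
    (hκi : κ * i = i * κ) (hκj : κ * j = j * κ') :
    (X + X) * (j * κ) + (j * κ) * (X + X) + (j * κ + j * κ) = κ + κ' + i * κ - i * κ' := by
  have hii' : ∀ w : A, i * (i * w) = -w := fun w => by rw [← mul_assoc, hii, neg_one_mul]
  have hjj' : ∀ w : A, j * (j * w) = -w := fun w => by rw [← mul_assoc, hjj, neg_one_mul]
  have hji' : ∀ w : A, j * (i * w) = -(i * (j * w)) := fun w => by
    rw [← mul_assoc, hji, neg_mul, mul_assoc]
  have hκi' : ∀ w : A, κ * (i * w) = i * (κ * w) := fun w => by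
    rw [← mul_assoc, hκi, mul_assoc]
  have hκj' : ∀ w : A, κ * (j * w) = j * (κ' * w) := fun w => by
    rw [← mul_assoc, hκj, mul_assoc]
  rw [hXX]
  simp only [add_mul, mul_add, neg_mul, mul_neg, mul_assoc, one_mul, mul_one, hii, hii', hjj,
    hjj', hji, hji', hκi, hκi', hκj, hκj', neg_neg]
  abel

end

end Cfsg.Agent.Helper24.Zas
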