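import Mathlib
import Cfsg.Agent.Helper24.ZasRing

set_option autoImplicit false
set_option linter.unusedSimpArgs false

/-!
# Zassenhaus project: the possible values of `ρ u + ρ u⁻¹`
-/

namespace Cfsg.Agent.Helper24.Zas

variable {G : Type*} [Group G] {A : Type*} [Ring A] {ρ : G →* A}

/-- the alternatives for `T = ρ u + ρ u⁻¹`, `u = x y` -/
def TAlt (T : A) : Prop :=
  T * T = 3 ∨ T = 0 ∨ T * T = 1 ∨ T * T = 2 ∨
    (IsUnit (5 : A) ∧ (T * T + T - 1 = 0 ∨ T * T - T - 1 = 0))

theorem Fpf.isUnit_five (h : Fpf ρ) {g : G} (hg : g ≠ 1) (h5 : g ^ 5 = 1) : IsUnit (5 : A) := by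
  haveI : Fact (Nat.Prime 5) := ⟨by norm_num⟩
  have hord : orderOf g = 5 := orderOf_eq_prime h5 hg
  have hne : ∀ k : ℕ, 0 < k → k < 5 → g ^ k ≠ 1 := by
    intro k hk0 hk5 hk
    have := orderOf_dvd_of_pow_eq_one hk
    rw [hord] at this
    have := Nat.le_of_dvd hk0 this
    omega
  set U := ρ g with hU
  have hU5 : U ^ 5 = 1 := by rw [hU, ← map_pow, h5, map_one]
  have hgs := h.geom_sum_eq_zero hg h5
  simp only [Finset.sum_range_succ, Finset.sum_range_zero, zero_add, pow_zero, pow_one] at hgs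
  have u1 := h g hg
  have u2 := h (g ^ 2) (hne 2 (by norm_num) (by norm_num))
  have u3 := h (g ^ 3) (hne 3 (by norm_num) (by norm_num))
  have u4 := h (g ^ 4) (hne 4 (by norm_num) (by norm_num))
  rw [map_pow] at u2 u3 u4
  have hP : (U - 1) * (U ^ 4 - 1) = 1 + 1 - U - U ^ 4 := by
    have : (U - 1) * (U ^ 4 - 1) = U ^ 5 - U - U ^ 4 + 1 := by noncomm_ring
    rw [this, hU5]; abel
  have hQ : (U ^ 2 - 1) * (U ^ 3 - 1) = 1 + 1 - U ^ 2 - U ^ 3 := by
    have : (U ^ 2 - 1) * (U ^ 3 - 1) = U ^ 5 - U ^ 2 - U ^ 3 + 1 := by noncomm_ring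
    rw [this, hU5]; abel
  have hPQ : (1 + 1 - U - U ^ 4) * (1 + 1 - U ^ 2 - U ^ 3) = 1 + 1 + 1 + 1 + 1 := by
    have e : (1 + 1 - U - U ^ 4) * (1 + 1 - U ^ 2 - U ^ 3) =
        (1 + 1 + 1 + 1) - (U + U) - (U ^ 2 + U ^ 2) - U ^ 3 - U ^ 4 + U ^ 5 * U + U ^ 5 * U ^ 2 := by
      noncomm_ring
    rw [e, hU5, one_mul, one_mul]
    have e2 : (1 + 1 + 1 + 1 : A) - (U + U) - (U ^ 2 + U ^ 2) - U ^ 3 - U ^ 4 + U + U ^ 2 =
        (1 + 1 + 1 + 1 + 1) - (1 + U + U ^ 2 + U ^ 3 + U ^ 4) := by abel
    rw [e2, hgs, sub_zero]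
  have := (u1.mul u4).mul (u2.mul u3)
  rw [hP, hQ, hPQ] at this
  have e5 : (1 + 1 + 1 + 1 + 1 : A) = 5 := by norm_num
  rwa [e5] at this

section

variable [Nontrivial A] (h : Fpf ρ) {x y z : G}

include h

theorem Fpf.map_inv_of_sq (hz1 : z ≠ 1) (hz2 : z ^ 2 = 1) (hy : y ^ 2 = z) : ρ y⁻¹ = -ρ y := by
  have hρz : ρ z = -1 := h.map_eq_neg_one hz1 hz2
  have h1 : y⁻¹ = y * z := by
    apply inv_eq_of_mul_eq_one_right
    rw [← mul_assoc, ← pow_two, hy, ← pow_two, hz2]
  rw [h1, map_mul, hρz, mul_neg, mul_one]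

theorem Fpf.map_inv_of_cube (hx1 : x ≠ 1) (hx3 : x ^ 3 = 1) : ρ x⁻¹ = -ρ x - 1 := by
  have h1 : x⁻¹ = x * x := by
    apply inv_eq_of_mul_eq_one_right
    rw [← hx3, pow_succ, pow_two, mul_assoc]
  have hc := h.cube hx1 hx3
  rw [h1, map_mul]
  rw [add_assoc] at hc
  rw [eq_neg_of_add_eq_zero_left hc]; abel

/-- `ρ (x y) + ρ (x y)⁻¹ = X Y + Y X + Y`. -/
theorem Fpf.T_eq (hx1 : x ≠ 1) (hx3 : x ^ 3 = 1) (hz1 : z ≠ 1) (hz2 : z ^ 2 = 1) (hy : y ^ 2 = z) :
    ρ (x * y) + ρ (x * y)⁻¹ = ρ x * ρ y + ρ y * ρ x + ρ y := by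
  rw [mul_inv_rev, map_mul, map_mul, h.map_inv_of_sq hz1 hz2 hy, h.map_inv_of_cube hx1 hx3]
  noncomm_ring

/-- The possible values of `T`. -/
theorem Fpf.tAlt_of_pair (hx1 : x ≠ 1) (hx3 : x ^ 3 = 1) (hz1 : z ≠ 1) (hz2 : z ^ 2 = 1)
    (hy : y ^ 2 = z)
    (hpair : x * y = y * x ∨ ∃ n : ℕ, 2 ≤ n ∧ n ≤ 5 ∧ ((x * y) ^ n = 1 ∨ (x * y) ^ n = z)) :
    TAlt (ρ (x * y) + ρ (x * y)⁻¹) := by
  have hzc : ∀ g : G, g * z = z * g := h.involution_central hz2
  have hzz : z * z = 1 := by rw [← pow_two]; exact hz2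
  have hρz : ρ z = -1 := h.map_eq_neg_one hz1 hz2
  by_cases hcomm : x * y = y * x
  · -- commuting: `T² = 3`
    left
    rw [h.T_eq hx1 hx3 hz1 hz2 hy]
    have hXY : ρ y * ρ x = ρ x * ρ y := by rw [← map_mul, ← map_mul, hcomm]
    have hXY' : ∀ w : A, ρ y * (ρ x * w) = ρ x * (ρ y * w) := fun w => by
      rw [← mul_assoc, hXY, mul_assoc]
    have hc := h.cube hx1 hx3
    have hXX : ρ x * ρ x = -ρ x - 1 := by
      rw [add_assoc] at hc
      rw [eq_neg_of_add_eq_zero_left hc]; abel
    have hXX' : ∀ w : A, ρ x * (ρ x * w) = -(ρ x * w) - w := fun w => by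
      rw [← mul_assoc, hXX]; noncomm_ring
    have hYY : ρ y * ρ y = -1 := by rw [← map_mul, ← pow_two, hy, hρz]
    have hYY' : ∀ w : A, ρ y * (ρ y * w) = -w := fun w => by
      rw [← mul_assoc, hYY, neg_one_mul]
    have e3 : (3 : A) = 1 + 1 + 1 := by norm_num
    rw [e3]
    simp only [add_mul, mul_add, mul_assoc, hXY, hXY', hXX, hXX', hYY, hYY', mul_neg, neg_mul,
      neg_neg, mul_sub, sub_mul, mul_one, one_mul]
    abel
  · rcases hpair with hc | ⟨n, hn2, hn5, hn⟩
    · exact absurd hc hcomm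
    · obtain ⟨u, hu⟩ : ∃ u : G, u = x * y := ⟨_, rfl⟩
      rw [← hu] at hn ⊢
      have hu1 : u ≠ 1 := by
        intro h1
        apply hcomm
        rw [hu] at h1
        have : y = x⁻¹ := eq_inv_of_mul_eq_one_right h1
        rw [this]; group
      have huz : u ≠ z := by
        intro h1
        apply hcomm
        have : y = x⁻¹ * z := by rw [← h1, hu]; group
        rw [this]
        calc x * (x⁻¹ * z) = z := by group
          _ = x⁻¹ * (z * x) := by rw [← hzc x]; group
          _ = x⁻¹ * z * x := by group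
      set U := ρ u with hU
      set U' := ρ u⁻¹ with hU'
      have hUU' : U * U' = 1 := by rw [hU, hU', ← map_mul, mul_inv_cancel, map_one]
      have hU'U : U' * U = 1 := by rw [hU, hU', ← map_mul, inv_mul_cancel, map_one]
      have hU'U2 : ∀ w : A, U' * (U * w) = w := fun w => by rw [← mul_assoc, hU'U, one_mul]
      have hUU'2 : ∀ w : A, U * (U' * w) = w := fun w => by rw [← mul_assoc, hUU', one_mul]
      -- `u² = z` gives `T = 0`
      have hsq : u ^ 2 = z → TAlt (U + U') := by
        intro h2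
        right; left
        have h3 : U * U = -1 := by rw [hU, ← map_mul, ← pow_two, h2, hρz]
        have h4 : U' = -U := by
          calc U' = U' * (U * (-U)) := by rw [mul_neg, h3, neg_neg, mul_one]
            _ = -U := by rw [hU'U2]
        rw [h4]; abel
      have hinvol : u ^ 2 ≠ 1 := by
        intro h2
        by_cases h3 : u = 1
        · exact hu1 h3
        · exact huz (h.involution_unique h3 h2 hz1 hz2)
      -- `w³ = 1`, `w ≠ 1`, gives `ρ w + 1 + ρ w⁻¹ = 0`
      have hcube : ∀ w : G, w ≠ 1 → w ^ 3 = 1 → ρ w + 1 + ρ w⁻¹ = 0 := by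
        intro w hw1 hw3
        have hc := h.cube hw1 hw3
        have : ρ w⁻¹ * (ρ w * ρ w + ρ w + 1) = ρ w + 1 + ρ w⁻¹ := by
          have e : ρ w⁻¹ * ρ w = 1 := by rw [← map_mul, inv_mul_cancel, map_one]
          rw [mul_add, mul_add, ← mul_assoc, e, one_mul, mul_one]
        rw [← this, hc, mul_zero]
      have hfive : ∀ w : G, w ≠ 1 → w ^ 5 = 1 →
          (ρ w + ρ w⁻¹) * (ρ w + ρ w⁻¹) + (ρ w + ρ w⁻¹) - 1 = 0 := by
        intro w hw1 hw5
        have hgs := h.geom_sum_eq_zero hw1 hw5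
        simp only [Finset.sum_range_succ, Finset.sum_range_zero, zero_add, pow_zero,
          pow_one] at hgs
        have e : ρ w⁻¹ * ρ w = 1 := by rw [← map_mul, inv_mul_cancel, map_one]
        have e' : ρ w * ρ w⁻¹ = 1 := by rw [← map_mul, mul_inv_cancel, map_one]
        have e2 : ∀ a : A, ρ w⁻¹ * (ρ w * a) = a := fun a => by rw [← mul_assoc, e, one_mul]
        have e2' : ∀ a : A, ρ w * (ρ w⁻¹ * a) = a := fun a => by rw [← mul_assoc, e', one_mul]
        have key : ρ w⁻¹ * (ρ w⁻¹ * (1 + ρ w + ρ w ^ 2 + ρ w ^ 3 + ρ w ^ 4)) =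
            (ρ w + ρ w⁻¹) * (ρ w + ρ w⁻¹) + (ρ w + ρ w⁻¹) - 1 := by
          simp only [pow_succ, pow_zero, one_mul, mul_add, add_mul, mul_one, mul_assoc, e, e', e2,
            e2']
          abel
        rw [← key, hgs, mul_zero, mul_zero]
      have huz1 : u * z ≠ 1 := by
        intro h1
        apply huz
        calc u = u * z * z := by rw [mul_assoc, hzz, mul_one]
          _ = z := by rw [h1, one_mul]
      have hρuz : ρ (u * z) = -U := by rw [map_mul, hρz, mul_neg, mul_one]
      have hρuz' : ρ (u * z)⁻¹ = -U' := by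
        rw [mul_inv_rev, map_mul]
        have : z⁻¹ = z := inv_eq_of_mul_eq_one_left hzz
        rw [this, hρz, neg_one_mul]
      have hcz : Commute u z := hzc u
      interval_cases n
      · -- n = 2
        rcases hn with h2 | h2
        · exact absurd h2 hinvol
        · exact hsq h2
      · -- n = 3
        right; right; left
        rcases hn with h3 | h3
        · have := hcube u hu1 h3
          have hT : U + U' = -1 := by
            have e : U + U' = (U + 1 + U') - 1 := by abel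
            rw [e, this]; abel
          rw [hT]; simp
        · have h3' : (u * z) ^ 3 = 1 := by
            rw [hcz.mul_pow, h3]
            have : z ^ 3 = z := by rw [pow_succ, hz2, one_mul]
            rw [this, hzz]
          have := hcube (u * z) huz1 h3'
          rw [hρuz, hρuz'] at this
          have hT : U + U' = 1 := by
            have e : U + U' = 1 - (-U + 1 + -U') := by abel
            rw [e, this]; abel
          rw [hT]; simp
      · -- n = 4
        rcases hn with h4 | h4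
        · have : (u ^ 2) ^ 2 = 1 := by rw [← pow_mul]; exact h4
          by_cases h5 : u ^ 2 = 1
          · exact absurd h5 hinvol
          · exact hsq (h.involution_unique h5 this hz1 hz2)
        · right; right; right; left
          have hU4 : U * (U * (U * U)) = -1 := by
            rw [hU, ← map_mul, ← map_mul, ← map_mul, ← hρz, ← h4]
            congr 1
            rw [pow_succ, pow_succ, pow_two]; group
          have h6 : U * U + U' * U' = 0 := by
            have : U' * (U' * (U * (U * (U * U)) + 1)) = U * U + U' * U' := by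
              simp only [mul_add, mul_one, hU'U2]
            rw [← this, hU4]; simp
          have : (U + U') * (U + U') = (U * U + U' * U') + (1 + 1) := by
            simp only [add_mul, mul_add, hUU', hU'U]
            abel
          rw [this, h6, zero_add]
          norm_num
      · -- n = 5
        right; right; right; right
        rcases hn with h5 | h5
        · exact ⟨h.isUnit_five hu1 h5, Or.inl (hfive u hu1 h5)⟩
        · have h5' : (u * z) ^ 5 = 1 := by
            rw [hcz.mul_pow, h5]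
            have : z ^ 5 = z := by
              have : z ^ 5 = (z ^ 2) ^ 2 * z := by rw [← pow_mul, ← pow_succ]
              rw [this, hz2, one_pow, one_mul]
            rw [this, hzz]
          refine ⟨h.isUnit_five huz1 h5', Or.inr ?_⟩
          have := hfive (u * z) huz1 h5'
          rw [hρuz, hρuz'] at this
          rw [← this]
          noncomm_ring

end

end Cfsg.Agent.Helper24.Zas
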