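import Mathlib
import Cfsg.Agent.Helper24.ZasRing
import Cfsg.Agent.Helper24.ZasQuatA
import Cfsg.Agent.Helper24.ZasQuatB

set_option autoImplicit false
set_option linter.unusedSimpArgs false

/-!
# Zassenhaus project: Lemma B (`k ^ 8 = 1`)
-/

namespace Cfsg.Agent.Helper24.Zas

/-- the alternatives for `s = T²` in a commutative ring -/
def SAlt {R : Type*} [CommRing R] (s : R) : Prop :=
  s = 3 ∨ s = 0 ∨ s = 1 ∨ s = 2 ∨ (((5 : R) = 0 → (1 : R) = 0) ∧ s * s - 3 * s + 1 = 0)

theorem comm_alt {R : Type*} [CommRing R] (a b : R) (hab : a * a + b * b = 1)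
    (h2 : IsUnit (2 : R)) (h1 : SAlt ((a - b) * (a - b))) (h2' : SAlt ((a + b) * (a + b))) :
    2 * a * b = -1 ∨ 2 * a * b = 0 ∨ 2 * a * b = 1 := by
  have hs1 : (a - b) * (a - b) = 1 - 2 * a * b := by linear_combination hab
  have hs2 : (a + b) * (a + b) = 1 + 2 * a * b := by linear_combination hab
  rw [hs1] at h1
  rw [hs2] at h2'
  set n := 2 * a * b with hn
  have triv : (1 : R) = 0 → (n = -1 ∨ n = 0 ∨ n = 1) := by
    intro h10
    right; left
    have : Subsingleton R := subsingleton_of_zero_eq_one h10.symm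
    exact Subsingleton.elim _ _
  have cancel2 : ∀ r : R, 2 * r = 0 → r = 0 := fun r hr => h2.mul_right_eq_zero.mp hr
  rcases h1 with h1 | h1 | h1 | h1 | ⟨h15, h1⟩
  · -- n = -2
    have hn2 : n = -2 := by linear_combination -h1
    rcases h2' with h3 | h3 | h3 | h3 | ⟨h35, h3⟩
    · -- n = 2: 4 = 0
      have h4 : (2 : R) * 2 = 0 := by linear_combination -h3 - h1
      have h5 : (2 : R) = 0 := cancel2 _ h4
      right; left
      rw [hn2, h5, neg_zero]
    · left; linear_combination h3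
    · right; left; linear_combination h3
    · right; right; linear_combination h3
    · apply triv
      apply h35
      rw [hn2] at h3
      linear_combination h3
  · right; right; linear_combination -h1
  · right; left; linear_combination -h1
  · left; linear_combination -h1
  · rcases h2' with h3 | h3 | h3 | h3 | ⟨h35, h3⟩
    · apply triv
      apply h15
      have hn2 : n = 2 := by linear_combination h3
      rw [hn2] at h1
      linear_combination h1
    · left; linear_combination h3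
    · right; left; linear_combination h3
    · right; right; linear_combination h3
    · right; left
      apply cancel2
      linear_combination h1 - h3

theorem sAlt_of_tAlt {R A : Type*} [CommRing R] [Ring A] (f : R →+* A)
    (hf : Function.Injective f) (t : R) (hT : TAlt (f t)) : SAlt (t * t) := by
  rcases hT with h | h | h | h | ⟨h5, h⟩
  · left; apply hf; rw [map_mul, h]; exact (map_ofNat f 3).symm
  · right; left
    apply hf
    rw [map_mul, h, mul_zero, map_zero]
  · right; right; left; apply hf; rw [map_mul, h, map_one]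
  · right; right; right; left; apply hf; rw [map_mul, h]; exact (map_ofNat f 2).symm
  · right; right; right; right
    constructor
    · intro h50
      have : (5 : A) = 0 := by
        have := congrArg f h50
        rwa [map_ofNat, map_zero] at this
      rw [this] at h5
      have h01 : (0 : A) = 1 := isUnit_zero_iff.mp h5
      apply hf
      rw [map_one, map_zero, h01]
    · rcases h with h | h
      · have h' : t * t + t - 1 = 0 := by
          apply hf
          rw [map_sub, map_add, map_mul, map_one, map_zero]; exact h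
        linear_combination (t * t - t - 1) * h'
      · have h' : t * t - t - 1 = 0 := by
          apply hf
          rw [map_sub, map_sub, map_mul, map_one, map_zero]; exact h
        linear_combination (t * t + t - 1) * h'


section LemmaB

variable {G : Type*} [Group G] {A : Type*} [Ring A] [Nontrivial A] {ρ : G →* A}

/-- the pair alternative -/
def PairAlt (z x y : G) : Prop :=
  x * y = y * x ∨ ∃ n : ℕ, 2 ≤ n ∧ n ≤ 5 ∧ ((x * y) ^ n = 1 ∨ (x * y) ^ n = z)

/-- The doubled `T`-value of the pair `(x, J k)` for a standard triple `(I, J, x)`. -/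
theorem two_T_of_triple (h : Fpf ρ) {z I J x k : G} (hz1 : z ≠ 1) (hz2 : z ^ 2 = 1)
    (hI : I ^ 2 = z) (hJ : J ^ 2 = z) (hJI : J * I * J⁻¹ = I⁻¹) (hx1 : x ≠ 1) (hx3 : x ^ 3 = 1)
    (hxI : x * I * x⁻¹ = J) (hxJ : x * J * x⁻¹ = I * J) (hkI : k * I = I * k)
    (hJk : J * k * J⁻¹ = k⁻¹) :
    (J * k) ^ 2 = z ∧
    (ρ (x * (J * k)) + ρ (x * (J * k))⁻¹) + (ρ (x * (J * k)) + ρ (x * (J * k))⁻¹) =
      ρ k + ρ k⁻¹ + ρ I * ρ k - ρ I * ρ k⁻¹ := by
  have hρz : ρ z = -1 := h.map_eq_neg_one hz1 hz2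
  have hii : ρ I * ρ I = -1 := by rw [← map_mul, ← pow_two, hI, hρz]
  have hjj : ρ J * ρ J = -1 := by rw [← map_mul, ← pow_two, hJ, hρz]
  have hji : ρ J * ρ I = -(ρ I * ρ J) := by
    have e : J * I = I⁻¹ * J := by rw [← hJI]; group
    rw [← map_mul, e, map_mul, h.map_inv_of_sq hz1 hz2 hI, neg_mul]
  have hXi : ρ x * ρ I = ρ J * ρ x := by
    have e : x * I = J * x := by rw [← hxI]; group
    rw [← map_mul, e, map_mul]
  have hXj : ρ x * ρ J = ρ I * ρ J * ρ x := by
    have e : x * J = I * J * x := by rw [← hxJ]; group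
    rw [← map_mul, e, map_mul, map_mul]
  have hX := h.cube hx1 hx3
  have h2u := h.isUnit_two hz1 hz2
  have hXX := two_X_eq hii hjj hji hXi hXj hX h2u
  have hκi : ρ k * ρ I = ρ I * ρ k := by rw [← map_mul, hkI, map_mul]
  have hkJ : k * J = J * k⁻¹ := by
    have e : J * k⁻¹ * J⁻¹ = k := by
      calc J * k⁻¹ * J⁻¹ = (J * k * J⁻¹)⁻¹ := by group
        _ = k := by rw [hJk, inv_inv]
    calc k * J = (J * k⁻¹ * J⁻¹) * J := by rw [e]
      _ = J * k⁻¹ := by group
  have hκj : ρ k * ρ J = ρ J * ρ k⁻¹ := by rw [← map_mul, hkJ, map_mul]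
  have hB2 := two_t_eq hii hjj hji hXX hκi hκj
  have hy2 : (J * k) ^ 2 = z := by
    rw [pow_two]
    calc J * k * (J * k) = J * (k * J) * k := by group
      _ = J * (J * k⁻¹) * k := by rw [hkJ]
      _ = J ^ 2 := by rw [pow_two]; group
      _ = z := hJ
  refine ⟨hy2, ?_⟩
  rw [h.T_eq hx1 hx3 hz1 hz2 hy2, map_mul, ← hB2]
  noncomm_ring

/-- **Lemma B**: an element `k` centralizing `I` and inverted by `J`, where `(I, J, x)` is a
standard triple, satisfies `k ^ 8 = 1`. -/
theorem pow_eight_eq_one (h : Fpf ρ) {z I J x k : G} (hz1 : z ≠ 1) (hz2 : z ^ 2 = 1)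
    (hI : I ^ 2 = z) (hJ : J ^ 2 = z) (hJI : J * I * J⁻¹ = I⁻¹) (hx3 : x ^ 3 = 1)
    (hxI : x * I * x⁻¹ = J) (hxJ : x * J * x⁻¹ = I * J) (hkI : k * I = I * k)
    (hJk : J * k * J⁻¹ = k⁻¹)
    (hpair : ∀ x' y' : G, x' ≠ 1 → x' ^ 3 = 1 → y' ^ 2 = z → PairAlt z x' y') :
    k ^ 8 = 1 := by
  classical
  have hzc : ∀ g : G, g * z = z * g := h.involution_central hz2
  have hzz : z * z = 1 := by rw [← pow_two]; exact hz2
  have hzinv : z⁻¹ = z := inv_eq_of_mul_eq_one_left hzz
  have hρz : ρ z = -1 := h.map_eq_neg_one hz1 hz2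
  have hI1 : I ≠ 1 := by
    rintro rfl
    rw [one_pow] at hI
    exact hz1 hI.symm
  have hx1 : x ≠ 1 := by
    rintro rfl
    apply hI1
    have e1 : J = I := by rw [← hxI]; group
    have e2 : I * J = J := by rw [← hxJ]; group
    exact mul_eq_right.mp e2
  -- first triple
  obtain ⟨hy2, hT1⟩ := two_T_of_triple h hz1 hz2 hI hJ hJI hx1 hx3 hxI hxJ hkI hJk
  -- second triple `(I⁻¹, J, J x J⁻¹)`
  have hI' : I⁻¹ ^ 2 = z := by rw [inv_pow, hI, hzinv]
  have hJI' : J * I⁻¹ * J⁻¹ = I⁻¹⁻¹ := by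
    calc J * I⁻¹ * J⁻¹ = (J * I * J⁻¹)⁻¹ := by group
      _ = I⁻¹⁻¹ := by rw [hJI]
  have hx'1 : J * x * J⁻¹ ≠ 1 := by
    intro h1
    apply hx1
    calc x = J⁻¹ * (J * x * J⁻¹) * J := by group
      _ = 1 := by rw [h1]; group
  have hx'3 : (J * x * J⁻¹) ^ 3 = 1 := by rw [conj_pow, hx3]; group
  have hx'I : (J * x * J⁻¹) * I⁻¹ * (J * x * J⁻¹)⁻¹ = J := by
    have e : J⁻¹ * I⁻¹ * J = I := by
      have : I⁻¹ = J * I * J⁻¹ := hJI.symm
      rw [this]; group
    calc (J * x * J⁻¹) * I⁻¹ * (J * x * J⁻¹)⁻¹ = J * (x * (J⁻¹ * I⁻¹ * J) * x⁻¹) * J⁻¹ := by group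
      _ = J * (x * I * x⁻¹) * J⁻¹ := by rw [e]
      _ = J := by rw [hxI]; group
  have hx'J : (J * x * J⁻¹) * J * (J * x * J⁻¹)⁻¹ = I⁻¹ * J := by
    calc (J * x * J⁻¹) * J * (J * x * J⁻¹)⁻¹ = J * (x * J * x⁻¹) * J⁻¹ := by group
      _ = J * (I * J) * J⁻¹ := by rw [hxJ]
      _ = (J * I * J⁻¹) * J := by group
      _ = I⁻¹ * J := by rw [hJI]
  have hkI' : k * I⁻¹ = I⁻¹ * k := by
    calc k * I⁻¹ = I⁻¹ * (I * k) * I⁻¹ := by group
      _ = I⁻¹ * (k * I) * I⁻¹ := by rw [hkI]
      _ = I⁻¹ * k := by group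
  obtain ⟨-, hT2⟩ := two_T_of_triple h hz1 hz2 hI' hJ hJI' hx'1 hx'3 hx'I hx'J hkI' hJk
  rw [h.map_inv_of_sq hz1 hz2 hI] at hT2
  -- the alternatives
  have hA1 := h.tAlt_of_pair hx1 hx3 hz1 hz2 hy2 (hpair x (J * k) hx1 hx3 hy2)
  have hA2 := h.tAlt_of_pair hx'1 hx'3 hz1 hz2 hy2 (hpair (J * x * J⁻¹) (J * k) hx'1 hx'3 hy2)
  set T1 := ρ (x * (J * k)) + ρ (x * (J * k))⁻¹ with hT1def
  set T2 := ρ (J * x * J⁻¹ * (J * k)) + ρ (J * x * J⁻¹ * (J * k))⁻¹ with hT2def
  -- ring elements
  set i := ρ I with hi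
  set κ := ρ k with hκ
  set κ' := ρ k⁻¹ with hκ'
  have hii : i * i = -1 := by rw [hi, ← map_mul, ← pow_two, hI, hρz]
  have hκκ' : κ * κ' = 1 := by rw [hκ, hκ', ← map_mul, mul_inv_cancel, map_one]
  have hκ'κ : κ' * κ = 1 := by rw [hκ, hκ', ← map_mul, inv_mul_cancel, map_one]
  have hiκ : i * κ = κ * i := by rw [hi, hκ, ← map_mul, ← map_mul, hkI]
  have hiκ' : i * κ' = κ' * i := by
    have e : I * k⁻¹ = k⁻¹ * I := by
      calc I * k⁻¹ = k⁻¹ * (k * I) * k⁻¹ := by group
        _ = k⁻¹ * (I * k) * k⁻¹ := by rw [hkI]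
        _ = k⁻¹ * I := by group
    rw [hi, hκ', ← map_mul, ← map_mul, e]
  obtain ⟨u2, hu2⟩ := h.isUnit_two hz1 hz2
  set w : A := ↑u2⁻¹ with hw
  have h2w : 2 * w = 1 := by rw [← hu2, hw, Units.mul_inv]
  have hw2 : w * 2 = 1 := by rw [← hu2, hw, Units.inv_mul]
  have hwc : ∀ a : A, w * a = a * w := by
    intro a
    have hc : Commute (↑u2 : A) a := by rw [hu2]; exact Commute.ofNat_left 2 a
    exact hc.units_inv_left
  -- the commutative subring
  let S : Set A := {i, κ, κ', w}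
  have hcomm : ∀ a ∈ S, ∀ b ∈ S, a * b = b * a := by
    rintro a (rfl | rfl | rfl | rfl) b (rfl | rfl | rfl | rfl)
    all_goals first
      | rfl
      | exact hiκ
      | exact hiκ.symm
      | exact hiκ'
      | exact hiκ'.symm
      | exact (hwc _).symm
      | exact hwc _
      | (rw [hκκ', hκ'κ])
      | (rw [hκ'κ, hκκ'])
  letI : CommRing (Subring.closure S) := Subring.closureCommRingOfComm hcomm
  let ib : Subring.closure S := ⟨i, Subring.subset_closure (by simp [S])⟩
  let kb : Subring.closure S := ⟨κ, Subring.subset_closure (by simp [S])⟩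
  let kb' : Subring.closure S := ⟨κ', Subring.subset_closure (by simp [S])⟩
  let wb : Subring.closure S := ⟨w, Subring.subset_closure (by simp [S])⟩
  have hib : ib * ib = -1 := Subtype.ext (by simpa [ib] using hii)
  have hkk : kb * kb' = 1 := Subtype.ext (by simpa [kb, kb'] using hκκ')
  have hwb : 2 * wb = 1 := Subtype.ext (by push_cast; exact h2w)
  have h2R : IsUnit (2 : Subring.closure S) := IsUnit.of_mul_eq_one wb hwb
  have cancel2 : ∀ r : Subring.closure S, 2 * r = 0 → r = 0 :=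
    fun r hr => h2R.mul_right_eq_zero.mp hr
  let f : Subring.closure S →+* A := (Subring.closure S).subtype
  have hf : Function.Injective f := Subtype.val_injective
  have hfi : f ib = i := rfl
  have hfk : f kb = κ := rfl
  have hfk' : f kb' = κ' := rfl
  have hfw : f wb = w := rfl
  set a : Subring.closure S := wb * (kb + kb') with ha
  set b : Subring.closure S := wb * ib * (kb' - kb) with hb
  have F1 : 2 * a = kb + kb' := by rw [ha]; linear_combination (kb + kb') * hwb
  have F2 : 2 * b = ib * (kb' - kb) := by rw [hb]; linear_combination (ib * (kb' - kb)) * hwb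
  have hab : a * a + b * b = 1 := by
    have h4 : 2 * (2 * (a * a + b * b - 1)) = 0 := by
      linear_combination (2 * a + kb + kb') * F1 + (2 * b + ib * (kb' - kb)) * F2 +
        ((kb' - kb) ^ 2) * hib + 4 * hkk
    exact sub_eq_zero.mp (cancel2 _ (cancel2 _ h4))
  -- `T1 = f (a - b)`, `T2 = f (a + b)`
  have hfT1 : f (a - b) = T1 := by
    have e1 : f (a - b) = w * (κ + κ' + i * κ - i * κ') := by
      rw [ha, hb, map_sub, map_mul, map_mul, map_mul, map_add, map_sub, hfi, hfk, hfk', hfw]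
      simp only [mul_add, mul_sub, mul_assoc]
      rw [hiκ, hiκ']
      abel
    rw [e1, ← hT1]
    calc w * (T1 + T1) = (w * 2) * T1 := by rw [mul_assoc, two_mul]
      _ = T1 := by rw [hw2, one_mul]
  have hfT2 : f (a + b) = T2 := by
    have e1 : f (a + b) = w * (κ + κ' + -i * κ - -i * κ') := by
      rw [ha, hb, map_add, map_mul, map_mul, map_mul, map_add, map_sub, hfi, hfk, hfk', hfw]
      simp only [mul_add, mul_sub, mul_assoc, neg_mul, mul_neg]
      rw [hiκ, hiκ']
      abel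
    rw [e1, ← hT2]
    calc w * (T2 + T2) = (w * 2) * T2 := by rw [mul_assoc, two_mul]
      _ = T2 := by rw [hw2, one_mul]
  have hS1 : SAlt ((a - b) * (a - b)) := sAlt_of_tAlt f hf _ (by rw [hfT1]; exact hA1)
  have hS2 : SAlt ((a + b) * (a + b)) := sAlt_of_tAlt f hf _ (by rw [hfT2]; exact hA2)
  have hn := comm_alt a b hab h2R hS1 hS2
  have h2n : 2 * (2 * a * b) = ib * (kb' ^ 2 - kb ^ 2) := by
    linear_combination (2 * b) * F1 + (kb + kb') * F2
  have hρinj := h.injective
  -- conclusion from `(κ² - ε i)² = 0`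
  have final : ∀ (g : G) (N : A), N * N = 0 → (∃ c : A, IsUnit c ∧ N = (ρ g - 1) * c) → g = 1 := by
    intro g N hN ⟨c, hc, hNc⟩
    by_contra hg
    have hu : IsUnit N := by rw [hNc]; exact (h g hg).mul hc
    have := hu.mul hu
    rw [hN] at this
    exact not_isUnit_zero this
  have hiu : IsUnit i :=
    ⟨⟨i, -i, by rw [mul_neg, hii, neg_neg], by rw [neg_mul, hii, neg_neg]⟩, rfl⟩
  have hIinv : ρ I⁻¹ = -i := h.map_inv_of_sq hz1 hz2 hI
  have hI4 : I ^ 4 = 1 := by
    have : I ^ 4 = (I ^ 2) ^ 2 := by rw [← pow_mul]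
    rw [this, hI, hz2]
  rcases hn with hn | hn | hn
  · -- `2ab = -1`: `(κ² + i)² = 0`, so `k² = I⁻¹`
    have e : (kb ^ 2 + ib) * (kb ^ 2 + ib) = 0 := by
      have e0 : kb ^ 2 - kb' ^ 2 = -(2 * ib) := by
        have : ib * (2 * (2 * a * b)) = ib * (ib * (kb' ^ 2 - kb ^ 2)) := by rw [h2n]
        rw [hn] at this
        linear_combination -this + (kb ^ 2 - kb' ^ 2) * hib
      linear_combination (kb ^ 2) * e0 + (kb * kb' + 1) * hkk + hib
    have e' : (κ ^ 2 + i) * (κ ^ 2 + i) = 0 := by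
      have := congrArg f e
      simpa [f, ib, kb] using this
    have hg : k ^ 2 * I = 1 := by
      apply final (k ^ 2 * I) (κ ^ 2 + i) e'
      refine ⟨-i, hiu.neg, ?_⟩
      rw [map_mul, map_pow, sub_mul, one_mul, mul_neg, mul_assoc, hii]
      noncomm_ring
    have hk2 : k ^ 2 = I⁻¹ := eq_inv_of_mul_eq_one_left hg
    calc k ^ 8 = (k ^ 2) ^ 4 := by rw [← pow_mul]
      _ = 1 := by rw [hk2, inv_pow, hI4, inv_one]
  · -- `2ab = 0`: `κ⁴ = 1`
    have e0 : kb ^ 2 = kb' ^ 2 := by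
      have : ib * (2 * (2 * a * b)) = ib * (ib * (kb' ^ 2 - kb ^ 2)) := by rw [h2n]
      rw [hn] at this
      linear_combination -this + (kb ^ 2 - kb' ^ 2) * hib
    have e : kb ^ 4 = 1 := by
      linear_combination (kb ^ 2) * e0 + (kb * kb' + 1) * hkk
    have e' : κ ^ 4 = 1 := by
      have := congrArg f e
      simpa [f, kb] using this
    have hk4 : k ^ 4 = 1 := by
      apply hρinj
      rw [map_pow, map_one]; exact e'
    calc k ^ 8 = (k ^ 4) ^ 2 := by rw [← pow_mul]
      _ = 1 := by rw [hk4, one_pow]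
  · -- `2ab = 1`: `(κ² - i)² = 0`, so `k² = I`
    have e : (kb ^ 2 - ib) * (kb ^ 2 - ib) = 0 := by
      have e0 : kb ^ 2 - kb' ^ 2 = 2 * ib := by
        have : ib * (2 * (2 * a * b)) = ib * (ib * (kb' ^ 2 - kb ^ 2)) := by rw [h2n]
        rw [hn] at this
        linear_combination -this + (kb ^ 2 - kb' ^ 2) * hib
      linear_combination (kb ^ 2) * e0 + (kb * kb' + 1) * hkk + hib
    have e' : (κ ^ 2 - i) * (κ ^ 2 - i) = 0 := by
      have := congrArg f e
      simpa [f, ib, kb] using this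
    have hg : k ^ 2 * I⁻¹ = 1 := by
      apply final (k ^ 2 * I⁻¹) (κ ^ 2 - i) e'
      refine ⟨i, hiu, ?_⟩
      rw [map_mul, map_pow, hIinv, sub_mul, one_mul, mul_neg, neg_mul, mul_assoc, hii]
      noncomm_ring
    have hk2 : k ^ 2 = I := by
      have := eq_inv_of_mul_eq_one_left hg
      rwa [inv_inv] at this
    calc k ^ 8 = (k ^ 2) ^ 4 := by rw [← pow_mul]
      _ = 1 := by rw [hk2, hI4]

end LemmaB

end Cfsg.Agent.Helper24.Zas
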