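import Mathlib
import Cfsg.Agent.Helper24.ZasPairD
import Cfsg.Agent.Helper24.ZasQuatC
import Cfsg.Agent.Helper24.ZasGrpH

/-!
# Zassenhaus project: from a fixed-point-free linear representation to `SL(2,5)`
-/

set_option autoImplicit false
set_option linter.style.haveILetI false
set_option linter.deprecated false

open Subgroup

namespace Cfsg.Agent.Helper24.Zas

/-- A Frobenius group of order `21` has no fixed-point-free representation unless `7 = 0`. -/
theorem frob7_ring {G A : Type*} [Group G] [Ring A] {ρ : G →* A} (h : Fpf ρ)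
    {x w : G} (hw7 : w ^ 7 = 1) (hx3 : x ^ 3 = 1) (hmem : x * w * x⁻¹ ∈ zpowers w)
    (hne : x * w ≠ w * x) : (7 : A) = 0 := by
  have hx1 : x ≠ 1 := by
    rintro rfl
    exact hne (by simp)
  obtain ⟨c, hc⟩ : ∃ c, c = x * w * x⁻¹ := ⟨_, rfl⟩
  have hcw : Commute w c := by
    obtain ⟨k, hk⟩ := mem_zpowers_iff.mp hmem
    rw [hc, ← hk]
    exact (Commute.refl w).zpow_right k
  obtain ⟨u, hu⟩ : ∃ u, u = w * c⁻¹ := ⟨_, rfl⟩
  have hu1 : u ≠ 1 := by
    intro h1
    apply hne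
    rw [hu, mul_inv_eq_one, hc] at h1
    calc x * w = (x * w * x⁻¹) * x := by group
      _ = w * x := by rw [← h1]
  have hcinv : ∀ i : ℕ, (c⁻¹) ^ i = x * (w ^ i)⁻¹ * x⁻¹ := by
    intro i
    rw [inv_pow, hc, conj_pow]
    group
  have hu7 : u ^ 7 = 1 := by
    rw [hu, hcw.inv_right.mul_pow, hw7, one_mul, hcinv, hw7]
    group
  have hconj : ∀ i : ℕ, u ^ i * x = w ^ i * x * (w ^ i)⁻¹ := by
    intro i
    rw [hu, hcw.inv_right.mul_pow, hcinv]
    group
  have hg3 : ∀ i : ℕ, (u ^ i * x) ^ 3 = 1 := by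
    intro i
    rw [hconj, conj_pow, hx3]
    group
  have hg1 : ∀ i : ℕ, u ^ i * x ≠ 1 := by
    intro i h1
    rw [hconj] at h1
    apply hx1
    have : x = (w ^ i)⁻¹ * (w ^ i * x * (w ^ i)⁻¹) * w ^ i := by group
    rw [this, h1]
    group
  have hui1 : u⁻¹ ≠ 1 := inv_ne_one.mpr hu1
  have hui7 : u⁻¹ ^ 7 = 1 := by rw [inv_pow, hu7, inv_one]
  have key : ∀ i : ℕ, ρ x⁻¹ * ρ u⁻¹ ^ i + ρ u ^ i * ρ x + 1 = 0 := by
    intro i
    have hcube := h.cube (hg1 i) (hg3 i)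
    have hsq : ρ (u ^ i * x) * ρ (u ^ i * x) = ρ x⁻¹ * ρ u⁻¹ ^ i := by
      rw [← map_mul, ← map_pow, ← map_mul]
      congr 1
      have h3 := hg3 i
      have h4 : (u ^ i * x) * (u ^ i * x) = (u ^ i * x)⁻¹ := by
        apply eq_inv_of_mul_eq_one_left
        rw [← h3, pow_succ, pow_two]
      rw [h4, mul_inv_rev, inv_pow]
    rw [hsq, map_mul, map_pow] at hcube
    exact hcube
  have hsum : ∑ i ∈ Finset.range 7, (ρ x⁻¹ * ρ u⁻¹ ^ i + ρ u ^ i * ρ x + 1) = 0 :=
    Finset.sum_eq_zero (fun i _ => key i)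
  rw [Finset.sum_add_distrib, Finset.sum_add_distrib, ← Finset.mul_sum, ← Finset.sum_mul,
    h.geom_sum_eq_zero hui1 hui7, h.geom_sum_eq_zero hu1 hu7] at hsum
  simpa using hsum

section Linear

variable (p : ℕ) [hp : Fact p.Prime] {V : Type*} [AddCommGroup V] [Module (ZMod p) V]
  [Finite V] [Nontrivial V] {G : Type*} [Group G] [Finite G]

/-- The abstract context holds for a fixed-point-free representation on a finite
`ZMod p`-module. -/
theorem zctx_of_fpf (ρ : G →* Module.End (ZMod p) V) (h : Fpf ρ) {z : G} (hz1 : z ≠ 1)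
    (hz2 : z ^ 2 = 1) : ZCtx G z := by
  haveI : Finite (Module.End (ZMod p) V) := DFunLike.finite _
  haveI : Nontrivial (Module.End (ZMod p) V) := inferInstance
  haveI : CharP (Module.End (ZMod p) V) p :=
    charP_of_injective_algebraMap (algebraMap (ZMod p) (Module.End (ZMod p) V)).injective p
  have hpair : ∀ x y : G, x ≠ 1 → x ^ 3 = 1 → y ^ 2 = z →
      x * y = y * x ∨ y * x * y⁻¹ = x⁻¹ ∨
      (HasTriple z ∧ ∃ n : ℕ, 3 ≤ n ∧ n ≤ 5 ∧ ((x * y) ^ n = 1 ∨ (x * y) ^ n = z)) :=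
    fun x y hx1 hx3 hy => pair_cases_zmod p ρ h hx1 hx3 hz1 hz2 hy
  refine ⟨hz1, hz2, ?_, ?_, hpair, ?_, ?_⟩
  · intro g hg
    by_cases hg1 : g = 1
    · exact Or.inl hg1
    · exact Or.inr (h.involution_unique hg1 hg hz1 hz2)
  · intro B hB
    exact h.isCyclic_of_comm B hB
  · intro I J x k hI hJ hJI hx3 hxI hxJ hkI hJk
    refine pow_eight_eq_one h hz1 hz2 hI hJ hJI hx3 hxI hxJ hkI hJk ?_
    intro x' y' hx'1 hx'3 hy'
    rcases hpair x' y' hx'1 hx'3 hy' with h1 | h1 | ⟨-, n, hn3, hn5, hn⟩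
    · exact Or.inl h1
    · refine Or.inr ⟨2, le_refl _, by norm_num, Or.inr ?_⟩
      have : (x' * y') ^ 2 = x' * (y' * x' * y'⁻¹) * y' ^ 2 := by
        rw [pow_two, pow_two]; group
      rw [this, h1, hy']
      group
    · exact Or.inr ⟨n, by omega, hn5, hn⟩
  · intro x w hw7 hx3 hmem
    by_contra hne
    have h7 : (7 : Module.End (ZMod p) V) = 0 := frob7_ring h hw7 hx3 hmem hne
    have h7' : ((7 : ℕ) : Module.End (ZMod p) V) = 0 := by exact_mod_cast h7
    have hp7 : p ∣ 7 := (CharP.cast_eq_zero_iff (Module.End (ZMod p) V) p 7).mp h7'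
    have hp7' : p = 7 := (Nat.prime_dvd_prime_iff_eq hp.out (by norm_num)).mp hp7
    have hw1 : w ≠ 1 := by
      rintro rfl
      exact hne (by simp)
    haveI : Fact (Nat.Prime 7) := ⟨by norm_num⟩
    have hord : orderOf w = 7 := orderOf_eq_prime hw7 hw1
    apply h.not_dvd_card p
    rw [hp7', ← hord]
    exact orderOf_dvd_natCard w

/-- **Zassenhaus' theorem, linear form.** -/
theorem main_linear (ρ : G →* Module.End (ZMod p) V) (h : Fpf ρ) {z : G} (hz1 : z ≠ 1)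
    (hz2 : z ^ 2 = 1) (hperf : commutator G = ⊤) :
    Nonempty (G ≃* Matrix.SpecialLinearGroup (Fin 2) (ZMod 5)) :=
  (zctx_of_fpf p ρ h hz1 hz2).main hperf

end Linear

end Cfsg.Agent.Helper24.Zas
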