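import Mathlib
import Cfsg.Agent.Helper24.ZasGrpA

/-!
# Zassenhaus project: the odd-order case

A perfect group of odd order all of whose abelian `r`-subgroups are cyclic is trivial.
-/

set_option autoImplicit false
set_option linter.style.haveILetI false
set_option linter.deprecated false

open Subgroup

namespace Cfsg.Agent.Helper24.Zas

/-- Abelian `r`-subgroups are cyclic. -/
def AbelR (G : Type*) [Group G] : Prop :=
  ∀ r : ℕ, r.Prime → ∀ B : Subgroup G, IsPGroup r B → (∀ a ∈ B, ∀ b ∈ B, a * b = b * a) →
    IsCyclic B

variable {G : Type*} [Group G]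

theorem AbelR.mem_zpowers_of_comm [Finite G] (C : AbelR G) {r : ℕ} (hr : r.Prime) {c h : G}
    (hc1 : c ≠ 1) (hcr : c ^ r = 1) (hhr : h ^ r = 1) (hch : c * h = h * c) :
    h ∈ zpowers c := by
  have hcomm : ∀ a ∈ ({c, h} : Set G), ∀ b ∈ ({c, h} : Set G), a * b = b * a := by
    intro a ha b hb
    simp only [Set.mem_insert_iff, Set.mem_singleton_iff] at ha hb
    rcases ha with rfl | rfl <;> rcases hb with rfl | rfl
    · rfl
    · exact hch
    · exact hch.symm
    · rfl
  let B : Subgroup G := closure {c, h}
  have hB : ∀ a ∈ B, ∀ b ∈ B, a * b = b * a := by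
    intro a ha b hb
    have := (Subgroup.closureCommGroupOfComm hcomm).mul_comm ⟨a, ha⟩ ⟨b, hb⟩
    exact congrArg Subtype.val this
  have hBr : ∀ x ∈ B, x ^ r = 1 := by
    intro x hx
    induction hx using Subgroup.closure_induction with
    | mem y hy =>
      simp only [Set.mem_insert_iff, Set.mem_singleton_iff] at hy
      rcases hy with rfl | rfl
      · exact hcr
      · exact hhr
    | one => exact one_pow r
    | mul x y hx hy ihx ihy =>
      rw [(show Commute x y from hB x hx y hy).mul_pow, ihx, ihy, one_mul]
    | inv x hx ih => rw [inv_pow, ih, inv_one]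
  have hBp : IsPGroup r B := by
    intro g
    refine ⟨1, ?_⟩
    rw [pow_one]
    exact Subtype.ext (by simpa using hBr g g.2)
  haveI : IsCyclic B := C r hr B hBp hB
  have hcB : c ∈ B := subset_closure (by simp)
  have hhB : h ∈ B := subset_closure (by simp)
  have key := mem_zpowers_of_cyclic (H := B) hr (x := ⟨c, hcB⟩) (y := ⟨h, hhB⟩)
    (fun e => hc1 (congrArg Subtype.val e)) (Subtype.ext (by simpa using hcr))
    (Subtype.ext (by simpa using hhr))
  obtain ⟨k, hk⟩ := Subgroup.mem_zpowers_iff.mp key
  rw [Subgroup.mem_zpowers_iff]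
  refine ⟨k, ?_⟩
  have := congrArg Subtype.val hk
  simpa using this

/-- `r`-subgroups are cyclic for odd `r`. -/
theorem AbelR.pgroup_cyclic [Finite G] (C : AbelR G) (r : ℕ) [hr : Fact r.Prime] (hr2 : r ≠ 2)
    (T : Subgroup G) (hT : IsPGroup r T) : IsCyclic T := by
  have key : IsCyclic T ∨ (r = 2 ∧ ∃ n : ℕ, Nonempty (T ≃* QuaternionGroup (2 ^ n))) := by
    apply Cfsg.Agent.S0016.result r hT
    have main : ∀ H : Subgroup T, Nat.card H = r →
        ∃ c : T, c ≠ 1 ∧ c ^ r = 1 ∧ (∀ t : T, c * t = t * c) := by
      intro H hH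
      haveI : Nontrivial T := by
        have h1 : 1 < Nat.card H := by rw [hH]; exact hr.out.one_lt
        haveI : Nontrivial H := Finite.one_lt_card_iff_nontrivial.mp h1
        obtain ⟨a, ha⟩ := exists_ne (1 : H)
        exact ⟨⟨(a : T), 1, fun e => ha (Subtype.ext e)⟩⟩
      have hcen := hT.center_nontrivial
      have hcenP : IsPGroup r (Subgroup.center T) := hT.to_subgroup _
      obtain ⟨k, hk⟩ := IsPGroup.iff_card.mp hcenP
      have hk0 : k ≠ 0 := by
        rintro rfl
        have h1 : Nat.card (Subgroup.center T) = 1 := by simpa using hk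
        have h2 := Finite.one_lt_card (α := Subgroup.center T)
        omega
      obtain ⟨w, hw⟩ := exists_prime_orderOf_dvd_card' r
        (show r ∣ Nat.card (Subgroup.center T) by rw [hk]; exact dvd_pow_self r hk0)
      refine ⟨(w : T), ?_, ?_, ?_⟩
      · intro h
        have : w = 1 := Subtype.ext h
        rw [this, orderOf_one] at hw
        exact hr.out.one_lt.ne hw
      · have := pow_orderOf_eq_one w
        rw [hw] at this
        have := congrArg Subtype.val this
        simpa using this
      · intro t
        exact (Subgroup.mem_center_iff.mp w.2 t).symm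
    have sub : ∀ H : Subgroup T, Nat.card H = r → ∀ c : T, c ≠ 1 → c ^ r = 1 →
        (∀ t : T, c * t = t * c) → H = zpowers c := by
      intro H hH c hc1 hcr hcc
      apply Subgroup.eq_of_le_of_card_ge
      · intro t ht
        have htr : t ^ r = 1 := by
          have := pow_card_eq_one' (G := H) (x := ⟨t, ht⟩)
          rw [hH] at this
          have := congrArg Subtype.val this
          simpa using this
        have key := C.mem_zpowers_of_comm hr.out (c := (c : G)) (h := (t : G))
          (fun e => hc1 (Subtype.ext e))
          (by have := congrArg Subtype.val hcr; simpa using this)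
          (by have := congrArg Subtype.val htr; simpa using this)
          (by have := congrArg Subtype.val (hcc t); simpa using this)
        obtain ⟨k, hk⟩ := Subgroup.mem_zpowers_iff.mp key
        rw [Subgroup.mem_zpowers_iff]
        exact ⟨k, Subtype.ext (by simpa using hk)⟩
      · rw [hH, Nat.card_zpowers, orderOf_eq_prime hcr hc1]
    intro H K hH hK
    obtain ⟨c, hc1, hcr, hcc⟩ := main H hH
    rw [sub H hH c hc1 hcr hcc, sub K hK c hc1 hcr hcc]
  rcases key with h | ⟨h, -⟩
  · exact h
  · exact absurd h hr2

/-- A perfect group of odd order with all abelian `r`-subgroups cyclic is trivial. -/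
theorem AbelR.subsingleton_of_odd [Finite G] (C : AbelR G) (hodd : Odd (Nat.card G))
    (hperf : commutator G = ⊤) : Subsingleton G := by
  haveI : IsZGroup G := by
    refine ⟨fun r hr P => ?_⟩
    haveI : Fact r.Prime := ⟨hr⟩
    by_cases hr2 : r = 2
    · subst hr2
      obtain ⟨k, hk⟩ := IsPGroup.iff_card.mp P.isPGroup'
      have hdvd : Nat.card P ∣ Nat.card G := Subgroup.card_subgroup_dvd_card _
      have hk0 : k = 0 := by
        by_contra hk0
        have h2 : 2 ∣ Nat.card P := by rw [hk]; exact dvd_pow_self 2 hk0
        have := h2.trans hdvd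
        rcases hodd with ⟨m, hm⟩
        omega
      rw [hk0, pow_zero] at hk
      haveI : Subsingleton P := (Nat.card_eq_one_iff_unique.mp hk).1
      exact isCyclic_of_subsingleton
    · exact C.pgroup_cyclic r hr2 P P.isPGroup'
  by_contra hnt
  rw [not_subsingleton_iff_nontrivial] at hnt
  have := IsSolvable.commutator_lt_top_of_nontrivial G
  rw [hperf] at this
  exact lt_irrefl _ this

end Cfsg.Agent.Helper24.Zas
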