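import Mathlib
import Cfsg.Agent.Helper24.ZasMain
import Cfsg.Agent.Helper24.ZasOdd

/-!
# Zassenhaus project: linearization of a fixed-point-free automorphism group
-/

set_option autoImplicit false
set_option linter.style.haveILetI false
set_option linter.deprecated false

open Subgroup
open scoped Pointwise

namespace Cfsg.Agent.Helper24.Zas

universe u

variable {K : Type u} [Group K] [Finite K]

/-- **Linearization**: a group of automorphisms acting fixed-point-freely on an invariant
nontrivial abelian subgroup has a fixed-point-free representation on a finite `ZMod q`-module. -/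
theorem exists_fpf_rep (H : Subgroup (MulAut K)) (M : Subgroup K) (hM1 : M ≠ ⊥)
    (hMc : ∀ a ∈ M, ∀ b ∈ M, a * b = b * a) (hinv : ∀ h ∈ H, ∀ m ∈ M, h m ∈ M)
    (hfpf : ∀ h ∈ H, h ≠ 1 → ∀ m ∈ M, h m = m → m = 1) :
    ∃ (q : ℕ) (_ : Fact q.Prime) (V : Type u) (_ : AddCommGroup V) (_ : Module (ZMod q) V)
      (_ : Finite V) (_ : Nontrivial V) (ρ : H →* Module.End (ZMod q) V), Fpf ρ := by
  classical
  haveI hMnt : Nontrivial M := (Subgroup.nontrivial_iff_ne_bot M).mpr hM1
  have hcard : Nat.card M ≠ 1 := (Finite.one_lt_card (α := M)).ne'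
  obtain ⟨q, hq, hqd⟩ := Nat.exists_prime_and_dvd hcard
  haveI : Fact q.Prime := ⟨hq⟩
  obtain ⟨Mq, hMq⟩ : ∃ Mq : Subgroup K, ∀ k : K, k ∈ Mq ↔ k ∈ M ∧ k ^ q = 1 :=
    ⟨{ carrier := {k | k ∈ M ∧ k ^ q = 1}
       mul_mem' := fun {a b} ha hb => ⟨M.mul_mem ha.1 hb.1, by
         rw [(show Commute a b from hMc a ha.1 b hb.1).mul_pow, ha.2, hb.2, one_mul]⟩
       one_mem' := ⟨M.one_mem, one_pow q⟩
       inv_mem' := fun {a} ha => ⟨M.inv_mem ha.1, by rw [inv_pow, ha.2, inv_one]⟩ },
      fun k => Iff.rfl⟩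
  have hMqM : ∀ m : Mq, (m : K) ∈ M := fun m => ((hMq m).mp m.2).1
  have hMqq : ∀ m : Mq, (m : K) ^ q = 1 := fun m => ((hMq m).mp m.2).2
  letI iC : CommGroup Mq := { (inferInstance : Group Mq) with
    mul_comm := fun a b => Subtype.ext (hMc a (hMqM a) b (hMqM b)) }
  have hqV : ∀ v : Additive Mq, q • v = 0 := by
    intro v
    apply Additive.toMul.injective
    apply Subtype.ext
    rw [toMul_nsmul]
    simpa using hMqq (Additive.toMul v)
  obtain ⟨iM, -⟩ : ∃ _ : Module (ZMod q) (Additive Mq), True :=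
    ⟨AddCommGroup.zmodModule hqV, trivial⟩
  let act : H → (Mq →* Mq) := fun h =>
    { toFun := fun m => ⟨(h : MulAut K) m, (hMq _).mpr ⟨hinv h h.2 m (hMqM m), by
        rw [← map_pow, hMqq m, map_one]⟩⟩
      map_one' := Subtype.ext (map_one _)
      map_mul' := fun a b => Subtype.ext (map_mul _ _ _) }
  let toF : H → Module.End (ZMod q) (Additive Mq) :=
    fun h => (MonoidHom.toAdditive (act h)).toZModLinearMap q
  have h_one : toF 1 = 1 := by
    apply LinearMap.ext
    intro v
    show Additive.ofMul (act 1 (Additive.toMul v)) = v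
    apply Additive.toMul.injective
    apply Subtype.ext
    show ((1 : H) : MulAut K) ((Additive.toMul v : Mq) : K) = ((Additive.toMul v : Mq) : K)
    rw [Subgroup.coe_one, MulAut.one_apply]
  have h_mul : ∀ a b : H, toF (a * b) = toF a * toF b := by
    intro a b
    apply LinearMap.ext
    intro v
    show Additive.ofMul (act (a * b) (Additive.toMul v)) =
      Additive.ofMul (act a (act b (Additive.toMul v)))
    apply Additive.toMul.injective
    apply Subtype.ext
    show ((a * b : H) : MulAut K) ((Additive.toMul v : Mq) : K) =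
      (a : MulAut K) ((b : MulAut K) ((Additive.toMul v : Mq) : K))
    rw [Subgroup.coe_mul, MulAut.mul_apply]
  let ρ : H →* Module.End (ZMod q) (Additive Mq) :=
    { toFun := toF
      map_one' := h_one
      map_mul' := h_mul }
  have hfpfρ : Fpf ρ := by
    intro h hh1
    have hh1' : (h : MulAut K) ≠ 1 := fun e => hh1 (Subtype.ext e)
    haveI : Module.Finite (ZMod q) (Additive Mq) := Module.Finite.of_finite
    rw [LinearMap.isUnit_iff_ker_eq_bot, LinearMap.ker_eq_bot']
    intro v hv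
    rw [LinearMap.sub_apply, sub_eq_zero] at hv
    have hv' : act h (Additive.toMul v) = Additive.toMul v := congrArg Additive.toMul hv
    have hv'' : (h : MulAut K) ((Additive.toMul v : Mq) : K) = ((Additive.toMul v : Mq) : K) :=
      congrArg Subtype.val hv'
    have := hfpf h h.2 hh1' _ (hMqM (Additive.toMul v)) hv''
    apply Additive.toMul.injective
    exact Subtype.ext this
  have hnt : Nontrivial (Additive Mq) := by
    obtain ⟨m, hm⟩ := exists_prime_orderOf_dvd_card' q hqd
    have hmq : (m : K) ^ q = 1 := by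
      have := pow_orderOf_eq_one m
      rw [hm] at this
      have := congrArg Subtype.val this
      simpa using this
    have hm1 : (m : K) ≠ 1 := by
      intro e
      have : m = 1 := Subtype.ext e
      rw [this, orderOf_one] at hm
      exact hq.one_lt.ne hm
    refine ⟨⟨Additive.ofMul ⟨(m : K), (hMq _).mpr ⟨m.2, hmq⟩⟩, 0, ?_⟩⟩
    intro e
    apply hm1
    have := congrArg Additive.toMul e
    exact congrArg Subtype.val this
  exact ⟨q, ⟨hq⟩, Additive Mq, inferInstance, iM, inferInstance, hnt, ρ, hfpfρ⟩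

/-- An `r`-group of fixed-point-free automorphisms leaves invariant a nontrivial abelian
subgroup. -/
theorem exists_invariant_abelian [Nontrivial K] (B : Subgroup (MulAut K)) (r : ℕ)
    [hr : Fact r.Prime] (hB : IsPGroup r B) (hB1 : B ≠ ⊥)
    (hfpf : ∀ h ∈ B, h ≠ 1 → ∀ k : K, h k = k → k = 1) :
    ∃ M : Subgroup K, M ≠ ⊥ ∧ (∀ a ∈ M, ∀ b ∈ M, a * b = b * a) ∧
      (∀ h ∈ B, ∀ m ∈ M, h m ∈ M) := by
  classical
  -- `r` does not divide `|K|`
  have hfix : MulAction.fixedPoints B K = {1} := by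
    ext k
    rw [MulAction.mem_fixedPoints, Set.mem_singleton_iff]
    constructor
    · intro hk
      have hex : ∃ b : MulAut K, b ∈ B ∧ b ≠ 1 := by
        by_contra hcon
        push Not at hcon
        apply hB1
        rw [eq_bot_iff]
        intro b hb
        rw [mem_bot]
        exact hcon b hb
      obtain ⟨b, hb, hb1⟩ := hex
      exact hfpf b hb hb1 k (hk ⟨b, hb⟩)
    · rintro rfl b
      exact smul_one b
  have hcop : ¬ r ∣ Nat.card K := by
    intro hdvd
    have h1 := hB.card_modEq_card_fixedPoints K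
    rw [hfix] at h1
    have h2 : Nat.card ({1} : Set K) = 1 := by simp
    rw [h2] at h1
    have h3 : 1 ≡ 0 [MOD r] := h1.symm.trans (Nat.modEq_zero_iff_dvd.mpr hdvd)
    have h4 : r ∣ 1 := (Nat.modEq_zero_iff_dvd.mp h3)
    exact hr.out.one_lt.ne' (Nat.dvd_one.mp h4)
  have hcardK : Nat.card K ≠ 1 := (Finite.one_lt_card (α := K)).ne'
  obtain ⟨q, hq, hqd⟩ := Nat.exists_prime_and_dvd hcardK
  haveI : Fact q.Prime := ⟨hq⟩
  have hnd : ¬ r ∣ Nat.card (Sylow q K) := by
    intro hdvd
    obtain Q₀ : Sylow q K := default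
    exact hcop (hdvd.trans ((Sylow.card_dvd_index Q₀).trans (Subgroup.index_dvd_card _)))
  obtain ⟨Q, hQ⟩ := hB.nonempty_fixed_point_of_prime_not_dvd_card (Sylow q K) hnd
  rw [MulAction.mem_fixedPoints] at hQ
  have hQinv : ∀ b ∈ B, ∀ k ∈ (Q : Subgroup K), b k ∈ (Q : Subgroup K) := by
    intro b hb k hk
    have h1 := hQ ⟨b, hb⟩
    have h3 : (⟨b, hb⟩ : B) • k ∈ (((⟨b, hb⟩ : B) • Q : Sylow q K) : Subgroup K) :=
      Subgroup.smul_mem_pointwise_smul k (⟨b, hb⟩ : B) (Q : Subgroup K) hk
    rw [h1] at h3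
    exact h3
  have hQ1 : (Q : Subgroup K) ≠ ⊥ := Q.ne_bot_of_dvd_card hqd
  haveI : Nontrivial (Q : Subgroup K) := (Subgroup.nontrivial_iff_ne_bot _).mpr hQ1
  haveI := Q.isPGroup'.center_nontrivial
  obtain ⟨c, hc⟩ := exists_ne (1 : Subgroup.center (Q : Subgroup K))
  refine ⟨(Q : Subgroup K) ⊓ centralizer ((Q : Subgroup K) : Set K), ?_, ?_, ?_⟩
  · intro hbot
    have hmem : ((c : (Q : Subgroup K)) : K) ∈
        (Q : Subgroup K) ⊓ centralizer ((Q : Subgroup K) : Set K) := by
      refine Subgroup.mem_inf.mpr ⟨(c : (Q : Subgroup K)).2, ?_⟩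
      rw [mem_centralizer_iff]
      intro x hx
      have := Subgroup.mem_center_iff.mp c.2 ⟨x, hx⟩
      exact congrArg Subtype.val this
    rw [hbot, mem_bot] at hmem
    apply hc
    apply Subtype.ext
    apply Subtype.ext
    exact hmem
  · intro a ha b hb
    exact (mem_centralizer_iff.mp hb.2 a ha.1)
  · intro b hb m hm
    refine Subgroup.mem_inf.mpr ⟨hQinv b hb m hm.1, ?_⟩
    rw [mem_centralizer_iff]
    intro x hx
    have hx' : b⁻¹ x ∈ (Q : Subgroup K) := hQinv b⁻¹ (B.inv_mem hb) x hx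
    have h1 := mem_centralizer_iff.mp hm.2 (b⁻¹ x) hx'
    have h2 := congrArg b h1
    rw [map_mul, map_mul, MulAut.apply_inv_self] at h2
    exact h2

/-- A fixed-point-free involutory automorphism forces commutativity. -/
theorem comm_of_fpf_involution (z : MulAut K) (hz2 : ∀ k : K, z (z k) = k)
    (hfpf : ∀ k : K, z k = k → k = 1) (a b : K) : a * b = b * a := by
  have hinj : Function.Injective (fun k : K => k⁻¹ * z k) := by
    intro k l hkl
    have h1 : k⁻¹ * z k = l⁻¹ * z l := hkl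
    have h2 : z (l * k⁻¹) = l * k⁻¹ := by
      rw [map_mul, map_inv]
      have : z l = l * (k⁻¹ * z k) := by rw [h1]; group
      rw [this]; group
    have := hfpf _ h2
    exact (mul_inv_eq_one.mp this).symm
  have hsurj := Finite.injective_iff_surjective.mp hinj
  have hinvert : ∀ y : K, z y = y⁻¹ := by
    intro y
    obtain ⟨k, rfl⟩ := hsurj y
    show z (k⁻¹ * z k) = (k⁻¹ * z k)⁻¹
    rw [map_mul, map_inv, hz2]
    group
  have h1 := hinvert (a * b)
  rw [map_mul, hinvert a, hinvert b] at h1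
  have h2 : (a⁻¹ * b⁻¹)⁻¹ = ((a * b)⁻¹)⁻¹ := by rw [h1]
  rw [inv_inv, mul_inv_rev, inv_inv, inv_inv] at h2
  exact h2.symm

/-- All abelian `r`-subgroups of a group of fixed-point-free automorphisms are cyclic. -/
theorem abelR_of_fpf [Nontrivial K] (G : Subgroup (MulAut K))
    (hfpf : ∀ φ ∈ G, φ ≠ 1 → ∀ k : K, φ k = k → k = 1) : AbelR G := by
  intro r hr B hB hBc
  haveI : Fact r.Prime := ⟨hr⟩
  by_cases hB1 : B = ⊥
  · subst hB1
    exact isCyclic_of_subsingleton
  let B' : Subgroup (MulAut K) := B.map G.subtype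
  let e : B ≃* B' := B.equivMapOfInjective G.subtype G.subtype_injective
  have hB' : IsPGroup r B' := hB.map G.subtype
  have hB'G : B' ≤ G := by
    rintro _ ⟨b, -, rfl⟩
    exact b.2
  have hB'1 : B' ≠ ⊥ := by
    intro h
    apply hB1
    rw [eq_bot_iff]
    intro b hb
    have : G.subtype b ∈ B' := ⟨b, hb, rfl⟩
    rw [h, mem_bot] at this
    rw [mem_bot]
    exact Subtype.ext this
  have hfpf' : ∀ h ∈ B', h ≠ 1 → ∀ k : K, h k = k → k = 1 :=
    fun h hh => hfpf h (hB'G hh)
  obtain ⟨M, hM1, hMc, hMinv⟩ := exists_invariant_abelian B' r hB' hB'1 hfpf'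
  obtain ⟨q, hq, V, iA, iM, iF, iN, ρ, hρ⟩ := exists_fpf_rep B' M hM1 hMc hMinv
    (fun h hh hh1 m _ => hfpf' h hh hh1 m)
  haveI : Finite (Module.End (ZMod q) V) := DFunLike.finite _
  have hB'c : ∀ a ∈ (⊤ : Subgroup B'), ∀ b ∈ (⊤ : Subgroup B'), a * b = b * a := by
    intro a _ b _
    obtain ⟨a₀, ha₀, ha⟩ := a.2
    obtain ⟨b₀, hb₀, hb⟩ := b.2
    apply Subtype.ext
    show (a : MulAut K) * (b : MulAut K) = (b : MulAut K) * (a : MulAut K)
    rw [← ha, ← hb, ← map_mul, ← map_mul, hBc a₀ ha₀ b₀ hb₀]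
  haveI hcyc : IsCyclic (⊤ : Subgroup B') := hρ.isCyclic_of_comm ⊤ hB'c
  haveI : IsCyclic B' :=
    isCyclic_of_surjective (Subgroup.topEquiv : (⊤ : Subgroup B') ≃* B')
      (Subgroup.topEquiv : (⊤ : Subgroup B') ≃* B').surjective
  exact isCyclic_of_surjective e.symm e.symm.surjective

/-- **Zassenhaus' theorem** for groups of fixed-point-free automorphisms. -/
theorem zassenhaus_aut (G : Subgroup (MulAut K))
    (hfpf : ∀ φ ∈ G, φ ≠ 1 → ∀ k : K, φ k = k → k = 1) (hperf : commutator G = ⊤)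
    (hne : G ≠ ⊥) : Nonempty (G ≃* Matrix.SpecialLinearGroup (Fin 2) (ZMod 5)) := by
  classical
  haveI : Nontrivial K := by
    by_contra hnt
    rw [not_nontrivial_iff_subsingleton] at hnt
    apply hne
    rw [eq_bot_iff]
    intro φ _
    rw [mem_bot]
    ext k
    exact Subsingleton.elim _ _
  by_cases h2 : 2 ∣ Nat.card G
  · haveI : Fact (Nat.Prime 2) := ⟨Nat.prime_two⟩
    obtain ⟨z, hz⟩ := exists_prime_orderOf_dvd_card' 2 h2
    have hz1 : z ≠ 1 := by
      intro e
      rw [e, orderOf_one] at hz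
      omega
    have hz2 : z ^ 2 = 1 := by rw [← hz]; exact pow_orderOf_eq_one z
    have hz1' : (z : MulAut K) ≠ 1 := fun e => hz1 (Subtype.ext e)
    have hz2' : ∀ k : K, (z : MulAut K) ((z : MulAut K) k) = k := by
      intro k
      have := congrArg Subtype.val hz2
      have h3 : (z : MulAut K) * (z : MulAut K) = 1 := by
        rw [← pow_two]; simpa using this
      have := congrArg (fun f : MulAut K => f k) h3
      simpa using this
    have hcomm := comm_of_fpf_involution (z : MulAut K) hz2' (hfpf z z.2 hz1')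
    obtain ⟨q, hq, V, iA, iM, iF, iN, ρ, hρ⟩ := exists_fpf_rep G ⊤ (by
        intro h
        obtain ⟨k, hk⟩ := exists_ne (1 : K)
        have : k ∈ (⊤ : Subgroup K) := mem_top k
        rw [h, mem_bot] at this
        exact hk this)
      (fun a _ b _ => hcomm a b) (fun _ _ _ _ => mem_top _)
      (fun h hh hh1 m _ => hfpf h hh hh1 m)
    exact main_linear q ρ hρ hz1 hz2 hperf
  · exfalso
    have hodd : Odd (Nat.card G) := Nat.odd_iff.mpr (by omega)
    haveI := (abelR_of_fpf G hfpf).subsingleton_of_odd hodd hperf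
    apply hne
    rw [eq_bot_iff]
    intro φ hφ
    rw [mem_bot]
    have := Subsingleton.elim (⟨φ, hφ⟩ : G) 1
    exact congrArg Subtype.val this

end Cfsg.Agent.Helper24.Zas
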