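import Mathlib
import Cfsg.Agent.Helper24.ZasGrpH

/-!
# Zassenhaus project: non-solvable Frobenius complements, part A

An abstract context: a group `G` with `ZCtx G z` and a normal perfect subgroup `S` of order `120`
with `ZCtx S z`.  We study the centralizer of `S`.
-/

set_option autoImplicit false
set_option linter.style.haveILetI false
set_option linter.deprecated false

open Subgroup

namespace Cfsg.Agent.Helper24.Zas

variable {G : Type*} [Group G] {z : G}

/-- The abstract non-solvable context. -/
structure NSCtx (z : G) (S : Subgroup G) : Prop where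
  C : ZCtx G z
  hzS : z ∈ S
  CS : ZCtx S ⟨z, hzS⟩
  normal : S.Normal
  perf : commutator S = ⊤
  card : Nat.card S = 120

namespace NSCtx

variable {S : Subgroup G}

/-- Elements of `S` central in `S` lie in `{1, z}`. -/
theorem center_S [Finite G] (D : NSCtx z S) (c : G) (hcS : c ∈ S)
    (hc : ∀ s ∈ S, s * c = c * s) : c = 1 ∨ c = z := by
  obtain ⟨I, J, x, α, S₂, T, -⟩ := D.CS.exists_sylData D.perf
  rcases central_mem D.CS D.perf T ⟨c, hcS⟩ (fun g => Subtype.ext (hc g g.2)) with h | h
  · exact Or.inl (congrArg Subtype.val h)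
  · exact Or.inr (congrArg Subtype.val h)

/-- There is an element of `S` squaring to `z`. -/
theorem exists_four [Finite G] (D : NSCtx z S) : ∃ I ∈ S, I ^ 2 = z := by
  obtain ⟨I, J, x, α, S₂, T, -⟩ := D.CS.exists_sylData D.perf
  exact ⟨(I : G), I.2, congrArg Subtype.val T.hI⟩

/-- No element centralizing `S` squares to `z`. -/
theorem no_four_cent [Finite G] (D : NSCtx z S) (c : G) (hc : ∀ s ∈ S, s * c = c * s) :
    c ^ 2 ≠ z := by
  intro hc2
  obtain ⟨I, hIS, hI2⟩ := D.exists_four
  have hcomm : Commute c I⁻¹ := (show Commute c I from (hc I hIS).symm).inv_right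
  have h1 : (c * I⁻¹) ^ 2 = 1 := by
    rw [hcomm.mul_pow, hc2, inv_pow, hI2, D.C.zinv]
    exact D.C.zz
  have hcS : c ∈ S := by
    rcases D.C.invol _ h1 with h | h
    · have : c = I := by
        calc c = (c * I⁻¹) * I := by group
          _ = I := by rw [h, one_mul]
      rw [this]; exact hIS
    · have : c = z * I := by
        calc c = (c * I⁻¹) * I := by group
          _ = z * I := by rw [h]
      rw [this]; exact S.mul_mem D.hzS hIS
  rcases D.center_S c hcS hc with h | h
  · rw [h, one_pow] at hc2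
    exact D.C.hz1 hc2.symm
  · rw [h, D.C.hz2] at hc2
    exact D.C.hz1 hc2.symm

/-- `2`-elements centralizing `S` lie in `{1, z}`. -/
theorem two_elt_cent [Finite G] (D : NSCtx z S) (c : G) (hc : ∀ s ∈ S, s * c = c * s) (k : ℕ)
    (hk : c ^ 2 ^ k = 1) : c = 1 ∨ c = z := by
  apply D.C.two_elt_cases k c hk
  intro j
  apply D.no_four_cent
  intro s hs
  exact ((show Commute s c from hc s hs).pow_right j).eq

/-- Elements of order `3` or `5` centralizing `S` are trivial. -/
theorem prime_elt_cent [Finite G] (D : NSCtx z S) (c : G) (hc : ∀ s ∈ S, s * c = c * s) (r : ℕ)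
    (hr : r.Prime) (hr120 : r ∣ 120) (hr2 : r ≠ 2) (hcr : c ^ r = 1) : c = 1 := by
  haveI : Fact r.Prime := ⟨hr⟩
  obtain ⟨s, hs⟩ := exists_prime_orderOf_dvd_card' (G := S) r (by rw [D.card]; exact hr120)
  have hs1 : (s : G) ≠ 1 := by
    intro e
    have : s = 1 := Subtype.ext e
    rw [this, orderOf_one] at hs
    exact hr.one_lt.ne hs
  have hsr : (s : G) ^ r = 1 := by
    have := pow_orderOf_eq_one s
    rw [hs] at this
    have := congrArg Subtype.val this
    simpa using this
  have hmem := D.C.mem_zpowers_of_comm hr (c := (s : G)) (h := c) hs1 hsr hcr (hc s s.2)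
  have hcS : c ∈ S := by
    obtain ⟨k, hk⟩ := mem_zpowers_iff.mp hmem
    rw [← hk]
    exact S.zpow_mem s.2 k
  rcases D.center_S c hcS hc with h | h
  · exact h
  · exfalso
    rw [h] at hcr
    have h2 : orderOf z = 2 := orderOf_eq_prime D.C.hz2 D.C.hz1
    have h3 := orderOf_dvd_of_pow_eq_one hcr
    rw [h2] at h3
    exact hr2 ((Nat.prime_dvd_prime_iff_eq Nat.prime_two hr).mp h3).symm

/-- The centralizer of `S` is normal. -/
theorem centralizer_normal (D : NSCtx z S) : (centralizer (S : Set G)).Normal := by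
  haveI := D.normal
  refine ⟨fun c hc g => ?_⟩
  rw [mem_centralizer_iff] at hc ⊢
  intro s hs
  have hs' : g⁻¹ * s * g ∈ S := by
    have := D.normal.conj_mem s hs g⁻¹
    simpa using this
  have h1 := hc _ hs'
  calc s * (g * c * g⁻¹) = g * ((g⁻¹ * s * g) * c) * g⁻¹ := by group
    _ = g * (c * (g⁻¹ * s * g)) * g⁻¹ := by rw [h1]
    _ = g * c * g⁻¹ * s := by group

end NSCtx

end Cfsg.Agent.Helper24.Zas
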