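import Mathlib
import Cfsg.Agent.Helper24.ZasNSA

/-!
# Zassenhaus project: non-solvable Frobenius complements, part B

The odd part `M` of the centralizer of `S`.
-/

set_option autoImplicit false
set_option linter.style.haveILetI false
set_option linter.deprecated false

open Subgroup

namespace Cfsg.Agent.Helper24.Zas

variable {G : Type*} [Group G] {z : G}

namespace NSCtx

variable {S : Subgroup G}

/-- The data of the odd part of the centralizer. -/
structure OddPart (z : G) (S M : Subgroup G) : Prop where
  mem : ∀ g : G, g ∈ M ↔ g ∈ centralizer (S : Set G) ∧ Odd (orderOf g)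
  dec : ∀ d ∈ centralizer (S : Set G), ∃ o ∈ M, d = o ∨ d = o * z

/-- The odd part exists. -/
theorem exists_oddPart [Finite G] (D : NSCtx z S) : ∃ M : Subgroup G, OddPart z S M := by
  set Cn : Subgroup G := centralizer (S : Set G) with hCn
  have hzC : z ∈ Cn := by
    rw [mem_centralizer_iff]
    intro s _
    exact D.C.central s
  have h2 : 2 ∣ Nat.card Cn := by
    have h := orderOf_dvd_natCard (⟨z, hzC⟩ : Cn)
    rw [Subgroup.orderOf_mk, orderOf_eq_prime D.C.hz2 D.C.hz1] at h
    exact h
  haveI : Fact (Nat.Prime 2) := ⟨Nat.prime_two⟩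
  obtain P : Sylow 2 Cn := default
  have hPelt : ∀ t : Cn, t ∈ P → (t : G) = 1 ∨ (t : G) = z := by
    intro t ht
    obtain ⟨k, hk⟩ := P.isPGroup' ⟨t, ht⟩
    have hk' : (t : G) ^ 2 ^ k = 1 := by
      have := congrArg Subtype.val hk
      have := congrArg Subtype.val this
      simpa using this
    apply D.two_elt_cent (t : G) _ k hk'
    intro s hs
    exact mem_centralizer_iff.mp t.2 s hs
  have hP : IsCyclic P := by
    let f : P →* zpowers z :=
      { toFun := fun t => ⟨((t : Cn) : G), by
          rcases hPelt t t.2 with h | h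
          · rw [h]; exact one_mem _
          · rw [h]; exact mem_zpowers z⟩
        map_one' := rfl
        map_mul' := fun a b => rfl }
    have hf : Function.Injective f := by
      intro a b hab
      have := congrArg Subtype.val hab
      exact Subtype.ext (Subtype.ext this)
    haveI : IsCyclic f.range := Subgroup.isCyclic _
    exact isCyclic_of_surjective (MonoidHom.ofInjective hf).symm
      (MonoidHom.ofInjective hf).symm.surjective
  obtain ⟨M, hMmem, hMdec⟩ := exists_odd_complement Cn h2 P hP
  refine ⟨M, hMmem, ?_⟩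
  intro d hd
  obtain ⟨o, ho, t, ht, hdt⟩ := hMdec ⟨d, hd⟩
  refine ⟨o, ho, ?_⟩
  rcases hPelt t ht with h | h
  · left
    rw [show d = o * (t : G) from hdt, h, mul_one]
  · right
    rw [show d = o * (t : G) from hdt, h]

variable {M : Subgroup G}

theorem OddPart.le (O : OddPart z S M) : M ≤ centralizer (S : Set G) :=
  fun g hg => ((O.mem g).mp hg).1

theorem OddPart.comm (O : OddPart z S M) : ∀ s ∈ S, ∀ m ∈ M, s * m = m * s :=
  fun s hs m hm => mem_centralizer_iff.mp (O.le hm) s hs

theorem OddPart.normal (D : NSCtx z S) (O : OddPart z S M) : M.Normal := by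
  haveI := D.centralizer_normal
  refine ⟨fun m hm g => ?_⟩
  rw [O.mem] at hm ⊢
  refine ⟨D.centralizer_normal.conj_mem m hm.1 g, ?_⟩
  have : orderOf (g * m * g⁻¹) = orderOf m := by
    have := orderOf_injective (MulAut.conj g).toMonoidHom (MulAut.conj g).injective m
    simpa [MulAut.conj_apply] using this
  rw [this]
  exact hm.2

theorem OddPart.inf_eq_bot [Finite G] (D : NSCtx z S) (O : OddPart z S M) : S ⊓ M = ⊥ := by
  rw [eq_bot_iff]
  intro g hg
  obtain ⟨hgS, hgM⟩ := Subgroup.mem_inf.mp hg
  rw [mem_bot]
  rcases D.center_S g hgS (fun s hs => O.comm s hs g hgM) with h | h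
  · exact h
  · exfalso
    have hodd := ((O.mem g).mp hgM).2
    rw [h, orderOf_eq_prime D.C.hz2 D.C.hz1] at hodd
    exact (by decide : ¬ Odd 2) hodd

theorem OddPart.coprime [Finite G] (D : NSCtx z S) (O : OddPart z S M) :
    (Nat.card M).Coprime 30 := by
  have key : ∀ r : ℕ, r.Prime → r ∣ 120 → ¬ r ∣ Nat.card M := by
    intro r hr hr120 hdvd
    haveI : Fact r.Prime := ⟨hr⟩
    obtain ⟨m, hm⟩ := exists_prime_orderOf_dvd_card' r hdvd
    have hm1 : (m : G) ≠ 1 := by
      intro e
      have : m = 1 := Subtype.ext e
      rw [this, orderOf_one] at hm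
      exact hr.one_lt.ne hm
    have hmr : (m : G) ^ r = 1 := by
      have := pow_orderOf_eq_one m
      rw [hm] at this
      have := congrArg Subtype.val this
      simpa using this
    have hord : orderOf (m : G) = r := orderOf_eq_prime hmr hm1
    have hodd := ((O.mem (m : G)).mp m.2).2
    by_cases hr2 : r = 2
    · rw [hord, hr2] at hodd
      exact (by decide : ¬ Odd 2) hodd
    · exact hm1 (D.prime_elt_cent (m : G) (fun s hs => O.comm s hs m m.2) r hr hr120 hr2 hmr)
  have h2 := (Nat.Prime.coprime_iff_not_dvd Nat.prime_two).mpr (key 2 Nat.prime_two (by norm_num))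
  have h3 := (Nat.Prime.coprime_iff_not_dvd Nat.prime_three).mpr
    (key 3 Nat.prime_three (by norm_num))
  have h5 := (Nat.Prime.coprime_iff_not_dvd Nat.prime_five).mpr
    (key 5 Nat.prime_five (by norm_num))
  have : (30 : ℕ) = 2 * (3 * 5) := by norm_num
  rw [this]
  exact (Nat.Coprime.mul_right h2.symm (Nat.Coprime.mul_right h3.symm h5.symm))

theorem OddPart.sylow_cyclic [Finite G] (D : NSCtx z S) (O : OddPart z S M) (p : ℕ)
    [hp : Fact p.Prime] (P : Sylow p M) : IsCyclic P := by
  by_cases hp2 : p = 2
  · subst hp2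
    haveI : Subsingleton P := by
      refine ⟨fun a b => ?_⟩
      have key : ∀ t : P, t = 1 := by
        intro t
        obtain ⟨k, hk⟩ := P.isPGroup' t
        have hk' : ((t : M) : G) ^ 2 ^ k = 1 := by
          have := congrArg Subtype.val hk
          have := congrArg Subtype.val this
          simpa using this
        have hodd := ((O.mem ((t : M) : G)).mp (t : M).2).2
        have hdvd := orderOf_dvd_of_pow_eq_one hk'
        have h1 : orderOf ((t : M) : G) = 1 := by
          obtain ⟨j, -, hj⟩ := (Nat.dvd_prime_pow Nat.prime_two).mp hdvd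
          rcases j with _ | j
          · simpa using hj
          · exfalso
            rw [hj] at hodd
            have : Even (2 ^ (j + 1)) := ⟨2 ^ j, by ring⟩
            exact (Nat.not_odd_iff_even.mpr this) hodd
        have := orderOf_eq_one_iff.mp h1
        exact Subtype.ext (Subtype.ext this)
      rw [key a, key b]
    exact isCyclic_of_subsingleton
  · let T : Subgroup G := (P : Subgroup M).map M.subtype
    have hT : IsPGroup p T := P.isPGroup'.map M.subtype
    let e : (P : Subgroup M) ≃* T :=
      (P : Subgroup M).equivMapOfInjective M.subtype M.subtype_injective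
    rcases D.C.pgroup_struct p T hT with h | ⟨h, -⟩
    · haveI := h
      exact isCyclic_of_surjective e.symm e.symm.surjective
    · exact absurd h hp2

/-- `|C_G(S)| ≤ 2 |M|`. -/
theorem OddPart.card_centralizer_le [Finite G] (D : NSCtx z S) (O : OddPart z S M) :
    Nat.card (centralizer (S : Set G)) ≤ 2 * Nat.card M := by
  classical
  have hdec := O.dec
  choose o ho hd using hdec
  let f : centralizer (S : Set G) → M × Bool := fun d =>
    (⟨o d d.2, ho d d.2⟩, decide ((d : G) = o d d.2))
  have hf : Function.Injective f := by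
    intro a b hab
    have h1 : o a a.2 = o b b.2 := congrArg (fun p => ((p.1 : M) : G)) hab
    have h2 : decide ((a : G) = o a a.2) = decide ((b : G) = o b b.2) :=
      congrArg (fun p => p.2) hab
    apply Subtype.ext
    by_cases ha : (a : G) = o a a.2
    · have hb : (b : G) = o b b.2 := by
        have : decide ((b : G) = o b b.2) = true := by rw [← h2]; exact decide_eq_true ha
        exact of_decide_eq_true this
      rw [ha, hb, h1]
    · have hb : ¬ (b : G) = o b b.2 := by
        intro hb
        have : decide ((a : G) = o a a.2) = true := by rw [h2]; exact decide_eq_true hb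
        exact ha (of_decide_eq_true this)
      have ha' := (hd a a.2).resolve_left ha
      have hb' := (hd b b.2).resolve_left hb
      rw [ha', hb', h1]
  have := Nat.card_le_card_of_injective f hf
  rw [Nat.card_prod, Nat.card_eq_fintype_card (α := Bool), Fintype.card_bool, mul_comm] at this
  exact this

/-- `|S| |M| ≤ |S ⊔ M|`. -/
theorem OddPart.card_sup_ge [Finite G] (D : NSCtx z S) (O : OddPart z S M) :
    Nat.card S * Nat.card M ≤ Nat.card (S ⊔ M : Subgroup G) := by
  let f : S × M → (S ⊔ M : Subgroup G) := fun p =>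
    ⟨(p.1 : G) * (p.2 : G), mul_mem (le_sup_left (a := S) p.1.2) (le_sup_right (b := M) p.2.2)⟩
  have hf : Function.Injective f := by
    rintro ⟨s, m⟩ ⟨s', m'⟩ h
    have h1 : (s : G) * (m : G) = (s' : G) * (m' : G) := congrArg Subtype.val h
    have h2 : (s' : G)⁻¹ * (s : G) = (m' : G) * (m : G)⁻¹ := by
      calc (s' : G)⁻¹ * (s : G) = (s' : G)⁻¹ * ((s : G) * (m : G)) * (m : G)⁻¹ := by group
        _ = (m' : G) * (m : G)⁻¹ := by rw [h1]; group
    have h3 : (s' : G)⁻¹ * (s : G) ∈ S ⊓ M := by
      refine Subgroup.mem_inf.mpr ⟨S.mul_mem (S.inv_mem s'.2) s.2, ?_⟩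
      rw [h2]
      exact M.mul_mem m'.2 (M.inv_mem m.2)
    rw [O.inf_eq_bot D, mem_bot] at h3
    have hs : (s : G) = (s' : G) := by
      calc (s : G) = (s' : G) * ((s' : G)⁻¹ * (s : G)) := by group
        _ = (s' : G) := by rw [h3, mul_one]
    have hm : (m : G) = (m' : G) := by
      rw [hs] at h1
      exact mul_left_cancel h1
    exact Prod.ext (Subtype.ext hs) (Subtype.ext hm)
  have := Nat.card_le_card_of_injective f hf
  rwa [Nat.card_prod] at this

end NSCtx

end Cfsg.Agent.Helper24.Zas
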