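import Mathlib
import Cfsg.Agent.Helper24.ZasNSB

/-!
# Zassenhaus project: non-solvable Frobenius complements, part C

The index of the centralizer of `S` is at most `120`.
-/

set_option autoImplicit false
set_option linter.style.haveILetI false
set_option linter.deprecated false

open Subgroup
open scoped Pointwise

namespace Cfsg.Agent.Helper24.Zas

variable {G : Type*} [Group G] {z : G}

namespace NSCtx

variable {S : Subgroup G}

/-- `S` has exactly five Sylow `2`-subgroups. -/
theorem card_sylow_two [Finite G] (D : NSCtx z S) : Nat.card (Sylow 2 S) = 5 := by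
  haveI : Fact (Nat.Prime 2) := ⟨Nat.prime_two⟩
  obtain ⟨I, J, x, α, S₂, T, SD⟩ := D.CS.exists_sylData D.perf
  have hcardS₂ : Nat.card S₂ = 8 := by
    obtain ⟨k, hk⟩ := IsPGroup.iff_card.mp S₂.isPGroup'
    have h1 := Subgroup.card_mul_index (S₂ : Subgroup S)
    have h2 := S₂.not_dvd_index
    rw [hk, D.card] at h1
    rcases k with _ | _ | _ | _ | k
    · exfalso
      norm_num at h1
      rw [h1] at h2
      omega
    · exfalso
      norm_num at h1
      have : (S₂ : Subgroup S).index = 60 := by omega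
      rw [this] at h2
      omega
    · exfalso
      norm_num at h1
      have : (S₂ : Subgroup S).index = 30 := by omega
      rw [this] at h2
      omega
    · rw [hk]; norm_num
    · exfalso
      have : 16 ∣ 120 := ⟨2 ^ k * (S₂ : Subgroup S).index, by rw [← h1]; ring⟩
      omega
  have hα : α = I := by
    rcases SD.hcase with ⟨h, -⟩ | ⟨-, -, ⟨e⟩⟩
    · exact h
    · exfalso
      have : Nat.card S₂ = 16 := by
        rw [Nat.card_congr e.toEquiv, Nat.card_eq_fintype_card, QuaternionGroup.card]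
      omega
  have hall : ∀ s ∈ S₂, ∃ i : ℤ, s = I ^ i ∨ s = I ^ i * J := by
    intro s hs
    have := SD.hall s hs
    rwa [hα] at this
  have hconj : ∀ s ∈ S₂, x * s * x⁻¹ ∈ S₂ := by
    intro s hs
    obtain ⟨i, hi | hi⟩ := hall s hs
    · rw [hi]
      have : x * I ^ i * x⁻¹ = (x * I * x⁻¹) ^ i := by rw [conj_zpow]
      rw [this, T.hxI]
      exact zpow_mem SD.hJS i
    · rw [hi]
      have : x * (I ^ i * J) * x⁻¹ = (x * I * x⁻¹) ^ i * (x * J * x⁻¹) := by
        rw [conj_zpow]; group
      rw [this, T.hxI, T.hxJ]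
      exact mul_mem (zpow_mem SD.hJS i) (mul_mem SD.hIS SD.hJS)
  have hxN : x ∈ normalizer ((S₂ : Subgroup S) : Set S) := by
    rw [mem_normalizer_iff]
    intro s
    constructor
    · exact hconj s
    · intro hs
      have h1 := hconj _ (hconj _ hs)
      have : x * (x * (x * s * x⁻¹) * x⁻¹) * x⁻¹ = s := by
        have hx3 : x * x * x = 1 := by rw [← T.hx, pow_succ, pow_two]
        calc x * (x * (x * s * x⁻¹) * x⁻¹) * x⁻¹ = (x * x * x) * s * (x * x * x)⁻¹ := by group
          _ = s := by rw [hx3]; group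
      rwa [this] at h1
  have hx1 : x ≠ 1 := by
    rintro rfl
    apply T.not_comm D.CS
    have := T.hxI
    have hIJ : I = J := by simpa using this
    rw [hIJ]
  have hxord : orderOf x = 3 := by
    haveI : Fact (Nat.Prime 3) := ⟨Nat.prime_three⟩
    exact orderOf_eq_prime T.hx hx1
  obtain ⟨N, hN⟩ : ∃ N : Subgroup S, N = normalizer ((S₂ : Subgroup S) : Set S) := ⟨_, rfl⟩
  have h8 : 8 ∣ Nat.card N := by
    rw [← hcardS₂, hN]
    exact Subgroup.card_dvd_of_le le_normalizer
  have h3 : 3 ∣ Nat.card N := by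
    have := orderOf_dvd_natCard (⟨x, hN ▸ hxN⟩ : N)
    rwa [Subgroup.orderOf_mk, hxord] at this
  have h24 : 24 ∣ Nat.card N :=
    Nat.Coprime.mul_dvd_of_dvd_of_dvd (by norm_num : Nat.Coprime 8 3) h8 h3
  have hidx : Nat.card (Sylow 2 S) = N.index := by
    rw [hN]; exact S₂.card_eq_index_normalizer
  have hmul := Subgroup.card_mul_index N
  rw [D.card] at hmul
  obtain ⟨m, hm⟩ := h24
  rw [hm] at hmul
  have hidx5 : N.index = 1 ∨ N.index = 5 := by
    have h5 : m * N.index = 5 := by nlinarith
    have hd : N.index ∣ 5 := ⟨m, by rw [← h5]; ring⟩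
    rcases (Nat.dvd_prime Nat.prime_five).mp hd with h | h
    · exact Or.inl h
    · exact Or.inr h
  rcases hidx5 with h | h
  · exfalso
    have hNtop : N = ⊤ := Subgroup.index_eq_one.mp h
    haveI : (S₂ : Subgroup S).Normal := normalizer_eq_top_iff.mp (hN ▸ hNtop)
    have hne : (S₂ : Subgroup S) ≠ ⊤ := by
      intro e
      have h1 : Nat.card (S₂ : Subgroup S) = Nat.card S := by rw [e, Subgroup.card_top]
      rw [D.card] at h1
      omega
    exact no_four_of_proper D.CS D.perf T SD (S₂ : Subgroup S) hne I SD.hIS T.hI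
  · rw [hidx, h]

/-- The index of the centralizer of `S` is at most `120`. -/
theorem index_centralizer_le [Finite G] (D : NSCtx z S) :
    (centralizer (S : Set G)).index ≤ 120 := by
  classical
  haveI := D.normal
  haveI : Fact (Nat.Prime 2) := ⟨Nat.prime_two⟩
  let ψ : G →* Equiv.Perm (Sylow 2 S) :=
    (MulAction.toPermHom (MulAut S) (Sylow 2 S)).comp MulAut.conjNormal
  have hker : ψ.ker ≤ centralizer (S : Set G) := by
    intro g hg
    rw [MonoidHom.mem_ker] at hg
    obtain ⟨a, ha⟩ : ∃ a : MulAut S, a = MulAut.conjNormal g := ⟨_, rfl⟩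
    have hfix : ∀ Q : Sylow 2 S, a • Q = Q := by
      intro Q
      have := congrArg (fun σ : Equiv.Perm (Sylow 2 S) => σ Q) hg
      rw [ha]
      exact this
    have hfix' : ∀ Q : Sylow 2 S, a⁻¹ • Q = Q := by
      intro Q
      conv_lhs => rw [← hfix Q]
      rw [inv_smul_smul]
    obtain ⟨I, J, x, α, S₂, T, SD⟩ := D.CS.exists_sylData D.perf
    obtain ⟨N₁, hN₁def⟩ : ∃ N₁ : Subgroup S, N₁ = (MulAction.toPermHom S (Sylow 2 S)).ker :=
      ⟨_, rfl⟩
    have hN₁mem : ∀ s : S, s ∈ N₁ ↔ ∀ Q : Sylow 2 S, s • Q = Q := by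
      intro s
      rw [hN₁def, MonoidHom.mem_ker]
      constructor
      · intro h Q
        exact congrArg (fun σ : Equiv.Perm (Sylow 2 S) => σ Q) h
      · intro h
        ext Q : 1
        exact h Q
    haveI hN₁n : N₁.Normal := by rw [hN₁def]; infer_instance
    have hN₁top : N₁ ≠ ⊤ := by
      intro htop
      have hcard := D.card_sylow_two
      haveI : Nontrivial (Sylow 2 S) :=
        Finite.one_lt_card_iff_nontrivial.mp (by rw [hcard]; norm_num)
      obtain ⟨Q₁, Q₂, hne⟩ := exists_pair_ne (Sylow 2 S)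
      obtain ⟨s, hs⟩ := MulAction.exists_smul_eq S Q₁ Q₂
      have hsN : s ∈ N₁ := htop ▸ mem_top s
      exact hne (((hN₁mem s).mp hsN Q₁).symm.trans hs)
    have hN₁ : N₁ ≤ zpowers (⟨z, D.hzS⟩ : S) :=
      le_Z_of_no_four D.CS D.perf T N₁ (no_four_of_proper D.CS D.perf T SD N₁ hN₁top)
    have hts : ∀ s : S, s⁻¹ * a s ∈ N₁ := by
      intro s
      rw [hN₁mem]
      intro Q
      rw [mul_smul]
      have h1 : (a s) • Q = s • Q := by
        rw [Sylow.smul_def, Sylow.smul_def]
        have h2 : MulAut.conj (a s) = a * MulAut.conj s * a⁻¹ := by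
          ext y
          simp only [MulAut.conj_apply, MulAut.mul_apply, map_mul, map_inv,
            MulAut.apply_inv_self]
        rw [h2, mul_smul, mul_smul, hfix', hfix]
      rw [h1, inv_smul_smul]
    have hcent : ∀ s u : S, u * (s⁻¹ * a s) = (s⁻¹ * a s) * u := by
      intro s u
      rcases (D.CS.mem_Z _).mp (hN₁ (hts s)) with h | h
      · rw [h]; simp
      · rw [h]; exact D.CS.central u
    let f : S →* S :=
      { toFun := fun s => s⁻¹ * a s
        map_one' := by simp
        map_mul' := fun s u => by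
          show (s * u)⁻¹ * a (s * u) = (s⁻¹ * a s) * (u⁻¹ * a u)
          rw [map_mul, mul_inv_rev]
          calc u⁻¹ * s⁻¹ * (a s * a u) = u⁻¹ * (s⁻¹ * a s) * a u := by group
            _ = (s⁻¹ * a s) * u⁻¹ * a u := by rw [hcent s u⁻¹]
            _ = _ := by group }
    have hf1 : ∀ s : S, f s = 1 := perfect_map_eq_one D.perf f (fun s u =>
      (hcent s (u⁻¹ * a u)).symm)
    rw [mem_centralizer_iff]
    intro s hs
    have h1 : (⟨s, hs⟩ : S)⁻¹ * a ⟨s, hs⟩ = 1 := hf1 ⟨s, hs⟩
    have h2 : a ⟨s, hs⟩ = ⟨s, hs⟩ := (inv_mul_eq_one.mp h1).symm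
    have h3 : g * s * g⁻¹ = s := by
      have := congrArg Subtype.val h2
      rw [ha, MulAut.conjNormal_apply] at this
      exact this
    calc s * g = (g * s * g⁻¹) * g := by rw [h3]
      _ = g * s := by group
  have h1 : (centralizer (S : Set G)).index ∣ ψ.ker.index := Subgroup.index_dvd_of_le hker
  have h2 : ψ.ker.index = Nat.card ψ.range := Subgroup.index_ker ψ
  have h3 : Nat.card ψ.range ≤ Nat.card (Equiv.Perm (Sylow 2 S)) :=
    Nat.card_le_card_of_injective _ Subtype.val_injective
  have h4 : Nat.card (Equiv.Perm (Sylow 2 S)) = 120 := by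
    rw [Nat.card_perm, D.card_sylow_two]
    rfl
  have hpos : 0 < ψ.ker.index := Nat.pos_of_ne_zero Subgroup.index_ne_zero_of_finite
  exact (Nat.le_of_dvd hpos h1).trans (by rw [h2]; exact h3.trans h4.le)

end NSCtx

end Cfsg.Agent.Helper24.Zas
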