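import Mathlib
import Cfsg.Agent.Helper24.ZasNSC
import Cfsg.Agent.Helper24.ZasMain
import Cfsg.Agent.Helper24.ZasOdd
import Cfsg.Agent.Helper5.ProjLine

/-!
# Zassenhaus project: non-solvable Frobenius complements, part D

The structure theorem for a non-solvable group with a fixed-point-free linear representation.
-/

set_option autoImplicit false
set_option linter.style.haveILetI false
set_option linter.deprecated false

open Subgroup

namespace Cfsg.Agent.Helper24.Zas

/-- The conclusion of the structure theorem for non-solvable Frobenius complements. -/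
def NSConclusion (G : Type*) [Group G] : Prop :=
  ∃ G₀ : Subgroup G, G₀.Normal ∧ (G₀.index = 1 ∨ G₀.index = 2) ∧
    ∃ S M : Subgroup G, S ⊔ M = G₀ ∧ S ⊓ M = ⊥ ∧ (∀ s ∈ S, ∀ x ∈ M, s * x = x * s) ∧
      Nonempty (S ≃* Matrix.SpecialLinearGroup (Fin 2) (ZMod 5)) ∧
      (∀ (p : ℕ) [Fact p.Prime] (P : Sylow p M), IsCyclic P) ∧ (Nat.card M).Coprime 30

variable {G : Type*} [Group G] {z : G}

theorem NSCtx.conclusion [Finite G] {S : Subgroup G} (D : NSCtx z S)
    (e : S ≃* Matrix.SpecialLinearGroup (Fin 2) (ZMod 5)) : NSConclusion G := by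
  obtain ⟨M, O⟩ := D.exists_oddPart
  haveI := D.normal
  haveI := O.normal D
  refine ⟨S ⊔ M, inferInstance, ?_, S, M, rfl, O.inf_eq_bot D, O.comm, ⟨e⟩,
    fun p _ P => O.sylow_cyclic D p P, O.coprime D⟩
  have h1 := D.index_centralizer_le
  have h2 := O.card_centralizer_le D
  have h3 := O.card_sup_ge D
  have h4 := Subgroup.card_mul_index (centralizer (S : Set G))
  have h5 := Subgroup.card_mul_index (S ⊔ M)
  rw [D.card] at h3
  have hidx : (S ⊔ M).index ≠ 0 := Subgroup.index_ne_zero_of_finite
  have h6 : Nat.card G ≤ 2 * Nat.card (S ⊔ M : Subgroup G) := by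
    calc Nat.card G
        = Nat.card (centralizer (S : Set G)) * (centralizer (S : Set G)).index := h4.symm
      _ ≤ (2 * Nat.card M) * 120 := Nat.mul_le_mul h2 h1
      _ = 2 * (120 * Nat.card M) := by ring
      _ ≤ 2 * Nat.card (S ⊔ M : Subgroup G) := by omega
  have h7 : (S ⊔ M).index ≤ 2 := by
    by_contra hgt
    push Not at hgt
    have h8 : Nat.card (S ⊔ M : Subgroup G) * 3 ≤
        Nat.card (S ⊔ M : Subgroup G) * (S ⊔ M).index := Nat.mul_le_mul_left _ hgt
    rw [h5] at h8
    have hpos : 0 < Nat.card (S ⊔ M : Subgroup G) := Nat.card_pos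
    omega
  omega

/-- The derived series of a finite group stabilizes. -/
theorem exists_derivedSeries_stable (G : Type*) [Group G] [Finite G] :
    ∃ n : ℕ, derivedSeries G (n + 1) = derivedSeries G n := by
  by_contra hcon
  push Not at hcon
  have key : ∀ n : ℕ, Nat.card (derivedSeries G n) + n ≤ Nat.card G := by
    intro n
    induction n with
    | zero =>
      rw [derivedSeries_zero, Subgroup.card_top]
      omega
    | succ n ih =>
      have hle : derivedSeries G (n + 1) ≤ derivedSeries G n :=
        derivedSeries_antitone G (Nat.le_succ n)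
      have hlt : Nat.card (derivedSeries G (n + 1)) < Nat.card (derivedSeries G n) := by
        by_contra hge
        push Not at hge
        exact hcon n (Subgroup.eq_of_le_of_card_ge hle hge)
      omega
  have := key (Nat.card G + 1)
  omega

section Linear

variable (p : ℕ) [hp : Fact p.Prime] {V : Type*} [AddCommGroup V] [Module (ZMod p) V]
  [Finite V] [Nontrivial V] [Finite G]

theorem abelR_of_fpf_rep (ρ : G →* Module.End (ZMod p) V) (h : Fpf ρ) : AbelR G := by
  haveI : Finite (Module.End (ZMod p) V) := DFunLike.finite _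
  intro r _ B _ hB
  exact h.isCyclic_of_comm B hB

/-- **Structure of a non-solvable group with a fixed-point-free representation.** -/
theorem nsConclusion_of_fpf (ρ : G →* Module.End (ZMod p) V) (h : Fpf ρ)
    (hns : ¬ Group.IsSolvable G) : NSConclusion G := by
  obtain ⟨n, hn⟩ := exists_derivedSeries_stable G
  obtain ⟨S, hSdef⟩ : ∃ S : Subgroup G, S = derivedSeries G n := ⟨_, rfl⟩
  have hSS : ⁅S, S⁆ = S := by rw [hSdef, ← derivedSeries_succ, hn]
  have hSn : S.Normal := by rw [hSdef]; exact derivedSeries_normal G n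
  have hS1 : S ≠ ⊥ := by
    intro hbot
    apply hns
    rw [Group.isSolvable_def]
    exact ⟨n, by rw [← hSdef, hbot]⟩
  have hperf : commutator S = ⊤ := by
    apply Subgroup.map_injective S.subtype_injective
    rw [Subgroup.map_subtype_commutator, hSS, ← MonoidHom.range_eq_map, Subgroup.range_subtype]
  -- the restricted representation
  let ρS : S →* Module.End (ZMod p) V := ρ.comp S.subtype
  have hS : Fpf ρS := by
    intro s hs
    exact h (s : G) (fun e => hs (Subtype.ext e))
  -- `S` has even order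
  have h2 : 2 ∣ Nat.card S := by
    by_contra hodd
    have hodd' : Odd (Nat.card S) := Nat.odd_iff.mpr (by omega)
    haveI := (abelR_of_fpf_rep p ρS hS).subsingleton_of_odd hodd' hperf
    apply hS1
    rw [eq_bot_iff]
    intro s hs
    rw [mem_bot]
    exact congrArg Subtype.val (Subsingleton.elim (⟨s, hs⟩ : S) 1)
  haveI : Fact (Nat.Prime 2) := ⟨Nat.prime_two⟩
  obtain ⟨zS, hzS⟩ := exists_prime_orderOf_dvd_card' 2 h2
  have hzS1 : zS ≠ 1 := by
    intro e
    rw [e, orderOf_one] at hzS
    omega
  have hzS2 : zS ^ 2 = 1 := by rw [← hzS]; exact pow_orderOf_eq_one zS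
  obtain ⟨z, hz⟩ : ∃ z : G, z = (zS : G) := ⟨_, rfl⟩
  have hzmem : z ∈ S := hz ▸ zS.2
  have hzz : (⟨z, hzmem⟩ : S) = zS := Subtype.ext hz
  have hz1 : z ≠ 1 := by
    rw [hz]
    exact fun e => hzS1 (Subtype.ext e)
  have hz2 : z ^ 2 = 1 := by
    rw [hz]
    have := congrArg Subtype.val hzS2
    simpa using this
  have C : ZCtx G z := zctx_of_fpf p ρ h hz1 hz2
  have CS : ZCtx S ⟨z, hzmem⟩ := by
    rw [hzz]
    exact zctx_of_fpf p ρS hS hzS1 hzS2
  obtain ⟨e⟩ := CS.main hperf
  have hcard : Nat.card S = 120 := by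
    haveI : Fact (Nat.Prime 5) := ⟨by norm_num⟩
    have h5 := Cfsg.Agent.Helper5.card_SL2 (F := ZMod 5)
    rw [ZMod.card] at h5
    rw [Nat.card_congr e.toEquiv]
    exact h5
  exact (NSCtx.mk C hzmem CS hSn hperf hcard).conclusion e

end Linear

end Cfsg.Agent.Helper24.Zas
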