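import Mathlib
import Cfsg.Agent.Helper24.ZasNSD
import Cfsg.Agent.Helper24.ZasLin
import Cfsg.Agent.Helper71.FrobCoprime

/-!
# Zassenhaus project: non-solvable Frobenius complements, part E

From a Frobenius complement to a fixed-point-free linear representation.
-/

set_option autoImplicit false
set_option linter.style.haveILetI false
set_option linter.deprecated false

open Subgroup

namespace Cfsg.Agent.Helper24.Zas

/-- A group of odd order all of whose abelian `r`-subgroups are cyclic is solvable. -/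
theorem AbelR.isSolvable_of_odd {G : Type*} [Group G] [Finite G] (C : AbelR G)
    (hodd : Odd (Nat.card G)) : Group.IsSolvable G := by
  haveI : IsZGroup G := by
    refine ⟨fun r hr P => ?_⟩
    haveI : Fact r.Prime := ⟨hr⟩
    by_cases hr2 : r = 2
    · subst hr2
      obtain ⟨k, hk⟩ := IsPGroup.iff_card.mp P.isPGroup'
      have hdvd : Nat.card P ∣ Nat.card G := Subgroup.card_subgroup_dvd_card _
      have hk0 : k = 0 := by
        by_contra hk0
        have h2 : 2 ∣ Nat.card P := by rw [hk]; exact dvd_pow_self 2 hk0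
        have := h2.trans hdvd
        rcases hodd with ⟨m, hm⟩
        omega
      rw [hk0, pow_zero] at hk
      haveI : Subsingleton P := (Nat.card_eq_one_iff_unique.mp hk).1
      exact isCyclic_of_subsingleton
    · exact C.pgroup_cyclic r hr2 P P.isPGroup'
  infer_instance

/-- A non-solvable group of fixed-point-free automorphisms has a fixed-point-free linear
representation. -/
theorem exists_fpf_rep_of_aut {K : Type} [Group K] [Finite K] {G : Type*} [Group G] [Finite G]
    (φ : G →* MulAut K) (hfpf : ∀ g : G, g ≠ 1 → ∀ k : K, φ g k = k → k = 1)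
    [Nontrivial K] (hns : ¬ Group.IsSolvable G) :
    ∃ (q : ℕ) (_ : Fact q.Prime) (V : Type) (_ : AddCommGroup V) (_ : Module (ZMod q) V)
      (_ : Finite V) (_ : Nontrivial V) (ρ : G →* Module.End (ZMod q) V), Fpf ρ := by
  have hφinj : Function.Injective φ := by
    rw [injective_iff_map_eq_one]
    intro g hg
    by_contra hg1
    obtain ⟨k, hk⟩ := exists_ne (1 : K)
    exact hk (hfpf g hg1 k (by rw [hg]; rfl))
  obtain ⟨G', hG'⟩ : ∃ G' : Subgroup (MulAut K), G' = φ.range := ⟨_, rfl⟩
  have hfpf' : ∀ ψ ∈ G', ψ ≠ 1 → ∀ k : K, ψ k = k → k = 1 := by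
    intro ψ hψ hne k hk
    rw [hG'] at hψ
    obtain ⟨g, rfl⟩ := hψ
    exact hfpf g (fun h => hne (by rw [h, map_one])) k hk
  have hφmem : ∀ g : G, φ g ∈ G' := fun g => hG' ▸ ⟨g, rfl⟩
  let φ' : G →* G' :=
    { toFun := fun g => ⟨φ g, hφmem g⟩
      map_one' := Subtype.ext (map_one φ)
      map_mul' := fun a b => Subtype.ext (map_mul φ a b) }
  have hφ'inj : Function.Injective φ' := by
    intro a b hab
    exact hφinj (congrArg Subtype.val hab)
  have hns' : ¬ Group.IsSolvable G' := by
    intro hs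
    haveI := hs
    exact hns (Group.isSolvable_of_isSolvable_injective hφ'inj)
  have h2 : 2 ∣ Nat.card G' := by
    by_contra hodd
    have hodd' : Odd (Nat.card G') := Nat.odd_iff.mpr (by omega)
    exact hns' ((abelR_of_fpf G' hfpf').isSolvable_of_odd hodd')
  haveI : Fact (Nat.Prime 2) := ⟨Nat.prime_two⟩
  obtain ⟨z, hz⟩ := exists_prime_orderOf_dvd_card' 2 h2
  have hz1 : z ≠ 1 := by
    intro e
    rw [e, orderOf_one] at hz
    omega
  have hz2 : z ^ 2 = 1 := by rw [← hz]; exact pow_orderOf_eq_one z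
  have hz1' : (z : MulAut K) ≠ 1 := fun e => hz1 (Subtype.ext e)
  have hz2' : ∀ k : K, (z : MulAut K) ((z : MulAut K) k) = k := by
    intro k
    have := congrArg Subtype.val hz2
    have h3 : (z : MulAut K) * (z : MulAut K) = 1 := by
      rw [← pow_two]; simpa using this
    have := congrArg (fun f : MulAut K => f k) h3
    simpa using this
  have hcomm := comm_of_fpf_involution (z : MulAut K) hz2' (hfpf' z z.2 hz1')
  obtain ⟨q, hq, V, iA, iM, iF, iN, ρ, hρ⟩ := exists_fpf_rep G' ⊤ (by
      intro h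
      obtain ⟨k, hk⟩ := exists_ne (1 : K)
      have : k ∈ (⊤ : Subgroup K) := mem_top k
      rw [h, mem_bot] at this
      exact hk this)
    (fun a _ b _ => hcomm a b) (fun _ _ _ _ => mem_top _)
    (fun h hh hh1 m _ => hfpf' h hh hh1 m)
  refine ⟨q, hq, V, iA, iM, iF, iN, ρ.comp φ', ?_⟩
  intro g hg
  have : φ' g ≠ 1 := fun e => hg (hφ'inj (by rw [e, map_one]))
  exact hρ (φ' g) this

/-- **Structure of non-solvable Frobenius complements.** -/
theorem nsConclusion_of_frobenius {G : Type*} [Group G] [Finite G]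
    (hns : ¬ Group.IsSolvable G)
    (hFC : ∃ (L : Type) (_ : Group L) (_ : Finite L) (H : Subgroup L),
      Cfsg.IsFrobeniusComplement H ∧ Nonempty (G ≃* H)) : NSConclusion G := by
  obtain ⟨L, iL, iF, H, hH, ⟨e⟩⟩ := hFC
  obtain ⟨N, hNn, hNset, hcompl, -, -⟩ := Cfsg.Agent.Helper71.frob_kernel_data hH
  haveI := hNn
  let φ : G →* MulAut N := (MulAut.conjNormal (H := N)).comp (H.subtype.comp e.toMonoidHom)
  have hφ : ∀ (g : G) (k : N), ((φ g k : N) : L) = ((e g : H) : L) * (k : L) * ((e g : H) : L)⁻¹ :=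
    fun g k => MulAut.conjNormal_apply _ _
  have hfpf : ∀ g : G, g ≠ 1 → ∀ k : N, φ g k = k → k = 1 := by
    intro g hg k hk
    by_contra hk1
    have hcomm : ((e g : H) : L) * (k : L) = (k : L) * ((e g : H) : L) := by
      have h1 := congrArg Subtype.val hk
      rw [hφ] at h1
      calc ((e g : H) : L) * (k : L)
          = (((e g : H) : L) * (k : L) * ((e g : H) : L)⁻¹) * ((e g : H) : L) := by group
        _ = (k : L) * ((e g : H) : L) := by rw [h1]
    have hkK : (k : L) ∈ Cfsg.frobeniusKernel H := by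
      rw [← hNset]; exact k.2
    have h2 := Cfsg.Agent.Helper71.frob_eq_one_of_commute hH (e g).2 hkK
      (fun h => hk1 (Subtype.ext h)) hcomm
    apply hg
    have h3 : e g = 1 := Subtype.ext h2
    exact e.injective (by rw [h3, map_one])
  haveI hN1 : Nontrivial N := by
    rw [Subgroup.nontrivial_iff_ne_bot]
    intro hbot
    have h1 := hcompl.sup_eq_top
    rw [hbot, bot_sup_eq] at h1
    exact hH.2.1 h1
  obtain ⟨q, hq, V, iA, iM, iFV, iN, ρ, hρ⟩ := exists_fpf_rep_of_aut φ hfpf hns
  exact nsConclusion_of_fpf q ρ hρ hns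

end Cfsg.Agent.Helper24.Zas
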