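import Mathlib
import Cfsg.Agent.Helper54.SCG.Defs

/-!
# S3921 farm (helper54), piece (OA): an automorphism of a group of order dividing `p ^ 3`
(non-abelian if the order is `p ^ 3`) whose order is coprime to `p (p - 1) (p + 1)` is trivial.
-/

set_option autoImplicit false

namespace Cfsg.Agent.Helper24.SCG

open Cfsg.Agent.Helper54.SCG

/-- The subgroup of fixed points of an automorphism. -/
def fixSub {Q : Type*} [Group Q] (ψ : MulAut Q) : Subgroup Q where
  carrier := {x | ψ x = x}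
  mul_mem' := by
    intro a b ha hb
    show ψ (a * b) = a * b
    rw [map_mul, ha, hb]
  one_mem' := map_one ψ
  inv_mem' := by
    intro a ha
    show ψ a⁻¹ = a⁻¹
    rw [map_inv, ha]

theorem mem_fixSub {Q : Type*} [Group Q] (ψ : MulAut Q) (x : Q) : x ∈ fixSub ψ ↔ ψ x = x :=
  Iff.rfl

/-- Orbit counting for an automorphism of prime order `r` on an invariant subgroup. -/
theorem card_modEq_fix {Q : Type*} [Group Q] [Finite Q] (ψ : MulAut Q) (r : ℕ) [Fact r.Prime]
    (hψ : ψ ^ r = 1) (H : Subgroup Q) (hH : ∀ x ∈ H, ψ x ∈ H) :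
    Nat.card ↥H ≡ Nat.card ↥(H ⊓ fixSub ψ) [MOD r] := by
  classical
  have _ : Fintype ↥H := Fintype.ofFinite _
  let f : Function.End ↥H := fun x => ⟨ψ x, hH x x.2⟩
  have hpow : ∀ (n : ℕ) (x : ↥H), (((f ^ n) x : ↥H) : Q) = (ψ ^ n) x := by
    intro n
    induction n with
    | zero =>
      intro x
      rw [pow_zero, pow_zero]
      rfl
    | succ n ih =>
      intro x
      rw [pow_succ, pow_succ]
      show (((f ^ n) (f x) : ↥H) : Q) = (ψ ^ n) (ψ x)
      rw [ih (f x)]
  have hf : f ^ r ^ 1 = 1 := by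
    rw [pow_one]
    funext x
    apply Subtype.ext
    rw [hpow r x, hψ]
    rfl
  have h1 := Equiv.Perm.card_fixedPoints_modEq (p := r) (n := 1) hf
  have e : ↥(Function.fixedPoints f) ≃ ↥(H ⊓ fixSub ψ) :=
    { toFun := fun x => ⟨x.1.1, ⟨x.1.2, by
        have h2 : f x.1 = x.1 := x.2
        have h3 := congrArg Subtype.val h2
        exact h3⟩⟩
      invFun := fun y => ⟨⟨y.1, y.2.1⟩, by
        show f ⟨y.1, y.2.1⟩ = ⟨y.1, y.2.1⟩
        apply Subtype.ext
        exact y.2.2⟩
      left_inv := fun x => rfl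
      right_inv := fun y => rfl }
  rw [Nat.card_eq_fintype_card, ← Nat.card_congr e, Nat.card_eq_fintype_card]
  exact h1

/-- The arithmetic behind (OA). -/
theorem pow_modEq_arith (p r a b : ℕ) (hp : p.Prime) (hr : r.Prime)
    (hr' : ¬ r ∣ p * (p - 1) * (p + 1)) (hba : b ≤ a) (h : p ^ a ≡ p ^ b [MOD r]) :
    a = b ∨ b + 3 ≤ a := by
  by_contra hcon
  push Not at hcon
  obtain ⟨hne, hlt⟩ := hcon
  have hrp : ¬ r ∣ p := fun h1 => hr' (Dvd.dvd.mul_right (Dvd.dvd.mul_right h1 _) _)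
  have hr1 : ¬ r ∣ (p - 1) * (p + 1) := fun h1 => hr' (by
    rw [mul_assoc]
    exact Dvd.dvd.mul_left h1 _)
  obtain ⟨d, rfl⟩ := Nat.exists_eq_add_of_le hba
  have hd : d = 1 ∨ d = 2 := by omega
  have h2 : (r : ℤ) ∣ (p : ℤ) ^ (b + d) - (p : ℤ) ^ b := by
    have := (Nat.modEq_iff_dvd.mp h.symm)
    push_cast at this
    exact this
  have h3 : (p : ℤ) ^ (b + d) - (p : ℤ) ^ b = (p : ℤ) ^ b * ((p : ℤ) ^ d - 1) := by ring
  rw [h3] at h2
  have hrprime : Prime (r : ℤ) := Nat.prime_iff_prime_int.mp hr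
  have hp1 : 1 ≤ p := hp.one_lt.le
  rcases hrprime.dvd_or_dvd h2 with h4 | h4
  · have := hrprime.dvd_of_dvd_pow h4
    exact hrp (Int.natCast_dvd_natCast.mp this)
  · rcases hd with rfl | rfl
    · apply hr1
      have h5 : ((p - 1 : ℕ) : ℤ) = (p : ℤ) ^ 1 - 1 := by
        rw [Nat.cast_sub hp1]; simp
      rw [← h5] at h4
      exact Dvd.dvd.mul_right (Int.natCast_dvd_natCast.mp h4) _
    · apply hr1
      have h5 : (((p - 1) * (p + 1) : ℕ) : ℤ) = (p : ℤ) ^ 2 - 1 := by
        rw [Nat.cast_mul, Nat.cast_sub hp1]; push_cast; ring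
      rw [← h5] at h4
      exact Int.natCast_dvd_natCast.mp h4

/-- (OA) -/
theorem OA_aut_eq_one {Q : Type*} [Group Q] [Finite Q] (p : ℕ) [Fact p.Prime]
    (hQ : Nat.card Q ∣ p ^ 3) (hQ3 : Nat.card Q = p ^ 3 → ¬ IsMulCommutative Q) (φ : MulAut Q)
    (hφ : Nat.Coprime (orderOf φ) (p * (p - 1) * (p + 1))) : φ = 1 := by
  have hp : p.Prime := Fact.out
  by_contra hne
  have hfin : Finite (MulAut Q) := by
    have : Finite (Q ≃ Q) := inferInstance
    exact Finite.of_injective (fun φ : MulAut Q => φ.toEquiv) (fun a b h => MulEquiv.ext (fun x => by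
      have := congrArg (fun e : Q ≃ Q => e x) h
      exact this))
  have ho1 : orderOf φ ≠ 1 := fun h => hne (orderOf_eq_one_iff.mp h)
  have ho0 : orderOf φ ≠ 0 := (orderOf_pos φ).ne'
  obtain ⟨r, hr, hrφ⟩ := Nat.exists_prime_and_dvd ho1
  have _ : Fact r.Prime := ⟨hr⟩
  set ψ : MulAut Q := φ ^ (orderOf φ / r) with hψdef
  have hψo : orderOf ψ = r := orderOf_pow_orderOf_div ho0 hrφ
  have hψr : ψ ^ r = 1 := by rw [← hψo]; exact pow_orderOf_eq_one ψ
  have hr' : ¬ r ∣ p * (p - 1) * (p + 1) := by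
    intro h
    have := Nat.dvd_gcd hrφ h
    rw [hφ] at this
    exact hr.one_lt.ne' (Nat.dvd_one.mp this)
  -- count on the whole group
  obtain ⟨k, hk3, hk⟩ := (Nat.dvd_prime_pow hp).mp hQ
  have hcount := card_modEq_fix ψ r hψr ⊤ (fun x _ => Subgroup.mem_top _)
  have htopcard : Nat.card ↥(⊤ : Subgroup Q) = p ^ k := by
    rw [Subgroup.card_top]; exact hk
  have hfixdvd : Nat.card ↥((⊤ : Subgroup Q) ⊓ fixSub ψ) ∣ p ^ k := by
    rw [← hk]
    exact Subgroup.card_subgroup_dvd_card _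
  obtain ⟨j, hjk, hj⟩ := (Nat.dvd_prime_pow hp).mp hfixdvd
  rw [htopcard, hj] at hcount
  rcases pow_modEq_arith p r k j hp hr hr' hjk hcount with hkj | hkj
  · -- all points fixed: ψ = 1
    subst hkj
    have hall : (⊤ : Subgroup Q) ⊓ fixSub ψ = ⊤ := by
      apply Subgroup.eq_top_of_card_eq
      rw [hj, hk]
    have hψ1 : ψ = 1 := by
      ext x
      have hx : x ∈ (⊤ : Subgroup Q) ⊓ fixSub ψ := by rw [hall]; exact Subgroup.mem_top x
      exact hx.2
    rw [hψ1, orderOf_one] at hψo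
    exact hr.one_lt.ne' hψo.symm
  · -- `k = 3`, `j = 0`
    have hk3' : k = 3 := by omega
    have hj0 : j = 0 := by omega
    subst hk3' hj0
    have hnab := hQ3 hk
    have hfixbot : (⊤ : Subgroup Q) ⊓ fixSub ψ = ⊥ := by
      apply Subgroup.eq_bot_of_card_eq
      rw [hj, pow_zero]
    have hPG : IsPGroup p Q := IsPGroup.of_card hk
    have hnt : Nontrivial Q := by
      rw [← Finite.one_lt_card_iff_nontrivial, hk]
      exact Nat.one_lt_pow (by norm_num) hp.one_lt
    have hZnt : Nontrivial ↥(Subgroup.center Q) := hPG.center_nontrivial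
    -- the centre is invariant
    have hZinv : ∀ x ∈ Subgroup.center Q, ψ x ∈ Subgroup.center Q := by
      intro x hx
      rw [Subgroup.mem_center_iff] at hx ⊢
      intro g
      obtain ⟨g', rfl⟩ := ψ.surjective g
      rw [← map_mul, ← map_mul, hx g']
    have hZcount := card_modEq_fix ψ r hψr (Subgroup.center Q) hZinv
    have hZfix : Subgroup.center Q ⊓ fixSub ψ = ⊥ := by
      rw [eq_bot_iff, ← hfixbot]
      exact inf_le_inf_right _ le_top
    rw [hZfix, Subgroup.card_bot] at hZcount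
    have hZdvd : Nat.card ↥(Subgroup.center Q) ∣ p ^ 3 := by
      rw [← hk]; exact Subgroup.card_subgroup_dvd_card _
    obtain ⟨a, ha3, ha⟩ := (Nat.dvd_prime_pow hp).mp hZdvd
    rw [ha] at hZcount
    have hcase := pow_modEq_arith p r a 0 hp hr hr' (Nat.zero_le _) (by simpa using hZcount)
    have ha0 : a ≠ 0 := by
      intro h0
      rw [h0, pow_zero] at ha
      have := Finite.one_lt_card_iff_nontrivial.mpr hZnt
      omega
    have ha3' : a ≠ 3 := by
      intro h3
      rw [h3, ← hk] at ha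
      have htop : Subgroup.center Q = ⊤ := Subgroup.eq_top_of_card_eq _ ha
      apply hnab
      refine ⟨⟨fun x y => ?_⟩⟩
      have hx : x ∈ Subgroup.center Q := by rw [htop]; exact Subgroup.mem_top x
      exact ((Subgroup.mem_center_iff.mp hx) y).symm
    omega

end Cfsg.Agent.Helper24.SCG
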