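import Mathlib
import Cfsg.Agent.Helper54.SCG.Defs
import Cfsg.Agent.S0519
import Cfsg.Agent.Helper73.PGroupCyclic
import Cfsg.Agent.Helper63.PGroup

/-!
# S3921 farm (helper54), piece (OP): a non-cyclic `p`-group, `p` odd, in which every non-cyclic
subgroup contains its centralizer has order dividing `p ^ 3`, and is non-abelian if the order is
`p ^ 3`.
-/

set_option autoImplicit false

namespace Cfsg.Agent.Helper24.SCG

open Cfsg.Agent.Helper54.SCG Subgroup

/-- In a finite cyclic group, elements of order dividing a prime `r` lie in any subgroup of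
order `r`. -/
theorem mem_zpowers_of_isCyclic {H : Type*} [Group H] [Finite H] [IsCyclic H] {r : ℕ}
    (hr : r.Prime) {x y : H} (hx1 : x ≠ 1) (hxr : x ^ r = 1) (hyr : y ^ r = 1) :
    y ∈ zpowers x := by
  classical
  have _ := Fintype.ofFinite H
  have _ : Fact r.Prime := ⟨hr⟩
  have hle := IsCyclic.card_pow_eq_one_le (α := H) hr.pos
  have hsub : (Finset.univ.filter (fun a : H => a ∈ zpowers x)) ⊆
      Finset.univ.filter (fun a : H => a ^ r = 1) := by
    intro a ha
    simp only [Finset.mem_filter, Finset.mem_univ, true_and] at ha ⊢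
    obtain ⟨k, rfl⟩ := Subgroup.mem_zpowers_iff.mp ha
    rw [← zpow_natCast, ← zpow_mul, mul_comm, zpow_mul, zpow_natCast, hxr, one_zpow]
  have hcard : (Finset.univ.filter (fun a : H => a ∈ zpowers x)).card = r := by
    rw [← Fintype.card_subtype, ← orderOf_eq_prime hxr hx1]
    exact Fintype.card_zpowers
  have heq := Finset.eq_of_subset_of_card_le hsub (by rw [hcard]; exact hle)
  have hy : y ∈ Finset.univ.filter (fun a : H => a ^ r = 1) := by simp [hyr]
  rw [← heq] at hy
  simpa using hy

/-- The same inside a cyclic subgroup. -/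
theorem mem_zpowers_of_isCyclic_sub {G : Type*} [Group G] [Finite G] {r : ℕ} (hr : r.Prime)
    {x y : G} (T : Subgroup G) (hT : IsCyclic ↥T) (hx : x ∈ T) (hy : y ∈ T) (hx1 : x ≠ 1)
    (hxr : x ^ r = 1) (hyr : y ^ r = 1) : y ∈ zpowers x := by
  have h := mem_zpowers_of_isCyclic (H := ↥T) hr (x := ⟨x, hx⟩) (y := ⟨y, hy⟩)
    (fun h => hx1 (congrArg Subtype.val h)) (Subtype.ext (by simpa using hxr))
    (Subtype.ext (by simpa using hyr))
  obtain ⟨k, hk⟩ := Subgroup.mem_zpowers_iff.mp h
  exact Subgroup.mem_zpowers_iff.mpr ⟨k, by simpa using congrArg Subtype.val hk⟩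

/-- An abelian non-cyclic `p`-group (`p` odd) with `SC` has order dividing `p ^ 2`. -/
theorem card_dvd_sq_of_comm {A : Type*} [Group A] [Finite A] (p : ℕ) [Fact p.Prime] (hp2 : p ≠ 2)
    (hA : IsPGroup p A) (hcomm : ∀ u v : A, u * v = v * u) (hsc : SC A) (hnc : ¬ IsCyclic A) :
    Nat.card A ∣ p ^ 2 := by
  have hp : p.Prime := Fact.out
  have hnu : ¬ Cfsg.Agent.Helper73.UniqueOrderP p A := fun hu =>
    (Cfsg.Agent.Helper73.cyclic_or_quaternion hA hu).elim hnc (fun h => hp2 h.1)
  unfold Cfsg.Agent.Helper73.UniqueOrderP at hnu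
  push Not at hnu
  obtain ⟨x, y, hx, hy, hyx⟩ := hnu
  set H : Subgroup A := zpowers x with hH
  set K : Subgroup A := zpowers y with hK
  have hxT : x ∈ H ⊔ K := (le_sup_left : H ≤ H ⊔ K) (mem_zpowers x)
  have hyT : y ∈ H ⊔ K := (le_sup_right : K ≤ H ⊔ K) (mem_zpowers y)
  have hx1 : x ≠ 1 := by
    intro h
    rw [h, orderOf_one] at hx
    exact hp.one_lt.ne' hx.symm
  have hTnc : ¬ IsCyclic ↥(H ⊔ K) := by
    intro hc
    apply hyx
    exact mem_zpowers_of_isCyclic_sub hp (H ⊔ K) hc hxT hyT hx1 (by rw [← hx]; exact pow_orderOf_eq_one x)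
      (by rw [← hy]; exact pow_orderOf_eq_one y)
  have hTtop : H ⊔ K = ⊤ := by
    rw [eq_top_iff]
    refine le_trans ?_ (hsc (H ⊔ K) hTnc)
    intro g _
    rw [Subgroup.mem_centralizer_iff]
    intro h _
    exact hcomm h g
  have hKn : K.Normal := ⟨fun n hn g => by rw [hcomm g n, mul_inv_cancel_right]; exact hn⟩
  have h1 : K.relIndex (H ⊔ K) = K.relIndex H := Subgroup.relIndex_sup_right H K
  have h2 : Nat.card ↥K * K.relIndex (H ⊔ K) = Nat.card ↥(H ⊔ K) := by
    have := Subgroup.relIndex_mul_relIndex (⊥ : Subgroup A) K (H ⊔ K) bot_le le_sup_right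
    rw [Subgroup.relIndex_bot_left, Subgroup.relIndex_bot_left] at this
    exact this
  have h3 : K.relIndex H ∣ Nat.card ↥H := Subgroup.relIndex_dvd_card K H
  have hcH : Nat.card ↥H = p := by rw [hH, Nat.card_zpowers, hx]
  have hcK : Nat.card ↥K = p := by rw [hK, Nat.card_zpowers, hy]
  have : Nat.card A = Nat.card ↥(H ⊔ K) := by rw [hTtop, Subgroup.card_top]
  rw [this, ← h2, h1, hcK, pow_two]
  rw [hcH] at h3
  exact Nat.mul_dvd_mul_left p h3

/-- A non-cyclic `p`-group, `p` odd, has a normal abelian non-cyclic subgroup. -/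
theorem exists_normal_abelian_noncyclic {P : Type*} [Group P] [Finite P] (p : ℕ) [Fact p.Prime]
    (hp2 : p ≠ 2) (hP : IsPGroup p P) (hnc : ¬ IsCyclic P) :
    ∃ E : Subgroup P, E.Normal ∧ IsMulCommutative ↥E ∧ ¬ IsCyclic ↥E := by
  have hp : p.Prime := Fact.out
  by_contra hcon
  push Not at hcon
  by_cases hB : ∃ B : Subgroup P, IsMulCommutative ↥B ∧ ¬ IsCyclic ↥B
  · exact hp2 (Cfsg.Agent.S0519.result p hP hcon hB).1
  · push Not at hB
    have hnt : Nontrivial P := by
      by_contra h
      rw [not_nontrivial_iff_subsingleton] at h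
      exact hnc inferInstance
    have hZnt : Nontrivial ↥(Subgroup.center P) := hP.center_nontrivial
    have hZdvd : p ∣ Nat.card ↥(Subgroup.center P) := by
      rcases (hP.to_subgroup (Subgroup.center P)).card_eq_or_dvd with h | h
      · have := Finite.one_lt_card_iff_nontrivial.mpr hZnt
        omega
      · exact h
    obtain ⟨z', hz'⟩ := exists_prime_orderOf_dvd_card' p hZdvd
    set z : P := (z' : P) with hzdef
    have hzo : orderOf z = p := by rw [hzdef, Subgroup.orderOf_coe]; exact hz'
    have hzc : ∀ g : P, g * z = z * g := fun g => (Subgroup.mem_center_iff.mp z'.2) g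
    have hz1 : z ≠ 1 := by
      intro h
      rw [h, orderOf_one] at hzo
      exact hp.one_lt.ne' hzo.symm
    have hzp : z ^ p = 1 := by rw [← hzo]; exact pow_orderOf_eq_one z
    have key : ∀ x : P, orderOf x = p → x ∈ zpowers z := by
      intro x hx
      have hcomm : ∀ a ∈ ({x, z} : Set P), ∀ b ∈ ({x, z} : Set P), a * b = b * a := by
        intro a ha b hb
        rcases ha with rfl | rfl <;> rcases hb with rfl | rfl
        · rfl
        · exact hzc _
        · exact (hzc _).symm
        · rfl
      have hTc : IsMulCommutative ↥(Subgroup.closure ({x, z} : Set P)) :=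
        Subgroup.isMulCommutative_closure hcomm
      have hTcyc := hB _ hTc
      exact mem_zpowers_of_isCyclic_sub hp _ hTcyc (Subgroup.subset_closure (by simp))
        (Subgroup.subset_closure (by simp)) hz1 hzp (by rw [← hx]; exact pow_orderOf_eq_one x)
    have hu : Cfsg.Agent.Helper73.UniqueOrderP p P := by
      intro x y hx hy
      have hxz := key x hx
      have hyz := key y hy
      have hle : zpowers x ≤ zpowers z := (Subgroup.zpowers_le).mpr hxz
      have heq : zpowers x = zpowers z := by
        apply Subgroup.eq_of_le_of_card_ge hle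
        rw [Nat.card_zpowers, Nat.card_zpowers, hx, hzo]
      rw [heq]
      exact hyz
    rcases Cfsg.Agent.Helper73.cyclic_or_quaternion hP hu with h | h
    · exact hnc h
    · exact hp2 h.1

/-- (OP) -/
theorem OP_card_dvd_cube {P : Type*} [Group P] [Finite P] (p : ℕ) [Fact p.Prime] (hp2 : p ≠ 2)
    (hP : IsPGroup p P) (hsc : SC P) (hnc : ¬ IsCyclic P) :
    Nat.card P ∣ p ^ 3 ∧ (Nat.card P = p ^ 3 → ¬ IsMulCommutative P) := by
  have hp : p.Prime := Fact.out
  obtain ⟨E, hEn, hEc, hEnc⟩ := exists_normal_abelian_noncyclic p hp2 hP hnc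
  have hEcomm : ∀ u v : ↥E, u * v = v * u := fun u v => hEc.is_comm.comm u v
  have hEcard : Nat.card ↥E ∣ p ^ 2 :=
    card_dvd_sq_of_comm p hp2 (hP.to_subgroup E) hEcomm (sc_subgroup hsc E) hEnc
  have hEab : ∀ a ∈ E, ∀ b ∈ E, a * b = b * a := fun a ha b hb =>
    congrArg Subtype.val (hEcomm ⟨a, ha⟩ ⟨b, hb⟩)
  have hCE : Subgroup.centralizer (E : Set P) = E := by
    apply le_antisymm (hsc E hEnc)
    intro g hg
    rw [Subgroup.mem_centralizer_iff]
    intro h hh
    exact hEab h hh g hg
  by_cases hEtop : E = ⊤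
  · have hcard : Nat.card P = Nat.card ↥E := by rw [hEtop, Subgroup.card_top]
    constructor
    · rw [hcard]
      exact hEcard.trans (pow_dvd_pow p (by norm_num))
    · intro h3
      exfalso
      rw [hcard] at h3
      rw [h3] at hEcard
      have := Nat.le_of_dvd (pow_pos hp.pos 2) hEcard
      have h4 : p ^ 2 < p ^ 3 := Nat.pow_lt_pow_right hp.one_lt (by norm_num)
      omega
  · have hncomm : ¬ IsMulCommutative P := by
      intro hc
      apply hEtop
      rw [← hCE, eq_top_iff]
      intro g _
      rw [Subgroup.mem_centralizer_iff]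
      intro h _
      exact hc.is_comm.comm h g
    refine ⟨?_, fun _ => hncomm⟩
    -- `|E| = p ^ 2`
    obtain ⟨m, hm2, hm⟩ := (Nat.dvd_prime_pow hp).mp hEcard
    have hm0 : m ≠ 0 := by
      intro h0
      rw [h0, pow_zero] at hm
      have : Subsingleton ↥E := (Nat.card_eq_one_iff_unique.mp hm).1
      exact hEnc inferInstance
    have hm1 : m ≠ 1 := by
      intro h1
      rw [h1, pow_one] at hm
      exact hEnc (isCyclic_of_prime_card hm)
    have hm2' : m = 2 := by omega
    subst hm2'
    -- exponent `p`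
    have hexp : ∀ x ∈ E, x ^ p = 1 := by
      intro x hx
      have hdvd : orderOf (⟨x, hx⟩ : ↥E) ∣ p ^ 2 := by
        rw [← hm]; exact orderOf_dvd_natCard _
      obtain ⟨i, hi2, hi⟩ := (Nat.dvd_prime_pow hp).mp hdvd
      have hi2' : i ≠ 2 := by
        intro h2
        rw [h2, ← hm] at hi
        exact hEnc (isCyclic_of_orderOf_eq_card _ hi)
      have hi1 : i ≤ 1 := by omega
      have h1 : (⟨x, hx⟩ : ↥E) ^ p = 1 := by
        apply orderOf_dvd_iff_pow_eq_one.mp
        rw [hi]
        calc p ^ i ∣ p ^ 1 := pow_dvd_pow p hi1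
          _ = p := pow_one p
      simpa using congrArg Subtype.val h1
    -- a central element of `E`
    have hEbot : E ≠ ⊥ := by
      intro h
      rw [h, Subgroup.card_bot] at hm
      have := Nat.one_lt_pow (n := 2) (by norm_num) hp.one_lt
      omega
    have hZ0 := Cfsg.Agent.Helper63.normal_inf_center_ne_bot hP E hEbot
    obtain ⟨z', hz'⟩ := (Subgroup.ne_bot_iff_exists_ne_one).mp hZ0
    set z : P := (z' : P) with hzdef
    have hzE : z ∈ E := z'.2.1
    have hzc : ∀ g : P, g * z = z * g := fun g => (Subgroup.mem_center_iff.mp z'.2.2) g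
    have hz1 : z ≠ 1 := fun h => hz' (Subtype.ext h)
    -- an element of `E` outside `⟨z⟩`
    have hlt : zpowers z < E := by
      refine lt_of_le_of_ne ((Subgroup.zpowers_le).mpr hzE) ?_
      intro h
      apply hEnc
      rw [← h]
      infer_instance
    obtain ⟨e, heE, hez⟩ := SetLike.exists_of_lt hlt
    -- `closure {z, e}` is not cyclic
    have hFnc : ¬ IsCyclic ↥(Subgroup.closure ({z, e} : Set P)) := by
      intro hc
      apply hez
      exact mem_zpowers_of_isCyclic_sub hp _ hc (Subgroup.subset_closure (by simp))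
        (Subgroup.subset_closure (by simp)) hz1 (hexp z hzE) (hexp e heE)
    have hFE : Subgroup.closure ({z, e} : Set P) ≤ E := by
      rw [Subgroup.closure_le]
      intro x hx
      rcases hx with rfl | rfl
      · exact hzE
      · exact heE
    -- the centralizer of `e` is `E`
    have hC : Subgroup.centralizer ({e} : Set P) = E := by
      apply le_antisymm
      · intro g hg
        have hge : g * e = e * g := Subgroup.mem_centralizer_singleton_iff.mp hg
        have hle : Subgroup.closure ({z, e} : Set P) ≤ Subgroup.centralizer ({g} : Set P) := by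
          rw [Subgroup.closure_le]
          intro x hx
          rcases hx with rfl | rfl
          · exact Subgroup.mem_centralizer_singleton_iff.mpr (hzc g).symm
          · exact Subgroup.mem_centralizer_singleton_iff.mpr hge.symm
        have hg' : g ∈ Subgroup.centralizer ((Subgroup.closure ({z, e} : Set P) : Subgroup P) : Set P) := by
          rw [Subgroup.mem_centralizer_iff]
          intro h hh
          exact Subgroup.mem_centralizer_singleton_iff.mp (hle hh)
        exact hFE (hsc _ hFnc hg')
      · intro g hg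
        exact Subgroup.mem_centralizer_singleton_iff.mpr (hEab g hg e heE)
    -- counting the conjugates of `e`
    set C : Subgroup P := Subgroup.centralizer ({e} : Set P) with hCdef
    obtain ⟨c, hc⟩ := hP.index C
    have hc1 : c ≤ 1 := by
      by_contra hcon
      push Not at hcon
      let φ : P ⧸ C → ↥E := fun q => Quotient.liftOn' q
        (fun g => (⟨g * e * g⁻¹, hEn.conj_mem e heE g⟩ : ↥E)) (by
          intro g h hgh
          rw [QuotientGroup.leftRel_apply] at hgh
          have h1 : g⁻¹ * h * e = e * (g⁻¹ * h) := Subgroup.mem_centralizer_singleton_iff.mp hgh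
          apply Subtype.ext
          show g * e * g⁻¹ = h * e * h⁻¹
          symm
          calc h * e * h⁻¹ = g * (g⁻¹ * h * e) * (g⁻¹ * h)⁻¹ * g⁻¹ := by group
            _ = g * (e * (g⁻¹ * h)) * (g⁻¹ * h)⁻¹ * g⁻¹ := by rw [h1]
            _ = g * e * g⁻¹ := by group)
      have hφinj : Function.Injective φ := by
        intro q1 q2
        refine Quotient.inductionOn₂' q1 q2 ?_
        intro g h hgh
        have h1 : g * e * g⁻¹ = h * e * h⁻¹ := congrArg Subtype.val hgh
        apply Quotient.sound'
        rw [QuotientGroup.leftRel_apply]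
        apply Subgroup.mem_centralizer_singleton_iff.mpr
        calc g⁻¹ * h * e = g⁻¹ * (h * e * h⁻¹) * h := by group
          _ = g⁻¹ * (g * e * g⁻¹) * h := by rw [h1]
          _ = e * (g⁻¹ * h) := by group
      have hle : Nat.card ↥E ≤ Nat.card (P ⧸ C) := by
        rw [hm, ← Subgroup.index_eq_card, hc]
        exact Nat.pow_le_pow_right hp.pos hcon
      have hbij := hφinj.bijective_of_nat_card_le hle
      obtain ⟨q, hq⟩ := hbij.2 1
      revert hq
      refine Quotient.inductionOn' q ?_
      intro g hg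
      have h1 : g * e * g⁻¹ = 1 := congrArg Subtype.val hg
      apply hez
      have : e = 1 := by
        have := congrArg (fun t => g⁻¹ * t * g) h1
        simpa [mul_assoc] using this
      rw [this]
      exact one_mem _
    have hcard : Nat.card P = p ^ c * p ^ 2 := by
      rw [← Subgroup.index_mul_card C, hc, hC, hm]
    rw [hcard, ← pow_add]
    exact pow_dvd_pow p (by omega)

end Cfsg.Agent.Helper24.SCG
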