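import Mathlib
import Cfsg.Prelude.Def_Local
import Cfsg.Agent.Lib.Cores
import Cfsg.Agent.Helper11.PSolvable
import Cfsg.Agent.Helper10.MinNormal
import Cfsg.Agent.S0585
import Cfsg.Agent.S0575
import Cfsg.Agent.Helper1.SZ

/-!
# Groups whose maximal subgroups are `p`-nilpotent or of prime index have `p`-length at most two
(helper24)
-/

set_option autoImplicit false

universe u

namespace Cfsg.Agent.Helper24

open Subgroup

/-- `M` has a normal `p`-complement (existential form). -/
def NPC (p : ℕ) (M : Type*) [Group M] : Prop :=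
  ∃ K : Subgroup M, K.Normal ∧ ¬ p ∣ Nat.card K ∧ ∃ k : ℕ, K.index = p ^ k

/-- every maximal subgroup has a normal `p`-complement or prime index -/
def MaxHyp (p : ℕ) (G : Type*) [Group G] : Prop :=
  ∀ M : Subgroup G, IsCoatom M → NPC p ↥M ∨ (M.index).Prime

/-- the conclusion: a normal series with factors `p'`, `p`, `p'`, `p`, `p'` -/
def PChain (p : ℕ) (G : Type*) [Group G] : Prop :=
  ∃ A B C D : Subgroup G, A.Normal ∧ B.Normal ∧ C.Normal ∧ D.Normal ∧ A ≤ B ∧ B ≤ C ∧ C ≤ D ∧
    ¬ p ∣ Nat.card A ∧ (∃ k : ℕ, A.relIndex B = p ^ k) ∧ ¬ p ∣ B.relIndex C ∧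
    (∃ k : ℕ, C.relIndex D = p ^ k) ∧ ¬ p ∣ D.index ∧ (p = 2 → D = ⊤)

theorem npc_of_surjective {M M' : Type*} [Group M] [Group M'] {p : ℕ} (hp : p.Prime)
    (f : M →* M') (hf : Function.Surjective f) (h : NPC p M) : NPC p M' := by
  obtain ⟨K, hKn, hKc, k, hk⟩ := h
  refine ⟨K.map f, hKn.map f hf, ?_, ?_⟩
  · intro hdvd
    exact hKc (dvd_trans hdvd (Subgroup.card_map_dvd K f))
  · have : (K.map f).index ∣ p ^ k := by rw [← hk]; exact Subgroup.index_map_dvd K hf
    obtain ⟨j, -, hj⟩ := (Nat.dvd_prime_pow hp).mp this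
    exact ⟨j, hj⟩

theorem isCoatom_comap_of_surjective {G H : Type*} [Group G] [Group H] (f : G →* H)
    (hf : Function.Surjective f) (M : Subgroup H) (hM : IsCoatom M) : IsCoatom (M.comap f) := by
  constructor
  · intro htop
    apply hM.1
    rw [← Subgroup.map_comap_eq_self_of_surjective hf M, htop, Subgroup.map_top_of_surjective f hf]
  · intro L hL
    have hker : f.ker ≤ L := le_trans (by rw [← MonoidHom.comap_bot]; exact Subgroup.comap_mono bot_le) hL.le
    have hML : M ≤ L.map f := by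
      rw [← Subgroup.map_comap_eq_self_of_surjective hf M]
      exact Subgroup.map_mono hL.le
    have hne : M ≠ L.map f := by
      intro h
      have : L ≤ M.comap f := by rw [h]; exact Subgroup.le_comap_map f L
      exact absurd (lt_of_lt_of_le hL this) (lt_irrefl _)
    have htop := hM.2 _ (lt_of_le_of_ne hML hne)
    rw [← Subgroup.comap_map_eq_self hker, htop, Subgroup.comap_top]

theorem maxHyp_quotient {G : Type*} [Group G] {p : ℕ} (hp : p.Prime) (h : MaxHyp p G)
    (N : Subgroup G) [N.Normal] : MaxHyp p (G ⧸ N) := by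
  intro Mbar hMbar
  have hfs : Function.Surjective (QuotientGroup.mk' N) := QuotientGroup.mk'_surjective N
  have hMco := isCoatom_comap_of_surjective (QuotientGroup.mk' N) hfs Mbar hMbar
  rcases h _ hMco with h1 | h1
  · left
    exact npc_of_surjective hp ((QuotientGroup.mk' N).subgroupComap Mbar)
      ((QuotientGroup.mk' N).subgroupComap_surjective_of_surjective Mbar hfs) h1
  · right
    rwa [Subgroup.index_comap_of_surjective Mbar hfs] at h1


theorem relIndex_comap_comap {G : Type*} [Group G] (N : Subgroup G) [N.Normal]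
    (H K : Subgroup (G ⧸ N)) :
    (H.comap (QuotientGroup.mk' N)).relIndex (K.comap (QuotientGroup.mk' N)) = H.relIndex K := by
  rw [Subgroup.relIndex_comap,
    Subgroup.map_comap_eq_self_of_surjective (QuotientGroup.mk'_surjective N)]

theorem le_comap_mk {G : Type*} [Group G] (N : Subgroup G) [N.Normal] (H : Subgroup (G ⧸ N)) :
    N ≤ H.comap (QuotientGroup.mk' N) := by
  intro x hx
  rw [Subgroup.mem_comap]
  have : (QuotientGroup.mk' N) x = 1 := by
    rw [QuotientGroup.mk'_apply, QuotientGroup.eq_one_iff]; exact hx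
  rw [this]; exact H.one_mem

theorem relIndex_ker_comap {G : Type*} [Group G] (N : Subgroup G) [N.Normal]
    (H : Subgroup (G ⧸ N)) : N.relIndex (H.comap (QuotientGroup.mk' N)) = Nat.card H := by
  have := relIndex_comap_comap N ⊥ H
  rw [MonoidHom.comap_bot, QuotientGroup.ker_mk', Subgroup.relIndex_bot_left] at this
  exact this

theorem card_comap_mk {G : Type*} [Group G] (N : Subgroup G) [N.Normal]
    (H : Subgroup (G ⧸ N)) :
    Nat.card (H.comap (QuotientGroup.mk' N)) = Nat.card N * Nat.card H := by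
  rw [← Cfsg.Agent.Helper11.card_mul_relIndex (le_comap_mk N H), relIndex_ker_comap]


open scoped Pointwise in
/-- Frattini + Schur–Zassenhaus: if `G` has no nontrivial normal `p'`-subgroup, `T ≤ Φ(G)` is a normal
`p`-subgroup and `A ⊴ G` contains `T` with `A/T` a `p'`-group, then `A = T`. -/
theorem eq_of_frattini_hall {G : Type u} [Group G] [Finite G] {p : ℕ} [hp : Fact p.Prime]
    (hO : ∀ Y : Subgroup G, Y.Normal → ¬ p ∣ Nat.card Y → Y = ⊥)
    (T A : Subgroup G) [hTn : T.Normal] [hAn : A.Normal] (hTA : T ≤ A) (hTΦ : T ≤ frattini G)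
    (hT : IsPGroup p T) (hAT : ¬ p ∣ T.relIndex A) : A = T := by
  classical
  set T' : Subgroup ↥A := T.subgroupOf A with hT'
  have hT'n : T'.Normal := Subgroup.normal_subgroupOf
  have hcardT' : Nat.card T' = Nat.card T :=
    Nat.card_congr (Subgroup.subgroupOfEquivOfLe hTA).toEquiv
  have hidx : T'.index = T.relIndex A := rfl
  obtain ⟨k, hk⟩ := IsPGroup.iff_card.mp hT
  have hcop : (Nat.card T').Coprime T'.index := by
    rw [hcardT', hk, hidx]
    exact Nat.Coprime.pow_left k ((Nat.Prime.coprime_iff_not_dvd hp.out).mpr hAT)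
  obtain ⟨Y₀, hY₀⟩ := Subgroup.exists_right_complement'_of_coprime hcop
  have hcardY₀ : Nat.card Y₀ = T'.index := (hY₀.symm.index_eq_card).symm
  have hcop' : (Nat.card T').Coprime (Nat.card Y₀) := by rw [hcardY₀]; exact hcop
  set Y : Subgroup G := Y₀.map A.subtype with hY
  have hcardY : Nat.card Y = Nat.card Y₀ :=
    Subgroup.card_map_of_injective A.subtype_injective
  have hYA : Y ≤ A := by
    rw [hY]; rintro _ ⟨y, -, rfl⟩; exact y.2
  have hTsolv : Group.IsSolvable T' := by
    have hT'p : IsPGroup p T' := hT.comap_subtype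
    have : Group.IsNilpotent T' := hT'p.isNilpotent
    infer_instance
  -- A = T ⊔ Y
  have hAeq : A = T ⊔ Y := by
    have h1 : T' ⊔ Y₀ = ⊤ := hY₀.sup_eq_top
    have h2 := congrArg (Subgroup.map A.subtype) h1
    rw [Subgroup.map_sup, hT', Subgroup.subgroupOf_map_subtype, ← hY,
      ← MonoidHom.range_eq_map, Subgroup.range_subtype, inf_eq_left.mpr hTA] at h2
    exact h2.symm
  -- the normalizer of Y together with T is everything
  have hNT : Subgroup.normalizer (Y : Set G) ⊔ T = ⊤ := by
    rw [eq_top_iff]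
    intro g _
    -- conjugate complement
    have hYgA : Y.map (MulAut.conj g).toMonoidHom ≤ A := by
      rintro _ ⟨y, hy, rfl⟩
      exact hAn.conj_mem y (hYA hy) g
    set Yg : Subgroup ↥A := (Y.map (MulAut.conj g).toMonoidHom).subgroupOf A with hYg
    have hcardYg : Nat.card Yg = Nat.card Y₀ := by
      rw [hYg, Nat.card_congr (Subgroup.subgroupOfEquivOfLe hYgA).toEquiv,
        Subgroup.card_map_of_injective (MulAut.conj g).injective, hcardY]
    have hcompl : Subgroup.IsComplement' T' Yg := by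
      apply Subgroup.isComplement'_of_coprime
      · rw [hcardYg]; exact hY₀.card_mul_card
      · rw [hcardYg]; exact hcop'
    obtain ⟨a, ha⟩ := Cfsg.Agent.Helper1.sz_conj T' Y₀ Yg hcop' hY₀ hcompl (Or.inl hTsolv)
    -- g⁻¹ a normalizes Y
    have hnorm : g⁻¹ * (a : G) ∈ Subgroup.normalizer (Y : Set G) := by
      apply Subgroup.mem_normalizer_fintype
      intro y hy
      obtain ⟨y₀, hy₀, rfl⟩ := hy
      have h1 : a * y₀ * a⁻¹ ∈ MulAut.conj a • Y₀ := by
        rw [Subgroup.mem_pointwise_smul_iff_inv_smul_mem]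
        simpa [MulAut.smul_def, mul_assoc] using hy₀
      rw [ha, hYg, Subgroup.mem_subgroupOf] at h1
      obtain ⟨y', hy', hy'eq⟩ := h1
      have h2 : (g⁻¹ * (a : G)) * (A.subtype y₀) * (g⁻¹ * (a : G))⁻¹ = y' := by
        have h3 : g * y' * g⁻¹ = (a : G) * (y₀ : G) * (a : G)⁻¹ := by
          simpa using hy'eq
        calc (g⁻¹ * (a : G)) * (A.subtype y₀) * (g⁻¹ * (a : G))⁻¹
            = g⁻¹ * ((a : G) * (y₀ : G) * (a : G)⁻¹) * g := by
              simp only [Subgroup.coe_subtype]; group
          _ = g⁻¹ * (g * y' * g⁻¹) * g := by rw [h3]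
          _ = y' := by group
      show (g⁻¹ * (a : G)) * (A.subtype y₀) * (g⁻¹ * (a : G))⁻¹ ∈ (Y : Set G)
      rw [h2]; exact hy'
    -- g = a * (g⁻¹ a)⁻¹
    have hg : g = (a : G) * (g⁻¹ * (a : G))⁻¹ := by group
    rw [hg]
    apply Subgroup.mul_mem
    · have haA : (a : G) ∈ T ⊔ Y := by rw [← hAeq]; exact a.2
      refine (sup_le ?_ ?_ : T ⊔ Y ≤ _) haA
      · exact le_sup_right
      · exact le_trans Subgroup.le_normalizer le_sup_left
    · exact Subgroup.mem_sup_left (Subgroup.inv_mem _ hnorm)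
  have hNtop : Subgroup.normalizer (Y : Set G) = ⊤ := by
    apply frattini_nongenerating
    rw [eq_top_iff, ← hNT]
    exact sup_le_sup_left hTΦ _
  have hYn : Y.Normal := Subgroup.normalizer_eq_top_iff.mp hNtop
  have hYbot : Y = ⊥ := by
    apply hO Y hYn
    rw [hcardY, hcardY₀, hidx]; exact hAT
  rw [hAeq, hYbot, sup_bot_eq]


/-- A nilpotent normal subgroup of a group without nontrivial normal `p'`-subgroups is a `p`-group. -/
theorem isPGroup_of_nilpotent_normal {G : Type*} [Group G] [Finite G] {p : ℕ} [hp : Fact p.Prime]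
    (hO : ∀ Y : Subgroup G, Y.Normal → ¬ p ∣ Nat.card Y → Y = ⊥)
    (T : Subgroup G) [hTn : T.Normal] (hnil : Group.IsNilpotent T) : IsPGroup p T := by
  classical
  have key : ∀ q : ℕ, q.Prime → q ∣ Nat.card T → q = p := by
    intro q hq hqd
    by_contra hne
    have : Fact q.Prime := ⟨hq⟩
    have h03 := (Group.isNilpotent_of_finite_tfae (G := T)).out 0 3
    have hall := h03.mp hnil
    obtain ⟨Q⟩ : Nonempty (Sylow q T) := inferInstance
    have hQn : (Q : Subgroup T).Normal := hall q inferInstance Q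
    have hQc : (Q : Subgroup T).Characteristic := Sylow.characteristic_of_normal Q hQn
    have hQG : ((Q : Subgroup T).map T.subtype).Normal := inferInstance
    have hcard : Nat.card ((Q : Subgroup T).map T.subtype) = Nat.card (Q : Subgroup T) :=
      Subgroup.card_map_of_injective T.subtype_injective
    obtain ⟨j, hj⟩ := IsPGroup.iff_card.mp Q.2
    have hbot := hO _ hQG (by
      rw [hcard, hj]
      intro hd
      have := (Nat.prime_dvd_prime_iff_eq hp.out hq).mp (hp.out.dvd_of_dvd_pow hd)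
      exact hne this.symm)
    have hQbot : (Q : Subgroup T) = ⊥ :=
      (Subgroup.map_eq_bot_iff_of_injective _ T.subtype_injective).mp hbot
    exact Q.ne_bot_of_dvd_card hqd hQbot
  have hpos : Nat.card T ≠ 0 := Nat.card_pos.ne'
  have := Nat.eq_prime_pow_of_unique_prime_dvd hpos (fun {d} hd hdd => key d hd hdd)
  exact IsPGroup.of_card this


/-- If `A ⊔ M = ⊤` with `A` normal abelian, then `B ⊓ M` is normal for every normal `B ≤ A`... here for
`B = A`-contained normal subgroup `B` itself. -/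
theorem normal_inf_of_sup_eq_top {G : Type*} [Group G] [Finite G] (A B M : Subgroup G)
    [hBn : B.Normal] (hBA : B ≤ A) (hAab : IsMulCommutative A) (hsup : A ⊔ M = ⊤) :
    (B ⊓ M).Normal := by
  have hAC : A ≤ centralizer (A : Set G) :=
    Subgroup.le_centralizer_iff_isMulCommutative.mpr hAab
  rw [← Subgroup.normalizer_eq_top_iff, eq_top_iff, ← hsup]
  apply sup_le
  · refine le_trans ?_ (Subgroup.centralizer_le_normalizer _)
    refine le_trans hAC (Subgroup.centralizer_le ?_)
    intro x hx; exact hBA hx.1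
  · intro m hm
    apply Subgroup.mem_normalizer_fintype
    intro x hx
    exact ⟨hBn.conj_mem x hx.1 m, M.mul_mem (M.mul_mem hm hx.2) (M.inv_mem hm)⟩

theorem exists_coatom_complement {G : Type*} [Group G] [Finite G] (hΦ : frattini G = ⊥)
    (V : Subgroup G) [hVn : V.Normal] (hVne : V ≠ ⊥) (hVab : IsMulCommutative V)
    (hmin : ∀ K : Subgroup G, K.Normal → K ≤ V → K = ⊥ ∨ K = V) :
    ∃ M : Subgroup G, IsCoatom M ∧ V ⊔ M = ⊤ ∧ V ⊓ M = ⊥ := by
  have h1 : ∃ M : Subgroup G, IsCoatom M ∧ ¬ V ≤ M := by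
    by_contra h
    push Not at h
    apply hVne
    rw [eq_bot_iff, ← hΦ, frattini, Order.radical]
    exact le_iInf fun M => le_iInf fun hM => h M hM
  obtain ⟨M, hM, hVM⟩ := h1
  have hsup : V ⊔ M = ⊤ := by
    apply hM.2
    refine lt_of_le_of_ne le_sup_right ?_
    intro h
    apply hVM
    rw [h]; exact le_sup_left
  refine ⟨M, hM, hsup, ?_⟩
  have hn : (V ⊓ M).Normal := normal_inf_of_sup_eq_top V V M le_rfl hVab hsup
  rcases hmin _ hn inf_le_left with h | h
  · exact h
  · exfalso; apply hVM; rw [← h]; exact inf_le_right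


/-- With trivial Frattini subgroup, an abelian normal subgroup is generated by the minimal normal
subgroups it contains. -/
theorem le_sSup_minimal_normal {G : Type*} [Group G] [Finite G] (hΦ : frattini G = ⊥)
    (P : Subgroup G) [hPn : P.Normal] (hPab : IsMulCommutative P) :
    P ≤ sSup {V : Subgroup G | V.Normal ∧ V ≠ ⊥ ∧ V ≤ P ∧
      ∀ K : Subgroup G, K.Normal → K ≤ V → K = ⊥ ∨ K = V} := by
  set S := sSup {V : Subgroup G | V.Normal ∧ V ≠ ⊥ ∧ V ≤ P ∧
      ∀ K : Subgroup G, K.Normal → K ≤ V → K = ⊥ ∨ K = V} with hS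
  have hSP : S ≤ P := sSup_le (fun V hV => hV.2.2.1)
  have hSn : S.Normal := Subgroup.sSup_normal _ (fun N hN => hN.1)
  have hPab' : ∀ x ∈ P, ∀ y ∈ P, x * y = y * x := isMulCommutative_iff_of_setLike.mp hPab
  have hSab : IsMulCommutative S :=
    isMulCommutative_iff_of_setLike.mpr (fun x hx y hy => hPab' x (hSP hx) y (hSP hy))
  obtain ⟨L, hL⟩ := Cfsg.Agent.S0585.result hΦ S
  have hsup : P ⊔ L = ⊤ := by
    rw [eq_top_iff, ← hL.sup_eq_top]
    exact sup_le_sup_right hSP L
  have hn : (P ⊓ L).Normal := normal_inf_of_sup_eq_top P P L le_rfl hPab hsup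
  have hbot : P ⊓ L = ⊥ := by
    by_contra hne
    obtain ⟨N, hNn, hNne, hNle, hNmin⟩ := Cfsg.Agent.Helper10.exists_minimal_normal_le (P ⊓ L) hne
    have hNS : N ≤ S := le_sSup ⟨hNn, hNne, le_trans hNle inf_le_left, hNmin⟩
    have hNL : N ≤ L := le_trans hNle inf_le_right
    have : N ≤ S ⊓ L := le_inf hNS hNL
    rw [hL.disjoint.eq_bot] at this
    exact hNne (le_bot_iff.mp this)
  intro x hx
  -- x = s * l
  have hx' : x ∈ S ⊔ L := by rw [hL.sup_eq_top]; exact Subgroup.mem_top x
  obtain ⟨s, hs, l, hl, rfl⟩ := (Subgroup.mem_sup_of_normal_left).mp hx'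
  have hlP : l ∈ P := by
    have : l = s⁻¹ * (s * l) := by group
    rw [this]; exact P.mul_mem (P.inv_mem (hSP hs)) hx
  have : l ∈ P ⊓ L := ⟨hlP, hl⟩
  rw [hbot, Subgroup.mem_bot] at this
  rw [this, mul_one]; exact hs


/-- A normal subgroup of prime order `p` is centralized by all `(p-1)`-th powers. -/
theorem pow_pred_comm_of_card_eq_prime {G : Type*} [Group G] {p : ℕ} (hp : p.Prime)
    (V : Subgroup G) [hVn : V.Normal] (hV : Nat.card V = p) (g : G) :
    ∀ v ∈ V, g ^ (p - 1) * v = v * g ^ (p - 1) := by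
  have : Fact p.Prime := ⟨hp⟩
  have hfin : Finite V := Nat.finite_of_card_ne_zero (by rw [hV]; exact hp.ne_zero)
  have hcyc : IsCyclic V := isCyclic_of_prime_card hV
  have hcard : Nat.card (MulAut V) = p - 1 := by
    rw [IsCyclic.card_mulAut, hV, Nat.totient_prime hp]
  have h1 : (MulAut.conjNormal g : MulAut V) ^ (p - 1) = 1 := by
    rw [← hcard]; exact pow_card_eq_one'
  rw [← map_pow] at h1
  intro v hv
  have h2 := congrArg (fun φ : MulAut V => ((φ ⟨v, hv⟩ : V) : G)) h1
  simp only [MulAut.conjNormal_apply, MulAut.one_apply] at h2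
  calc g ^ (p - 1) * v = (g ^ (p - 1) * v * (g ^ (p - 1))⁻¹) * g ^ (p - 1) := by group
    _ = v * g ^ (p - 1) := by rw [h2]


theorem card_quotient_lt {G : Type*} [Group G] [Finite G] (N : Subgroup G) [N.Normal] (hN : N ≠ ⊥) :
    Nat.card (G ⧸ N) < Nat.card G := by
  rw [Subgroup.card_eq_card_quotient_mul_card_subgroup N]
  have h1 : 1 < Nat.card N := N.one_lt_card_iff_ne_bot.mpr hN
  have h2 : 0 < Nat.card (G ⧸ N) := Nat.card_pos
  nlinarith

/-- the case where some quotient by a normal `p`-subgroup has a normal `p`-complement -/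
theorem pChain_of_npc_quotient {G : Type*} [Group G] [Finite G] {p : ℕ} (hp : p.Prime)
    (V : Subgroup G) [hVn : V.Normal] (hV : IsPGroup p V) (h : NPC p (G ⧸ V)) : PChain p G := by
  obtain ⟨K, hKn, hKc, k, hk⟩ := h
  have : Fact p.Prime := ⟨hp⟩
  obtain ⟨j, hj⟩ := IsPGroup.iff_card.mp hV
  refine ⟨⊥, V, K.comap (QuotientGroup.mk' V), ⊤, inferInstance, hVn, hKn.comap _, inferInstance,
    bot_le, le_comap_mk V K, le_top, ?_, ⟨j, ?_⟩, ?_, ⟨k, ?_⟩, ?_, fun _ => rfl⟩
  · rw [Subgroup.card_bot]; exact hp.one_lt.ne' ∘ Nat.dvd_one.mp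
  · rw [Subgroup.relIndex_bot_left]; exact hj
  · rw [relIndex_ker_comap]; exact hKc
  · rw [Subgroup.relIndex_top_right,
      Subgroup.index_comap_of_surjective K (QuotientGroup.mk'_surjective V)]; exact hk
  · rw [Subgroup.index_top]; exact hp.one_lt.ne' ∘ Nat.dvd_one.mp


/-- The core case: no nontrivial normal `p'`-subgroups and trivial Frattini subgroup. -/
theorem pChain_core {G : Type u} [Group G] [Finite G] {p : ℕ} [hp : Fact p.Prime]
    (hsol : Cfsg.IsPSolvable p G) (hmax : MaxHyp p G)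
    (hO : ∀ Y : Subgroup G, Y.Normal → ¬ p ∣ Nat.card Y → Y = ⊥) (hΦ : frattini G = ⊥) :
    PChain p G := by
  classical
  set P := Cfsg.pCore p G with hP
  have hPc : P.Characteristic := Cfsg.Agent.Lib.pCore_characteristic p
  have hPn : P.Normal := Subgroup.normal_of_characteristic P
  have hPp : IsPGroup p P := Cfsg.Agent.Lib.isPGroup_pCore p
  have hpp : Cfsg.pPrimeCore p G = ⊥ := by
    have hc : (Cfsg.pPrimeCore p G).Characteristic := Cfsg.Agent.Lib.pPrimeCore_characteristic p
    apply hO _ (Subgroup.normal_of_characteristic _)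
    have := Cfsg.Agent.Lib.card_pPrimeCore_coprime (G := G) p
    intro hd
    exact hp.out.one_lt.ne' (Nat.dvd_one.mp (this ▸ Nat.dvd_gcd hd (dvd_refl p)))
  have hC : Subgroup.centralizer (P : Set G) ≤ P :=
    Cfsg.Agent.Helper11.centralizer_pCore_le_of_isPSolvable hsol hpp
  have hΦP : frattini P = ⊥ := by
    have h1 := Cfsg.Agent.S0575.result P
    rw [hΦ, le_bot_iff] at h1
    exact (Subgroup.map_eq_bot_iff_of_injective _ P.subtype_injective).mp h1
  have hPab : IsMulCommutative P :=
    Cfsg.Agent.Helper10.isMulCommutative_of_nilpotent_of_frattini_eq_bot hPp.isNilpotent hΦP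
  have hPab' : ∀ x ∈ P, ∀ y ∈ P, x * y = y * x := isMulCommutative_iff_of_setLike.mp hPab
  by_cases hA : ∃ V : Subgroup G, V.Normal ∧ V ≤ P ∧ ∃ M : Subgroup G, V ⊔ M = ⊤ ∧ NPC p ↥M
  · -- Case A
    obtain ⟨V, hVn, hVP, M, hsup, hnpc⟩ := hA
    have hsurj : Function.Surjective ((QuotientGroup.mk' V).comp M.subtype) := by
      intro x
      induction x using QuotientGroup.induction_on with
      | H g =>
        have hg : g ∈ V ⊔ M := by rw [hsup]; exact Subgroup.mem_top g
        obtain ⟨v, hv, m, hm, rfl⟩ := (Subgroup.mem_sup_of_normal_left).mp hg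
        refine ⟨⟨m, hm⟩, ?_⟩
        show ((m : G) : G ⧸ V) = ((v * m : G) : G ⧸ V)
        rw [QuotientGroup.mk_mul, (QuotientGroup.eq_one_iff v).mpr hv, one_mul]
    exact pChain_of_npc_quotient hp.out V (hPp.to_le hVP) (npc_of_surjective hp.out _ hsurj hnpc)
  · -- Case B
    push Not at hA
    have hcardV : ∀ V : Subgroup G, V.Normal → V ≠ ⊥ → V ≤ P →
        (∀ K : Subgroup G, K.Normal → K ≤ V → K = ⊥ ∨ K = V) → Nat.card V = p := by
      intro V hVn hVne hVP hVmin
      have hVab : IsMulCommutative V :=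
        isMulCommutative_iff_of_setLike.mpr (fun x hx y hy => hPab' x (hVP hx) y (hVP hy))
      obtain ⟨M, hM, hsup, hinf⟩ := exists_coatom_complement hΦ V hVne hVab hVmin
      have hcompl : Subgroup.IsComplement' V M := by
        apply Subgroup.isComplement'_of_disjoint_and_mul_eq_univ (disjoint_iff.mpr hinf)
        rw [← Subgroup.normal_mul, hsup, Subgroup.coe_top]
      have hidx : M.index = Nat.card V := hcompl.index_eq_card
      rcases hmax M hM with h | h
      · exact absurd h (hA V hVn hVP M hsup)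
      · rw [hidx] at h
        obtain ⟨j, hj⟩ := IsPGroup.iff_card.mp (hPp.to_le hVP)
        have hj0 : j ≠ 0 := by
          rintro rfl
          rw [pow_zero] at hj
          exact hVne (Subgroup.eq_bot_of_card_eq V hj)
        have hdvd : p ∣ Nat.card V := by rw [hj]; exact dvd_pow_self p hj0
        rcases (Nat.dvd_prime h).mp hdvd with h1 | h1
        · exact absurd h1 hp.out.one_lt.ne'
        · exact h1.symm
    have hpow : ∀ g : G, g ^ (p - 1) ∈ P := by
      intro g
      apply hC
      rw [Subgroup.mem_centralizer_iff]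
      intro x hx
      have hx' := le_sSup_minimal_normal hΦ P hPab hx
      have hle : sSup {V : Subgroup G | V.Normal ∧ V ≠ ⊥ ∧ V ≤ P ∧
          ∀ K : Subgroup G, K.Normal → K ≤ V → K = ⊥ ∨ K = V} ≤
          Subgroup.centralizer ({g ^ (p - 1)} : Set G) := by
        apply sSup_le
        rintro V ⟨hVn, hVne, hVP, hVmin⟩
        intro v hv
        rw [Subgroup.mem_centralizer_iff]
        intro z hz
        rw [Set.mem_singleton_iff] at hz
        rw [hz]
        exact pow_pred_comm_of_card_eq_prime hp.out V (hcardV V hVn hVne hVP hVmin) g v hv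
      have := hle hx'
      rw [Subgroup.mem_centralizer_iff] at this
      exact (this _ (Set.mem_singleton _)).symm
    obtain ⟨j, hj⟩ := IsPGroup.iff_card.mp hPp
    have hp1 : ¬ p ∣ 1 := hp.out.one_lt.ne' ∘ Nat.dvd_one.mp
    refine ⟨⊥, P, P, P, inferInstance, hPn, hPn, hPn, bot_le, le_rfl, le_rfl, ?_, ⟨j, ?_⟩, ?_,
      ⟨0, ?_⟩, ?_, ?_⟩
    · rw [Subgroup.card_bot]; exact hp1
    · rw [Subgroup.relIndex_bot_left]; exact hj
    · rw [Subgroup.relIndex_self]; exact hp1
    · rw [Subgroup.relIndex_self, pow_zero]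
    · intro hd
      rw [Subgroup.index_eq_card] at hd
      obtain ⟨x, hx⟩ := exists_prime_orderOf_dvd_card' p hd
      induction x using QuotientGroup.induction_on with
      | H g =>
        have h1 : ((g : G ⧸ P)) ^ (p - 1) = 1 := by
          rw [← QuotientGroup.mk_pow]; exact (QuotientGroup.eq_one_iff _).mpr (hpow g)
        have h2 := orderOf_dvd_of_pow_eq_one h1
        rw [hx] at h2
        have := Nat.le_of_dvd (Nat.sub_pos_of_lt hp.out.one_lt) h2
        have := hp.out.one_lt
        omega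
    · intro h2
      rw [eq_top_iff]
      intro g _
      have := hpow g
      rw [h2] at this
      simpa using this


theorem pChain_aux (p : ℕ) [hp : Fact p.Prime] (n : ℕ) :
    ∀ (G : Type u) [Group G] [Finite G], Nat.card G = n →
      Cfsg.IsPSolvable p G → MaxHyp p G → PChain p G := by
  induction n using Nat.strong_induction_on with
  | _ n ih =>
  intro G _ _ hcard hsol hmax
  classical
  have hp1 : ¬ p ∣ 1 := hp.out.one_lt.ne' ∘ Nat.dvd_one.mp
  by_cases h1 : ∃ N : Subgroup G, N.Normal ∧ N ≠ ⊥ ∧ ¬ p ∣ Nat.card N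
  · -- reduce modulo a normal p'-subgroup
    obtain ⟨N, hNn, hNne, hNp⟩ := h1
    have hlt : Nat.card (G ⧸ N) < n := by rw [← hcard]; exact card_quotient_lt N hNne
    have hfs : Function.Surjective (QuotientGroup.mk' N) := QuotientGroup.mk'_surjective N
    obtain ⟨A, B, C, D, hAn, hBn, hCn, hDn, hAB, hBC, hCD, hA, ⟨k1, hk1⟩, hBCp, ⟨k2, hk2⟩, hDp, hD2⟩ :=
      ih _ hlt (G ⧸ N) rfl (Cfsg.Agent.Helper11.isPSolvable_quotient N hsol)
        (maxHyp_quotient hp.out hmax N)
    refine ⟨A.comap (QuotientGroup.mk' N), B.comap (QuotientGroup.mk' N),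
      C.comap (QuotientGroup.mk' N), D.comap (QuotientGroup.mk' N), hAn.comap _, hBn.comap _,
      hCn.comap _, hDn.comap _, Subgroup.comap_mono hAB, Subgroup.comap_mono hBC,
      Subgroup.comap_mono hCD, ?_, ⟨k1, ?_⟩, ?_, ⟨k2, ?_⟩, ?_, ?_⟩
    · rw [card_comap_mk]
      intro hd
      rcases (Nat.Prime.dvd_mul hp.out).mp hd with h | h
      · exact hNp h
      · exact hA h
    · rw [relIndex_comap_comap]; exact hk1
    · rw [relIndex_comap_comap]; exact hBCp
    · rw [relIndex_comap_comap]; exact hk2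
    · rw [Subgroup.index_comap_of_surjective D hfs]; exact hDp
    · intro h2; rw [hD2 h2, Subgroup.comap_top]
  · push Not at h1
    have hO : ∀ Y : Subgroup G, Y.Normal → ¬ p ∣ Nat.card Y → Y = ⊥ := by
      intro Y hYn hY
      by_contra hne
      exact hY (h1 Y hYn hne)
    by_cases hΦ : frattini G = ⊥
    · exact pChain_core hsol hmax hO hΦ
    · -- reduce modulo the Frattini subgroup
      set T := frattini G with hT
      have hTn : T.Normal := Subgroup.normal_of_characteristic T
      have hTp : IsPGroup p T := isPGroup_of_nilpotent_normal hO T frattini_nilpotent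
      have hlt : Nat.card (G ⧸ T) < n := by rw [← hcard]; exact card_quotient_lt T hΦ
      have hfs : Function.Surjective (QuotientGroup.mk' T) := QuotientGroup.mk'_surjective T
      obtain ⟨A, B, C, D, hAn, hBn, hCn, hDn, hAB, hBC, hCD, hA, ⟨k1, hk1⟩, hBCp, ⟨k2, hk2⟩, hDp,
          hD2⟩ :=
        ih _ hlt (G ⧸ T) rfl (Cfsg.Agent.Helper11.isPSolvable_quotient T hsol)
          (maxHyp_quotient hp.out hmax T)
      have hAn' : (A.comap (QuotientGroup.mk' T)).Normal := hAn.comap _
      have hAT : A.comap (QuotientGroup.mk' T) = T :=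
        eq_of_frattini_hall hO T (A.comap (QuotientGroup.mk' T)) (le_comap_mk T A) le_rfl hTp
          (by rw [relIndex_ker_comap]; exact hA)
      have hAbot : A = ⊥ := by
        rw [← Subgroup.map_comap_eq_self_of_surjective hfs A, hAT, QuotientGroup.map_mk'_self]
      obtain ⟨k0, hk0⟩ := IsPGroup.iff_card.mp hTp
      refine ⟨⊥, B.comap (QuotientGroup.mk' T),
        C.comap (QuotientGroup.mk' T), D.comap (QuotientGroup.mk' T), inferInstance, hBn.comap _,
        hCn.comap _, hDn.comap _, bot_le, Subgroup.comap_mono hBC,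
        Subgroup.comap_mono hCD, ?_, ⟨k0 + k1, ?_⟩, ?_, ⟨k2, ?_⟩, ?_, ?_⟩
      · rw [Subgroup.card_bot]; exact hp1
      · rw [Subgroup.relIndex_bot_left, card_comap_mk, hk0, pow_add]
        congr 1
        rw [← hk1, hAbot, Subgroup.relIndex_bot_left]
      · rw [relIndex_comap_comap]; exact hBCp
      · rw [relIndex_comap_comap]; exact hk2
      · rw [Subgroup.index_comap_of_surjective D hfs]; exact hDp
      · intro h2; rw [hD2 h2, Subgroup.comap_top]

/-- **Main theorem.** A finite `p`-solvable group all of whose maximal subgroups have a normal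
`p`-complement or prime index has a normal series `1 ≤ A ≤ B ≤ C ≤ D ≤ G` with factors
`p'`, `p`, `p'`, `p`, `p'`, and `D = G` when `p = 2`. -/
theorem pChain_of_maxHyp {G : Type u} [Group G] [Finite G] (p : ℕ) [Fact p.Prime]
    (hsol : Cfsg.IsPSolvable p G) (hmax : MaxHyp p G) : PChain p G :=
  pChain_aux p (Nat.card G) G rfl hsol hmax

end Cfsg.Agent.Helper24
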