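import Cfsg.Agent.Helper16.DT.Defs

/-!
# DT farm (helper16), pieces (AC) and (CHP): the residue field `AlgInt ⧸ M` is algebraically
closed and has characteristic `p`.
-/

set_option autoImplicit false
set_option linter.unusedSectionVars false
set_option linter.unusedVariables false

namespace Cfsg.Agent.Helper24.DT

open Cfsg Cfsg.Agent.Helper16 Cfsg.Agent.Helper16.DT Polynomial Matrix

/-- (AC) the residue field is algebraically closed. -/
theorem isAlgClosed_res (M : Ideal AlgInt) [M.IsMaximal] : IsAlgClosed (AlgInt ⧸ M) := by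
  apply IsAlgClosed.of_exists_root
  intro f hf hirr
  have hsurj : Function.Surjective (Ideal.Quotient.mk M) := Ideal.Quotient.mk_surjective
  have hlift : f ∈ Polynomial.lifts (Ideal.Quotient.mk M) := by
    rw [Polynomial.mem_lifts]
    exact Polynomial.map_surjective _ hsurj f
  obtain ⟨q, hqf, hqdeg, hqm⟩ := Polynomial.lifts_and_natDegree_eq_and_monic hlift hf
  -- the image of `q` in `ℂ[X]`
  have hqC : (q.map (algebraMap AlgInt ℂ)).Monic := hqm.map _
  have hdeg : (q.map (algebraMap AlgInt ℂ)).degree ≠ 0 := by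
    rw [Polynomial.degree_map_eq_of_injective (FaithfulSMul.algebraMap_injective AlgInt ℂ)]
    have h1 : f.natDegree ≠ 0 := fun h0 => by
      have := Polynomial.natDegree_pos_iff_degree_pos.mpr (Polynomial.degree_pos_of_irreducible hirr)
      omega
    intro h0
    apply h1
    rw [← hqdeg]
    exact Polynomial.natDegree_eq_zero_iff_degree_le_zero.mpr (le_of_eq h0)
  obtain ⟨z, hz⟩ := IsAlgClosed.exists_root _ hdeg
  have hzint : IsIntegral AlgInt z := by
    refine ⟨q, hqm, ?_⟩
    rw [← Polynomial.eval_map]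
    exact hz
  have hzint' : IsIntegral ℤ z := isIntegral_trans (A := AlgInt) z hzint
  let a : AlgInt := ⟨z, hzint'⟩
  have hqa : q.eval a = 0 := by
    apply Subtype.ext
    have h1 : ((q.eval a : AlgInt) : ℂ) = (q.map (algebraMap AlgInt ℂ)).eval z := by
      rw [Polynomial.eval_map]
      have := Polynomial.hom_eval₂ q (RingHom.id AlgInt) (algebraMap AlgInt ℂ) a
      simpa using this
    rw [h1]
    exact hz
  refine ⟨Ideal.Quotient.mk M a, ?_⟩
  rw [← hqf, Polynomial.eval_map, Polynomial.eval₂_at_apply, hqa, map_zero]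

/-- (CHP) the residue field has characteristic `p`. -/
theorem charP_res {p : ℕ} [Fact p.Prime] (M : Ideal AlgInt) [M.IsMaximal]
    (hpM : (p : AlgInt) ∈ M) : CharP (AlgInt ⧸ M) p := by
  have hp0 : ((p : ℕ) : AlgInt ⧸ M) = 0 := by
    have : (Ideal.Quotient.mk M) (p : AlgInt) = 0 := by
      rw [Ideal.Quotient.eq_zero_iff_mem]
      exact hpM
    simpa using this
  exact (CharP.charP_iff_prime_eq_zero Fact.out).mpr hp0

end Cfsg.Agent.Helper24.DT
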