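import Cfsg.Agent.Helper16.DT.Defs

/-!
# DT farm (helper16), pieces (ECP) and (EGA): characteristic polynomial and scalar action of an
extension of matrix representations.
-/

set_option autoImplicit false
set_option linter.unusedSectionVars false
set_option linter.unusedVariables false

namespace Cfsg.Agent.Helper24.DT

open Cfsg Cfsg.Agent.Helper16 Cfsg.Agent.Helper16.DT Polynomial Matrix

universe u v w

variable {K : Type v} [Field K] {G : Type u} [Group G]

/-- Mutually inverse rectangular matrices over a field have index types of the same size. -/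
theorem card_eq_of_mul_eq_one {m n : Type*} [Fintype m] [DecidableEq m] [Fintype n]
    [DecidableEq n] (P : Matrix m n K) (Q : Matrix n m K) (h1 : P * Q = 1) (h2 : Q * P = 1) :
    Fintype.card m = Fintype.card n := by
  apply le_antisymm
  · calc Fintype.card m = (1 : Matrix m m K).rank := (Matrix.rank_one).symm
      _ = (P * Q).rank := by rw [h1]
      _ ≤ P.rank := Matrix.rank_mul_le_left P Q
      _ ≤ Fintype.card n := Matrix.rank_le_card_width P
  · calc Fintype.card n = (1 : Matrix n n K).rank := (Matrix.rank_one).symm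
      _ = (Q * P).rank := by rw [h2]
      _ ≤ Q.rank := Matrix.rank_mul_le_left Q P
      _ ≤ Fintype.card m := Matrix.rank_le_card_width Q

/-- (ECP) the characteristic polynomial of an extension. -/
theorem charpoly_of_isExtMat {ι : Type w} [Fintype ι] [DecidableEq ι] {κ : Type*} [Fintype κ]
    [DecidableEq κ] {κ' : Type*} [Fintype κ'] [DecidableEq κ'] {ρ : G →* Matrix ι ι K}
    {σ : G →* Matrix κ κ K} {τ : G →* Matrix κ' κ' K} (h : IsExtMat ρ σ τ) (g : G) :
    (ρ g).charpoly = (σ g).charpoly * (τ g).charpoly := by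
  obtain ⟨P, Q, X, hPQ, hQP, hg⟩ := h
  have hcard := card_eq_of_mul_eq_one P Q hPQ hQP
  have h1 : ρ g = P * (Matrix.fromBlocks (σ g) (X g) 0 (τ g) * Q) := by
    rw [← hg g, Matrix.mul_assoc, Matrix.mul_assoc, hPQ, Matrix.mul_one, ← Matrix.mul_assoc, hPQ,
      Matrix.one_mul]
  have h2 : (Matrix.fromBlocks (σ g) (X g) 0 (τ g) * Q) * P =
      Matrix.fromBlocks (σ g) (X g) 0 (τ g) := by
    rw [Matrix.mul_assoc, hQP, Matrix.mul_one]
  have h3 := Matrix.charpoly_mul_comm' P (Matrix.fromBlocks (σ g) (X g) 0 (τ g) * Q)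
  rw [h2, ← h1, hcard] at h3
  have hX : (Polynomial.X : K[X]) ^ Fintype.card (κ ⊕ κ') ≠ 0 := pow_ne_zero _ Polynomial.X_ne_zero
  have h4 := mul_left_cancel₀ hX h3
  rw [h4, Matrix.charpoly_fromBlocks_zero₂₁]

/-- (EGA) a linear combination acting as a scalar on an extension acts as the same scalar on both
factors. -/
theorem scalar_of_isExtMat {ι : Type w} [Fintype ι] [DecidableEq ι] {κ : Type*} [Fintype κ]
    [DecidableEq κ] {κ' : Type*} [Fintype κ'] [DecidableEq κ'] {ρ : G →* Matrix ι ι K}
    {σ : G →* Matrix κ κ K} {τ : G →* Matrix κ' κ' K} (h : IsExtMat ρ σ τ)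
    (S : Finset G) (x : G → K) (c : K) (hx : ∑ g ∈ S, x g • ρ g = c • (1 : Matrix ι ι K)) :
    ∑ g ∈ S, x g • σ g = c • (1 : Matrix κ κ K) ∧
      ∑ g ∈ S, x g • τ g = c • (1 : Matrix κ' κ' K) := by
  obtain ⟨P, Q, X, hPQ, hQP, hg⟩ := h
  have key : ∑ g ∈ S, x g • Matrix.fromBlocks (σ g) (X g) 0 (τ g) =
      c • (1 : Matrix (κ ⊕ κ') (κ ⊕ κ') K) := by
    calc ∑ g ∈ S, x g • Matrix.fromBlocks (σ g) (X g) 0 (τ g)
        = ∑ g ∈ S, x g • (Q * ρ g * P) := by
          refine Finset.sum_congr rfl fun g _ => ?_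
          rw [hg g]
      _ = Q * (∑ g ∈ S, x g • ρ g) * P := by
          rw [Matrix.mul_sum, Matrix.sum_mul]
          refine Finset.sum_congr rfl fun g _ => ?_
          rw [Matrix.mul_smul, Matrix.smul_mul]
      _ = c • (1 : Matrix (κ ⊕ κ') (κ ⊕ κ') K) := by
          rw [hx, Matrix.mul_smul, Matrix.smul_mul, Matrix.mul_one, hQP]
  constructor
  · ext i j
    have := congrFun (congrFun key (Sum.inl i)) (Sum.inl j)
    simp only [Matrix.sum_apply, Matrix.smul_apply, Matrix.fromBlocks_apply₁₁, Matrix.one_apply,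
      Sum.inl.injEq] at this
    simp only [Matrix.sum_apply, Matrix.smul_apply, Matrix.one_apply]
    exact this
  · ext i j
    have := congrFun (congrFun key (Sum.inr i)) (Sum.inr j)
    simp only [Matrix.sum_apply, Matrix.smul_apply, Matrix.fromBlocks_apply₂₂, Matrix.one_apply,
      Sum.inr.injEq] at this
    simp only [Matrix.sum_apply, Matrix.smul_apply, Matrix.one_apply]
    exact this

end Cfsg.Agent.Helper24.DT
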