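import Cfsg.Agent.Helper16.DT.Defs

/-!
# DT farm (helper16), piece (JH2), core: composition series of a matrix representation from the
pieces (JH1), (ECP), (EGA) taken as hypotheses.
-/

set_option autoImplicit false
set_option linter.unusedSectionVars false
set_option linter.unusedVariables false

namespace Cfsg.Agent.Helper24.DT

open Cfsg Cfsg.Agent.Helper16 Cfsg.Agent.Helper16.DT Polynomial Matrix

universe u v w

variable {K : Type v} [Field K] {G : Type u} [Group G]

/-- (JH2), with the pieces (JH1), (ECP), (EGA) for `Fin`-indexed representations as hypotheses. -/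
theorem exists_compSeries_of
    (hJH1 : ∀ {n : ℕ} (ρ : G →* Matrix (Fin n) (Fin n) K), 0 < n → ¬ IsIrredMat ρ →
      ∃ (a b : ℕ) (σ : G →* Matrix (Fin a) (Fin a) K) (τ : G →* Matrix (Fin b) (Fin b) K),
        0 < a ∧ 0 < b ∧ a + b = n ∧ IsExtMat ρ σ τ)
    (hECP : ∀ {n a b : ℕ} {ρ : G →* Matrix (Fin n) (Fin n) K}
      {σ : G →* Matrix (Fin a) (Fin a) K} {τ : G →* Matrix (Fin b) (Fin b) K},
      IsExtMat ρ σ τ → ∀ g : G, (ρ g).charpoly = (σ g).charpoly * (τ g).charpoly)
    (hEGA : ∀ {n a b : ℕ} {ρ : G →* Matrix (Fin n) (Fin n) K}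
      {σ : G →* Matrix (Fin a) (Fin a) K} {τ : G →* Matrix (Fin b) (Fin b) K},
      IsExtMat ρ σ τ → ∀ (S : Finset G) (x : G → K) (c : K),
        ∑ g ∈ S, x g • ρ g = c • (1 : Matrix (Fin n) (Fin n) K) →
        ∑ g ∈ S, x g • σ g = c • (1 : Matrix (Fin a) (Fin a) K) ∧
          ∑ g ∈ S, x g • τ g = c • (1 : Matrix (Fin b) (Fin b) K)) :
    ∀ (n : ℕ) (ρ : G →* Matrix (Fin n) (Fin n) K),
    ∃ l : List (Σ m : ℕ, G →* Matrix (Fin m) (Fin m) K),
      (∀ s ∈ l, IsIrredMat s.2) ∧
      (∀ g, (ρ g).charpoly = (l.map fun s => (s.2 g).charpoly).prod) ∧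
      (∀ (S : Finset G) (x : G → K) (c : K),
        ∑ g ∈ S, x g • ρ g = c • (1 : Matrix (Fin n) (Fin n) K) →
        ∀ s ∈ l, ∑ g ∈ S, x g • s.2 g = c • (1 : Matrix (Fin s.1) (Fin s.1) K)) := by
  intro n
  induction n using Nat.strong_induction_on with
  | _ n ih =>
    intro ρ
    rcases Nat.eq_zero_or_pos n with hn | hn
    · subst hn
      refine ⟨[], ?_, ?_, ?_⟩
      · intro s hs
        simp at hs
      · intro g
        simp [Matrix.charpoly, Matrix.det_isEmpty]
      · intro S x c _ s hs
        simp at hs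
    · by_cases hirr : IsIrredMat ρ
      · refine ⟨[⟨n, ρ⟩], ?_, ?_, ?_⟩
        · intro s hs
          rw [List.mem_singleton] at hs
          subst hs
          exact hirr
        · intro g
          simp
        · intro S x c hx s hs
          rw [List.mem_singleton] at hs
          subst hs
          exact hx
      · obtain ⟨a, b, σ, τ, ha, hb, hab, hext⟩ := hJH1 ρ hn hirr
        obtain ⟨l1, h11, h12, h13⟩ := ih a (by omega) σ
        obtain ⟨l2, h21, h22, h23⟩ := ih b (by omega) τ
        refine ⟨l1 ++ l2, ?_, ?_, ?_⟩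
        · intro s hs
          rcases List.mem_append.mp hs with h | h
          · exact h11 s h
          · exact h21 s h
        · intro g
          rw [List.map_append, List.prod_append, ← h12 g, ← h22 g]
          exact hECP hext g
        · intro S x c hx s hs
          obtain ⟨e1, e2⟩ := hEGA hext S x c hx
          rcases List.mem_append.mp hs with h | h
          · exact h13 S x c e1 s h
          · exact h23 S x c e2 s h

end Cfsg.Agent.Helper24.DT
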