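import Cfsg.Agent.Helper16.DT.Defs
import Cfsg.Agent.Helper24.DT_JH2Core
import Cfsg.Agent.Helper24.DT_ECP
import Cfsg.Agent.Helper47.DT_JH1

/-!
# DT farm (helper16), piece (JH2): composition series of a matrix representation.
-/

set_option autoImplicit false
set_option linter.unusedSectionVars false
set_option linter.unusedVariables false

namespace Cfsg.Agent.Helper24.DT

open Cfsg Cfsg.Agent.Helper16 Cfsg.Agent.Helper16.DT Polynomial Matrix

universe u v w

variable {K : Type v} [Field K] {G : Type u} [Group G]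

/-- (JH2) composition series of a matrix representation. -/
theorem exists_compSeries {n : ℕ} (ρ : G →* Matrix (Fin n) (Fin n) K) :
    ∃ l : List (Σ m : ℕ, G →* Matrix (Fin m) (Fin m) K),
      (∀ s ∈ l, IsIrredMat s.2) ∧
      (∀ g, (ρ g).charpoly = (l.map fun s => (s.2 g).charpoly).prod) ∧
      (∀ (S : Finset G) (x : G → K) (c : K),
        ∑ g ∈ S, x g • ρ g = c • (1 : Matrix (Fin n) (Fin n) K) →
        ∀ s ∈ l, ∑ g ∈ S, x g • s.2 g = c • (1 : Matrix (Fin s.1) (Fin s.1) K)) :=
  exists_compSeries_of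
    (fun ρ hn hρ => Cfsg.Agent.Helper47.DT.exists_isExtMat_of_not_irred ρ hn hρ)
    (fun h g => charpoly_of_isExtMat h g)
    (fun h S x c hx => scalar_of_isExtMat h S x c hx) n ρ

end Cfsg.Agent.Helper24.DT
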