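import Mathlib

/-!
# (I4b) of helper15's S4017: the abstract count of pairs of non-commuting involutions

If every involution commutes with exactly `c` involutions, and the product `u * v` of two
non-commuting involutions always has a Sylow `p`-subgroup `S` as centralizer, inverted by `u`, with
`|N(S)| = 2 |S|`, then with `m` the number of involutions, `2 m (m - c) = |G| (s - 1)`.
-/

set_option autoImplicit false

namespace Cfsg.Agent.Helper24.Mix

open Subgroup

section basics

variable {G : Type*} [Group G]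

theorem inv_facts {u : G} (hu : orderOf u = 2) : u⁻¹ = u ∧ u * u = 1 ∧ u ≠ 1 := by
  have h2 : u * u = 1 := by
    have := pow_orderOf_eq_one u
    rwa [hu, pow_two] at this
  refine ⟨inv_eq_of_mul_eq_one_right h2, h2, ?_⟩
  rintro rfl
  rw [orderOf_one] at hu
  omega

theorem orderOf_two_of {w : G} (h2 : w * w = 1) (h1 : w ≠ 1) : orderOf w = 2 :=
  orderOf_eq_prime (by rw [pow_two]; exact h2) h1

/-- an involution `u` inverting `y` with `y² ≠ 1`: `(u, u y)` is a pair of non-commuting
involutions with product `y` -/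
theorem pair_of_inverts {u y : G} (hu : orderOf u = 2) (hy : u * y * u⁻¹ = y⁻¹)
    (hy2 : y * y ≠ 1) :
    orderOf (u * y) = 2 ∧ u * (u * y) ≠ (u * y) * u ∧ u * (u * y) = y := by
  obtain ⟨hui, huu, -⟩ := inv_facts hu
  rw [hui] at hy
  have hprod : u * (u * y) = y := by rw [← mul_assoc, huu, one_mul]
  refine ⟨orderOf_two_of ?_ ?_, ?_, hprod⟩
  · calc u * y * (u * y) = u * y * u * y := by group
      _ = 1 := by rw [hy, inv_mul_cancel]
  · intro h
    have : y = u := by
      have := eq_inv_of_mul_eq_one_right h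
      rw [this, hui]
    apply hy2
    rw [this, huu]
  · rw [hprod, hy]
    intro h
    apply hy2
    calc y * y = y * y⁻¹ := by rw [← h]
      _ = 1 := mul_inv_cancel y

end basics

/-- (I4b) the abstract count. -/
theorem count_pairs {G : Type*} [Group G] [Finite G] (p s c : ℕ) [Fact p.Prime]
    (hcomm : ∀ u : G, orderOf u = 2 →
      Nat.card {v : G // orderOf v = 2 ∧ u * v = v * u} = c)
    (hstr : ∀ u v : G, orderOf u = 2 → orderOf v = 2 → u * v ≠ v * u →
      ∃ S : Sylow p G, (S : Subgroup G) = centralizer ({u * v} : Set G) ∧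
        (∀ s ∈ S, u * s * u⁻¹ = s⁻¹) ∧
        Nat.card (normalizer ((S : Subgroup G) : Set G)) = 2 * Nat.card S)
    (hs : ∀ S : Sylow p G, Nat.card S = s)
    (hex : ∃ u v : G, orderOf u = 2 ∧ orderOf v = 2 ∧ u * v ≠ v * u) :
    2 * (Nat.card {u : G // orderOf u = 2} * (Nat.card {u : G // orderOf u = 2} - c)) =
      Nat.card G * (s - 1) := by
  classical
  have : Fintype G := Fintype.ofFinite G
  have : Fintype (Sylow p G) := Fintype.ofFinite _
  have hp : p.Prime := Fact.out
  obtain ⟨u0, v0, hu0, hv0, huv0⟩ := hex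
  obtain ⟨S0, hS0, hinv0, hN0⟩ := hstr u0 v0 hu0 hv0 huv0
  -- `p` is odd
  have hp2 : p ≠ 2 := by
    intro h2
    have hNp : IsPGroup p (normalizer ((S0 : Subgroup G) : Set G)) := by
      obtain ⟨k, hk⟩ := IsPGroup.iff_card.1 S0.isPGroup'
      apply IsPGroup.of_card (n := k + 1)
      rw [hN0, hk, pow_succ, h2]
      ring
    have hmax := S0.is_maximal' hNp le_normalizer
    have h1 : Nat.card (normalizer ((S0 : Subgroup G) : Set G)) = Nat.card S0 :=
      congrArg (fun H : Subgroup G => Nat.card H) hmax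
    have hpos : 0 < Nat.card S0 := Nat.card_pos
    omega
  -- elements of Sylow `p`-subgroups have odd order
  have hodd : ∀ (S : Sylow p G) (y : G), y ∈ S → y * y = 1 → y = 1 := by
    intro S y hy hyy
    have h1 : orderOf y ∣ 2 := orderOf_dvd_of_pow_eq_one (by rw [pow_two]; exact hyy)
    obtain ⟨k, hk⟩ := (IsPGroup.iff_orderOf.1 S.isPGroup') ⟨y, hy⟩
    rw [Subgroup.orderOf_mk] at hk
    have hcop : Nat.Coprime 2 (p ^ k) :=
      Nat.Coprime.pow_right k ((Nat.coprime_primes Nat.prime_two hp).2 (Ne.symm hp2))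
    have h3 : orderOf y ∣ Nat.gcd 2 (p ^ k) := Nat.dvd_gcd h1 (hk ▸ dvd_rfl)
    rw [hcop] at h3
    exact orderOf_eq_one_iff.1 (Nat.dvd_one.1 h3)
  -- every Sylow `p`-subgroup is inverted by an involution
  have hinvAll : ∀ S' : Sylow p G, ∃ u' : G, orderOf u' = 2 ∧
      ∀ y ∈ S', u' * y * u'⁻¹ = y⁻¹ := by
    intro S'
    obtain ⟨x, hx⟩ := MulAction.exists_smul_eq G S0 S'
    refine ⟨x * u0 * x⁻¹, ?_, ?_⟩
    · have := MulEquiv.orderOf_eq (MulAut.conj x) u0
      rwa [MulAut.conj_apply, hu0] at this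
    · intro y hy
      have hy' : x⁻¹ * y * x ∈ S0 := by
        have h1 : y ∈ ((x • S0 : Sylow p G) : Subgroup G) := by rw [hx]; exact hy
        rw [Sylow.coe_subgroup_smul, mem_pointwise_smul_iff_inv_smul_mem] at h1
        have h2 : x⁻¹ * y * x ∈ (S0 : Subgroup G) := by simpa [MulAut.smul_def] using h1
        exact h2
      have h := hinv0 _ hy'
      calc x * u0 * x⁻¹ * y * (x * u0 * x⁻¹)⁻¹
          = x * (u0 * (x⁻¹ * y * x) * u0⁻¹) * x⁻¹ := by group
        _ = x * (x⁻¹ * y * x)⁻¹ * x⁻¹ := by rw [h]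
        _ = y⁻¹ := by group
  -- hence abelian
  have hab : ∀ S' : Sylow p G, ∀ a ∈ S', ∀ b ∈ S', a * b = b * a := by
    intro S' a ha b hb
    obtain ⟨u', -, hu'⟩ := hinvAll S'
    have h1 := hu' a ha
    have h2 := hu' b hb
    have h3 := hu' (a * b) (mul_mem ha hb)
    have h4 : u' * (a * b) * u'⁻¹ = (u' * a * u'⁻¹) * (u' * b * u'⁻¹) := by group
    rw [h1, h2, h3] at h4
    have h5 := congrArg (fun z => z⁻¹) h4
    simpa using h5
  -- finsets
  obtain ⟨Inv, memInv⟩ : ∃ Inv : Finset G, ∀ u, u ∈ Inv ↔ orderOf u = 2 :=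
    ⟨Finset.univ.filter (fun u => orderOf u = 2), by simp⟩
  obtain ⟨m, hm⟩ : ∃ m : ℕ, Nat.card {u : G // orderOf u = 2} = m := ⟨_, rfl⟩
  rw [hm]
  have hmI : m = Inv.card := by
    rw [← hm, Nat.card_eq_fintype_card]
    exact Fintype.card_of_subtype Inv memInv
  have cardMem : ∀ S : Sylow p G, (Finset.univ.filter (fun y : G => y ∈ S)).card = s := by
    intro S
    rw [← hs S, Nat.card_eq_fintype_card]
    symm
    exact Fintype.card_of_subtype _ (fun y => by
      simp only [Finset.mem_filter, Finset.mem_univ, true_and]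
      exact Iff.rfl)
  obtain ⟨A, memA, cardA⟩ : ∃ A : Finset ((_ : G) × G),
      (∀ q : (_ : G) × G, q ∈ A ↔
        orderOf q.1 = 2 ∧ orderOf q.2 = 2 ∧ q.1 * q.2 ≠ q.2 * q.1) ∧
      A.card = m * (m - c) := by
    refine ⟨Inv.sigma (fun u => Inv.filter (fun v => u * v ≠ v * u)), ?_, ?_⟩
    · intro q
      simp [Finset.mem_sigma, memInv, Finset.mem_filter]
    · rw [Finset.card_sigma, hmI]
      apply Finset.sum_const_nat
      intro u hu
      have hu' := (memInv u).1 hu
      have h1 : (Inv.filter (fun v => u * v = v * u)).card = c := by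
        rw [← hcomm u hu', Nat.card_eq_fintype_card]
        symm
        exact Fintype.card_of_subtype _ (fun v => by simp [memInv, Finset.mem_filter])
      have h2 : (Inv.filter (fun v => u * v = v * u)).card +
          (Inv.filter (fun v => u * v ≠ v * u)).card = Inv.card :=
        Finset.card_filter_add_card_filter_not (s := Inv) (fun v => u * v = v * u)
      omega
  -- structure of a pair
  have key : ∀ u v : G, orderOf u = 2 → orderOf v = 2 → u * v ≠ v * u →
      ∀ S : Sylow p G, (S : Subgroup G) = centralizer ({u * v} : Set G) →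
        (∀ y, y ∈ S ↔ (u * v) * y = y * (u * v)) ∧ u * v ∈ S ∧ u * v ≠ 1 ∧
          (u * v) * (u * v) ≠ 1 ∧ u ∉ S := by
    intro u v hu hv huv S hS
    obtain ⟨hui, huu, -⟩ := inv_facts hu
    have memC : ∀ y, y ∈ S ↔ (u * v) * y = y * (u * v) := by
      intro y
      change y ∈ (S : Subgroup G) ↔ _
      rw [hS, Subgroup.mem_centralizer_iff]
      simp
    have hgS : u * v ∈ S := (memC _).2 rfl
    have hg1 : u * v ≠ 1 := by
      intro h
      apply huv
      have := eq_inv_of_mul_eq_one_right h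
      rw [this]
      simp
    refine ⟨memC, hgS, hg1, fun h => hg1 (hodd S _ hgS h), ?_⟩
    intro huS
    have h := (memC u).1 huS
    have h1 : u * v * u = v := by rw [h, ← mul_assoc, huu, one_mul]
    apply huv
    calc u * v = u * v * u * u⁻¹ := by group
      _ = v * u := by rw [h1, hui]
  -- the image of the product map and its fibres
  obtain ⟨R, memR⟩ : ∃ R : Finset G, ∀ g, g ∈ R ↔ ∃ q ∈ A, q.1 * q.2 = g :=
    ⟨A.image (fun q => q.1 * q.2), by simp⟩
  have cardA2 : A.card = R.card * s := by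
    have hR : R = A.image (fun q => q.1 * q.2) := by
      ext g
      rw [memR, Finset.mem_image]
    rw [Finset.card_eq_sum_card_image (fun q : (_ : G) × G => q.1 * q.2) A, ← hR]
    apply Finset.sum_const_nat
    intro g hg
    obtain ⟨q0, hq0, hq0g⟩ := (memR g).1 hg
    obtain ⟨u, v⟩ := q0
    obtain ⟨hu, hv, huv⟩ := (memA _).1 hq0
    simp only at hu hv huv hq0g
    obtain ⟨S, hS, hinv, -⟩ := hstr u v hu hv huv
    obtain ⟨memC, hgS, hg1, hg2, hunS⟩ := key u v hu hv huv S hS
    rw [hq0g] at memC hgS hg1 hg2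
    obtain ⟨hui, huu, -⟩ := inv_facts hu
    have hinvg : u * g * u⁻¹ = g⁻¹ := hinv g hgS
    have hφinj : Function.Injective (fun s' : G => (⟨s' * u, s' * u * g⟩ : (_ : G) × G)) := by
      intro a b hab'
      have := congrArg Sigma.fst hab'
      exact mul_right_cancel this
    have hfib : A.filter (fun q => q.1 * q.2 = g) =
        (Finset.univ.filter (fun y : G => y ∈ S)).image
          (fun s' : G => (⟨s' * u, s' * u * g⟩ : (_ : G) × G)) := by
      ext q
      rw [Finset.mem_filter, Finset.mem_image]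
      constructor
      · rintro ⟨hqA, hqg⟩
        obtain ⟨u', v'⟩ := q
        obtain ⟨hu', hv', huv'⟩ := (memA _).1 hqA
        simp only at hu' hv' huv' hqg
        obtain ⟨hui', huu', -⟩ := inv_facts hu'
        obtain ⟨hvi', hvv', -⟩ := inv_facts hv'
        have hu'g : u' * g * u'⁻¹ = g⁻¹ := by
          rw [← hqg]
          calc u' * (u' * v') * u'⁻¹ = (u' * u') * v' * u'⁻¹ := by group
            _ = v' * u' := by rw [huu', one_mul, hui']
            _ = (u' * v')⁻¹ := by rw [mul_inv_rev, hui', hvi']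
        have h1 : u⁻¹ * g * u = g⁻¹ := by
          have := hinvg
          rw [hui] at this ⊢
          exact this
        have h2 : (u' * u⁻¹) * g * (u' * u⁻¹)⁻¹ = g := by
          calc (u' * u⁻¹) * g * (u' * u⁻¹)⁻¹ = u' * (u⁻¹ * g * u) * u'⁻¹ := by group
            _ = u' * g⁻¹ * u'⁻¹ := by rw [h1]
            _ = (u' * g * u'⁻¹)⁻¹ := by group
            _ = g := by rw [hu'g, inv_inv]
        refine ⟨u' * u⁻¹, ?_, ?_⟩
        · rw [Finset.mem_filter]
          refine ⟨Finset.mem_univ _, (memC _).2 ?_⟩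
          exact (mul_inv_eq_iff_eq_mul.1 h2).symm
        · have e1 : u' * u⁻¹ * u = u' := by group
          have e2 : u' * g = v' := by rw [← hqg, ← mul_assoc, huu', one_mul]
          refine Sigma.ext ?_ (heq_of_eq ?_)
          · exact e1
          · show u' * u⁻¹ * u * g = v'
            rw [e1, e2]
      · rintro ⟨s', hs', rfl⟩
        rw [Finset.mem_filter] at hs'
        have hs'S : s' ∈ S := hs'.2
        have h := hinv s' hs'S
        rw [hui] at h
        have hw2 : s' * u * (s' * u) = 1 := by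
          calc s' * u * (s' * u) = s' * (u * s' * u) := by group
            _ = 1 := by rw [h, mul_inv_cancel]
        have hw1 : s' * u ≠ 1 := by
          intro h1
          apply hunS
          have := eq_inv_of_mul_eq_one_right h1
          rw [this]
          exact inv_mem hs'S
        have hw : orderOf (s' * u) = 2 := orderOf_two_of hw2 hw1
        have hc : Commute s' g := ((memC s').1 hs'S).symm
        have hwg : (s' * u) * g * (s' * u)⁻¹ = g⁻¹ := by
          calc (s' * u) * g * (s' * u)⁻¹ = s' * (u * g * u⁻¹) * s'⁻¹ := by group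
            _ = s' * g⁻¹ * s'⁻¹ := by rw [hinvg]
            _ = g⁻¹ := by rw [hc.inv_right.eq, mul_assoc, mul_inv_cancel, mul_one]
        obtain ⟨ho, hnc, hpr⟩ := pair_of_inverts hw hwg hg2
        refine ⟨(memA _).2 ⟨hw, ?_, ?_⟩, ?_⟩
        · exact ho
        · exact hnc
        · exact hpr
    rw [hfib, Finset.card_image_of_injective _ hφinj, cardMem S]
  -- nonidentity elements of Sylow subgroups
  have keyL : ∀ (S' : Sylow p G) (y : G), y ∈ S' → y ≠ 1 →
      y ∈ R ∧ (S' : Subgroup G) = centralizer ({y} : Set G) := by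
    intro S' y hy hy1
    obtain ⟨u', hu', hu'inv⟩ := hinvAll S'
    have hy2 : y * y ≠ 1 := fun h => hy1 (hodd S' y hy h)
    obtain ⟨ho, hnc, hpr⟩ := pair_of_inverts hu' (hu'inv y hy) hy2
    refine ⟨(memR y).2 ⟨⟨u', u' * y⟩, (memA _).2 ⟨hu', ho, hnc⟩, hpr⟩, ?_⟩
    obtain ⟨S'', hS'', -, -⟩ := hstr u' (u' * y) hu' ho hnc
    rw [hpr] at hS''
    rw [← hS'']
    apply Subgroup.eq_of_le_of_card_ge
    · intro z hz
      rw [hS'', Subgroup.mem_centralizer_iff]
      intro h hh
      rw [Set.mem_singleton_iff] at hh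
      rw [hh]
      exact hab S' y hy z hz
    · rw [hs S'', hs S']
  have hRU : R = Finset.univ.biUnion (fun S' : Sylow p G =>
      (Finset.univ.filter (fun y : G => y ∈ S')).erase 1) := by
    ext g
    rw [Finset.mem_biUnion]
    constructor
    · intro hg
      obtain ⟨q0, hq0, hq0g⟩ := (memR g).1 hg
      obtain ⟨u, v⟩ := q0
      obtain ⟨hu, hv, huv⟩ := (memA _).1 hq0
      simp only at hu hv huv hq0g
      obtain ⟨S, hS, -, -⟩ := hstr u v hu hv huv
      obtain ⟨-, hgS, hg1, -, -⟩ := key u v hu hv huv S hS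
      rw [hq0g] at hgS hg1
      refine ⟨S, Finset.mem_univ _, ?_⟩
      rw [Finset.mem_erase, Finset.mem_filter]
      exact ⟨hg1, Finset.mem_univ _, hgS⟩
    · rintro ⟨S', -, hg⟩
      rw [Finset.mem_erase, Finset.mem_filter] at hg
      exact (keyL S' g hg.2.2 hg.1).1
  have hdisj : ((Finset.univ : Finset (Sylow p G)) : Set (Sylow p G)).PairwiseDisjoint
      (fun S' : Sylow p G => (Finset.univ.filter (fun y : G => y ∈ S')).erase 1) := by
    intro S' _ S'' _ hne
    rw [Function.onFun, Finset.disjoint_left]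
    intro y hy' hy''
    rw [Finset.mem_erase, Finset.mem_filter] at hy' hy''
    apply hne
    apply Sylow.ext
    rw [(keyL S' y hy'.2.2 hy'.1).2, (keyL S'' y hy''.2.2 hy''.1).2]
  have cardR : R.card = Fintype.card (Sylow p G) * (s - 1) := by
    rw [hRU, Finset.card_biUnion hdisj, Finset.sum_const_nat (m := s - 1), Finset.card_univ]
    intro S' _
    rw [Finset.card_erase_of_mem, cardMem S']
    rw [Finset.mem_filter]
    exact ⟨Finset.mem_univ _, one_mem _⟩
  have hn : Fintype.card (Sylow p G) * (2 * s) = Nat.card G := by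
    rw [← Nat.card_eq_fintype_card, Sylow.card_eq_index_normalizer S0, ← hs S0, ← hN0]
    exact Subgroup.index_mul_card _
  rw [← cardA, cardA2, cardR, ← hn]
  ring

end Cfsg.Agent.Helper24.Mix
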