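import Cfsg.Agent.Helper16.Brauer43.GL
import Cfsg.Agent.Helper20.D8Main
import Cfsg.Agent.Helper79.PrincipalCrit

/-!
# Pieces (C2), (C3) of S0997 (helper16, Brauer–Tuan)
-/

set_option autoImplicit false

namespace Cfsg.Agent.Helper24.BT97

open Cfsg Cfsg.Agent.Helper16 Cfsg.Agent.Helper16.DefOne Cfsg.Agent.Helper82.DefOne
  Cfsg.Agent.Helper77.DefOne Cfsg.Agent.Helper16.Brauer43
open scoped ComplexConjugate

universe u

/-- local form of (A1): a degree `≡ ±1 (mod p)` below `p - 1` is `1` -/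
theorem c2_deg_eq_one (p d : ℕ) (ε : ℤ) (hε : ε = 1 ∨ ε = -1)
    (hmod : (d : ℤ) ≡ ε [ZMOD p]) (hd : 1 ≤ d) (hlt : d < p - 1) : d = 1 := by
  have hdvd : (p : ℤ) ∣ ε - d := (Int.modEq_iff_dvd).mp hmod
  rcases hε with h | h
  · subst h
    have h0 : (1 : ℤ) - d = 0 := by
      apply Int.eq_zero_of_abs_lt_dvd hdvd
      rw [abs_lt]
      constructor <;> omega
    omega
  · subst h
    have h0 : (-1 : ℤ) - d = 0 := by
      apply Int.eq_zero_of_abs_lt_dvd hdvd
      rw [abs_lt]
      constructor <;> omega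
    omega

variable {G : Type u} [Group G] [Fintype G] {p : ℕ} [Fact p.Prime]
  (P : Sylow p G) [Fintype (P : Subgroup G)] (D : L0Data P)

/-- (C2) the nonprincipal members of `X` have degree divisible by `q` -/
theorem q_dvd_deg_X (hP : Nat.card P = p) (hC : cen P = (P : Subgroup G))
    (hperf : commutator G = ⊤) (q b g₀ : ℕ) (hq : q.Prime)
    (hes : (cen P).relIndex (nor P) * (nor P).index = q ^ b * g₀) (hg : g₀ < p - 1)
    (χ : IrrCharacter G) (hχ : χ ∈ D.X) (hne : χ ≠ Helper79.principalIrr G) :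
    q ∣ charDegree (χ : G → ℂ) := by
  by_contra hnq
  apply hne
  have hdvd := GL.deg_dvd_X P D hP hC χ hχ
  rw [hes] at hdvd
  have hcop : Nat.Coprime (charDegree (χ : G → ℂ)) (q ^ b) :=
    Nat.Coprime.pow_right b ((Nat.Prime.coprime_iff_not_dvd hq).mpr hnq).symm
  have hdg : charDegree (χ : G → ℂ) ∣ g₀ := hcop.dvd_of_dvd_mul_left hdvd
  have hes0 : (cen P).relIndex (nor P) * (nor P).index ≠ 0 := by
    apply Nat.mul_ne_zero
    · show ((cen P).subgroupOf (nor P)).index ≠ 0
      exact Subgroup.index_ne_zero_of_finite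
    · exact Subgroup.index_ne_zero_of_finite
  have hg0 : g₀ ≠ 0 := by
    intro h0
    rw [h0, Nat.mul_zero] at hes
    exact hes0 hes
  have hle : charDegree (χ : G → ℂ) ≤ g₀ := Nat.le_of_dvd (Nat.pos_of_ne_zero hg0) hdg
  have hpos : 0 < charDegree (χ : G → ℂ) := Helper74.charDegree_pos' χ
  have h1 : charDegree (χ : G → ℂ) = 1 :=
    c2_deg_eq_one p _ (D.ε χ) (D.hε χ) (GL.deg_modEq_X P D hP χ hχ) hpos (by omega)
  apply Helper20.D8.eq_principal_of_degree_one hperf χ
  rw [← Helper74.charDegree_cast (Helper74.isCharacter_of_isIrr χ.2), h1, Nat.cast_one]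

/-- (C3) the principal character lies in `X` with sign `+1` -/
theorem principal_mem_X_of_dvd (hP : Nat.card P = p) (q : ℕ) (hq : 2 ≤ q)
    (hdiv : ∀ χ ∈ D.X, χ ≠ Helper79.principalIrr G → q ∣ charDegree (χ : G → ℂ)) :
    Helper79.principalIrr G ∈ D.X ∧ D.ε (Helper79.principalIrr G) = 1 := by
  have hpp : p.Prime := Fact.out
  -- a nonidentity element of `P`
  obtain ⟨x, hxP, hx1⟩ : ∃ x : G, x ∈ (P : Subgroup G) ∧ x ≠ 1 := by
    have hnt : Nontrivial (P : Subgroup G) := by
      rw [← Finite.one_lt_card_iff_nontrivial]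
      have : Nat.card (P : Subgroup G) = p := hP
      rw [this]
      exact hpp.one_lt
    obtain ⟨y, hy⟩ := exists_ne (1 : (P : Subgroup G))
    exact ⟨y, y.2, fun h => hy (Subtype.ext h)⟩
  have hval : ∀ g : G, ((Helper79.principalIrr G : IrrCharacter G) : G → ℂ) g = 1 := fun _ => rfl
  have hXY : Helper79.principalIrr G ∈ D.X ∨ Helper79.principalIrr G ∈ D.Y := by
    by_contra hcon
    rw [not_or] at hcon
    have h0 := D.hZ _ hcon.1 hcon.2 x hxP hx1
    rw [hval] at h0
    exact one_ne_zero h0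
  have hmemX : Helper79.principalIrr G ∈ D.X := by
    rcases hXY with h | h
    · exact h
    · exfalso
      have heq := GL.degree_equation P D _ h
      rw [Helper79.charDegree_principalIrr, Nat.cast_one, mul_one] at heq
      have hq_dvd : (q : ℤ) ∣ ∑ᶠ χ ∈ D.X, D.ε χ * (charDegree (χ : G → ℂ) : ℤ) := by
        apply finsum_mem_induction (fun z : ℤ => (q : ℤ) ∣ z)
        · exact dvd_zero _
        · intro a b ha hb
          exact dvd_add ha hb
        · intro χ hχ
          have hne : χ ≠ Helper79.principalIrr G := by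
            intro hc
            rw [hc] at hχ
            exact (Set.disjoint_left.mp D.hdisj hχ) h
          exact Dvd.dvd.mul_left (Int.natCast_dvd_natCast.mpr (hdiv χ hχ hne)) _
      rw [← heq] at hq_dvd
      have hq1 : (q : ℤ) ∣ 1 := by
        rcases D.hδ with hd | hd
        · rwa [hd] at hq_dvd
        · rw [hd] at hq_dvd
          exact (dvd_neg.mp hq_dvd)
      have := Int.le_of_dvd one_pos hq1
      omega
  refine ⟨hmemX, ?_⟩
  have h1 := D.hX _ hmemX x hxP hx1
  rw [hval] at h1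
  rcases D.hε (Helper79.principalIrr G) with h | h
  · exact h
  · exfalso
    rw [h] at h1
    norm_num at h1

end Cfsg.Agent.Helper24.BT97
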