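import Cfsg.Agent.Helper57.BH.Defs

/-!
# Piece (C6) of S4503 (helper57's Brauer `(p-1)/2` theorem): the `Z1`-count `z1Sum`

`z1Sum P F = ∑ᶠ φ ∈ Z1 P, Re ⟨F|_C, φ⟩`.  It is superadditive over the constituents of a
character, at least `p - 1` on a non-exceptional character of the principal block with sign `-1`,
and at least `f = |N : C|` on an exceptional character of the principal block when `δ = 1`.
-/

set_option autoImplicit false

namespace Cfsg.Agent.Helper24.BH

open Cfsg Cfsg.Agent.Helper16 Cfsg.Agent.Helper16.DefOne Cfsg.Agent.Helper82.DefOne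
  Cfsg.Agent.Helper77.DefOne Cfsg.Agent.Helper57.BH
open scoped ComplexConjugate

universe u

variable {G : Type u} [Group G] [Fintype G] {p : ℕ} [Fact p.Prime] (P : Sylow p G)

/-- irreducible characters are characters -/
theorem c6_isCharacter_irr {H : Type u} [Group H] (χ : IrrCharacter H) :
    IsCharacter H (χ : H → ℂ) := by
  obtain ⟨n, ρ, -, h⟩ := χ.2
  exact ⟨n, ρ, h⟩

/-- `cInner` of an irreducible character of `G` is the multiplicity -/
theorem c6_cInner_irr (χ : IrrCharacter G) (φ : IrrCharacter (cen P)) :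
    cInner P (χ : G → ℂ) φ = (mult P χ φ : ℂ) := by
  unfold cInner
  exact (mult_cast P (inst := Fintype.ofFinite _) χ φ).symm

theorem c6_mult_nonneg (χ : IrrCharacter G) (φ : IrrCharacter (cen P)) : 0 ≤ mult P χ φ := by
  letI : Fintype (cen P) := Fintype.ofFinite _
  obtain ⟨m, hm⟩ := Helper74.isCharacter_inner_irr_nat
    (Helper74.isCharacter_restrict (cen P) (c6_isCharacter_irr χ)) φ
  have h := mult_cast P χ φ
  rw [hm] at h
  have h2 : mult P χ φ = (m : ℤ) := by exact_mod_cast h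
  rw [h2]
  positivity

/-- `cInner` is linear in the function -/
theorem c6_cInner_sum {ι : Type*} (s : Finset ι) (a : ι → ℂ) (F : ι → G → ℂ)
    (φ : IrrCharacter (cen P)) :
    cInner P (∑ i ∈ s, a i • F i) φ = ∑ i ∈ s, a i * cInner P (F i) φ := by
  unfold cInner classInner
  simp only [Finset.sum_apply, Pi.smul_apply, smul_eq_mul, Finset.sum_mul, Finset.mul_sum]
  rw [Finset.sum_comm]
  refine Finset.sum_congr rfl (fun i _ => Finset.sum_congr rfl (fun c _ => ?_))
  ring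

/-- the real part of `⟨Ξ|_C, φ⟩` dominates the multiplicities in a set of constituents -/
theorem c6_re_cInner_ge (Ξ : G → ℂ) (hΞ : IsCharacter G Ξ) (S : Finset (IrrCharacter G))
    (hS : ∀ χ ∈ S, classInner Ξ (χ : G → ℂ) ≠ 0) (φ : IrrCharacter (cen P)) :
    (∑ χ ∈ S, (mult P χ φ : ℝ)) ≤ (cInner P Ξ φ).re := by
  classical
  haveI : Finite (IrrCharacter G) := Helper79.irr_finite'
  letI : Fintype (IrrCharacter G) := Fintype.ofFinite _
  have hn : ∀ χ : IrrCharacter G, ∃ m : ℕ, classInner Ξ (χ : G → ℂ) = m :=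
    fun χ => Helper74.isCharacter_inner_irr_nat hΞ χ
  choose n hn using hn
  have hexp : cInner P Ξ φ = ∑ χ : IrrCharacter G, (n χ : ℂ) * (mult P χ φ : ℂ) := by
    have h1 := Helper74.isCharacter_eq_sum_irr hΞ
    have h2 : cInner P Ξ φ =
        cInner P (∑ ψ : IrrCharacter G, classInner Ξ (ψ : G → ℂ) • (ψ : G → ℂ)) φ := by
      rw [← h1]
    rw [h2, c6_cInner_sum]
    refine Finset.sum_congr rfl (fun χ _ => ?_)
    rw [hn χ, c6_cInner_irr]
  have hexp2 : cInner P Ξ φ = ((∑ χ : IrrCharacter G, (n χ : ℤ) * mult P χ φ : ℤ) : ℂ) := by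
    rw [hexp]
    push_cast
    rfl
  have hre : (cInner P Ξ φ).re = ((∑ χ : IrrCharacter G, (n χ : ℤ) * mult P χ φ : ℤ) : ℝ) := by
    rw [hexp2]
    exact Complex.intCast_re _
  rw [hre]
  have hint : (∑ χ ∈ S, mult P χ φ) ≤ ∑ χ : IrrCharacter G, (n χ : ℤ) * mult P χ φ := by
    calc (∑ χ ∈ S, mult P χ φ) ≤ ∑ χ ∈ S, (n χ : ℤ) * mult P χ φ := by
          refine Finset.sum_le_sum (fun χ hχ => ?_)
          have h1 : n χ ≠ 0 := by
            intro h0
            apply hS χ hχ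
            rw [hn χ, h0]
            simp
          have h2 : (1 : ℤ) ≤ (n χ : ℤ) := by
            have : 1 ≤ n χ := Nat.one_le_iff_ne_zero.mpr h1
            exact_mod_cast this
          have h3 := c6_mult_nonneg P χ φ
          nlinarith
      _ ≤ ∑ χ : IrrCharacter G, (n χ : ℤ) * mult P χ φ := by
          refine Finset.sum_le_sum_of_subset_of_nonneg (Finset.subset_univ S) (fun χ _ _ => ?_)
          have h3 := c6_mult_nonneg P χ φ
          positivity
  have : ((∑ χ ∈ S, mult P χ φ : ℤ) : ℝ) ≤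
      ((∑ χ : IrrCharacter G, (n χ : ℤ) * mult P χ φ : ℤ) : ℝ) := by exact_mod_cast hint
  refine le_trans (le_of_eq ?_) this
  push_cast
  rfl

/-- `z1Sum` as a finite sum -/
theorem c6_z1Sum_eq (F : G → ℂ) :
    haveI : Finite (IrrCharacter (cen P)) := Helper79.irr_finite'
    z1Sum P F = ∑ φ ∈ (Set.toFinite (Z1 P)).toFinset, (cInner P F φ).re := by
  haveI : Finite (IrrCharacter (cen P)) := Helper79.irr_finite'
  unfold z1Sum
  exact finsum_mem_eq_finite_toFinset_sum _ (Set.toFinite (Z1 P))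

/-- (C6) `z1Sum` is superadditive over constituents -/
theorem z1Sum_ge_sum (Ξ : G → ℂ) (hΞ : IsCharacter G Ξ) (S : Finset (IrrCharacter G))
    (hS : ∀ χ ∈ S, classInner Ξ (χ : G → ℂ) ≠ 0) :
    (∑ χ ∈ S, z1Sum P (χ : G → ℂ)) ≤ z1Sum P Ξ := by
  haveI : Finite (IrrCharacter (cen P)) := Helper79.irr_finite'
  rw [c6_z1Sum_eq P Ξ]
  have h1 : (∑ χ ∈ S, z1Sum P (χ : G → ℂ)) =
      ∑ φ ∈ (Set.toFinite (Z1 P)).toFinset, ∑ χ ∈ S, (mult P χ φ : ℝ) := by
    rw [Finset.sum_comm]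
    refine Finset.sum_congr rfl (fun χ _ => ?_)
    rw [c6_z1Sum_eq P (χ : G → ℂ)]
    refine Finset.sum_congr rfl (fun φ _ => ?_)
    rw [c6_cInner_irr]
    exact Complex.intCast_re _
  rw [h1]
  exact Finset.sum_le_sum (fun φ _ => c6_re_cInner_ge P Ξ hΞ S hS φ)

/-- a lower bound for `z1Sum` of an irreducible character -/
theorem c6_card_le_z1Sum (χ : IrrCharacter G) (T : Set (IrrCharacter (cen P)))
    (hT : T ⊆ Z1 P) (h1 : ∀ φ ∈ T, 1 ≤ mult P χ φ) :
    (Nat.card T : ℝ) ≤ z1Sum P (χ : G → ℂ) := by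
  classical
  haveI : Finite (IrrCharacter (cen P)) := Helper79.irr_finite'
  rw [c6_z1Sum_eq P (χ : G → ℂ)]
  have hTfin : T.Finite := Set.toFinite T
  have hcard : Nat.card T = hTfin.toFinset.card := by
    rw [← Set.ncard_eq_toFinset_card _ hTfin]
    exact Nat.card_coe_set_eq _
  rw [hcard]
  have hsub : hTfin.toFinset ⊆ (Set.toFinite (Z1 P)).toFinset := by
    intro φ hφ
    rw [Set.Finite.mem_toFinset] at hφ ⊢
    exact hT hφ
  have hterm : ∀ φ : IrrCharacter (cen P), (cInner P (χ : G → ℂ) φ).re = (mult P χ φ : ℝ) := by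
    intro φ
    rw [c6_cInner_irr]
    exact Complex.intCast_re _
  calc ((hTfin.toFinset.card : ℕ) : ℝ) = ∑ _φ ∈ hTfin.toFinset, (1 : ℝ) := by simp
    _ ≤ ∑ φ ∈ hTfin.toFinset, (cInner P (χ : G → ℂ) φ).re := by
        refine Finset.sum_le_sum (fun φ hφ => ?_)
        rw [hterm]
        have := h1 φ (hTfin.mem_toFinset.mp hφ)
        exact_mod_cast this
    _ ≤ ∑ φ ∈ (Set.toFinite (Z1 P)).toFinset, (cInner P (χ : G → ℂ) φ).re := by
        refine Finset.sum_le_sum_of_subset_of_nonneg hsub (fun φ _ _ => ?_)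
        rw [hterm]
        have := c6_mult_nonneg P χ φ
        exact_mod_cast this

/-- `Z1 P` has `p - 1` elements -/
theorem c6_card_Z1 (hP : Nat.card P = p) : Nat.card (Z1 P) = p - 1 := by
  rw [← card_ZType P hP (oneIrr P) (isCanon_oneIrr P)]
  unfold ZType
  apply Nat.card_congr
  refine Equiv.subtypeEquivRight (fun φ => ?_)
  show (can P φ = oneIrr P ∧ ¬ IsCanon P φ) ↔ _
  constructor
  · rintro ⟨h1, h2⟩
    refine ⟨h1, fun h => h2 ?_⟩
    rw [h]
    exact isCanon_oneIrr P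
  · rintro ⟨h1, h2⟩
    refine ⟨h1, fun h => h2 ?_⟩
    rw [← can_eq_self P hP φ h]
    exact h1

/-- (C6) a non-exceptional character of the principal block with sign `-1` contains all of
`Z1` -/
theorem z1Sum_X0 (hP : Nat.card P = p) {X Y : Set (IrrCharacter G)}
    {ε : IrrCharacter G → ℤ} {δ : ℤ} (D : IsRData P (oneIrr P) X Y ε δ)
    (χ : IrrCharacter G) (hχ : χ ∈ X) (hε : ε χ = -1) :
    (p : ℝ) - 1 ≤ z1Sum P (χ : G → ℂ) := by
  have hp : p.Prime := Fact.out
  have h1 : ∀ φ ∈ Z1 P, 1 ≤ mult P χ φ := by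
    rintro φ ⟨hφ1, hφ2⟩
    have h := D.rowX χ hχ φ hφ1 hφ2
    rw [hε] at h
    unfold rowZ at h
    have h0 := c6_mult_nonneg P χ (can P φ)
    omega
  have h2 := c6_card_le_z1Sum P χ (Z1 P) (le_refl _) h1
  rw [c6_card_Z1 P hP] at h2
  have h3 : ((p - 1 : ℕ) : ℝ) = (p : ℝ) - 1 := by
    rw [Nat.cast_sub hp.one_le]
    simp
  rw [← h3]
  exact h2

/-- (C6) an exceptional character of the principal block with `δ = 1` contains an orbit of
`f` elements of `Z1` -/
theorem z1Sum_Y0 (hP : Nat.card P = p) {X Y : Set (IrrCharacter G)}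
    {ε : IrrCharacter G → ℤ} {δ : ℤ} (D : IsRData P (oneIrr P) X Y ε δ)
    (ψ : IrrCharacter G) (hψ : ψ ∈ Y) (hδ : δ = 1) :
    (((cen P).relIndex (nor P) : ℕ) : ℝ) ≤ z1Sum P (ψ : G → ℂ) := by
  classical
  obtain ⟨φ₀, h1, h2, h3⟩ := D.rowY ψ hψ
  let T : Set (IrrCharacter (cen P)) :=
    {φ | can P φ = oneIrr P ∧ ∃ n : nor P, n • φ = φ₀}
  have hTcard : Nat.card T = (cen P).relIndex (nor P) := by
    have h := card_orbit_in_fibre P hP φ₀ h2
    rw [h1, inertia_oneIrr P hP] at h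
    exact h
  have hTsub : T ⊆ Z1 P := by
    rintro φ ⟨hφ1, n, hn⟩
    refine ⟨hφ1, fun hc => h2 ?_⟩
    rw [← hn]
    exact isCanon_smul P hP n φ hc
  have hT1 : ∀ φ ∈ T, 1 ≤ mult P ψ φ := by
    intro φ hφ
    obtain ⟨hφ1, hφ2⟩ := hTsub hφ
    have h := h3 φ hφ1 hφ2
    rw [if_pos hφ.2, hδ] at h
    unfold rowZ at h
    have h0 := c6_mult_nonneg P ψ (can P φ)
    omega
  have := c6_card_le_z1Sum P ψ T hTsub hT1
  rw [hTcard] at this
  exact this

end Cfsg.Agent.Helper24.BH
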