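import Cfsg.Agent.Helper24.BHC6

/-!
# Piece (C7) of S4503 (helper57's Brauer `(p-1)/2` theorem): the trivial character is
non-exceptional with sign `+1` in the principal block when `f = |N : C| < p - 1`.
-/

set_option autoImplicit false

namespace Cfsg.Agent.Helper24.BH

open Cfsg Cfsg.Agent.Helper16 Cfsg.Agent.Helper16.DefOne Cfsg.Agent.Helper82.DefOne
  Cfsg.Agent.Helper77.DefOne Cfsg.Agent.Helper57.BH
open scoped ComplexConjugate

universe u

variable {G : Type u} [Group G] [Fintype G] {p : ℕ} [Fact p.Prime] (P : Sylow p G)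

open Classical in
/-- the multiplicities of the trivial character of `G` -/
theorem c7_mult_oneIrrG (φ : IrrCharacter (cen P)) :
    mult P (oneIrrG G) φ = if oneIrr P = φ then 1 else 0 := by
  letI : Fintype (cen P) := Fintype.ofFinite _
  have h := mult_cast P (oneIrrG G) φ
  have h2 : (fun c : cen P => ((oneIrrG G : IrrCharacter G) : G → ℂ) (c : G)) =
      ((oneIrr P : IrrCharacter (cen P)) : cen P → ℂ) := rfl
  rw [h2, Helper74.irr_orthonormal] at h
  split_ifs at h ⊢ with hc
  · exact_mod_cast h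
  · exact_mod_cast h

/-- the rows of the trivial character of `G` at `Z1` -/
theorem c7_rowZ_oneIrrG (φ : IrrCharacter (cen P)) (hφ : φ ∈ Z1 P) :
    rowZ P (oneIrrG G) φ = -1 := by
  classical
  obtain ⟨h1, h2⟩ := hφ
  unfold rowZ
  rw [c7_mult_oneIrrG, c7_mult_oneIrrG, h1, if_pos rfl, if_neg]
  · norm_num
  · intro h
    apply h2
    rw [← h]
    exact isCanon_oneIrr P

/-- (C7) the trivial character is non-exceptional with sign `+1` -/
theorem oneIrrG_mem_X0 (hP : Nat.card P = p) {X Y : Set (IrrCharacter G)}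
    {ε : IrrCharacter G → ℤ} {δ : ℤ} (D : IsRData P (oneIrr P) X Y ε δ)
    (hf : (cen P).relIndex (nor P) < p - 1) :
    oneIrrG G ∈ X ∧ ε (oneIrrG G) = 1 := by
  classical
  haveI : Finite (IrrCharacter (cen P)) := Helper79.irr_finite'
  have hcard := c6_card_Z1 P hP
  have hne : (Z1 P).Nonempty := by
    rw [← Set.nonempty_coe_sort, ← Finite.card_pos_iff, hcard]
    omega
  obtain ⟨φ₁, hφ₁⟩ := hne
  have hR : oneIrrG G ∈ Rset P (oneIrr P) := by
    refine ⟨φ₁, hφ₁.1, ?_⟩
    rw [c7_rowZ_oneIrrG P φ₁ hφ₁]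
    norm_num
  rw [D.union] at hR
  have hnotY : oneIrrG G ∉ Y := by
    intro hY
    obtain ⟨φ₀, h1, h2, h3⟩ := D.rowY (oneIrrG G) hY
    -- all of `Z1` lies in the orbit of `φ₀`
    have hsub : Z1 P ⊆ {φ | can P φ = can P φ₀ ∧ ∃ n : nor P, n • φ = φ₀} := by
      intro φ hφ
      have h := h3 φ hφ.1 hφ.2
      rw [c7_rowZ_oneIrrG P φ hφ] at h
      by_cases hc : ∃ n : nor P, n • φ = φ₀
      · exact ⟨hφ.1.trans h1.symm, hc⟩
      · rw [if_neg hc] at h
        norm_num at h
    have hle := Nat.card_mono (Set.toFinite _) hsub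
    have h4 := card_orbit_in_fibre P hP φ₀ h2
    rw [h1, inertia_oneIrr P hP] at h4
    rw [h1] at hle
    have h5 : Nat.card ({φ | can P φ = oneIrr P ∧ ∃ n : nor P, n • φ = φ₀} :
        Set (IrrCharacter (cen P))) = (cen P).relIndex (nor P) := h4
    rw [h5, hcard] at hle
    omega
  have hX : oneIrrG G ∈ X := by
    rcases hR with h | h
    · exact h
    · exact absurd h hnotY
  refine ⟨hX, ?_⟩
  have h := D.rowX (oneIrrG G) hX φ₁ hφ₁.1 hφ₁.2
  rw [c7_rowZ_oneIrrG P φ₁ hφ₁] at h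
  omega

end Cfsg.Agent.Helper24.BH
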