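import Mathlib
import Cfsg.Agent.Helper19.OpBN.Defs

/-!
# Helper24 / piece (PB) for helper19's S2548: an upper triangular permutation matrix is `1`
-/

set_option autoImplicit false

namespace Cfsg.Agent.Helper24.OpBN

open Matrix Cfsg.Agent.Helper19.OpBN

variable {F : Type*} [Field F] {m : ℕ}

/-- a permutation of `Fin n` with `π j ≤ j` for all `j` is the identity -/
theorem perm_eq_one_of_le {n : ℕ} (π : Equiv.Perm (Fin n)) (hle : ∀ j, π j ≤ j) : π = 1 := by
  have hid : ∀ k : ℕ, ∀ j : Fin n, j.val = k → π j = j := by
    intro k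
    induction k using Nat.strong_induction_on with
    | _ k ih =>
      intro j hj
      rcases (hle j).lt_or_eq with h | h
      · have h1 := ih (π j).val (by rw [← hj]; exact h) (π j) rfl
        exact absurd (π.injective h1) h.ne
      · exact h
  exact Equiv.ext fun j => hid j.val j rfl

/-- (PB) an upper triangular permutation matrix is the identity -/
theorem eq_one_of_mem_Psub_of_mem_Bsub (g : OG m F) (hP : g ∈ Psub m F) (hB : g ∈ Bsub m F) :
    g = 1 := by
  obtain ⟨π, hπ⟩ := (mem_Psub_iff g).mp hP
  rw [mem_Bsub_iff] at hB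
  have hle : ∀ j, π j ≤ j := by
    intro j
    by_contra h
    push Not at h
    have h0 := hB (π j) j h
    rw [hπ, pMat_apply, if_pos rfl] at h0
    exact one_ne_zero h0
  have h1 : π = 1 := perm_eq_one_of_le π hle
  apply mat_injective
  rw [hπ, h1, pMat_one, mat_one]

end Cfsg.Agent.Helper24.OpBN
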