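import Mathlib
import Cfsg.Agent.Helper19.OpBN.Defs

/-!
# Helper24 / piece (RS) for helper19's S2548: `rr` commutes with `s_k` for `k + 2 < m`
-/

set_option autoImplicit false

namespace Cfsg.Agent.Helper24.OpBN

open Matrix Cfsg.Agent.Helper19.OpBN

variable {F : Type*} [Field F] {m : ℕ}

/-- (RS) the reflection `rr` commutes with `s_k` for `k + 2 < m` -/
theorem rr_conj_sA (k : Fin (m - 1)) (hk : k.val + 2 < m) : rr * sA (F := F) k * rr⁻¹ = sA k := by
  rw [rr_inv]
  apply mat_injective
  rw [mat_mul, mat_mul, mat_rr, mat_sA, pMat_mul, pMat_mul]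
  congr 1
  apply Equiv.ext
  intro j
  apply Fin.ext
  have hj := j.2
  have hk2 := k.2
  simp only [Equiv.Perm.mul_apply, val_rPerm, val_sPerm]
  split_ifs <;> omega

end Cfsg.Agent.Helper24.OpBN
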