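import Mathlib
import Cfsg.Agent.Helper5.SuBN.Defs

/-!
# (L1) for S2546: an element whose first `n / 2` columns are upper triangular is upper triangular
-/

set_option autoImplicit false

namespace Cfsg.Agent.Helper24.SuBNL1

open Matrix Cfsg.Agent.Helper5.SuBN

variable {F : Type*} [Field F] {n : ℕ} {σ : F →+* F}

theorem Pj_half_subset_Bsub (g : UG n σ) (hg : g ∈ Pj σ (n / 2)) : g ∈ Bsub n σ := by
  rw [mem_Bsub_iff]
  intro a b hab
  by_cases hb : b.val < n / 2
  · exact hg a b hb hab
  · have hginv := inv_mem_Pj (n / 2) g hg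
    have h := inv_apply g⁻¹ a b
    rw [inv_inv] at h
    rw [h]
    have hab' : b.val < a.val := hab
    have h0 : mat g⁻¹ (Fin.rev b) (Fin.rev a) = 0 := by
      apply hginv
      · rw [val_rev]
        have := a.isLt
        omega
      · rw [Fin.lt_def, val_rev, val_rev]
        have := a.isLt
        omega
    rw [h0, map_zero]

end Cfsg.Agent.Helper24.SuBNL1
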