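import Mathlib
import Cfsg.Agent.Helper5.SuBN.Defs

/-!
# (STEP0) for S2546: the last nonzero coordinate of an isotropic vector is not the middle one
-/

set_option autoImplicit false

namespace Cfsg.Agent.Helper24.SuBNSTEP0

open Matrix Cfsg.Agent.Helper5.SuBN

variable {F : Type*} [Field F] {n : ℕ} {σ : F →+* F}

theorem step_middle (A : ℕ) (hA : 2 * A + 1 = n) (v : Fin n → F) (hv : hermJ σ v v = 0)
    (hvA : ∀ a : Fin n, A < a.val → v a = 0) (a : Fin n) (ha : a.val = A) : v a = 0 := by
  unfold hermJ at hv
  have hrev : Fin.rev a = a := by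
    apply Fin.ext
    rw [val_rev]
    omega
  have hsum : ∑ i, v i * σ (v (Fin.rev i)) = v a * σ (v a) := by
    rw [Finset.sum_eq_single a]
    · rw [hrev]
    · intro i _ hia
      have hne : i.val ≠ A := fun h => hia (Fin.ext (h.trans ha.symm))
      rcases Nat.lt_or_gt_of_ne hne with h | h
      · have h0 : v (Fin.rev i) = 0 := by
          apply hvA
          rw [val_rev]
          have := i.isLt
          omega
        rw [h0, map_zero, mul_zero]
      · rw [hvA i h, zero_mul]
    · intro h
      exact absurd (Finset.mem_univ a) h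
  rw [hsum] at hv
  rcases mul_eq_zero.1 hv with h | h
  · exact h
  · exact (map_eq_zero σ).1 h

end Cfsg.Agent.Helper24.SuBNSTEP0
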