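import Cfsg.Agent.Helper95.Hig.Basic
import Cfsg.Prelude.Def_Transfer
import Cfsg.Prelude.Def_BaumannBlocks

/-!
Helper24, project HIG of helper95 (statement S3050), piece (CJ3): in `SL₂(K)`, `K` a finite field of
characteristic 2, the elements of order 3 have trace 1 and are all conjugate.
-/

set_option autoImplicit false

namespace Cfsg.Agent.Helper24.Hig

open Cfsg.Agent.Helper40.SL2Hom
open Cfsg.Agent.Helper95.Hig

universe u v

section sl
variable {K : Type u} [Field K]

/-- the standard element `[[0,1],[1,1]]` of order 3 -/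
def cj3T [CharP K 2] : SL2 K :=
  ⟨!![0, 1; 1, 1], by simp [Matrix.det_fin_two, CharTwo.neg_eq]⟩

theorem cj3T_coe [CharP K 2] :
    ((cj3T : SL2 K) : Matrix (Fin 2) (Fin 2) K) = !![0, 1; 1, 1] := rfl

/-- an element of order 3 has trace 1 -/
theorem cj3_tr [CharP K 2] (g : SL2 K) (hg : orderOf g = 3) : g 0 0 + g 1 1 = 1 := by
  have hg3 : g ^ 3 = 1 := by rw [← hg]; exact pow_orderOf_eq_one g
  have hne : g ≠ 1 := by
    intro h; rw [h, orderOf_one] at hg; omega
  have h2 : (2 : K) = 0 := CharTwo.two_eq_zero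
  have hdet := sl2_det g
  have hM : g * g * g = 1 := by rw [← hg3, pow_succ, pow_two]
  have e00 := congrArg (fun m : SL2 K => m 0 0) hM
  have e01 := congrArg (fun m : SL2 K => m 0 1) hM
  have e10 := congrArg (fun m : SL2 K => m 1 0) hM
  have e11 := congrArg (fun m : SL2 K => m 1 1) hM
  simp only [Matrix.SpecialLinearGroup.coe_mul, Matrix.SpecialLinearGroup.coe_one,
    Matrix.mul_apply, Fin.sum_univ_two, Matrix.one_apply_eq] at e00 e01 e10 e11
  rw [Matrix.one_apply_ne (by decide)] at e01 e10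
  by_contra ht
  have ht' : g 0 0 + g 1 1 - 1 ≠ 0 := fun h => ht (by linear_combination h)
  have hb : g 0 1 = 0 := by
    have h1 : (g 0 0 + g 1 1 - 1) * (g 0 0 + g 1 1 - 1) * g 0 1 = 0 := by
      linear_combination e01 + g 0 1 * hdet + (1 - g 0 0 - g 1 1) * g 0 1 * h2
    rcases mul_eq_zero.mp h1 with h | h
    · exact absurd (mul_self_eq_zero.mp h) ht'
    · exact h
  have hc : g 1 0 = 0 := by
    have h1 : (g 0 0 + g 1 1 - 1) * (g 0 0 + g 1 1 - 1) * g 1 0 = 0 := by
      linear_combination e10 + g 1 0 * hdet + (1 - g 0 0 - g 1 1) * g 1 0 * h2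
    rcases mul_eq_zero.mp h1 with h | h
    · exact absurd (mul_self_eq_zero.mp h) ht'
    · exact h
  rw [hb, hc] at e00 e11 hdet
  have ha3 : g 0 0 * g 0 0 * g 0 0 = 1 := by linear_combination e00
  have had : g 0 0 * g 1 1 = 1 := by linear_combination hdet
  have hd : g 1 1 = g 0 0 * g 0 0 := by
    linear_combination (g 0 0 * g 0 0) * had - g 1 1 * ha3
  have hfac : (g 0 0 - 1) * (g 0 0 * g 0 0 + g 0 0 + 1) = 0 := by linear_combination ha3
  rcases mul_eq_zero.mp hfac with h | h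
  · have ha : g 0 0 = 1 := by linear_combination h
    have hd1 : g 1 1 = 1 := by rw [hd, ha, one_mul]
    apply hne
    apply sl2_ext
    · simpa using ha
    · simpa using hb
    · simpa using hc
    · simpa using hd1
  · apply ht
    rw [hd]
    linear_combination h - h2

/-- an element of trace 1 is conjugate to `[[0,1],[1,1]]` -/
theorem cj3_conj [Finite K] [CharP K 2] (g : SL2 K) (htr : g 0 0 + g 1 1 = 1) :
    ∃ a : SL2 K, a * g * a⁻¹ = cj3T := by
  have h2 : (2 : K) = 0 := CharTwo.two_eq_zero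
  have hdet := sl2_det g
  -- a vector `e` with `e, g e` independent
  obtain ⟨e0, e1, hD⟩ : ∃ e0 e1 : K,
      e0 * (g 1 0 * e0 + g 1 1 * e1) - e1 * (g 0 0 * e0 + g 0 1 * e1) ≠ 0 := by
    by_cases hc : g 1 0 = 0
    · by_cases hb : g 0 1 = 0
      · refine ⟨1, 1, ?_⟩
        rw [hc, hb]
        intro h
        have : (1 : K) = 0 := by linear_combination h - htr + g 0 0 * h2
        exact one_ne_zero this
      · refine ⟨0, 1, ?_⟩
        intro h
        apply hb
        linear_combination -h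
    · refine ⟨1, 0, ?_⟩
      intro h
      apply hc
      linear_combination h
  -- a square root of `D⁻¹`
  obtain ⟨l, hl⟩ : ∃ l : K,
      l * l * (e0 * (g 1 0 * e0 + g 1 1 * e1) - e1 * (g 0 0 * e0 + g 0 1 * e1)) = 1 := by
    obtain ⟨l, hl⟩ := FiniteField.isSquare_of_char_two (ringChar.eq K 2)
      (e0 * (g 1 0 * e0 + g 1 1 * e1) - e1 * (g 0 0 * e0 + g 0 1 * e1))⁻¹
    exact ⟨l, by rw [← hl, inv_mul_cancel₀ hD]⟩
  let P : SL2 K := ⟨!![l * e0, l * (g 0 0 * e0 + g 0 1 * e1); l * e1, l * (g 1 0 * e0 + g 1 1 * e1)], by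
    rw [Matrix.det_fin_two_of]
    linear_combination hl⟩
  have hP : ((P : SL2 K) : Matrix (Fin 2) (Fin 2) K)
      = !![l * e0, l * (g 0 0 * e0 + g 0 1 * e1); l * e1, l * (g 1 0 * e0 + g 1 1 * e1)] := rfl
  refine ⟨P⁻¹, ?_⟩
  rw [inv_inv, mul_assoc, inv_mul_eq_iff_eq_mul]
  apply sl2_ext
  · simp only [Matrix.SpecialLinearGroup.coe_mul, hP, cj3T_coe]
    simp [Matrix.mul_apply, Fin.sum_univ_two]
    ring
  · simp only [Matrix.SpecialLinearGroup.coe_mul, hP, cj3T_coe]
    simp [Matrix.mul_apply, Fin.sum_univ_two]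
    linear_combination (l * e0) * hdet + (l * (g 0 0 * e0 + g 0 1 * e1)) * htr - l * e0 * h2
      + (l * e0 * (1 - g 0 0 * g 1 1 + g 0 1 * g 1 0)) * h2
  · simp only [Matrix.SpecialLinearGroup.coe_mul, hP, cj3T_coe]
    simp [Matrix.mul_apply, Fin.sum_univ_two]
    ring
  · simp only [Matrix.SpecialLinearGroup.coe_mul, hP, cj3T_coe]
    simp [Matrix.mul_apply, Fin.sum_univ_two]
    linear_combination (l * e1) * hdet + (l * (g 1 0 * e0 + g 1 1 * e1)) * htr - l * e1 * h2
      + (l * e1 * (1 - g 0 0 * g 1 1 + g 0 1 * g 1 0)) * h2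

/-- **(CJ3)** any two elements of order 3 of `SL₂(K)` are conjugate. -/
theorem cj3 [Finite K] [CharP K 2] (g h : SL2 K) (hg : orderOf g = 3) (hh : orderOf h = 3) :
    ∃ a : SL2 K, a * g * a⁻¹ = h := by
  obtain ⟨a, ha⟩ := cj3_conj g (cj3_tr g hg)
  obtain ⟨b, hb⟩ := cj3_conj h (cj3_tr h hh)
  refine ⟨b⁻¹ * a, ?_⟩
  have : h = b⁻¹ * cj3T * b := by rw [← hb]; group
  rw [this, ← ha]; group

end sl

end Cfsg.Agent.Helper24.Hig
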