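import Cfsg.Agent.Helper95.Hig.Basic
import Cfsg.Prelude.Def_Transfer
import Cfsg.Prelude.Def_BaumannBlocks

/-!
Helper24, project HIG of helper95 (statement S3050), piece (TWI): the twisted commutator identity
`cm (σ y σ⁻¹) z = σ⁻¹ (cm y z) σ` in class `≤ 2`.  The file also contains private copies
`twi_tri`, `twi_o3c` of the pieces (TRI), (O3C), and the version `twi_of` with these two pieces as
hypotheses.
-/

set_option autoImplicit false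

namespace Cfsg.Agent.Helper24.Hig

open Cfsg.Agent.Helper40.SL2Hom
open Cfsg.Agent.Helper95.Hig

universe u v

section grp
variable {G : Type v} [Group G]

/-- commutators of elements of `Q` commute with the elements of `Q` -/
theorem twi_cen (Q : Subgroup G)
    (hcl : ∀ a ∈ Q, ∀ b ∈ Q, ∀ c ∈ Q, cm (cm a b) c = 1)
    {a b c : G} (ha : a ∈ Q) (hb : b ∈ Q) (hc : c ∈ Q) : cm a b * c = c * cm a b := by
  have h := hcl a ha b hb c hc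
  rw [cm_def (cm a b) c, mul_inv_eq_one, mul_inv_eq_iff_eq_mul] at h
  exact h

theorem twi_cm_mem (Q : Subgroup G) {a b : G} (ha : a ∈ Q) (hb : b ∈ Q) : cm a b ∈ Q := by
  rw [cm_def]
  exact Q.mul_mem (Q.mul_mem (Q.mul_mem ha hb) (Q.inv_mem ha)) (Q.inv_mem hb)

/-- the algebraic core -/
theorem twi_core (Q : Subgroup G) [hn : Q.Normal]
    (hcl : ∀ a ∈ Q, ∀ b ∈ Q, ∀ c ∈ Q, cm (cm a b) c = 1)
    (s : G) (hs : s * s * s = 1)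
    (htri : ∀ y ∈ Q, y * (s * y * s⁻¹) * (s * s * y * s⁻¹ * s⁻¹) = 1)
    (y z : G) (hy : y ∈ Q) (hz : z ∈ Q)
    (htau : y * ((s * z) * y * (s * z)⁻¹) * ((s * z) * (s * z) * y * (s * z)⁻¹ * (s * z)⁻¹) = 1) :
    cm (s * y * s⁻¹) z = s⁻¹ * cm y z * s := by
  have hb : s * y * s⁻¹ ∈ Q := hn.conj_mem y hy s
  have ha : s * z * s⁻¹ ∈ Q := hn.conj_mem z hz s
  -- `τ² = z⁻¹ s²`
  have hT2 : s * z * (s * z) = z⁻¹ * (s * s) := by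
    have h1 := htri z hz
    calc s * z * (s * z)
        = z⁻¹ * (z * (s * z * s⁻¹) * (s * s * z * s⁻¹ * s⁻¹)) * (s * s) := by group
      _ = z⁻¹ * (s * s) := by rw [h1, mul_one]
  have hy2 : s * s * y * s⁻¹ * s⁻¹ = (s * y * s⁻¹)⁻¹ * y⁻¹ := by
    have h1 := htri y hy
    calc s * s * y * s⁻¹ * s⁻¹
        = (s * y * s⁻¹)⁻¹ * y⁻¹ * (y * (s * y * s⁻¹) * (s * s * y * s⁻¹ * s⁻¹)) := by group
      _ = (s * y * s⁻¹)⁻¹ * y⁻¹ := by rw [h1, mul_one]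
  -- abbreviations
  obtain ⟨b, hbdef⟩ : ∃ b, b = s * y * s⁻¹ := ⟨_, rfl⟩
  obtain ⟨a, hadef⟩ : ∃ a, a = s * z * s⁻¹ := ⟨_, rfl⟩
  rw [← hbdef] at hb hy2 ⊢
  rw [← hadef] at ha
  have e2 : (s * z) * y * (s * z)⁻¹ = cm a b * b := by
    rw [cm_def, hadef, hbdef]; group
  have e3 : (s * z) * (s * z) * y * (s * z)⁻¹ * (s * z)⁻¹ = z⁻¹ * (b⁻¹ * y⁻¹) * z := by
    calc (s * z) * (s * z) * y * (s * z)⁻¹ * (s * z)⁻¹
        = (s * z * (s * z)) * y * (s * z * (s * z))⁻¹ := by group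
      _ = (z⁻¹ * (s * s)) * y * (z⁻¹ * (s * s))⁻¹ := by rw [hT2]
      _ = z⁻¹ * (s * s * y * s⁻¹ * s⁻¹) * z := by group
      _ = z⁻¹ * (b⁻¹ * y⁻¹) * z := by rw [hy2]
  rw [e2, e3] at htau
  -- `K = cm a b` commutes with `y`
  have hKy : cm a b * y = y * cm a b := twi_cen Q hcl ha hb hy
  have hK : cm a b = z⁻¹ * y * b * z * b⁻¹ * y⁻¹ := by
    have h1 : cm a b * (y * b * z⁻¹ * b⁻¹ * y⁻¹ * z) = 1 := by
      calc cm a b * (y * b * z⁻¹ * b⁻¹ * y⁻¹ * z)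
          = (cm a b * y) * (b * z⁻¹ * b⁻¹ * y⁻¹ * z) := by group
        _ = (y * cm a b) * (b * z⁻¹ * b⁻¹ * y⁻¹ * z) := by rw [hKy]
        _ = y * (cm a b * b) * (z⁻¹ * (b⁻¹ * y⁻¹) * z) := by group
        _ = 1 := htau
    calc cm a b = cm a b * (y * b * z⁻¹ * b⁻¹ * y⁻¹ * z) * (z⁻¹ * y * b * z * b⁻¹ * y⁻¹) := by
          group
      _ = z⁻¹ * y * b * z * b⁻¹ * y⁻¹ := by rw [h1, one_mul]
  -- `k = cm b z`
  have hkz : cm b z * z⁻¹ = z⁻¹ * cm b z := twi_cen Q hcl hb hz (Q.inv_mem hz)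
  have hky : cm b z * y = y * cm b z := twi_cen Q hcl hb hz hy
  have hdz : cm y z * z = z * cm y z := twi_cen Q hcl hy hz hz
  have hK2 : cm a b = cm b z * cm y z := by
    have e5 : z⁻¹ * y * z * y⁻¹ = cm y z := by
      calc z⁻¹ * y * z * y⁻¹ = z⁻¹ * (cm y z * z) := by rw [cm_def]; group
        _ = z⁻¹ * (z * cm y z) := by rw [hdz]
        _ = cm y z := by group
    calc cm a b = z⁻¹ * y * b * z * b⁻¹ * y⁻¹ := hK
      _ = z⁻¹ * y * (cm b z * z) * y⁻¹ := by rw [cm_def]; group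
      _ = z⁻¹ * (y * cm b z) * z * y⁻¹ := by group
      _ = z⁻¹ * (cm b z * y) * z * y⁻¹ := by rw [hky]
      _ = (z⁻¹ * cm b z) * y * z * y⁻¹ := by group
      _ = (cm b z * z⁻¹) * y * z * y⁻¹ := by rw [hkz]
      _ = cm b z * (z⁻¹ * y * z * y⁻¹) := by group
      _ = cm b z * cm y z := by rw [e5]
  -- `d = cm z y`
  have hd : cm z y ∈ Q := twi_cm_mem Q hz hy
  have hdX : cm z y * (s * cm z y * s⁻¹) = (s * cm z y * s⁻¹) * cm z y :=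
    twi_cen Q hcl hz hy (hn.conj_mem _ hd s)
  have h3 := htri (cm z y) hd
  have e6 : cm a b = s * cm z y * s⁻¹ := by
    rw [cm_def, cm_def, hadef, hbdef]; group
  have e7 : cm y z = (cm z y)⁻¹ := by
    rw [cm_def, cm_def]; group
  have e8 : s * s = s⁻¹ := by
    calc s * s = (s * s * s) * s⁻¹ := by group
      _ = s⁻¹ := by rw [hs, one_mul]
  have e9 : s⁻¹ * s⁻¹ = s := by
    calc s⁻¹ * s⁻¹ = s⁻¹ * s⁻¹ * s⁻¹ * s := by group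
      _ = (s * s * s)⁻¹ * s := by group
      _ = s := by rw [hs, inv_one, one_mul]
  calc cm b z = (cm b z * cm y z) * (cm y z)⁻¹ := by group
    _ = (s * cm z y * s⁻¹) * cm z y := by rw [← hK2, e6, e7, inv_inv]
    _ = cm z y * (s * cm z y * s⁻¹) := hdX.symm
    _ = (cm z y * (s * cm z y * s⁻¹) * (s * s * cm z y * s⁻¹ * s⁻¹))
          * (s * s * (cm z y)⁻¹ * s⁻¹ * s⁻¹) := by group
    _ = s * s * (cm z y)⁻¹ * s⁻¹ * s⁻¹ := by rw [h3, one_mul]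
    _ = (s * s) * cm y z * (s⁻¹ * s⁻¹) := by rw [e7]; group
    _ = s⁻¹ * cm y z * s := by rw [e8, e9]

/-- private copy of (TRI) -/
theorem twi_tri [Finite G] (Q : Subgroup G) [hn : Q.Normal] (σ : G) (hσ : σ ^ 3 = 1)
    (hfpf : ∀ y ∈ Q, σ * y * σ⁻¹ = y → y = 1) :
    ∀ y ∈ Q, y * (σ * y * σ⁻¹) * (σ * σ * y * σ⁻¹ * σ⁻¹) = 1 := by
  have hs : σ * σ * σ = 1 := by rw [← hσ, pow_succ, pow_two]
  -- the map `w ↦ w⁻¹ * σ w σ⁻¹` on `Q`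
  let f : ↥Q → ↥Q := fun w => ⟨(w : G)⁻¹ * (σ * w * σ⁻¹),
    Q.mul_mem (Q.inv_mem w.2) (hn.conj_mem _ w.2 σ)⟩
  have hinj : Function.Injective f := by
    intro w w' h
    have h1 : (w : G)⁻¹ * (σ * w * σ⁻¹) = (w' : G)⁻¹ * (σ * w' * σ⁻¹) := congrArg Subtype.val h
    have h2 : σ * ((w' : G) * (w : G)⁻¹) * σ⁻¹ = (w' : G) * (w : G)⁻¹ := by
      calc σ * ((w' : G) * (w : G)⁻¹) * σ⁻¹
          = (w' : G) * ((w' : G)⁻¹ * (σ * w' * σ⁻¹)) * (σ * (w : G)⁻¹ * σ⁻¹) := by group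
        _ = (w' : G) * ((w : G)⁻¹ * (σ * w * σ⁻¹)) * (σ * (w : G)⁻¹ * σ⁻¹) := by rw [h1]
        _ = (w' : G) * (w : G)⁻¹ := by group
    have h3 := hfpf _ (Q.mul_mem w'.2 (Q.inv_mem w.2)) h2
    apply Subtype.ext
    rw [mul_inv_eq_one] at h3
    exact h3.symm
  have hsurj : Function.Surjective f := Finite.injective_iff_surjective.mp hinj
  intro y hy
  obtain ⟨w, hw⟩ := hsurj ⟨y, hy⟩
  have hy' : y = (w : G)⁻¹ * (σ * w * σ⁻¹) := (congrArg Subtype.val hw).symm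
  rw [hy']
  calc (w : G)⁻¹ * (σ * w * σ⁻¹) * (σ * ((w : G)⁻¹ * (σ * w * σ⁻¹)) * σ⁻¹)
        * (σ * σ * ((w : G)⁻¹ * (σ * w * σ⁻¹)) * σ⁻¹ * σ⁻¹)
      = (w : G)⁻¹ * (σ * σ * σ) * w * (σ * σ * σ)⁻¹ := by group
    _ = 1 := by rw [hs]; group

/-- private copy of (O3C) -/
theorem twi_o3c [Finite G] (Q : Subgroup G) [hn : Q.Normal] (hQ : IsPGroup 2 ↥Q) (σ : G)
    (hσ : orderOf σ = 3)
    (hfpf : ∀ y ∈ Q, σ * y * σ⁻¹ = y → y = 1) (z : G) (hz : z ∈ Q) : orderOf (σ * z) = 3 := by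
  have hσ3 : σ ^ 3 = 1 := by rw [← hσ]; exact pow_orderOf_eq_one σ
  have hs : σ * σ * σ = 1 := by rw [← hσ3, pow_succ, pow_two]
  have htri := twi_tri Q σ hσ3 hfpf (σ * z * σ⁻¹) (hn.conj_mem z hz σ)
  have hcube : (σ * z) ^ 3 = 1 := by
    calc (σ * z) ^ 3 = (σ * z) * (σ * z) * (σ * z) := by rw [pow_succ, pow_two]
      _ = ((σ * z * σ⁻¹) * (σ * (σ * z * σ⁻¹) * σ⁻¹) * (σ * σ * (σ * z * σ⁻¹) * σ⁻¹ * σ⁻¹))
            * (σ * σ * σ) := by group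
      _ = 1 := by rw [htri, hs, one_mul]
  have hne : σ * z ≠ 1 := by
    intro h
    have hσQ : σ ∈ Q := by
      have : σ = z⁻¹ := eq_inv_of_mul_eq_one_left h
      rw [this]; exact Q.inv_mem hz
    obtain ⟨k, hk⟩ := hQ ⟨σ, hσQ⟩
    have h1 : σ ^ 2 ^ k = 1 := by
      have := congrArg Subtype.val hk
      simpa using this
    have h2 : 3 ∣ 2 ^ k := by rw [← hσ]; exact orderOf_dvd_of_pow_eq_one h1
    have h3 : 3 ∣ 2 := Nat.Prime.dvd_of_dvd_pow (by norm_num) h2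
    omega
  have : Fact (Nat.Prime 3) := ⟨by norm_num⟩
  exact orderOf_eq_prime hcube hne

/-- (TWI) with the pieces (TRI) and (O3C) as hypotheses. -/
theorem twi_of
    (htri : ∀ {G : Type v} [Group G] [Finite G] (Q : Subgroup G) [Q.Normal] (σ : G) (_ : σ ^ 3 = 1)
      (_ : ∀ y ∈ Q, σ * y * σ⁻¹ = y → y = 1),
      ∀ y ∈ Q, y * (σ * y * σ⁻¹) * (σ * σ * y * σ⁻¹ * σ⁻¹) = 1)
    (ho3c : ∀ {G : Type v} [Group G] [Finite G] (Q : Subgroup G) [Q.Normal] (_ : IsPGroup 2 ↥Q)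
      (σ : G) (_ : orderOf σ = 3) (_ : ∀ y ∈ Q, σ * y * σ⁻¹ = y → y = 1) (z : G) (_ : z ∈ Q),
      orderOf (σ * z) = 3)
    [Finite G] (Q : Subgroup G) [Q.Normal] (hQ : IsPGroup 2 ↥Q)
    (hcl : ∀ a ∈ Q, ∀ b ∈ Q, ∀ c ∈ Q, cm (cm a b) c = 1)
    (hfpf : ∀ g : G, orderOf g = 3 → ∀ y ∈ Q, g * y * g⁻¹ = y → y = 1)
    (σ : G) (hσ : orderOf σ = 3) :
    ∀ y ∈ Q, ∀ z ∈ Q, cm (σ * y * σ⁻¹) z = σ⁻¹ * cm y z * σ := by
  intro y hy z hz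
  have hσ3 : σ ^ 3 = 1 := by rw [← hσ]; exact pow_orderOf_eq_one σ
  have hs : σ * σ * σ = 1 := by rw [← hσ3, pow_succ, pow_two]
  have hτ : orderOf (σ * z) = 3 := ho3c Q hQ σ hσ (hfpf σ hσ) z hz
  have hτ3 : (σ * z) ^ 3 = 1 := by rw [← hτ]; exact pow_orderOf_eq_one _
  exact twi_core Q hcl σ hs (htri Q σ hσ3 (hfpf σ hσ)) y z hy hz
    (htri Q (σ * z) hτ3 (hfpf _ hτ) y hy)

/-- **(TWI)** the twisted commutator identity. -/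
theorem twi [Finite G] (Q : Subgroup G) [Q.Normal] (hQ : IsPGroup 2 ↥Q)
    (hcl : ∀ a ∈ Q, ∀ b ∈ Q, ∀ c ∈ Q, cm (cm a b) c = 1)
    (hfpf : ∀ g : G, orderOf g = 3 → ∀ y ∈ Q, g * y * g⁻¹ = y → y = 1)
    (σ : G) (hσ : orderOf σ = 3) :
    ∀ y ∈ Q, ∀ z ∈ Q, cm (σ * y * σ⁻¹) z = σ⁻¹ * cm y z * σ :=
  twi_of (fun Q _ σ hσ hf => twi_tri Q σ hσ hf) (fun Q _ hQ σ hσ hf z hz => twi_o3c Q hQ σ hσ hf z hz)
    Q hQ hcl hfpf σ hσ

end grp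

end Cfsg.Agent.Helper24.Hig
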