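import Mathlib

/-!
# (KDI) for S3716: the Diophantine core of type 3, case I
-/

set_option autoImplicit false

namespace Cfsg.Agent.Helper24.D8

/-! ## the finite check -/

/-- numerator of `E` over the common denominator `kdiDen` -/
def kdiNum (a b c : ℤ) : ℤ :=
  a * b * (1 + a - b) * c * (-1 - a - c) - 2 * (b * (1 + a - b) * c * (-1 - a - c))
    - 2 * (a * (1 + a - b) * c * (-1 - a - c)) + a * b * c * (-1 - a - c)
    + 2 * (a * b * (1 + a - b) * (-1 - a - c)) + 8 * (a * b * (1 + a - b) * c)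

/-- the common denominator -/
def kdiDen (a b c : ℤ) : ℤ := a * b * (1 + a - b) * c * (-1 - a - c)

/-- the quadratic form -/
def kdiS (a b c : ℤ) : ℤ :=
  1 + 2 * a ^ 2 + 2 * b ^ 2 + (1 + a - b) ^ 2 + 2 * c ^ 2 + (-1 - a - c) ^ 2

/-- a point satisfying all the constraints -/
def kdiBad (a b c : ℤ) : Bool :=
  (decide (5 ≤ a) || decide (a ≤ -13)) && (decide (5 ≤ b) || decide (b ≤ -13)) &&
  (decide (10 ≤ c) || decide (c ≤ -17)) &&
  (decide (10 ≤ 1 + a - b) || decide (1 + a - b ≤ -17)) &&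
  (decide (2 ≤ -1 - a - c) || decide (-1 - a - c ≤ -16)) &&
  decide (kdiNum a b c ≠ 0) && decide ((9 * kdiDen a b c) % kdiNum a b c = 0) &&
  decide (10 ≤ (9 * kdiDen a b c) / kdiNum a b c) &&
  decide (kdiS a b c ≤ 72 * ((9 * kdiDen a b c) / kdiNum a b c))

set_option maxRecDepth 100000 in
theorem kdi_check : ∀ i : ℕ, i < 20 → ∀ j : ℕ, j < 20 → ∀ k : ℕ, k < 21 →
    kdiBad (9 * (Int.ofNat i) - 85) (9 * (Int.ofNat j) - 85) (9 * (Int.ofNat k) - 89) = false := by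
  decide

/-! ## rational bounds -/

theorem kdi_div_pos {k c z : ℚ} (hk : 0 ≤ k) (hc : 0 < c) (hz : c ≤ z) :
    0 ≤ k / z ∧ k / z ≤ k / c :=
  ⟨div_nonneg hk (le_trans hc.le hz), div_le_div_of_nonneg_left hk hc hz⟩

theorem kdi_div_neg {k c z : ℚ} (hk : 0 ≤ k) (hc : 0 < c) (hz : z ≤ -c) :
    -(k / c) ≤ k / z ∧ k / z ≤ 0 := by
  have h1 : k / z = -(k / -z) := by rw [div_neg, neg_neg]
  have h2 : k / -z ≤ k / c := div_le_div_of_nonneg_left hk hc (by linarith)
  have h3 : 0 ≤ k / -z := div_nonneg hk (by linarith)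
  rw [h1]
  constructor <;> linarith

/-- `2 / x ≤ 1 / 7` away from `5` -/
theorem kdi_tx {x : ℚ} (hx : 14 ≤ x ∨ x ≤ -13) : 2 / x ≤ 1 / 7 := by
  rcases hx with h | h
  · have h1 := (kdi_div_pos (k := 2) (c := 14) (by norm_num) (by norm_num) h).2
    norm_num at h1 ⊢
    linarith
  · have h1 := (kdi_div_neg (k := 2) (c := 13) (by norm_num) (by norm_num) h).2
    linarith

theorem kdi_tu {u : ℚ} (hu : 10 ≤ u ∨ u ≤ -17) : -(1 / 17) ≤ 1 / u := by
  rcases hu with h | h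
  · have h1 := (kdi_div_pos (k := 1) (c := 10) (by norm_num) (by norm_num) h).1
    linarith
  · exact (kdi_div_neg (k := 1) (c := 17) (by norm_num) (by norm_num) h).1

theorem kdi_ty {y : ℚ} (hy : 10 ≤ y ∨ y ≤ -17) : -(2 / 17) ≤ 2 / y := by
  rcases hy with h | h
  · have h1 := (kdi_div_pos (k := 2) (c := 10) (by norm_num) (by norm_num) h).1
    linarith
  · exact (kdi_div_neg (k := 2) (c := 17) (by norm_num) (by norm_num) h).1

theorem kdi_tv {v : ℚ} (hv : 2 ≤ v ∨ v ≤ -16) : -(1 / 2) ≤ 8 / v := by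
  rcases hv with h | h
  · have h1 := (kdi_div_pos (k := 8) (c := 2) (by norm_num) (by norm_num) h).1
    linarith
  · have h1 := (kdi_div_neg (k := 8) (c := 16) (by norm_num) (by norm_num) h).1
    norm_num at h1 ⊢
    linarith

theorem kdi_tv' {v : ℚ} (hv : 2 ≤ v ∨ v ≤ -25) : -(8 / 25) ≤ 8 / v := by
  rcases hv with h | h
  · have h1 := (kdi_div_pos (k := 8) (c := 2) (by norm_num) (by norm_num) h).1
    linarith
  · exact (kdi_div_neg (k := 8) (c := 25) (by norm_num) (by norm_num) h).1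

/-- Case A: neither `X` nor `X'` is `5` -/
theorem kdi_caseA {x x' u y v : ℚ} (hx : 14 ≤ x ∨ x ≤ -13) (hx' : 14 ≤ x' ∨ x' ≤ -13)
    (hu : 10 ≤ u ∨ u ≤ -17) (hy : 10 ≤ y ∨ y ≤ -17) (hv : 2 ≤ v ∨ v ≤ -16) :
    (9 : ℚ) / 238 ≤ 1 - 2 / x - 2 / x' + 1 / u + 2 / y + 8 / v := by
  have h1 := kdi_tx hx
  have h2 := kdi_tx hx'
  have h3 := kdi_tu hu
  have h4 := kdi_ty hy
  have h5 := kdi_tv hv
  norm_num at h1 h2 h3 h4 h5 ⊢
  linarith

/-- Case B: `X = 5` -/
theorem kdi_caseB {x x' u y v : ℚ} (hx : x = 5) (hx' : 14 ≤ x' ∨ x' ≤ -13)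
    (hu : 10 ≤ u ∨ u ≤ -17) (hy : 10 ≤ y ∨ y ≤ -17) (hv : v = -6 - y) :
    (9 : ℚ) / 238 ≤ 1 - 2 / x - 2 / x' + 1 / u + 2 / y + 8 / v := by
  have h2 := kdi_tx hx'
  have h3 := kdi_tu hu
  rw [hx]
  rcases hy with h | h
  · -- `2 / y + 8 / v ≥ -3 / 10`
    have hy0 : y ≠ 0 := by
      intro h0
      rw [h0] at h
      norm_num at h
    have hv0 : (-6 - y) ≠ 0 := by
      intro h0
      have : y = -6 := by linarith
      rw [this] at h
      norm_num at h
    have hid : 2 / y + 8 / (-6 - y) + 3 / 10 = 3 * ((y - 4) * (y - 10)) / (10 * (y * (y + 6))) := by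
      have hy6 : y + 6 ≠ 0 := by
        intro h0
        apply hv0
        linarith
      field_simp
      ring
    have hnn : 0 ≤ 3 * ((y - 4) * (y - 10)) / (10 * (y * (y + 6))) := by
      apply div_nonneg
      · have : 0 ≤ (y - 4) * (y - 10) := mul_nonneg (by linarith) (by linarith)
        linarith
      · have : 0 < y * (y + 6) := mul_pos (by linarith) (by linarith)
        linarith
    rw [hv]
    norm_num at h2 h3 ⊢
    linarith
  · have h4 := (kdi_div_neg (k := 2) (c := 17) (by norm_num) (by norm_num) h).1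
    have hv11 : (11 : ℚ) ≤ v := by rw [hv]; linarith
    have h5 := (kdi_div_pos (k := 8) (c := 11) (by norm_num) (by norm_num) hv11).1
    norm_num at h2 h3 h4 h5 ⊢
    linarith

/-- the combined bound for `-2 / x + 1 / (x - 4)` -/
theorem kdi_comb {x : ℚ} (hx : 14 ≤ x ∨ x ≤ -13) : -(3 / 70) ≤ -(2 / x) + 1 / (x - 4) := by
  have hx0 : x ≠ 0 := by
    rcases hx with h | h <;> intro h0 <;> rw [h0] at h <;> norm_num at h
  have hx4 : x - 4 ≠ 0 := by
    rcases hx with h | h <;> intro h0 <;> [skip; skip] <;>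
      (have : x = 4 := by linarith) <;> rw [this] at h <;> norm_num at h
  have hid : -(2 / x) + 1 / (x - 4) + 3 / 70 = (3 * x - 40) * (x - 14) / (70 * (x * (x - 4))) := by
    field_simp
    ring
  have hnn : 0 ≤ (3 * x - 40) * (x - 14) / (70 * (x * (x - 4))) := by
    apply div_nonneg
    · rcases hx with h | h
      · exact mul_nonneg (by linarith) (by linarith)
      · exact mul_nonneg_of_nonpos_of_nonpos (by linarith) (by linarith)
    · rcases hx with h | h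
      · have : 0 < x * (x - 4) := mul_pos (by linarith) (by linarith)
        linarith
      · have : 0 < x * (x - 4) := mul_pos_of_neg_of_neg (by linarith) (by linarith)
        linarith
  linarith

/-- Case C1: `X' = 5`, `H ≠ -16` -/
theorem kdi_caseC1 {x x' u y v : ℚ} (hx' : x' = 5) (hu : u = x - 4) (hx : 14 ≤ x ∨ x ≤ -13)
    (hy : 10 ≤ y ∨ y ≤ -17) (hv : 2 ≤ v ∨ v ≤ -25) :
    (9 : ℚ) / 238 ≤ 1 - 2 / x - 2 / x' + 1 / u + 2 / y + 8 / v := by
  have h1 := kdi_comb hx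
  have h4 := kdi_ty hy
  have h5 := kdi_tv' hv
  rw [hx', hu]
  norm_num at h1 h4 h5 ⊢
  linarith

/-- Case C2: `X' = 5`, `H = -16`, `X ≤ -13` -/
theorem kdi_caseC2 {x x' u y v : ℚ} (hx' : x' = 5) (hu : u = x - 4) (hy : y = 15 - x)
    (hv : v = -16) (hx : x ≤ -13) :
    (9 : ℚ) / 238 ≤ 1 - 2 / x - 2 / x' + 1 / u + 2 / y + 8 / v := by
  have h1 := (kdi_div_neg (k := 2) (c := 13) (by norm_num) (by norm_num) hx).2
  have hu17 : u ≤ -17 := by rw [hu]; linarith
  have h3 := (kdi_div_neg (k := 1) (c := 17) (by norm_num) (by norm_num) hu17).1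
  have hy28 : (28 : ℚ) ≤ y := by rw [hy]; linarith
  have h4 := (kdi_div_pos (k := 2) (c := 28) (by norm_num) (by norm_num) hy28).1
  rw [hx', hv]
  norm_num at h1 h3 h4 ⊢
  linarith

/-- Case C3: `X' = 5`, `H = -16`, `X ≥ 93` -/
theorem kdi_caseC3 {x x' u y v : ℚ} (hx' : x' = 5) (hu : u = x - 4) (hy : y = 15 - x)
    (hv : v = -16) (hx : 93 ≤ x) :
    (9 : ℚ) / 238 ≤ 1 - 2 / x - 2 / x' + 1 / u + 2 / y + 8 / v := by
  have h1 := (kdi_div_pos (k := 2) (c := 93) (by norm_num) (by norm_num) hx).2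
  have hu89 : (89 : ℚ) ≤ u := by rw [hu]; linarith
  have h3 := (kdi_div_pos (k := 1) (c := 89) (by norm_num) (by norm_num) hu89).1
  have hy78 : y ≤ -78 := by rw [hy]; linarith
  have h4 := (kdi_div_neg (k := 2) (c := 78) (by norm_num) (by norm_num) hy78).1
  have e8 : (8 : ℚ) / -16 = -(1 / 2) := by norm_num
  rw [hx', hv, e8]
  linarith

theorem kdi_sq_bound (Z : ℤ) (h : Z ^ 2 ≤ 8568) : -92 ≤ Z ∧ Z ≤ 92 := by
  constructor <;> nlinarith

/-- (KDI) the Diophantine core of type 3, case I.  `X = X₁ = X₃`, `X' = X₂ = X₄`, `Y = Y₂ = Y₃` signed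
degrees; `Y₁ = 1 + X - X'`, `H = -1 - X - Y`. -/
theorem dioph_I (X X' Y : ℤ) (n : ℕ) (hX : X % 9 = 5) (hX' : X' % 9 = 5) (hY : Y % 9 = 1)
    (rX : 5 ≤ X ∨ X ≤ -13) (rX' : 5 ≤ X' ∨ X' ≤ -13) (rY : 10 ≤ Y ∨ Y ≤ -17)
    (rY1 : 10 ≤ 1 + X - X' ∨ 1 + X - X' ≤ -17) (rH : 2 ≤ -1 - X - Y ∨ -1 - X - Y ≤ -16)
    (hn : 10 ≤ n)
    (hE : (1 : ℚ) - 2 / X - 2 / X' + 1 / (1 + X - X') + 2 / Y + 8 / (-1 - X - Y) = 9 / n)
    (hS : 1 + 2 * X ^ 2 + 2 * X' ^ 2 + (1 + X - X') ^ 2 + 2 * Y ^ 2 + (-1 - X - Y) ^ 2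
      ≤ 72 * (n : ℤ)) : False := by
  have hnq : (0 : ℚ) < n := by
    have : 0 < n := by omega
    exact_mod_cast this
  -- from a lower bound of `E` to the box
  have hbox_of : (9 : ℚ) / 238 ≤ 9 / n →
      (-92 ≤ X ∧ X ≤ 92) ∧ (-92 ≤ X' ∧ X' ≤ 92) ∧ (-92 ≤ Y ∧ Y ≤ 92) := by
    intro h
    rw [div_le_div_iff₀ (by norm_num) hnq] at h
    have h1 : (n : ℚ) ≤ 238 := by linarith
    have h2 : (n : ℤ) ≤ 238 := by exact_mod_cast h1
    refine ⟨kdi_sq_bound X ?_, kdi_sq_bound X' ?_, kdi_sq_bound Y ?_⟩ <;>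
      nlinarith [sq_nonneg X, sq_nonneg X', sq_nonneg (1 + X - X'), sq_nonneg Y,
        sq_nonneg (-1 - X - Y)]
  -- casts of the ranges
  have cY : (10 : ℚ) ≤ Y ∨ (Y : ℚ) ≤ -17 := by
    rcases rY with h | h
    · left; exact_mod_cast h
    · right; exact_mod_cast h
  have cU : (10 : ℚ) ≤ 1 + X - X' ∨ (1 + X - X' : ℚ) ≤ -17 := by
    rcases rY1 with h | h
    · left; exact_mod_cast h
    · right; exact_mod_cast h
  have cH : (2 : ℚ) ≤ -1 - X - Y ∨ (-1 - X - Y : ℚ) ≤ -16 := by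
    rcases rH with h | h
    · left; exact_mod_cast h
    · right; exact_mod_cast h
  have hbox : (-92 ≤ X ∧ X ≤ 92) ∧ (-92 ≤ X' ∧ X' ≤ 92) ∧ (-92 ≤ Y ∧ Y ≤ 92) := by
    by_cases h5 : X = 5
    · -- Case B
      have hX'r : 14 ≤ X' ∨ X' ≤ -13 := by omega
      have cX' : (14 : ℚ) ≤ X' ∨ (X' : ℚ) ≤ -13 := by
        rcases hX'r with h | h
        · left; exact_mod_cast h
        · right; exact_mod_cast h
      apply hbox_of
      rw [← hE]
      refine kdi_caseB ?_ cX' cU cY ?_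
      · rw [h5]; norm_num
      · rw [h5]; push_cast; ring
    · by_cases h5' : X' = 5
      · -- Case C
        have hXr : 14 ≤ X ∨ X ≤ -13 := by omega
        have cX : (14 : ℚ) ≤ X ∨ (X : ℚ) ≤ -13 := by
          rcases hXr with h | h
          · left; exact_mod_cast h
          · right; exact_mod_cast h
        have hx'q : (X' : ℚ) = 5 := by rw [h5']; norm_num
        have huq : (1 + X - X' : ℚ) = X - 4 := by rw [h5']; push_cast; ring
        have hH3 : 2 ≤ -1 - X - Y ∨ -1 - X - Y ≤ -25 ∨ -1 - X - Y = -16 := by omega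
        rcases hH3 with hH | hH | hH
        · apply hbox_of
          rw [← hE]
          refine kdi_caseC1 hx'q huq cX cY (Or.inl ?_)
          exact_mod_cast hH
        · apply hbox_of
          rw [← hE]
          refine kdi_caseC1 hx'q huq cX cY (Or.inr ?_)
          exact_mod_cast hH
        · have hYX : Y = 15 - X := by omega
          have hyq : (Y : ℚ) = 15 - X := by rw [hYX]; push_cast; ring
          have hvq : (-1 - X - Y : ℚ) = -16 := by exact_mod_cast hH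
          rcases hXr with hX14 | hX13
          · by_cases hX92 : X ≤ 92
            · exact ⟨⟨by omega, hX92⟩, ⟨by omega, by omega⟩, ⟨by omega, by omega⟩⟩
            · apply hbox_of
              rw [← hE]
              refine kdi_caseC3 hx'q huq hyq hvq ?_
              have : 93 ≤ X := by omega
              exact_mod_cast this
          · apply hbox_of
            rw [← hE]
            refine kdi_caseC2 hx'q huq hyq hvq ?_
            exact_mod_cast hX13
      · -- Case A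
        have hXr : 14 ≤ X ∨ X ≤ -13 := by omega
        have hX'r : 14 ≤ X' ∨ X' ≤ -13 := by omega
        have cX : (14 : ℚ) ≤ X ∨ (X : ℚ) ≤ -13 := by
          rcases hXr with h | h
          · left; exact_mod_cast h
          · right; exact_mod_cast h
        have cX' : (14 : ℚ) ≤ X' ∨ (X' : ℚ) ≤ -13 := by
          rcases hX'r with h | h
          · left; exact_mod_cast h
          · right; exact_mod_cast h
        apply hbox_of
        rw [← hE]
        exact kdi_caseA cX cX' cU cY cH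
  obtain ⟨⟨hX1, hX2⟩, ⟨hX'1, hX'2⟩, ⟨hY1, hY2⟩⟩ := hbox
  -- the integer form of `hE`
  have hXne : X ≠ 0 := by omega
  have hX'ne : X' ≠ 0 := by omega
  have hYne : Y ≠ 0 := by omega
  have hUne : 1 + X - X' ≠ 0 := by omega
  have hHne : -1 - X - Y ≠ 0 := by omega
  have hxq : (X : ℚ) ≠ 0 := by exact_mod_cast hXne
  have hx'q : (X' : ℚ) ≠ 0 := by exact_mod_cast hX'ne
  have hyq : (Y : ℚ) ≠ 0 := by exact_mod_cast hYne
  have huq : (1 + X - X' : ℚ) ≠ 0 := by exact_mod_cast hUne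
  have hvq : (-1 - X - Y : ℚ) ≠ 0 := by exact_mod_cast hHne
  have hkey : (n : ℤ) * kdiNum X X' Y = 9 * kdiDen X X' Y := by
    have hNE : (kdiNum X X' Y : ℚ) =
        ((1 : ℚ) - 2 / X - 2 / X' + 1 / (1 + X - X') + 2 / Y + 8 / (-1 - X - Y)) *
          (kdiDen X X' Y : ℚ) := by
      simp only [kdiNum, kdiDen]
      push_cast
      field_simp
    rw [hE] at hNE
    have h1 : (n : ℚ) * (kdiNum X X' Y : ℚ) = 9 * (kdiDen X X' Y : ℚ) := by
      rw [hNE]
      field_simp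
    exact_mod_cast h1
  have hDen0 : kdiDen X X' Y ≠ 0 := by
    unfold kdiDen
    exact mul_ne_zero (mul_ne_zero (mul_ne_zero (mul_ne_zero hXne hX'ne) hUne) hYne) hHne
  have hNum0 : kdiNum X X' Y ≠ 0 := by
    intro h0
    rw [h0, mul_zero] at hkey
    apply hDen0
    omega
  have hdiv : 9 * kdiDen X X' Y / kdiNum X X' Y = n :=
    Int.ediv_eq_of_eq_mul_left hNum0 hkey.symm
  have hmod : 9 * kdiDen X X' Y % kdiNum X X' Y = 0 :=
    Int.emod_eq_zero_of_dvd ⟨n, by rw [← hkey]; ring⟩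
  have hbad : kdiBad X X' Y = true := by
    simp only [kdiBad, Bool.and_eq_true, Bool.or_eq_true, decide_eq_true_eq]
    rw [hdiv]
    refine ⟨⟨⟨⟨⟨⟨⟨⟨rX, rX'⟩, rY⟩, rY1⟩, rH⟩, hNum0⟩, hmod⟩, ?_⟩, ?_⟩
    · exact_mod_cast hn
    · unfold kdiS
      exact hS
  -- the indices
  obtain ⟨i, hi⟩ : ∃ i : ℤ, X = 9 * i - 85 := ⟨(X + 85) / 9, by omega⟩
  obtain ⟨j, hj⟩ : ∃ j : ℤ, X' = 9 * j - 85 := ⟨(X' + 85) / 9, by omega⟩
  obtain ⟨k, hk⟩ : ∃ k : ℤ, Y = 9 * k - 89 := ⟨(Y + 89) / 9, by omega⟩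
  have hi0 : 0 ≤ i := by omega
  have hj0 : 0 ≤ j := by omega
  have hk0 : 0 ≤ k := by omega
  lift i to ℕ using hi0
  lift j to ℕ using hj0
  lift k to ℕ using hk0
  have hchk := kdi_check i (by omega) j (by omega) k (by omega)
  simp only [Int.ofNat_eq_natCast] at hchk
  rw [← hi, ← hj, ← hk, hbad] at hchk
  exact Bool.noConfusion hchk

end Cfsg.Agent.Helper24.D8
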