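import Mathlib
import Cfsg.Agent.Helper80.Tor.Defs

/-!
# S2372/S2375 (helper80's farm), piece (SYL)
-/

set_option autoImplicit false

namespace Cfsg.Agent.Helper24.Tor

open Cfsg.Agent.Helper18 (zact)
open Polynomial

/-- (SYL) if `H` contains a Sylow `r`-subgroup of `G`, every element of order `r` is conjugate into `H` -/
theorem exists_conj_mem_of_sylow {G : Type*} [Group G] [Finite G] (H : Subgroup G) (r : ℕ) [Fact r.Prime]
    (hval : (Nat.card H).factorization r = (Nat.card G).factorization r) (x : G) (hx : orderOf x = r) :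
    ∃ g : G, g⁻¹ * x * g ∈ H := by
  classical
  obtain ⟨P⟩ : Nonempty (Sylow r H) := inferInstance
  have hPcard : Nat.card (P : Subgroup H) = r ^ (Nat.card H).factorization r :=
    Sylow.card_eq_multiplicity P
  set P' : Subgroup G := (P : Subgroup H).map H.subtype with hP'
  have hP'card : Nat.card P' = r ^ (Nat.card G).factorization r := by
    rw [hP', Subgroup.card_map_of_injective H.subtype_injective, hPcard, hval]
  let S : Sylow r G := Sylow.ofCard P' hP'card
  have hP'H : P' ≤ H := by
    rintro _ ⟨y, -, rfl⟩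
    exact y.2
  have hxp : IsPGroup r (Subgroup.zpowers x) := by
    apply IsPGroup.of_card (n := 1)
    rw [Nat.card_zpowers, hx, pow_one]
  obtain ⟨Q, hQ⟩ := hxp.exists_le_sylow
  obtain ⟨g, hg⟩ := MulAction.exists_smul_eq G Q S
  refine ⟨g⁻¹, ?_⟩
  have hxQ : x ∈ (Q : Subgroup G) := hQ (Subgroup.mem_zpowers x)
  have hmem : g * x * g⁻¹ ∈ ((g • Q : Sylow r G) : Subgroup G) := by
    rw [Sylow.smul_def, Sylow.pointwise_smul_def]
    exact ⟨x, hxQ, rfl⟩
  rw [hg] at hmem
  rw [inv_inv]
  exact hP'H hmem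

end Cfsg.Agent.Helper24.Tor
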