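import Mathlib
import Cfsg.Agent.Helper80.Tor.Defs

/-!
# S2372/S2375 (helper80's farm), piece (TORL): the `ℓ`-torsion of `ker (zact B)`
-/

set_option autoImplicit false

namespace Cfsg.Agent.Helper24.Tor

open Cfsg.Agent.Helper18 (zact)
open Polynomial

/-- `∏ a ^ n i = a ^ ∑ n i` for integer exponents in a commutative group. -/
theorem TORL_prod_zpow {G : Type*} [CommGroup G] {ι : Type*} (s : Finset ι) (a : G) (n : ι → ℤ) :
    ∏ i ∈ s, a ^ n i = a ^ ∑ i ∈ s, n i := by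
  classical
  induction s using Finset.induction_on with
  | empty => simp
  | insert i s hi ih => rw [Finset.prod_insert hi, Finset.sum_insert hi, ih, zpow_add]

/-- (TORL) the `ℓ`-torsion of `ker (zact B)` injects into the kernel of `B` mod `ℓ` -/
theorem card_torsion_ker_le {K : Type*} [Field K] [Fintype K] {l ℓ : ℕ} [Fact ℓ.Prime]
    (B : Matrix (Fin l) (Fin l) ℤ) :
    Nat.card {c : (zact B : (Fin l → Kˣ) →* (Fin l → Kˣ)).ker // c ^ ℓ = 1} ≤
      Nat.card {u : Fin l → ZMod ℓ // Matrix.vecMul u (B.map (Int.cast : ℤ → ZMod ℓ)) = 0} := by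
  classical
  have hℓ : ℓ.Prime := Fact.out
  have hne : NeZero ℓ := ⟨hℓ.ne_zero⟩
  -- coordinates of a torsion element are `ℓ`-th roots of unity
  have hcoord : ∀ (c : {c : (zact B : (Fin l → Kˣ) →* (Fin l → Kˣ)).ker // c ^ ℓ = 1})
      (i : Fin l), (c.1.1 i) ^ ℓ = 1 := by
    intro c i
    have h := congrArg (fun d : (zact B : (Fin l → Kˣ) →* (Fin l → Kˣ)).ker => d.1 i) c.2
    simpa using h
  by_cases hζ : ∃ ζ : Kˣ, IsPrimitiveRoot ζ ℓ
  · obtain ⟨ζ, hζ⟩ := hζ
    have hζK : IsPrimitiveRoot ((ζ : Kˣ) : K) ℓ := IsPrimitiveRoot.coe_units_iff.mpr hζ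
    have hex : ∀ (c : {c : (zact B : (Fin l → Kˣ) →* (Fin l → Kˣ)).ker // c ^ ℓ = 1})
        (i : Fin l), ∃ k : ℕ, k < ℓ ∧ ζ ^ k = c.1.1 i := by
      intro c i
      have h1 : ((c.1.1 i : Kˣ) : K) ^ ℓ = 1 := by
        rw [← Units.val_pow_eq_pow_val, hcoord c i, Units.val_one]
      obtain ⟨k, hk, hk'⟩ := hζK.eq_pow_of_pow_eq_one h1
      refine ⟨k, hk, Units.ext ?_⟩
      rw [Units.val_pow_eq_pow_val]; exact hk'
    choose k hk hkζ using hex
    refine Nat.card_le_card_of_injective (fun c => ⟨fun i => (k c i : ZMod ℓ), ?_⟩) ?_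
    · funext j
      have hker : zact B c.1.1 = 1 := MonoidHom.mem_ker.mp c.1.2
      have hj : ∏ i, (c.1.1 i) ^ (B i j) = 1 := by
        have := congrFun hker j
        rwa [Cfsg.Agent.Helper18.zact_apply] at this
      have hj2 : ζ ^ (∑ i, (k c i : ℤ) * B i j) = 1 := by
        rw [← TORL_prod_zpow, ← hj]
        refine Finset.prod_congr rfl (fun i _ => ?_)
        rw [← hkζ c i, zpow_mul, zpow_natCast]
      have hdvd : (ℓ : ℤ) ∣ ∑ i, (k c i : ℤ) * B i j := (hζ.zpow_eq_one_iff_dvd _).mp hj2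
      have h0 : ((∑ i, (k c i : ℤ) * B i j : ℤ) : ZMod ℓ) = 0 :=
        (ZMod.intCast_zmod_eq_zero_iff_dvd _ _).mpr hdvd
      simp only [Matrix.vecMul, dotProduct, Matrix.map_apply, Pi.zero_apply]
      rw [← h0]
      push_cast
      rfl
    · intro c c' hcc
      have hcc' : ∀ i, (k c i : ZMod ℓ) = (k c' i : ZMod ℓ) := fun i =>
        congrFun (congrArg Subtype.val hcc) i
      apply Subtype.ext
      apply Subtype.ext
      funext i
      have hkk : k c i = k c' i := by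
        have h := (ZMod.natCast_eq_natCast_iff' _ _ _).mp (hcc' i)
        rwa [Nat.mod_eq_of_lt (hk c i), Nat.mod_eq_of_lt (hk c' i)] at h
      rw [← hkζ c i, ← hkζ c' i, hkk]
  · -- no primitive root: the torsion is trivial
    have htriv : ∀ a : Kˣ, a ^ ℓ = 1 → a = 1 := by
      intro a ha
      have hdvd : orderOf a ∣ ℓ := orderOf_dvd_of_pow_eq_one ha
      rcases (Nat.dvd_prime hℓ).mp hdvd with h1 | h1
      · exact orderOf_eq_one_iff.mp h1
      · exact absurd ⟨a, h1 ▸ IsPrimitiveRoot.orderOf a⟩ hζ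
    have hsub : Subsingleton {c : (zact B : (Fin l → Kˣ) →* (Fin l → Kˣ)).ker // c ^ ℓ = 1} := by
      refine ⟨fun c c' => ?_⟩
      apply Subtype.ext
      apply Subtype.ext
      funext i
      rw [htriv _ (hcoord c i), htriv _ (hcoord c' i)]
    have h1 : Nat.card {c : (zact B : (Fin l → Kˣ) →* (Fin l → Kˣ)).ker // c ^ ℓ = 1} ≤ 1 :=
      Finite.card_le_one_iff_subsingleton.mpr hsub
    have h2 : 0 < Nat.card {u : Fin l → ZMod ℓ //
        Matrix.vecMul u (B.map (Int.cast : ℤ → ZMod ℓ)) = 0} := by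
      have : Nonempty {u : Fin l → ZMod ℓ //
          Matrix.vecMul u (B.map (Int.cast : ℤ → ZMod ℓ)) = 0} := ⟨⟨0, by simp⟩⟩
      exact Nat.card_pos
    omega

end Cfsg.Agent.Helper24.Tor
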