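import Mathlib
import Cfsg.Agent.Helper1.HKK.Basic
import Cfsg.Agent.Helper1.HKK.LoopDefs
import Cfsg.Agent.Helper53.HKKA3
import Cfsg.Agent.Helper24.HKKA2d
import Cfsg.Agent.Helper76.HKKA2c
import Cfsg.Agent.Helper41.AlpE1
import Cfsg.Agent.Helper41.AlpE2
import Cfsg.Agent.Helper71.Alp.Defs

/-!
# Piece (E3) of S3782 (Alperin's theorem, helper71): generalised Higman transfer

If `m` kills the fixed points of `φ` on a Lie ring `L` (`φ^p = 1`), then `m^(c+1) p^c` kills all
left-normed brackets of length `c + 1`, `c` being a class bound for graded families with trivial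
zero component on the loop ring.
-/

set_option autoImplicit false

open Cfsg.Agent.Helper1.HKK
open Cfsg.Agent.Helper41.Alp

namespace Cfsg.Agent.Helper24.Alp

section lnb
variable {K : Type*} [LieRing K]

/-- multilinearity of left-normed brackets in the later slots -/
theorem lnb_map_nsmul (m : ℕ) (z : K) (zs : List K) :
    lnb z (zs.map (fun y => m • y)) = m ^ zs.length • lnb z zs := by
  induction zs generalizing z with
  | nil => simp [lnb_nil]
  | cons w zs ih =>
    rw [List.map_cons, lnb_cons, lie_nsmul, Cfsg.Agent.Helper53.HKK.lnb_nsmul, ih, lnb_cons,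
      List.length_cons, pow_succ', mul_smul]

end lnb

variable {p : ℕ} [Fact p.Prime] {L : Type*} [LieRing L]

/-- (E3) generalised Higman transfer -/
theorem nsmul_lnb_eq_zero (φ : L →+ L) (hφ : ∀ x y, φ ⁅x, y⁆ = ⁅φ x, φ y⁆)
    (hp : ∀ a, φ^[p] a = a) (m : ℕ) (hfix : ∀ a, φ a = a → m • a = 0) (c : ℕ)
    (hc : ∀ M : ZMod p → AddSubgroup (Loop p L), IsGradedFam M → ∀ d, lcf M c d = ⊥)
    (x : L) (ys : List L) (hlen : ys.length = c) : (m ^ (c + 1) * p ^ c) • lnb x ys = 0 := by
  have hpp : p.Prime := Fact.out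
  have h1 := Cfsg.Agent.Helper24.HKK.lnb_mem_iSup_lcf (mFam (p := p) φ m) (m • spread p x)
    (ys.map (fun y => m • spread p y)) (nsmul_spread_mem_iSup φ hp m hfix x) (by
      intro y hy
      rw [List.mem_map] at hy
      obtain ⟨a, _, rfl⟩ := hy
      exact nsmul_spread_mem_iSup φ hp m hfix a)
  rw [List.length_map, hlen] at h1
  have hbot : (⨆ d, lcf (mFam (p := p) φ m) c d) = ⊥ := by
    rw [iSup_eq_bot]
    intro d
    exact hc _ (isGradedFam_mFam φ hφ m hfix) d
  have hmap : ys.map (fun y => m • spread p y) = (ys.map (spread p)).map (fun z => m • z) := by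
    rw [List.map_map]
    rfl
  rw [hbot, AddSubgroup.mem_bot, Cfsg.Agent.Helper53.HKK.lnb_nsmul, hmap, lnb_map_nsmul,
    List.length_map, Cfsg.Agent.Helper53.HKK.lnb_spread Cfsg.Agent.Helper76.HKK.lie_spread,
    hlen] at h1
  have h2 := congrArg (fun f : Loop p L => f (1 : ZMod p)) h1
  simp only [Loop.nsmul_apply, Loop.zero_apply, spread_apply] at h2
  have h10 : (1 : ZMod p) ≠ 0 := by
    have : Fact (1 < p) := ⟨hpp.one_lt⟩
    exact one_ne_zero
  rw [if_neg h10, smul_neg, smul_neg, smul_neg, neg_eq_zero] at h2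
  rw [pow_succ', mul_assoc, mul_smul, mul_smul]
  exact h2

end Cfsg.Agent.Helper24.Alp
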