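import Mathlib
import Cfsg.Agent.Helper71.Alp.Defs
import Cfsg.Agent.Helper49.AlpPE0

/-!
# Piece (PE2) of S3782 (Alperin's theorem, helper71): Lubotzky–Mann

The commutator of two powerfully embedded subgroups of a finite `p`-group is powerfully embedded.
-/

set_option autoImplicit false

open Cfsg.Agent.Helper71.Alp
open scoped commutatorElement

namespace Cfsg.Agent.Helper24.Alp

section core

variable {H : Type*} [Group H]

/-- the commutator `⁅x^k, m⁆` when `z = ⁅x, ⁅x, m⁆⁆` is central (auxiliary form) -/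
theorem pe2_comm_pow_aux (x m u z : H) (hu : u = ⁅x, m⁆) (hzdef : z = ⁅x, u⁆)
    (hzc : ∀ g : H, Commute z g) (k : ℕ) :
    ⁅x ^ k, m⁆ = z ^ (k * (k - 1) / 2) * u ^ k := by
  have hxu : x * u * x⁻¹ = z * u := by
    rw [hzdef, commutatorElement_def]
    group
  induction k with
  | zero => simp [commutatorElement_def]
  | succ k ih =>
    have e1 : ⁅x ^ (k + 1), m⁆ = x * ⁅x ^ k, m⁆ * x⁻¹ * u := by
      rw [hu, pow_succ', commutatorElement_def, commutatorElement_def, commutatorElement_def]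
      group
    have e2 : x * (z ^ (k * (k - 1) / 2) * u ^ k) * x⁻¹ = z ^ (k * (k - 1) / 2) * (z * u) ^ k := by
      have h1 : x * (z ^ (k * (k - 1) / 2) * u ^ k) * x⁻¹ =
          (x * z ^ (k * (k - 1) / 2) * x⁻¹) * (x * u * x⁻¹) ^ k := by
        rw [conj_pow]
        group
      have h2 : x * z ^ (k * (k - 1) / 2) * x⁻¹ = z ^ (k * (k - 1) / 2) := by
        have := ((hzc x).pow_left (k * (k - 1) / 2)).eq
        rw [← this, mul_inv_cancel_right]
      rw [h1, h2, hxu]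
    have e3 : (z * u) ^ k = z ^ k * u ^ k := (hzc u).mul_pow k
    have e4 : (k + 1) * (k + 1 - 1) / 2 = k * (k - 1) / 2 + k := by
      have h1 : (k + 1) * (k + 1 - 1) = k * (k - 1) + 2 * k := by
        cases k with
        | zero => rfl
        | succ j =>
          simp only [Nat.add_sub_cancel]
          ring
      rw [h1, Nat.add_mul_div_left _ _ (by norm_num : 0 < 2)]
    rw [e1, ih, e2, e3, e4, pow_add, pow_succ u k]
    simp only [mul_assoc]

/-- the commutator `⁅x^k, m⁆` when `z = ⁅x, ⁅x, m⁆⁆` is central -/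
theorem pe2_comm_pow (x m : H) (hz : ∀ g : H, ⁅x, ⁅x, m⁆⁆ * g = g * ⁅x, ⁅x, m⁆⁆) (k : ℕ) :
    ⁅x ^ k, m⁆ = ⁅x, ⁅x, m⁆⁆ ^ (k * (k - 1) / 2) * ⁅x, m⁆ ^ k :=
  pe2_comm_pow_aux x m _ _ rfl rfl (fun g => hz g) k

/-- `x ^ k` commutes with `m` under the hypotheses of the quotient situation -/
theorem pe2_commute (x m : H) {p k : ℕ} (hz : ∀ g : H, ⁅x, ⁅x, m⁆⁆ * g = g * ⁅x, ⁅x, m⁆⁆)
    (hzp : ⁅x, ⁅x, m⁆⁆ ^ p = 1) (hu : ⁅x, m⁆ ^ k = 1) (hdiv : p ∣ k * (k - 1) / 2) :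
    x ^ k * m = m * x ^ k := by
  have h := pe2_comm_pow x m hz k
  obtain ⟨t, ht⟩ := hdiv
  rw [hu, mul_one, ht, pow_mul, hzp, one_pow] at h
  rw [commutatorElement_eq_one_iff_mul_comm] at h
  exact h

theorem pe2_bp_dvd {p : ℕ} (hp : p.Prime) : p ∣ bp p * (bp p - 1) / 2 := by
  unfold bp
  split_ifs with h
  · subst h
    norm_num
  · have hodd : Odd p := hp.odd_of_ne_two h
    obtain ⟨j, hj⟩ := hodd
    have : p * (p - 1) / 2 = p * j := by
      have h1 : p - 1 = 2 * j := by omega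
      rw [h1, ← mul_assoc, mul_comm p 2, mul_assoc, Nat.mul_div_cancel_left _ (by norm_num : 0 < 2)]
    rw [this]
    exact dvd_mul_right p j

/-- `pw` of a normal subgroup is normal -/
theorem pe2_pw_normal {G : Type*} [Group G] (k : ℕ) (N : Subgroup G) [hN : N.Normal] :
    (pw k N).Normal := by
  unfold pw
  apply Subgroup.Normal.mk
  intro y hy g
  induction hy using Subgroup.closure_induction with
  | mem y hy =>
    obtain ⟨x, hx, rfl⟩ := hy
    apply Subgroup.subset_closure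
    exact ⟨g * x * g⁻¹, hN.conj_mem x hx g, (conj_pow (a := g) (b := x) (i := k)).symm ▸ rfl⟩
  | one => simp
  | mul a b _ _ ha hb =>
    have : g * (a * b) * g⁻¹ = (g * a * g⁻¹) * (g * b * g⁻¹) := by group
    rw [this]
    exact Subgroup.mul_mem _ ha hb
  | inv a _ ha =>
    have : g * a⁻¹ * g⁻¹ = (g * a * g⁻¹)⁻¹ := by group
    rw [this]
    exact Subgroup.inv_mem _ ha

/-- `pw` commutes with images -/
theorem pe2_map_pw {G G' : Type*} [Group G] [Group G'] (f : G →* G') (k : ℕ) (N : Subgroup G) :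
    (pw k N).map f = pw k (N.map f) := by
  unfold pw
  rw [MonoidHom.map_closure]
  congr 1
  ext y
  constructor
  · rintro ⟨_, ⟨x, hx, rfl⟩, rfl⟩
    exact ⟨f x, Subgroup.mem_map_of_mem f hx, map_pow f x k⟩
  · rintro ⟨_, ⟨x, hx, rfl⟩, rfl⟩
    exact ⟨x ^ k, ⟨x, hx, rfl⟩, map_pow f x k⟩

theorem pe2_pow_mem_pw {G : Type*} [Group G] (k : ℕ) (N : Subgroup G) {x : G} (hx : x ∈ N) :
    x ^ k ∈ pw k N :=
  Subgroup.subset_closure ⟨x, hx, rfl⟩

/-- the abstract statement in the quotient -/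
theorem pe2_quot {p : ℕ} (hp : p.Prime) (M N : Subgroup H)
    (hMpe : ⁅M, (⊤ : Subgroup H)⁆ ≤ pw (bp p) M) (hNpe : ⁅N, (⊤ : Subgroup H)⁆ ≤ pw (bp p) N)
    (hexp : ∀ c ∈ ⁅M, N⁆, c ^ bp p = 1)
    (hcen : ∀ a ∈ ⁅⁅M, N⁆, (⊤ : Subgroup H)⁆, ∀ g : H, a * g = g * a)
    (hap : ∀ a ∈ ⁅⁅M, N⁆, (⊤ : Subgroup H)⁆, a ^ p = 1) :
    ⁅⁅M, N⁆, (⊤ : Subgroup H)⁆ = ⊥ := by
  -- the key: `bp p`-th powers of `N` centralise `M`, and symmetrically
  have key : ∀ M' N' : Subgroup H, ⁅M', N'⁆ = ⁅M, N⁆ → ⁅pw (bp p) N', M'⁆ = ⊥ := by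
    intro M' N' hMN
    rw [Subgroup.commutator_eq_bot_iff_le_centralizer]
    unfold pw
    rw [Subgroup.closure_le]
    rintro _ ⟨x, hx, rfl⟩
    rw [SetLike.mem_coe, Subgroup.mem_centralizer_iff]
    intro m hm
    have hu : ⁅x, m⁆ ∈ ⁅M, N⁆ := by
      rw [← hMN, Subgroup.commutator_comm]
      exact Subgroup.commutator_mem_commutator hx hm
    have hzmem : ⁅x, ⁅x, m⁆⁆ ∈ ⁅⁅M, N⁆, (⊤ : Subgroup H)⁆ := by
      rw [Subgroup.commutator_comm]
      exact Subgroup.commutator_mem_commutator (Subgroup.mem_top x) hu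
    exact (pe2_commute x m (hcen _ hzmem) (hap _ hzmem) (hexp _ hu) (pe2_bp_dvd hp)).symm
  apply Subgroup.commutator_commutator_eq_bot_of_rotate
  · -- `⁅⁅N, ⊤⁆, M⁆ = ⊥`
    apply le_bot_iff.mp
    rw [← key M N rfl]
    exact Subgroup.commutator_mono hNpe le_rfl
  · -- `⁅⁅⊤, M⁆, N⁆ = ⊥`
    apply le_bot_iff.mp
    rw [← key N M (Subgroup.commutator_comm N M), Subgroup.commutator_comm ⊤ M]
    exact Subgroup.commutator_mono hMpe le_rfl

end core

/-- (PE2) Lubotzky–Mann: the commutator of two powerfully embedded subgroups is powerfully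
embedded -/
theorem PE.commutator {G : Type*} [Group G] [Finite G] {p : ℕ} (hp : p.Prime) (hG : IsPGroup p G)
    {M N : Subgroup G} (hM : PE p M) (hN : PE p N) : PE p ⁅M, N⁆ := by
  obtain ⟨hMn, hMpe⟩ := hM
  obtain ⟨hNn, hNpe⟩ := hN
  have := hMn
  have := hNn
  have hMNn : (⁅M, N⁆).Normal := inferInstance
  refine ⟨hMNn, ?_⟩
  set A : Subgroup G := ⁅⁅M, N⁆, (⊤ : Subgroup G)⁆ with hA
  set B : Subgroup G := pw (bp p) ⁅M, N⁆ with hB
  have hAn : A.Normal := by rw [hA]; infer_instance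
  have hBn : B.Normal := pe2_pw_normal (bp p) ⁅M, N⁆
  have hAAn : (⁅A, (⊤ : Subgroup G)⁆).Normal := inferInstance
  have hpAn : (pw p A).Normal := pe2_pw_normal p A
  apply Cfsg.Agent.Helper49.Alp.le_of_le_sup_commutator_sup_pw hp hG A B
  set J : Subgroup G := B ⊔ ⁅A, (⊤ : Subgroup G)⁆ ⊔ pw p A with hJ
  have hJn : J.Normal := by rw [hJ]; infer_instance
  have hBJ : B ≤ J := le_sup_of_le_left le_sup_left
  have hAAJ : ⁅A, (⊤ : Subgroup G)⁆ ≤ J := le_sup_of_le_left le_sup_right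
  have hpAJ : pw p A ≤ J := le_sup_right
  -- pass to the quotient
  let π : G →* G ⧸ J := QuotientGroup.mk' J
  have hπs : Function.Surjective π := QuotientGroup.mk'_surjective J
  have hker : ∀ g : G, π g = 1 ↔ g ∈ J := fun g => QuotientGroup.eq_one_iff g
  have htop : (⊤ : Subgroup G).map π = ⊤ := Subgroup.map_top_of_surjective π hπs
  have hMN' : ⁅M.map π, N.map π⁆ = (⁅M, N⁆).map π := (Subgroup.map_commutator M N π).symm
  have hA' : ⁅⁅M.map π, N.map π⁆, (⊤ : Subgroup (G ⧸ J))⁆ = A.map π := by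
    rw [hMN', ← htop, ← Subgroup.map_commutator]
  have hres : ⁅⁅M.map π, N.map π⁆, (⊤ : Subgroup (G ⧸ J))⁆ = ⊥ := by
    apply pe2_quot hp (M.map π) (N.map π)
    · rw [← htop, ← Subgroup.map_commutator, ← pe2_map_pw]
      exact Subgroup.map_mono hMpe
    · rw [← htop, ← Subgroup.map_commutator, ← pe2_map_pw]
      exact Subgroup.map_mono hNpe
    · intro c hc
      rw [hMN'] at hc
      obtain ⟨c₀, hc₀, rfl⟩ := hc
      rw [← map_pow, hker]
      exact hBJ (pe2_pow_mem_pw (bp p) _ hc₀)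
    · intro a ha g
      rw [hA'] at ha
      obtain ⟨a₀, ha₀, rfl⟩ := ha
      obtain ⟨g₀, rfl⟩ := hπs g
      have h1 : ⁅a₀, g₀⁆ ∈ J :=
        hAAJ (Subgroup.commutator_mem_commutator ha₀ (Subgroup.mem_top g₀))
      have h2 : π ⁅a₀, g₀⁆ = 1 := (hker _).mpr h1
      rw [map_commutatorElement, commutatorElement_eq_one_iff_mul_comm] at h2
      exact h2
    · intro a ha
      rw [hA'] at ha
      obtain ⟨a₀, ha₀, rfl⟩ := ha
      rw [← map_pow, hker]
      exact hpAJ (pe2_pow_mem_pw p _ ha₀)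
  rw [hA', Subgroup.map_eq_bot_iff, QuotientGroup.ker_mk'] at hres
  exact hres

end Cfsg.Agent.Helper24.Alp
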