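import Mathlib
import Cfsg.Agent.Helper35.Asch.Setup

/-!
# Pieces (S3), (S4) of S3401 (helper35, Aschbacher): existence of the `Setup`, and `S ≤ N_G(Q)`
-/

set_option autoImplicit false

namespace Cfsg.Agent.Helper24.Asch

open MulAction Cfsg.Agent.Helper35.Asch

section aux

variable {G : Type*} [Group G]

/-- the image of a subgroup of `↥K` in `G` has the same relative index in `K` as the index -/
theorem s3_relIndex_map_subtype (K : Subgroup G) (P : Subgroup ↥K) :
    (P.map K.subtype).relIndex K = P.index := by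
  unfold Subgroup.relIndex Subgroup.subgroupOf
  rw [Subgroup.comap_map_eq_self_of_injective K.subtype_injective]

theorem s3_card_map_subtype (K : Subgroup G) (P : Subgroup ↥K) :
    Nat.card (P.map K.subtype) = Nat.card P :=
  Nat.card_congr (P.equivMapOfInjective K.subtype K.subtype_injective).symm.toEquiv

theorem s3_factorization_two {n : ℕ} (hn : n % 4 = 2) : n.factorization 2 = 1 := by
  obtain ⟨m, rfl⟩ : ∃ m, n = 2 * m := ⟨n / 2, by omega⟩
  have hm : ¬ 2 ∣ m := by omega
  have hm0 : m ≠ 0 := by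
    rintro rfl
    omega
  rw [Nat.factorization_mul (by norm_num) hm0, Finsupp.add_apply,
    Nat.Prime.factorization_self Nat.prime_two, Nat.factorization_eq_zero_of_not_dvd hm]

end aux

set_option linter.unusedSectionVars false

variable {G : Type*} [Group G] [Finite G] {Ω : Type*} [Fintype Ω] [MulAction G Ω]

/-- (S3) existence of the data, given the orbit-stabilizer equation. -/
theorem exists_setup_of_card (h2 : TwoTrans (⊤ : Subgroup G) Ω) (N : Subgroup G) [N.Normal]
    (hT : Trans N Ω) (hn : Fintype.card Ω % 4 = 2) (a : Ω)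
    (hcard : Nat.card N = Fintype.card Ω * Nat.card (stabIn N a)) :
    ∃ D : Setup G Ω, D.N = N ∧ D.a = a := by
  classical
  have : Fact (Nat.Prime 2) := ⟨Nat.prime_two⟩
  -- `Q`
  obtain ⟨P⟩ : Nonempty (Sylow 2 ↥(stabIn N a)) := inferInstance
  set Q : Subgroup G := (P : Subgroup ↥(stabIn N a)).map (stabIn N a).subtype with hQdef
  have hQle : Q ≤ stabIn N a := by
    rintro _ ⟨x, _, rfl⟩
    exact x.2
  have hQp : IsPGroup 2 Q := P.isPGroup'.map _
  have hQidx : ¬ 2 ∣ Q.relIndex (stabIn N a) := by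
    rw [hQdef, s3_relIndex_map_subtype]
    exact P.not_dvd_index
  have hQN : Q ≤ N := hQle.trans inf_le_left
  -- `S`
  have hQ'p : IsPGroup 2 (Q.subgroupOf N) := hQp.comap_subtype
  obtain ⟨R, hR⟩ := hQ'p.exists_le_sylow
  set S : Subgroup G := (R : Subgroup ↥N).map N.subtype with hSdef
  have hQS : Q ≤ S := by
    intro q hq
    exact ⟨⟨q, hQN hq⟩, hR (Subgroup.mem_subgroupOf.mpr hq), rfl⟩
  have hSN : S ≤ N := by
    rintro _ ⟨x, _, rfl⟩
    exact x.2
  have hSp : IsPGroup 2 S := R.isPGroup'.map _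
  have hSidx : ¬ 2 ∣ S.relIndex N := by
    rw [hSdef, s3_relIndex_map_subtype]
    exact R.not_dvd_index
  -- the orders
  have hcQ : Nat.card Q = 2 ^ (Nat.card (stabIn N a)).factorization 2 := by
    rw [hQdef, s3_card_map_subtype]
    exact P.card_eq_multiplicity
  have hcS : Nat.card S = 2 ^ (Nat.card N).factorization 2 := by
    rw [hSdef, s3_card_map_subtype]
    exact R.card_eq_multiplicity
  have hcardSQ : Nat.card S = 2 * Nat.card Q := by
    rw [hcS, hcQ, hcard]
    have h0 : Fintype.card Ω ≠ 0 := by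
      intro h
      rw [h] at hn
      omega
    have h1 : Nat.card (stabIn N a) ≠ 0 := Nat.card_pos.ne'
    rw [Nat.factorization_mul h0 h1, Finsupp.add_apply, s3_factorization_two hn, pow_add, pow_one]
  -- `t`
  obtain ⟨t, htS, htQ⟩ : ∃ t, t ∈ S ∧ t ∉ Q := by
    by_contra hcon
    push Not at hcon
    have hle : S ≤ Q := fun s hs => hcon s hs
    have h1 := Subgroup.card_le_of_le hle
    have h2 : 0 < Nat.card Q := Nat.card_pos
    omega
  exact ⟨⟨N, a, Q, S, t, inferInstance, hT, h2, hQle, hQp, hQidx, hQS, hSN, hSp, hSidx, hcardSQ,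
    htS, htQ⟩, rfl, rfl⟩

/-- the index of `Q` in `S` is two -/
theorem s4_index_two (D : Setup G Ω) : (D.Q.subgroupOf D.S).index = 2 := by
  have h1 := Subgroup.card_mul_index (D.Q.subgroupOf D.S)
  have h2 : Nat.card (D.Q.subgroupOf D.S) = Nat.card D.Q :=
    Nat.card_congr (Subgroup.subgroupOfEquivOfLe D.hQS).toEquiv
  rw [h2, D.hcard] at h1
  have h3 : 0 < Nat.card D.Q := Nat.card_pos
  have h4 : Nat.card D.Q * (D.Q.subgroupOf D.S).index = Nat.card D.Q * 2 := by
    rw [h1]
    ring
  exact Nat.eq_of_mul_eq_mul_left h3 h4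

/-- (S4) `S` normalizes `Q` (index 2) -/
theorem S_le_normalizer (D : Setup G Ω) : D.S ≤ Subgroup.normalizer (D.Q : Set G) := by
  have : (D.Q.subgroupOf D.S).Normal := Subgroup.normal_of_index_eq_two (s4_index_two D)
  exact Subgroup.le_normalizer_of_normal_subgroupOf D.hQS

/-- (S4) `t * t ∈ Q` -/
theorem t_mul_t_mem (D : Setup G Ω) : D.t * D.t ∈ D.Q := by
  have h := Subgroup.mul_self_mem_of_index_two (s4_index_two D) (⟨D.t, D.htS⟩ : D.S)
  exact Subgroup.mem_subgroupOf.mp h

end Cfsg.Agent.Helper24.Asch
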