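import Mathlib
import Cfsg.Agent.Helper78.Brandt.Defs

/-!
# (B-R5) of helper78's S4607 (Brandt): the number of simple components is at most `dim A/[A,A]`

If `A ⧸ J` is a product of `r` matrix algebras over `k`, the `r` traces give a surjection
`A → kʳ` killing all additive commutators.
-/

set_option autoImplicit false

namespace Cfsg.Agent.Helper24.BrandtR5

open Module Cfsg.Agent.Helper78.Brandt

variable {k : Type*} [Field k] {A : Type*} [Ring A] [Algebra k A]

theorem card_add_finrank_commSpan_le [FiniteDimensional k A] (J : Ideal A) [J.IsTwoSided] {r : ℕ}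
    (d : Fin r → ℕ) (hd : ∀ i, NeZero (d i))
    (φ : (A ⧸ J) ≃ₐ[k] ((i : Fin r) → Matrix (Fin (d i)) (Fin (d i)) k)) :
    r + finrank k (commSpan k A) ≤ finrank k A := by
  classical
  -- the composite algebra map onto the product of matrix algebras
  let ψ : A →ₐ[k] ((i : Fin r) → Matrix (Fin (d i)) (Fin (d i)) k) :=
    (φ : (A ⧸ J) →ₐ[k] _).comp (Ideal.Quotient.mkₐ k J)
  have hψsurj : Function.Surjective ψ := by
    intro y
    obtain ⟨x, hx⟩ := φ.surjective y
    obtain ⟨a, ha⟩ := Ideal.Quotient.mkₐ_surjective k J x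
    refine ⟨a, ?_⟩
    show φ (Ideal.Quotient.mkₐ k J a) = y
    rw [ha, hx]
  -- the traces
  let τ : A →ₗ[k] (Fin r → k) :=
    LinearMap.pi (fun i => (Matrix.traceLinearMap (Fin (d i)) k k).comp
      ((LinearMap.proj i).comp ψ.toLinearMap))
  have hτ : ∀ (a : A) (i : Fin r), τ a i = Matrix.trace (ψ a i) := fun a i => rfl
  -- `τ` kills commutators
  have hker : commSpan k A ≤ LinearMap.ker τ := by
    unfold commSpan
    rw [Submodule.span_le]
    rintro z ⟨a, b, rfl⟩
    rw [SetLike.mem_coe, LinearMap.mem_ker]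
    funext i
    rw [hτ, map_sub, map_mul, map_mul, Pi.sub_apply, Pi.mul_apply, Pi.mul_apply, Matrix.trace_sub,
      Matrix.trace_mul_comm, sub_self]
    rfl
  -- `τ` is surjective
  have hsurj : Function.Surjective τ := by
    have h0 : ∀ i : Fin r, (0 : ℕ) < d i := fun i => Nat.pos_of_ne_zero (hd i).out
    have hex : ∀ i : Fin r, ∃ a : A, ψ a = Pi.single i (Matrix.single ⟨0, h0 i⟩ ⟨0, h0 i⟩ (1 : k)) :=
      fun i => hψsurj _
    choose a ha using hex
    have hτa : ∀ i j : Fin r, τ (a i) j = if j = i then 1 else 0 := by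
      intro i j
      rw [hτ, ha]
      by_cases hji : j = i
      · subst hji
        rw [Pi.single_eq_same, Matrix.trace_single_eq_same, if_pos rfl]
      · rw [Pi.single_eq_of_ne hji, Matrix.trace_zero, if_neg hji]
    intro v
    refine ⟨∑ i, v i • a i, ?_⟩
    funext j
    rw [map_sum, Finset.sum_apply]
    simp only [map_smul, Pi.smul_apply, hτa, smul_eq_mul, mul_ite, mul_one, mul_zero]
    rw [Finset.sum_ite_eq]
    simp
  have hrange : LinearMap.range τ = ⊤ := LinearMap.range_eq_top.2 hsurj
  have h1 := LinearMap.finrank_range_add_finrank_ker τ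
  rw [hrange, finrank_top, Module.finrank_fin_fun] at h1
  have h2 : finrank k (commSpan k A) ≤ finrank k (LinearMap.ker τ) := Submodule.finrank_mono hker
  omega

end Cfsg.Agent.Helper24.BrandtR5
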