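import Cfsg.Agent.Helper39.C320.Conc

/-!
# Helper24 / piece (C5) for helper39's S1903: orbit-stabiliser for the point `6`
-/

set_option autoImplicit false

namespace Cfsg.Agent.Helper24.C320

open Cfsg.Agent.Helper39.C320 Cfsg.Agent.Helper39.U34 Cfsg.Agent.Helper23.U34E

/-- the action of `G0` on the 65 isotropic points as a `MulAction` (local use only) -/
@[reducible] def actInst : MulAction G0 (Fin 65) where
  smul := act
  one_smul := act_one
  mul_smul := act_mul

/-- (C5) orbit-stabiliser -/
theorem card_Stab (htr : ∀ i : Fin 65, ∃ g : G0, act g 6 = i) (hc : Nat.card G0 = 62400) :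
    Nat.card Stab = 960 := by
  let _ := actInst
  have horb : MulAction.orbit G0 (6 : Fin 65) = Set.univ := by
    ext i
    simp only [Set.mem_univ, iff_true]
    obtain ⟨g, hg⟩ := htr i
    exact ⟨g, hg⟩
  have hstab : MulAction.stabilizer G0 (6 : Fin 65) = Stab := by
    ext g
    rfl
  have h1 : (MulAction.stabilizer G0 (6 : Fin 65)).index = 65 := by
    rw [MulAction.index_stabilizer, horb, Set.ncard_univ, Nat.card_eq_fintype_card,
      Fintype.card_fin]
  have h2 := Subgroup.card_mul_index (MulAction.stabilizer G0 (6 : Fin 65))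
  rw [h1, hc, hstab] at h2
  omega

end Cfsg.Agent.Helper24.C320
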