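import Cfsg.Agent.Helper39.C320.Conc

/-!
# Helper24 / piece (C6) for helper39's S1903: the centraliser of `T0` fixes the point `6`
-/

set_option autoImplicit false

namespace Cfsg.Agent.Helper24.C320

open Cfsg.Agent.Helper39.C320 Cfsg.Agent.Helper39.U34 Cfsg.Agent.Helper23.U34E

set_option maxRecDepth 100000 in
/-- `6` is the only point fixed by `T0` -/
theorem eq_six_of_act_T0 (i : Fin 65) (h : act T0 i = i) : i = 6 := by
  unfold act at h
  rw [mat_T0] at h
  revert i
  decide +kernel

set_option maxRecDepth 100000 in
/-- `T0` fixes `6` -/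
theorem act_T0_six : act T0 6 = 6 := by
  unfold act
  rw [mat_T0]
  decide +kernel

/-- (C6) `T0` fixes only the point `6`, so its centraliser fixes that point -/
theorem centralizer_le_Stab : Subgroup.centralizer {T0} ≤ Stab := by
  intro g hg
  rw [mem_Stab]
  apply eq_six_of_act_T0
  have h1 : T0 * g = g * T0 := hg T0 (Set.mem_singleton _)
  rw [← act_mul, h1, act_mul, act_T0_six]

end Cfsg.Agent.Helper24.C320
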