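import Mathlib
import Cfsg.Agent.Helper2.CS2Defs

/-!
# (Afin1) of helper2's S4284: the final count in Case A

`M` abelian normal of prime index `m`, containing the centre, acting semiregularly from outside:
`M` is exactly the set of elements of class size `1` or `m`, and `|G| = m² n |Z(G)|`.
-/

set_option autoImplicit false
set_option linter.unusedSectionVars false

namespace Cfsg.Agent.Helper24.CS2

open Cfsg.Agent.Helper2.CS2 Subgroup

variable {G : Type*} [Group G] [Finite G] {m n : ℕ}

/-- `|K| * |L : K| = |L|` for `K ≤ L` -/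
theorem card_mul_relIndex_of_le {K L : Subgroup G} (hKL : K ≤ L) :
    Nat.card K * K.relIndex L = Nat.card L := by
  have := Subgroup.relIndex_mul_relIndex (⊥ : Subgroup G) K L bot_le hKL
  rwa [Subgroup.relIndex_bot_left, Subgroup.relIndex_bot_left] at this

/-- elements of an abelian subgroup `M` of prime index have class size `1` or `m` -/
theorem idx_of_mem_abelian (hmp : m.Prime) (M : Subgroup G)
    (hMab : ∀ u ∈ M, ∀ v ∈ M, u * v = v * u) (hMidx : M.index = m) {v : G} (hv : v ∈ M) :
    idx v = 1 ∨ idx v = m := by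
  have hle : M ≤ Cn v := by
    intro u hu
    rw [Subgroup.mem_centralizer_iff]
    intro w hw
    rw [Set.mem_singleton_iff] at hw
    rw [hw]
    exact hMab v hv u hu
  have hdvd : idx v ∣ m := hMidx ▸ Subgroup.index_dvd_of_le hle
  exact (Nat.dvd_prime hmp).1 hdvd

/-- the centralizer of an element outside `M` has order `m |Z|` -/
theorem card_Cn_of_not_mem (hmp : m.Prime) (M : Subgroup G) [M.Normal]
    (hMidx : M.index = m) (hZM : center G ≤ M)
    (hsr : ∀ g : G, g ∉ M → ∀ v ∈ M, g * v = v * g → v ∈ center G) {g : G} (hg : g ∉ M) :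
    Nat.card (Cn g) = Nat.card (center G) * m := by
  have hgC : g ∈ Cn g := by
    rw [Subgroup.mem_centralizer_iff]
    intro w hw
    rw [Set.mem_singleton_iff] at hw
    rw [hw]
  have hinf : Cn g ⊓ M = center G := by
    apply le_antisymm
    · intro v hv
      obtain ⟨hvC, hvM⟩ := Subgroup.mem_inf.1 hv
      rw [Subgroup.mem_centralizer_iff] at hvC
      exact hsr g hg v hvM (hvC g rfl)
    · exact le_inf (Subgroup.center_le_centralizer _) hZM
  have hsup : Cn g ⊔ M = ⊤ := by
    rw [← Subgroup.index_eq_one]
    have h1 := Subgroup.relIndex_mul_index (le_sup_right : M ≤ Cn g ⊔ M)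
    rw [hMidx] at h1
    have h2 : (Cn g ⊔ M).index ∣ m := Dvd.intro_left _ h1
    rcases (Nat.dvd_prime hmp).1 h2 with h3 | h3
    · exact h3
    · exfalso
      rw [h3] at h1
      have h4 : M.relIndex (Cn g ⊔ M) = 1 := by
        have hpos : 0 < m := hmp.pos
        exact Nat.eq_of_mul_eq_mul_right hpos (by rw [h1, one_mul])
      rw [Subgroup.relIndex_eq_one] at h4
      exact hg (h4 (le_sup_left (a := Cn g) hgC))
  have hrel : (center G).relIndex (Cn g) = m := by
    rw [← hinf, Subgroup.inf_relIndex_left, ← Subgroup.relIndex_sup_right (Cn g) M, hsup,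
      Subgroup.relIndex_top_right, hMidx]
  rw [← card_mul_relIndex_of_le (Subgroup.center_le_centralizer ({g} : Set G)), hrel]

/-- (Afin1) -/
theorem caseA_final1 (h : Hyp G m n) (hmp : m.Prime) (M : Subgroup G) [M.Normal]
    (hMab : ∀ u ∈ M, ∀ v ∈ M, u * v = v * u) (hMidx : M.index = m) (hZM : center G ≤ M)
    (hsr : ∀ g : G, g ∉ M → ∀ v ∈ M, g * v = v * g → v ∈ center G) :
    (M : Set G) = {x : G | idx x = 1 ∨ idx x = m} ∧
      Nat.card G = m ^ 2 * n * Nat.card (center G) := by
  have hm1 : 1 < m := h.one_lt_m
  have hn1 : 1 < n := h.one_lt_n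
  -- an element of class size `m n` is outside `M`
  have hout : ∀ x : G, idx x = m * n → x ∉ M := by
    intro x hx hxM
    rcases idx_of_mem_abelian hmp M hMab hMidx hxM with h1 | h1
    · rw [hx] at h1
      have : m = 1 := Nat.eq_one_of_mul_eq_one_right h1
      omega
    · rw [hx] at h1
      have : m * n = m * 1 := by rw [h1, mul_one]
      have := Nat.eq_of_mul_eq_mul_left (by omega : 0 < m) this
      omega
  obtain ⟨x, hx⟩ := h.ex_mn
  have hxM := hout x hx
  have hcardx := card_Cn_of_not_mem hmp M hMidx hZM hsr hxM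
  have hG : Nat.card G = m ^ 2 * n * Nat.card (center G) := by
    have := Subgroup.index_mul_card (Cn x)
    rw [hcardx] at this
    have hx' : (Cn x).index = m * n := hx
    rw [hx'] at this
    rw [← this]
    ring
  refine ⟨?_, hG⟩
  ext y
  simp only [SetLike.mem_coe, Set.mem_ofPred_eq]
  constructor
  · intro hy
    exact idx_of_mem_abelian hmp M hMab hMidx hy
  · intro hy
    by_contra hyM
    have hcardy := card_Cn_of_not_mem hmp M hMidx hZM hsr hyM
    have h1 := Subgroup.index_mul_card (Cn y)
    rw [hcardy, hG] at h1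
    have hZpos : 0 < Nat.card (center G) := Nat.card_pos
    have h2 : (Cn y).index * (Nat.card (center G) * m) = (m * n) * (Nat.card (center G) * m) := by
      rw [h1]
      ring
    have h3 : (Cn y).index = m * n :=
      Nat.eq_of_mul_eq_mul_right (Nat.mul_pos hZpos (by omega)) h2
    have h3' : idx y = m * n := h3
    rcases hy with h4 | h4
    · rw [h3'] at h4
      have : m = 1 := Nat.eq_one_of_mul_eq_one_right h4
      omega
    · rw [h3'] at h4
      have : m * n = m * 1 := by rw [h4, mul_one]
      have := Nat.eq_of_mul_eq_mul_left (by omega : 0 < m) this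
      omega

end Cfsg.Agent.Helper24.CS2
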