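import Mathlib
import Cfsg.Agent.Helper2.CS2Defs
import Cfsg.Agent.Helper24.CS2Afin1

/-!
# (Afin2) of helper2's S4284: `m ∣ n - 1` in Case A

`H ≤ M` normal of order prime to `m` and `m`-power index: `|H : H ∩ Z| = n` and an element outside
`M` permutes `H \ Z` in orbits of size `m`.
-/

set_option autoImplicit false
set_option linter.unusedSectionVars false
set_option linter.unusedVariables false

namespace Cfsg.Agent.Helper24.CS2

open Cfsg.Agent.Helper2.CS2 Subgroup

variable {G : Type*} [Group G] [Finite G] {m n : ℕ}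

theorem conj_not_mem_center {c : G} (hc : c ∉ center G) (g : G) : g * c * g⁻¹ ∉ center G := by
  intro h
  apply hc
  have h1 := (inferInstance : (center G).Normal).conj_mem _ h g⁻¹
  have h2 : g⁻¹ * (g * c * g⁻¹) * g⁻¹⁻¹ = c := by group
  rwa [h2] at h1

/-- conjugation by `g` on the noncentral elements of a normal subgroup, as a self-map -/
def conjEnd (H : Subgroup G) [hH : H.Normal] (g : G) :
    Function.End {c : G // c ∈ H ∧ c ∉ center G} :=
  fun c => ⟨g * c.1 * g⁻¹, hH.conj_mem c.1 c.2.1 g, conj_not_mem_center c.2.2 g⟩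

theorem conjEnd_pow_val (H : Subgroup G) [hH : H.Normal] (g : G) (k : ℕ)
    (c : {c : G // c ∈ H ∧ c ∉ center G}) :
    (((conjEnd H g) ^ k) c : G) = g ^ k * c.1 * (g ^ k)⁻¹ := by
  induction k generalizing c with
  | zero => simp [Function.End.one_def]
  | succ k ih =>
    have h1 : ((conjEnd H g) ^ (k + 1)) c = ((conjEnd H g) ^ k) (conjEnd H g c) := by
      rw [pow_succ]
      rfl
    rw [h1, ih]
    show g ^ k * (g * c.1 * g⁻¹) * (g ^ k)⁻¹ = g ^ (k + 1) * c.1 * (g ^ (k + 1))⁻¹
    rw [pow_succ]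
    group

/-- (Afin2) -/
theorem caseA_final2 (h : Hyp G m n) (hmp : m.Prime) (M H : Subgroup G) [M.Normal] [H.Normal]
    (hMab : ∀ u ∈ M, ∀ v ∈ M, u * v = v * u) (hMidx : M.index = m) (hZM : center G ≤ M)
    (hsr : ∀ g : G, g ∉ M → ∀ v ∈ M, g * v = v * g → v ∈ center G)
    (hcard : Nat.card G = m ^ 2 * n * Nat.card (center G))
    (hHM : H ≤ M) (hHcop : (Nat.card H).Coprime m) (hHidx : ∃ a : ℕ, H.index = m ^ a) :
    m ∣ n - 1 := by
  classical
  have : Fintype G := Fintype.ofFinite G
  have : Fact m.Prime := ⟨hmp⟩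
  have hm1 : 1 < m := h.one_lt_m
  have hn1 : 1 < n := h.one_lt_n
  obtain ⟨a, ha⟩ := hHidx
  -- the order of `H ⊓ Z`
  obtain ⟨z', hz'⟩ : ∃ z' : ℕ, Nat.card (H ⊓ center G : Subgroup G) = z' := ⟨_, rfl⟩
  have hz'H : z' ∣ Nat.card H := hz' ▸ Subgroup.card_dvd_of_le inf_le_left
  have hz'cop : z'.Coprime m := Nat.Coprime.coprime_dvd_left hz'H hHcop
  obtain ⟨b, hb⟩ : ∃ b : ℕ, (H ⊓ center G).relIndex (center G) = m ^ b := by
    have h1 : (H ⊓ center G).relIndex (center G) ∣ m ^ a := by
      rw [Subgroup.inf_relIndex_right, ← ha]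
      exact Subgroup.relIndex_dvd_index_of_normal H (center G)
    obtain ⟨b, -, hb⟩ := (Nat.dvd_prime_pow hmp).1 h1
    exact ⟨b, hb⟩
  have hZ : Nat.card (center G) = z' * m ^ b := by
    rw [← card_mul_relIndex_of_le (inf_le_right : H ⊓ center G ≤ center G), hz', hb]
  -- `|H| = n * |H ⊓ Z|`
  have hHcard : Nat.card H = n * z' := by
    have h1 : Nat.card H * m ^ a = (n * z') * m ^ (b + 2) := by
      rw [← ha, Subgroup.card_mul_index, hcard, hZ]
      ring
    have hncop : (n * z').Coprime m := Nat.Coprime.mul_left h.cop.symm hz'cop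
    apply Nat.dvd_antisymm
    · apply Nat.Coprime.dvd_of_dvd_mul_right (Nat.Coprime.pow_right (b + 2) hHcop)
      exact Dvd.intro _ h1
    · apply Nat.Coprime.dvd_of_dvd_mul_right (Nat.Coprime.pow_right a hncop)
      exact Dvd.intro _ h1.symm
  -- an element outside `M`
  obtain ⟨g, hg⟩ : ∃ g : G, g ∉ M := by
    by_contra hcon
    push Not at hcon
    have : M = ⊤ := (Subgroup.eq_top_iff' M).2 hcon
    rw [← Subgroup.index_eq_one, hMidx] at this
    omega
  -- the self-map and its fixed points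
  have hfpow : (conjEnd H g) ^ m ^ 1 = 1 := by
    funext c
    apply Subtype.ext
    rw [pow_one, conjEnd_pow_val, Function.End.one_def, id]
    have hgm : g ^ m ∈ M := hMidx ▸ Subgroup.pow_index_mem M g
    have hc := hMab _ hgm c.1 (hHM c.2.1)
    rw [hc, mul_assoc, mul_inv_cancel, mul_one]
  have hmod := Equiv.Perm.card_fixedPoints_modEq (f := conjEnd H g) (p := m) (n := 1) hfpow
  have hempty : IsEmpty (Function.fixedPoints (conjEnd H g)) := by
    refine ⟨fun ⟨c, hc⟩ => ?_⟩
    have h1 : g * c.1 * g⁻¹ = c.1 := congrArg Subtype.val hc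
    have h2 : g * c.1 = c.1 * g := mul_inv_eq_iff_eq_mul.1 h1
    exact c.2.2 (hsr g hg c.1 (hHM c.2.1) h2)
  simp only [Fintype.card_eq_zero] at hmod
  have hdvd : m ∣ Fintype.card {c : G // c ∈ H ∧ c ∉ center G} :=
    (Nat.modEq_zero_iff_dvd).1 hmod
  -- count
  have hc1 : Fintype.card {c : G // c ∈ H ∧ c ∉ center G} =
      (Finset.univ.filter (fun c : G => c ∈ H ∧ c ∉ center G)).card :=
    Fintype.card_of_subtype _ (fun c => by simp)
  have hc2 : z' = (Finset.univ.filter (fun c : G => c ∈ H ∧ c ∈ center G)).card := by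
    rw [← hz', Nat.card_eq_fintype_card]
    exact Fintype.card_of_subtype _ (fun c => by simp [Subgroup.mem_inf])
  have hc3 : Nat.card H = (Finset.univ.filter (fun c : G => c ∈ H)).card := by
    rw [Nat.card_eq_fintype_card]
    exact Fintype.card_of_subtype _ (fun c => by simp)
  have hc4 : (Finset.univ.filter (fun c : G => c ∈ H ∧ c ∈ center G)).card +
      (Finset.univ.filter (fun c : G => c ∈ H ∧ c ∉ center G)).card =
      (Finset.univ.filter (fun c : G => c ∈ H)).card := by
    have := Finset.card_filter_add_card_filter_not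
      (s := Finset.univ.filter (fun c : G => c ∈ H)) (fun c : G => c ∈ center G)
    rw [Finset.filter_filter, Finset.filter_filter] at this
    exact this
  rw [hc1] at hdvd
  have hc5 : (Finset.univ.filter (fun c : G => c ∈ H ∧ c ∉ center G)).card = (n - 1) * z' := by
    have h6 : (n - 1) * z' + z' = n * z' := by
      have : n - 1 + 1 = n := by omega
      calc (n - 1) * z' + z' = (n - 1 + 1) * z' := by ring
        _ = n * z' := by rw [this]
    rw [← hc3, hHcard, ← hc2] at hc4
    omega
  rw [hc5] at hdvd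
  exact Nat.Coprime.dvd_of_dvd_mul_right (Nat.Coprime.symm hz'cop) hdvd

end Cfsg.Agent.Helper24.CS2
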