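-- helper24: piece (SCR) for helper3's part (4) of S2500 (normal 2-coverings, `SU_4`):
-- an irreducible polynomial over a finite field dividing its conjugate-reciprocal has odd degree.
import Mathlib
import Cfsg.Agent.Helper3.Cov2Ops

set_option autoImplicit false

namespace Cfsg.Agent.Helper24.Cov2P4

open Polynomial Cfsg.Agent.Helper3.Cov2

/-- an involutory ring endomorphism `τ ≠ id` of a finite field `K`: `card K = p^(2j)` and `τ x = x^(p^j)` -/
theorem SCR_invol {K : Type*} [Field K] [Finite K] (τ : K →+* K) (hτ2 : ∀ x, τ (τ x) = x)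
    (hτ : τ ≠ RingHom.id K) :
    ∃ p j : ℕ, p.Prime ∧ Nat.card K = p ^ (2 * j) ∧ ∀ x, τ x = x ^ (p ^ j) := by
  classical
  obtain ⟨p, hp⟩ := CharP.exists K
  have hpp : p.Prime := CharP.char_is_prime K p
  have : Fact p.Prime := ⟨hpp⟩
  let _ : Algebra (ZMod p) K := ZMod.algebra K p
  have := Fintype.ofFinite K
  let τa : K →ₐ[ZMod p] K :=
    { τ with
      commutes' := fun r => by
        have h : τ.comp (algebraMap (ZMod p) K) = algebraMap (ZMod p) K := Subsingleton.elim _ _
        exact RingHom.congr_fun h r }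
  have hτa : ∀ x, τa x = τ x := fun _ => rfl
  obtain ⟨⟨j, hj⟩, hjτ⟩ := (FiniteField.bijective_frobeniusAlgHom_pow (ZMod p) K).2 τa
  simp only at hjτ
  have hpow : ∀ x, τ x = x ^ (p ^ j) := by
    intro x
    have h := DFunLike.congr_fun hjτ x
    rw [AlgHom.coe_pow, FiniteField.coe_frobeniusAlgHom, pow_iterate, ZMod.card] at h
    rw [← hτa, ← h]
  have hsq : FiniteField.frobeniusAlgHom (ZMod p) K ^ (2 * j) = 1 := by
    rw [mul_comm, pow_mul, hjτ]
    ext x
    rw [pow_two, AlgHom.mul_apply, hτa, hτa, hτ2, AlgHom.one_apply]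
  have hdvd : Module.finrank (ZMod p) K ∣ 2 * j := by
    rw [← FiniteField.orderOf_frobeniusAlgHom (ZMod p) K]
    exact orderOf_dvd_of_pow_eq_one hsq
  have hj0 : j ≠ 0 := by
    intro h0
    apply hτ
    ext x
    rw [hpow x, h0, pow_zero, pow_one, RingHom.id_apply]
  have hn : Module.finrank (ZMod p) K = 2 * j := by
    obtain ⟨c, hc⟩ := hdvd
    have hc1 : c = 1 := by
      have h1 : 0 < c := by
        rcases Nat.eq_zero_or_pos c with h | h
        · rw [h, mul_zero] at hc; omega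
        · exact h
      have h2 : c < 2 := by
        by_contra h
        push Not at h
        have : 2 * Module.finrank (ZMod p) K ≤ Module.finrank (ZMod p) K * c := by
          rw [mul_comm]; exact Nat.mul_le_mul_left _ h
        omega
      omega
    rw [hc, hc1, mul_one]
  refine ⟨p, j, hpp, ?_, hpow⟩
  rw [Nat.card_eq_fintype_card, Module.card_eq_pow_finrank (K := ZMod p), ZMod.card, hn]

/-- (SCR) -/
theorem scr_odd {F : Type*} [Field F] [Finite F] (σ : F →+* F) (hσ : σ ≠ RingHom.id F)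
    (hσ2 : ∀ a : F, σ (σ a) = a) (f : F[X]) (hf : Irreducible f) (h0 : f.coeff 0 ≠ 0)
    (hdvd : f ∣ conjRev σ f) : Odd f.natDegree := by
  classical
  have : Fact (Irreducible f) := ⟨hf⟩
  have := Fintype.ofFinite F
  have hfinF : Module.Finite F (AdjoinRoot f) := (AdjoinRoot.powerBasis hf.ne_zero).finite
  have : Finite (AdjoinRoot f) := Module.finite_of_finite F
  have := Fintype.ofFinite (AdjoinRoot f)
  have hr0 : AdjoinRoot.root f ≠ 0 := by
    intro h
    have h1 : eval₂ (AdjoinRoot.of f) (AdjoinRoot.root f) f = 0 := AdjoinRoot.eval₂_root f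
    rw [h, eval₂_at_zero] at h1
    exact h0 ((map_eq_zero _).mp h1)
  -- `(f.map σ) (r⁻¹) = 0`
  have h1 : eval₂ (AdjoinRoot.of f) (AdjoinRoot.root f) (conjRev σ f) = 0 := by
    obtain ⟨g, hg⟩ := hdvd
    rw [hg, eval₂_mul, AdjoinRoot.eval₂_root, zero_mul]
  have h2 : eval₂ ((AdjoinRoot.of f).comp σ) (AdjoinRoot.root f)⁻¹ f = 0 := by
    rw [← eval₂_map]
    let _ : Invertible (AdjoinRoot.root f)⁻¹ := invertibleOfNonzero (inv_ne_zero hr0)
    rw [← eval₂_reverse_eq_zero_iff, invOf_eq_inv, inv_inv]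
    exact h1
  -- the extension `τ` of `σ`
  obtain ⟨τ, hτdef⟩ : ∃ τ : AdjoinRoot f →+* AdjoinRoot f,
      τ = AdjoinRoot.lift ((AdjoinRoot.of f).comp σ) (AdjoinRoot.root f)⁻¹ h2 := ⟨_, rfl⟩
  have hτof : ∀ a : F, τ (AdjoinRoot.of f a) = AdjoinRoot.of f (σ a) := by
    intro a
    rw [hτdef, AdjoinRoot.lift_of, RingHom.comp_apply]
  have hτr : τ (AdjoinRoot.root f) = (AdjoinRoot.root f)⁻¹ := by
    rw [hτdef, AdjoinRoot.lift_root]
  have hτ2 : ∀ x, τ (τ x) = x := by
    have h : (τ.comp τ).comp (AdjoinRoot.mk f) = (RingHom.id _).comp (AdjoinRoot.mk f) := by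
      apply Polynomial.ringHom_ext
      · intro a
        simp only [RingHom.comp_apply, RingHom.id_apply, AdjoinRoot.mk_C]
        rw [hτof, hτof, hσ2]
      · simp only [RingHom.comp_apply, RingHom.id_apply, AdjoinRoot.mk_X]
        rw [hτr, map_inv₀, hτr, inv_inv]
    intro x
    obtain ⟨g, rfl⟩ := AdjoinRoot.mk_surjective x
    exact RingHom.congr_fun h g
  have hτne : τ ≠ RingHom.id _ := by
    intro h
    apply hσ
    ext a
    have h3 := hτof a
    rw [h, RingHom.id_apply] at h3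
    rw [RingHom.id_apply]
    exact ((AdjoinRoot.of f).injective h3).symm
  obtain ⟨p, j, hpp, hcard, hpow⟩ := SCR_invol τ hτ2 hτne
  -- cardinalities
  have hK : Nat.card (AdjoinRoot f) = Nat.card F ^ f.natDegree := by
    rw [Nat.card_eq_fintype_card, Nat.card_eq_fintype_card, Module.card_eq_pow_finrank (K := F),
      (AdjoinRoot.powerBasis hf.ne_zero).finrank, AdjoinRoot.powerBasis_dim]
  by_contra hodd
  rw [Nat.not_odd_iff_even] at hodd
  obtain ⟨e, he⟩ := hodd
  -- `card F ^ e = p ^ j`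
  have hQ : Nat.card F ^ e = p ^ j := by
    have h3 : (Nat.card F ^ e) ^ 2 = (p ^ j) ^ 2 := by
      rw [← pow_mul, ← pow_mul, mul_comm j 2, ← hcard, hK, he]
      congr 1
      omega
    exact Nat.pow_left_injective (by norm_num : 2 ≠ 0) h3
  apply hσ
  ext a
  rw [RingHom.id_apply]
  apply (AdjoinRoot.of f).injective
  rw [← hτof, hpow, ← hQ, ← map_pow, Nat.card_eq_fintype_card, FiniteField.pow_card_pow]

end Cfsg.Agent.Helper24.Cov2P4
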