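-- helper24: piece (5E) for helper3's part (5) of S2500: the stabiliser in `SU_3(q)` of the line `⟨e₀⟩` is proper
-- (the permutation matrix of a 3-cycle lies in `SU_3(q)` and moves `e₀`); adapted from helper70's (K2).
import Mathlib
import Cfsg.Agent.Helper3.Cov2P4Defs
import Cfsg.Agent.Helper5.UnitaryCenter

set_option autoImplicit false
set_option linter.unusedVariables false

namespace Cfsg.Agent.Helper24.Cov2P5

open Matrix Cfsg.Agent.Helper3.Cov2

variable {F : Type*} [Field F] [Fintype F] {q : ℕ}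

/-- the 3-cycle `(0 1 2)` -/
def e5perm : Equiv.Perm (Fin 3) := Equiv.swap 0 1 * Equiv.swap 1 2

theorem e5perm_sign : Equiv.Perm.sign e5perm = 1 := by decide

/-- the permutation matrix of the 3-cycle as an element of `SU_3(q)` -/
noncomputable def e5elt : Cfsg.SU 3 F q :=
  Cfsg.Agent.Helper5.mkSU (e5perm.permMatrix F)
    (by rw [Matrix.det_permutation, e5perm_sign]; simp)
    (by
      intro u v
      rw [Matrix.permMatrix_mulVec, Matrix.permMatrix_mulVec]
      unfold Cfsg.Agent.Helper5.herm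
      exact Equiv.sum_comp e5perm (fun i => u i * v i ^ q))

/-- (5E) -/
theorem stabH3_ne_top (hF : Fintype.card F = q ^ 2) :
    stabSU (q := q) (Submodule.span F {(Pi.single 0 1 : Fin 3 → F)}) ≠ ⊤ := by
  intro htop
  have hmem : (e5elt : Cfsg.SU 3 F q) ∈
      stabSU (q := q) (Submodule.span F {(Pi.single 0 1 : Fin 3 → F)}) := by
    rw [htop]
    exact Subgroup.mem_top _
  have h := ((mem_stabSU _ _).mp hmem (Pi.single 0 1)).mpr
    (Submodule.subset_span (Set.mem_singleton _))
  have hcoe : ((e5elt : Cfsg.SU 3 F q).1.1 : Matrix (Fin 3) (Fin 3) F) = e5perm.permMatrix F := rfl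
  rw [hcoe, Matrix.permMatrix_mulVec, Submodule.mem_span_singleton] at h
  obtain ⟨a, ha⟩ := h
  obtain ⟨j, hj⟩ : ∃ j : Fin 3, j ≠ 0 ∧ e5perm j = 0 := by decide
  have h1 := congrFun ha j
  simp only [Pi.smul_apply, Function.comp_apply, hj.2, Pi.single_eq_same, smul_eq_mul] at h1
  rw [Pi.single_eq_of_ne hj.1, mul_zero] at h1
  exact zero_ne_one h1

end Cfsg.Agent.Helper24.Cov2P5
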