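-- helper24: piece (5K2b) for helper3's part (5) of S2500: a hermitian trace form `Tr(β x y^(q³))` has `β^(q³) = β`.
import Mathlib

set_option autoImplicit false

namespace Cfsg.Agent.Helper24.Cov2P5

open Polynomial Module

variable {F : Type*} [Field F] [Fintype F] {q : ℕ}

variable (L : Type*) [Field L] [Algebra F L] [Finite L]

/-- (5K2b) -/
theorem beta_fixed (hF : Fintype.card F = q ^ 2) (hL3 : finrank F L = 3) (β : L)
    (h : ∀ x y : L, Algebra.trace F L (β * y * x ^ (q ^ 3)) =
      (Algebra.trace F L (β * x * y ^ (q ^ 3))) ^ q) : β ^ (q ^ 3) = β := by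
  classical
  have := Fintype.ofFinite L
  have hfd : FiniteDimensional F L := Module.finite_of_finrank_pos (by omega)
  -- `q` is a power of the characteristic
  obtain ⟨p, hp⟩ := CharP.exists F
  obtain ⟨n, hpp, hn⟩ := FiniteField.card F p
  have : Fact p.Prime := ⟨hpp⟩
  have hpL : CharP L p := charP_of_injective_algebraMap (algebraMap F L).injective p
  obtain ⟨k, -, hk⟩ : ∃ k, k ≤ (n : ℕ) ∧ q = p ^ k := by
    apply (Nat.dvd_prime_pow hpp).mp
    rw [← hn, hF]
    exact dvd_pow_self q (by norm_num)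
  -- the automorphism `x ↦ x^(q³)`
  obtain ⟨φ, hφ⟩ : ∃ φ : L →+* L, ∀ x, φ x = x ^ (q ^ 3) := by
    refine ⟨iterateFrobenius L p (k * 3), fun x => ?_⟩
    rw [iterateFrobenius_def, hk, ← pow_mul]
  have hcardL : Fintype.card L = q ^ 6 := by
    rw [Module.card_eq_pow_finrank (K := F) (V := L), hL3, hF, ← pow_mul]
  have hφφ : ∀ x, φ (φ x) = x := by
    intro x
    rw [hφ, hφ, ← pow_mul, ← pow_two, ← pow_mul, ← hcardL, FiniteField.pow_card]
  -- `Tr(z)^q = Tr(φ z)`
  have hc : ∀ c : F, c ^ (q ^ 3) = c ^ q := by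
    intro c
    have h1 : c ^ (q ^ 2) = c := by rw [← hF, FiniteField.pow_card]
    calc c ^ (q ^ 3) = (c ^ (q ^ 2)) ^ q := by rw [← pow_mul]; ring_nf
      _ = c ^ q := by rw [h1]
  have htr : ∀ z : L, (Algebra.trace F L z) ^ q = Algebra.trace F L (φ z) := by
    intro z
    apply (algebraMap F L).injective
    rw [← hc, map_pow, ← hφ, FiniteField.algebraMap_trace_eq_sum_pow, FiniteField.algebraMap_trace_eq_sum_pow,
      map_sum]
    refine Finset.sum_congr rfl fun i _ => ?_
    rw [map_pow]
  -- the trace form is nondegenerate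
  have hnd := traceForm_nondegenerate F L
  have key : ∀ y : L, Algebra.trace F L ((β - φ β) * y) = 0 := by
    intro y
    have h1 := h 1 y
    rw [one_pow, mul_one, mul_one, htr, ← hφ y, map_mul φ, hφφ] at h1
    rw [sub_mul, map_sub, h1, sub_self]
  have hz : β - φ β = 0 := by
    apply hnd.1
    intro y
    rw [Algebra.traceForm_apply]
    exact key y
  rw [← hφ]
  exact (sub_eq_zero.mp hz).symm

end Cfsg.Agent.Helper24.Cov2P5
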