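-- helper24: piece (A0) for helper43's S2500 part 7 (Sp6(q), q = 3^a): the 3'-part and the 3-part of an element.
import Cfsg.Agent.Helper43.Cov2.P7Defs

set_option autoImplicit false

namespace Cfsg.Agent.Helper24.Cov2.P7

open Matrix Cfsg.Agent.Helper43.Cov2.P7

variable {F : Type*} [Field F]

/-- the `3'`-part and the `3`-part of an element of a finite group -/
theorem A0_aux {G : Type*} [Group G] [Finite G] (g : G) :
    ∃ i j e m : ℕ, Nat.Coprime m 3 ∧ (g ^ i) ^ m = 1 ∧ (g ^ j) ^ (3 ^ e) = 1 ∧ g = g ^ i * g ^ j := by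
  have hN : orderOf g ≠ 0 := (orderOf_pos g).ne'
  set e := (orderOf g).factorization 3 with he
  set m := orderOf g / 3 ^ e with hm
  have hmul : 3 ^ e * m = orderOf g := Nat.ordProj_mul_ordCompl_eq_self (orderOf g) 3
  have hcop3 : Nat.Coprime 3 m := Nat.coprime_ordCompl Nat.prime_three hN
  have hcop : Nat.Coprime (3 ^ e) m := Nat.Coprime.pow_left e hcop3
  obtain ⟨i, hi1, hi2⟩ := Nat.chineseRemainder hcop 0 1
  obtain ⟨j, hj1, hj2⟩ := Nat.chineseRemainder hcop 1 0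
  refine ⟨i, j, e, m, hcop3.symm, ?_, ?_, ?_⟩
  · rw [← pow_mul, ← orderOf_dvd_iff_pow_eq_one, ← hmul]
    exact Nat.mul_dvd_mul_right ((Nat.modEq_zero_iff_dvd).mp hi1) m
  · rw [← pow_mul, ← orderOf_dvd_iff_pow_eq_one, ← hmul, mul_comm]
    exact Nat.mul_dvd_mul_right ((Nat.modEq_zero_iff_dvd).mp hj2) _
  · rw [← pow_add]
    conv_lhs => rw [← pow_one g]
    rw [pow_eq_pow_iff_modEq, ← hmul]
    rw [← Nat.modEq_and_modEq_iff_modEq_mul hcop]
    constructor
    · have := Nat.ModEq.add hi1 hj1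
      simpa using this.symm
    · have := Nat.ModEq.add hi2 hj2
      simpa using this.symm

/-- (A0) the 3'-part and the 3-part of `g` -/
theorem exists_su [Fintype F] (g : Sp6 F) :
    ∃ i j e m : ℕ, Nat.Coprime m 3 ∧ (g ^ i) ^ m = 1 ∧ (g ^ j) ^ (3 ^ e) = 1 ∧ g = g ^ i * g ^ j :=
  A0_aux g

end Cfsg.Agent.Helper24.Cov2.P7
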