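-- helper24: piece (A1) `semisimple_cases` for helper43's S2500 part 7 (Sp6(q), q = 3^a).
-- The abstract linear algebra is in the four leaves of tools/helper24_p7a1/Skel.lean.txt:
-- (SS) helper30, (S) helper59, (I) helper37, (C) helper20 (also done by helper76).
import Cfsg.Agent.Helper43.Cov2.P7Defs
import Cfsg.Agent.Helper13.SympTrans
import Cfsg.Agent.Helper30.Cov2P7A1SS
import Cfsg.Agent.Helper59.Cov2P7A1S
import Cfsg.Agent.Helper37.Cov2P7A1I
import Cfsg.Agent.Helper20.Cov2P7A1C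

set_option autoImplicit false
set_option linter.unusedVariables false

namespace Cfsg.Agent.Helper24.Cov2.P7

open Matrix Polynomial Cfsg.Agent.Helper43.Cov2.P7 Cfsg.Agent.Helper13

section abstract

variable {F V : Type*} [Field F] [AddCommGroup V] [Module F V] [FiniteDimensional F V]

/-- assembly of the abstract part -/
theorem core_cases (h2 : (2 : F) ≠ 0) (B : LinearMap.BilinForm F V) (hB : B.Nondegenerate) (hA : B.IsAlt)
    (hdim : Module.finrank F V = 6) (ℓ g : Module.End F V) (hsa : ∀ x y, B (ℓ x) y = B x (ℓ y))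
    (hcomm : ∀ x, g (ℓ x) = ℓ (g x)) (hsq : Squarefree (minpoly F ℓ)) :
    (∃ x y : V, B x y ≠ 0 ∧ (∃ a b : F, g x = a • x + b • y) ∧ (∃ c d : F, g y = c • x + d • y)) ∨
      (Irreducible (minpoly F ℓ) ∧ (minpoly F ℓ).natDegree = 3) ∨ ∃ γ : F, ℓ = algebraMap F _ γ := by
  have : Nontrivial V := Module.nontrivial_of_finrank_pos (R := F) (by omega)
  have hint : IsIntegral F ℓ := Algebra.IsIntegral.isIntegral ℓ
  have hnu : ¬ IsUnit (minpoly F ℓ) := minpoly.not_isUnit F ℓ
  have hne : minpoly F ℓ ≠ 0 := minpoly.ne_zero hint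
  obtain ⟨p, hp, r, hpr⟩ := WfDvdMonoid.exists_irreducible_factor hnu hne
  by_cases hr : IsUnit r
  · have hirr : Irreducible (minpoly F ℓ) := by
      rw [hpr]
      exact (associated_mul_unit_right p r hr).irreducible hp
    rcases Cfsg.Agent.Helper37.Cov2.P7.irr_piece h2 B hB hA hdim ℓ hsa hirr with h | h
    · right; right
      obtain ⟨γ, hγ⟩ := (minpoly.natDegree_eq_one_iff).mp h
      exact ⟨γ, hγ.symm⟩
    · exact Or.inr (Or.inl ⟨hirr, h⟩)
  · left
    have hcop : IsCoprime p r := by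
      refine (hp.isCoprime_or_dvd r).resolve_right ?_
      rintro ⟨c, hc⟩
      have : p * p ∣ minpoly F ℓ := ⟨c, by rw [hpr, hc]; ring⟩
      exact hp.not_isUnit (hsq p this)
    exact Cfsg.Agent.Helper59.Cov2.P7.split_piece B hB hA hdim ℓ g hsa hcomm p r hpr hcop hp.not_isUnit hr

end abstract

variable {F : Type*} [Field F]

/-- the symplectic form as a bilinear form -/
noncomputable def A1_B (F : Type*) [Field F] : LinearMap.BilinForm F (V6 F) :=
  Matrix.toBilin' (Matrix.J (Fin 3) F)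

theorem A1_B_apply (x y : V6 F) : A1_B F x y = Cfsg.sympForm 3 F x y := by
  unfold A1_B
  rw [Matrix.toBilin'_apply']
  rfl

theorem A1_B_nondeg : (A1_B F).Nondegenerate := by
  constructor
  · intro x hx
    by_contra hne
    obtain ⟨y, hy⟩ := sympForm_nondeg_left (m := 3) hne
    apply hy
    rw [sympForm_swap, ← A1_B_apply, hx, neg_zero]
  · intro y hy
    by_contra hne
    obtain ⟨x, hx⟩ := sympForm_nondeg_left (m := 3) hne
    apply hx
    rw [← A1_B_apply, hy]

theorem A1_B_alt : (A1_B F).IsAlt := by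
  intro x
  rw [A1_B_apply, sympForm_self]

theorem A1_finrank : Module.finrank F (V6 F) = 6 := by
  rw [Module.finrank_fintype_fun_eq_card]
  simp

/-- adjoint of a symplectic matrix -/
theorem A1_adj (s : Sp6 F) (u v : V6 F) :
    Cfsg.sympForm 3 F ((s : M6 F) *ᵥ u) v = Cfsg.sympForm 3 F u (((s⁻¹ : Sp6 F) : M6 F) *ᵥ v) := by
  have h := (mem_symplecticGroup_iff_preserves (s : M6 F)).mp s.2 u (((s⁻¹ : Sp6 F) : M6 F) *ᵥ v)
  rw [Matrix.mulVec_mulVec, coe_mul_inv_Sp6, Matrix.one_mulVec] at h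
  exact h

/-- (A1) the semisimple part `s`: `s + s⁻¹` splits the space, or generates a cubic field, or is
a scalar. -/
theorem semisimple_cases [Fintype F] (a : ℕ) (ha : 1 ≤ a) (hF : Fintype.card F = 3 ^ a)
    (g s : Sp6 F) (hs : ∃ i : ℕ, s = g ^ i) (m : ℕ) (hm : Nat.Coprime m 3) (hsm : s ^ m = 1) :
    FixesPlane (g : M6 F) ∨ NormCubic (g : M6 F) ∨
      ∃ γ : F, (s : M6 F) * (s : M6 F) - γ • (s : M6 F) + 1 = 0 := by
  classical
  -- characteristic 3
  have hchar : CharP F 3 := by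
    obtain ⟨p, hp⟩ := CharP.exists F
    obtain ⟨n, hpp, hn⟩ := FiniteField.card F p
    have h3 : p = 3 := by
      have hd : p ∣ 3 ^ a := by
        rw [← hF, hn]
        exact dvd_pow_self p n.ne_zero
      exact (Nat.prime_dvd_prime_iff_eq hpp Nat.prime_three).mp (hpp.dvd_of_dvd_pow hd)
    rw [← h3]
    exact hp
  have h2 : (2 : F) ≠ 0 := by
    intro h
    have h' : ((2 : ℕ) : F) = 0 := by exact_mod_cast h
    rw [CharP.cast_eq_zero_iff F 3] at h'
    omega
  have hmF : (m : F) ≠ 0 := by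
    intro h
    rw [CharP.cast_eq_zero_iff F 3] at h
    have : Nat.gcd m 3 = 3 := Nat.gcd_eq_right h
    rw [hm] at this
    omega
  -- the matrices
  obtain ⟨sM, hsM⟩ : ∃ sM : M6 F, sM = (s : M6 F) := ⟨_, rfl⟩
  obtain ⟨tM, htM⟩ : ∃ tM : M6 F, tM = ((s⁻¹ : Sp6 F) : M6 F) := ⟨_, rfl⟩
  obtain ⟨gM, hgM⟩ : ∃ gM : M6 F, gM = (g : M6 F) := ⟨_, rfl⟩
  have hst : sM * tM = 1 := by rw [hsM, htM, coe_mul_inv_Sp6]
  have hts : tM * sM = 1 := by rw [hsM, htM, coe_inv_mul_Sp6]
  have hsmM : sM ^ m = 1 := by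
    have h := congrArg (fun x : Sp6 F => (x : M6 F)) hsm
    simp only [SubmonoidClass.coe_pow, coe_one_Sp6] at h
    rw [hsM]
    exact h
  -- `g` commutes with `s`, `s⁻¹`
  obtain ⟨i, hi⟩ := hs
  have hgs : g * s = s * g := by
    rw [hi]
    exact ((Commute.refl g).pow_right i).eq
  have hgsM : gM * sM = sM * gM := by
    rw [hgM, hsM, ← coe_mul_Sp6, ← coe_mul_Sp6, hgs]
  have hgtM : gM * tM = tM * gM := by
    calc gM * tM = (tM * sM) * (gM * tM) := by rw [hts, one_mul]
      _ = tM * (sM * gM) * tM := by simp only [mul_assoc]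
      _ = tM * (gM * sM) * tM := by rw [hgsM]
      _ = tM * gM * (sM * tM) := by simp only [mul_assoc]
      _ = tM * gM := by rw [hst, mul_one]
  have hcommM : gM * (sM + tM) = (sM + tM) * gM := by
    rw [mul_add, add_mul, hgsM, hgtM]
  -- self-adjointness
  have hsaM : ∀ u v : V6 F, Cfsg.sympForm 3 F ((sM + tM) *ᵥ u) v = Cfsg.sympForm 3 F u ((sM + tM) *ᵥ v) := by
    intro u v
    rw [Matrix.add_mulVec, Matrix.add_mulVec, sympForm_add_left, sympForm_add_right, hsM, htM, A1_adj s u v]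
    have h := A1_adj s⁻¹ u v
    rw [inv_inv] at h
    rw [h, add_comm]
  -- the abstract theorem
  have hsq : Squarefree (minpoly F (Matrix.toLin' (sM + tM))) := by
    rw [map_add]
    refine Cfsg.Agent.Helper30.Cov2.P7.ss_piece (Matrix.toLin' sM) (Matrix.toLin' tM) ?_ m hmF ?_
    · rw [Module.End.mul_eq_comp, ← Matrix.toLin'_mul, hst, Matrix.toLin'_one]
      rfl
    · rw [← Matrix.toLin'_pow, hsmM, Matrix.toLin'_one]
      rfl
  have hcore := core_cases h2 (A1_B F) A1_B_nondeg A1_B_alt A1_finrank (Matrix.toLin' (sM + tM))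
    (Matrix.toLin' gM)
    (fun x y => by
      rw [A1_B_apply, A1_B_apply, Matrix.toLin'_apply, Matrix.toLin'_apply]
      exact hsaM x y)
    (fun x => by
      rw [Matrix.toLin'_apply, Matrix.toLin'_apply, Matrix.toLin'_apply, Matrix.toLin'_apply,
        Matrix.mulVec_mulVec, Matrix.mulVec_mulVec, hcommM])
    hsq
  rcases hcore with ⟨x, y, hxy, ⟨a₁, b₁, h1⟩, ⟨c₁, d₁, h2'⟩⟩ | ⟨hirr, hdeg⟩ | ⟨γ, hγ⟩
  · left
    rw [← hgM]
    refine ⟨x, y, ?_, ⟨a₁, b₁, ?_⟩, ⟨c₁, d₁, ?_⟩⟩
    · rw [← A1_B_apply]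
      exact hxy
    · rw [← Matrix.toLin'_apply]
      exact h1
    · rw [← Matrix.toLin'_apply]
      exact h2'
  · right; left
    rw [Matrix.minpoly_toLin'] at hirr hdeg
    rw [← hgM]
    exact Cfsg.Agent.Helper20.Cov2.P7.cubic_piece (sM + tM) gM hirr hdeg hsaM hcommM
  · right; right
    refine ⟨γ, ?_⟩
    have h3 : sM + tM = γ • (1 : M6 F) := by
      apply Matrix.toLin'.injective
      rw [hγ, map_smul, Matrix.toLin'_one]
      rfl
    rw [← hsM]
    calc sM * sM - γ • sM + 1 = sM * (sM + tM) - γ • sM := by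
          rw [mul_add, hst]
          abel
      _ = 0 := by
          rw [h3, mul_smul_comm, mul_one, sub_self]

end Cfsg.Agent.Helper24.Cov2.P7
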