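import Mathlib

/-!
# (AR) for S0679: the arithmetic of the order of a transitive group of degree 11
-/

set_option autoImplicit false

namespace Cfsg.Agent.Helper24.D11

/-- (AR) -/
theorem card_arith (N n m k : ℕ) (hdvd : N ∣ 19958400) (h110 : 110 ∣ N) (h7 : ¬ 7 ∣ N)
    (h25 : ¬ 25 ∣ N) (h11 : N = 55 * n) (hn : n % 11 = 1) (hk : k ∣ 4) (h5 : N = 5 * k * m)
    (hm : m % 5 = 1) : N = 660 ∨ N = 7920 := by
  subst h11
  -- `n` divides `2^7 * 3^4`
  have h1 : n ∣ 10368 * 35 := by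
    have h : 55 * n ∣ 55 * (10368 * 35) := by
      have : (19958400 : ℕ) = 55 * (10368 * 35) := by norm_num
      rwa [this] at hdvd
    exact Nat.dvd_of_mul_dvd_mul_left (by norm_num) h
  have hn7 : ¬ 7 ∣ n := fun h => h7 (Dvd.dvd.mul_left h 55)
  have hn5 : ¬ 5 ∣ n := by
    intro h
    apply h25
    obtain ⟨c, rfl⟩ := h
    exact ⟨11 * c, by ring⟩
  have hc5 : Nat.Coprime n 5 :=
    ((Nat.Prime.coprime_iff_not_dvd (by norm_num : Nat.Prime 5)).2 hn5).symm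
  have hc7 : Nat.Coprime n 7 :=
    ((Nat.Prime.coprime_iff_not_dvd (by norm_num : Nat.Prime 7)).2 hn7).symm
  have hc35 : Nat.Coprime n 35 := by
    have : (35 : ℕ) = 5 * 7 := by norm_num
    rw [this]
    exact Nat.Coprime.mul_right hc5 hc7
  have h2 : n ∣ 2 ^ 7 * 3 ^ 4 := by
    have : (2 ^ 7 * 3 ^ 4 : ℕ) = 10368 := by norm_num
    rw [this]
    exact Nat.Coprime.dvd_of_dvd_mul_right hc35 h1
  obtain ⟨y, z, hy, hz, hyz⟩ := (Nat.dvd_mul).1 h2
  obtain ⟨a, ha, rfl⟩ := (Nat.dvd_prime_pow Nat.prime_two).1 hy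
  obtain ⟨b, hb, rfl⟩ := (Nat.dvd_prime_pow Nat.prime_three).1 hz
  subst hyz
  have hk4 : k ≤ 4 := Nat.le_of_dvd (by norm_num) hk
  have hk0 : 0 < k := Nat.pos_of_dvd_of_pos hk (by norm_num)
  have h2n : 2 ∣ 2 ^ a * 3 ^ b := by
    obtain ⟨c, hc⟩ := h110
    omega
  interval_cases a <;> interval_cases b <;> interval_cases k <;> omega

end Cfsg.Agent.Helper24.D11
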