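import Mathlib

/-!
# (CM) for S0679: the commutator of two permutations whose supports meet in one point
-/

set_option autoImplicit false

namespace Cfsg.Agent.Helper24.D11

open Equiv MulAction

variable {α : Type*} [Fintype α] [DecidableEq α]

/-- (CM) -/
theorem commutator_support (σ τ : Perm α) (x : α) (h : σ.support ∩ τ.support = {x}) :
    σ * τ * σ⁻¹ * τ⁻¹ ≠ 1 ∧ (σ * τ * σ⁻¹ * τ⁻¹).support ⊆ {x, σ x, τ x} := by
  have aiv : ∀ (f : Perm α) (z : α), f (f⁻¹ z) = z := fun f z => f.apply_symm_apply z
  have hmem : ∀ y, σ y ≠ y → τ y ≠ y → y = x := by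
    intro y h1 h2
    have h3 : y ∈ σ.support ∩ τ.support :=
      Finset.mem_inter.2 ⟨Perm.mem_support.2 h1, Perm.mem_support.2 h2⟩
    rw [h] at h3
    exact Finset.mem_singleton.1 h3
  have hx : x ∈ σ.support ∩ τ.support := by rw [h]; exact Finset.mem_singleton_self x
  rw [Finset.mem_inter, Perm.mem_support, Perm.mem_support] at hx
  obtain ⟨hσx, hτx⟩ := hx
  constructor
  · intro hc
    have hcomm : σ * τ = τ * σ := by
      calc σ * τ = (σ * τ * σ⁻¹ * τ⁻¹) * (τ * σ) := by group
        _ = τ * σ := by rw [hc, one_mul]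
    have h1 : σ (τ x) = τ x := by
      by_contra hne
      have h' : τ x = x := hmem (τ x) hne (fun h' => hτx (τ.injective h'))
      exact hτx h'
    have h2 : τ (σ x) = σ x := by
      by_contra hne
      have h' : σ x = x := hmem (σ x) (fun h' => hσx (σ.injective h')) hne
      exact hσx h'
    have h3 : σ (τ x) = τ (σ x) := by
      have h' := congrArg (fun f : Perm α => f x) hcomm
      simpa [Perm.mul_apply] using h'
    rw [h1, h2] at h3
    have h4 : σ x = x :=
      hmem (σ x) (fun h' => hσx (σ.injective h'))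
        (by rw [← h3]; exact fun h' => hτx (τ.injective h'))
    exact hσx h4
  · intro y hy
    rw [Perm.mem_support] at hy
    by_contra hyn
    simp only [Finset.mem_insert, Finset.mem_singleton, not_or] at hyn
    obtain ⟨hyx, hyσ, hyτ⟩ := hyn
    apply hy
    simp only [Perm.mul_apply]
    by_cases hty : τ y = y
    · have htiy : τ⁻¹ y = y := by rw [Perm.inv_eq_iff_eq]; exact hty.symm
      rw [htiy]
      by_cases hsy : σ y = y
      · have hsiy : σ⁻¹ y = y := by rw [Perm.inv_eq_iff_eq]; exact hsy.symm
        rw [hsiy, hty, hsy]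
      · have hv : σ (σ⁻¹ y) ≠ σ⁻¹ y := by
          rw [aiv]
          intro h'
          apply hsy
          conv_lhs => rw [h']
          exact aiv σ y
        have hτv : τ (σ⁻¹ y) = σ⁻¹ y := by
          by_contra hne
          have h' : σ⁻¹ y = x := hmem _ hv hne
          apply hyσ
          rw [← h', aiv]
        rw [hτv, aiv]
    · have hsy : σ y = y := by
        by_contra hne
        exact hyx (hmem y hne hty)
      have hu : τ (τ⁻¹ y) ≠ τ⁻¹ y := by
        rw [aiv]
        intro h'
        apply hty
        conv_lhs => rw [h']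
        exact aiv τ y
      have hσu : σ (τ⁻¹ y) = τ⁻¹ y := by
        by_contra hne
        have h' : τ⁻¹ y = x := hmem _ hne hu
        apply hyτ
        rw [← h', aiv]
      have hσiu : σ⁻¹ (τ⁻¹ y) = τ⁻¹ y := by rw [Perm.inv_eq_iff_eq]; exact hσu.symm
      rw [hσiu, aiv, hsy]

end Cfsg.Agent.Helper24.D11
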