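import Mathlib
import Cfsg.Agent.Helper16.DefOne.Leaves
import Cfsg.Agent.Helper77.DefOneGalDefs

/-!
# (GAL-8) values at `p`-singular elements from rows supported on one `N`-orbit of a fibre

Piece (GAL-8) of helper77's decomposition of S4507 (board #5795): if the rows of `ψ ∈ R_θ` over the
non-canonical part of the fibre of `θ` are `δ` on the `N`-orbit of `φ₀` and `0` elsewhere, then
`ψ c = δ * ∑_{φ ∈ N·φ₀} φ c` for every `p`-singular `c ∈ C`.
-/

set_option autoImplicit false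

namespace Cfsg.Agent.Helper24.DefOneGAL8

open Cfsg Cfsg.Agent.Helper16 Cfsg.Agent.Helper16.DefOne Cfsg.Agent.Helper82.DefOne
  Cfsg.Agent.Helper77.DefOne

universe u

variable {G : Type u} [Group G] [Fintype G] {p : ℕ} [Fact p.Prime] (P : Sylow p G)

open Classical in
/-- rows of `ψ` at every `φ`: `δ` on the orbit of `φ₀`, zero elsewhere -/
theorem rowZ_eq_ite_orbit (hP : Nat.card P = p)
    [((P : Subgroup G).subgroupOf (nor P)).Normal] (hmod : ModCount p P)
    (θ : IrrCharacter (cen P)) (hθ : IsCanon P θ) (ψ : IrrCharacter G) (hψ : ψ ∈ Rset P θ)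
    (φ₀ : IrrCharacter (cen P)) (h₀ : can P φ₀ = θ) (hn₀ : ¬ IsCanon P φ₀) (δ : ℤ)
    (hrow : ∀ φ : IrrCharacter (cen P), can P φ = θ → ¬ IsCanon P φ →
      rowZ P ψ φ = if ∃ n : nor P, n • φ = φ₀ then δ else 0)
    (φ : IrrCharacter (cen P)) :
    (φ ∈ MulAction.orbit (nor P) φ₀ → rowZ P ψ φ = δ) ∧
      (φ ∉ MulAction.orbit (nor P) φ₀ → rowZ P ψ φ = 0) := by
  classical
  by_cases hcan : IsCanon P φ
  · -- (i) canonical `φ`
    have hnot : φ ∉ MulAction.orbit (nor P) φ₀ := by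
      intro hmem
      obtain ⟨n, hn⟩ := MulAction.mem_orbit_iff.1 hmem
      apply hn₀
      have : φ₀ = n⁻¹ • φ := by rw [← hn, inv_smul_smul]
      rw [this]
      exact isCanon_smul P hP n⁻¹ φ hcan
    refine ⟨fun h => absurd h hnot, fun _ => ?_⟩
    unfold rowZ
    rw [can_eq_self P hP φ hcan, sub_self]
  · by_cases horb : ∃ n : nor P, n • θ = can P φ
    · -- (ii) `can φ` in the orbit of `θ`
      obtain ⟨n, hn⟩ := horb
      have hcan' : can P (n⁻¹ • φ) = θ := by
        rw [can_smul P hP, ← hn, inv_smul_smul]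
      have hncan' : ¬ IsCanon P (n⁻¹ • φ) := by
        intro h
        apply hcan
        have h2 := isCanon_smul P hP n (n⁻¹ • φ) h
        rwa [smul_inv_smul] at h2
      have hr : rowZ P ψ φ = rowZ P ψ (n⁻¹ • φ) := (rowZ_smul P hP ψ n⁻¹ φ).symm
      have hr2 := hrow (n⁻¹ • φ) hcan' hncan'
      have hiff : (∃ m : nor P, m • (n⁻¹ • φ) = φ₀) ↔ φ ∈ MulAction.orbit (nor P) φ₀ := by
        rw [MulAction.mem_orbit_iff]
        constructor
        · rintro ⟨m, hm⟩
          refine ⟨(m * n⁻¹)⁻¹, ?_⟩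
          have h3 : φ₀ = (m * n⁻¹) • φ := by rw [mul_smul, hm]
          rw [h3, inv_smul_smul]
        · rintro ⟨m, hm⟩
          refine ⟨m⁻¹ * n, ?_⟩
          rw [mul_smul, smul_inv_smul, ← hm, inv_smul_smul]
      constructor
      · intro hmem
        rw [hr, hr2, if_pos (hiff.2 hmem)]
      · intro hmem
        rw [hr, hr2, if_neg (fun h => hmem (hiff.1 h))]
    · -- (iii) `can φ` outside the orbit of `θ`
      have hnot : φ ∉ MulAction.orbit (nor P) φ₀ := by
        intro hmem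
        obtain ⟨n, hn⟩ := MulAction.mem_orbit_iff.1 hmem
        apply horb
        refine ⟨n, ?_⟩
        rw [← hn, can_smul P hP, h₀]
      refine ⟨fun h => absurd h hnot, fun _ => ?_⟩
      by_contra hne
      have hdisj := Rset_disjoint P hP hmod θ (can P φ) hθ (isCanon_can P hP φ) horb
      have hmem : ψ ∈ Rset P (can P φ) := ⟨φ, rfl, hne⟩
      exact (Set.disjoint_left.1 hdisj) hψ hmem

open Classical in
/-- (GAL-8) -/
theorem apply_singular_of_orbit_rows (hP : Nat.card P = p)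
    [((P : Subgroup G).subgroupOf (nor P)).Normal] (hmod : ModCount p P)
    (θ : IrrCharacter (cen P)) (hθ : IsCanon P θ) (ψ : IrrCharacter G) (hψ : ψ ∈ Rset P θ)
    (φ₀ : IrrCharacter (cen P)) (h₀ : can P φ₀ = θ) (hn₀ : ¬ IsCanon P φ₀) (δ : ℤ)
    (hrow : ∀ φ : IrrCharacter (cen P), can P φ = θ → ¬ IsCanon P φ →
      rowZ P ψ φ = if ∃ n : nor P, n • φ = φ₀ then δ else 0)
    (c : cen P) (hc : p ∣ orderOf c) :
    (ψ : G → ℂ) (c : G) =
      (δ : ℂ) * ∑ᶠ φ ∈ MulAction.orbit (nor P) φ₀, (φ : cen P → ℂ) c := by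
  rw [apply_singular_eq P hP ψ c hc]
  rw [mul_finsum_mem, finsum_mem_def]
  refine finsum_congr fun φ => ?_
  obtain ⟨h1, h2⟩ := rowZ_eq_ite_orbit P hP hmod θ hθ ψ hψ φ₀ h₀ hn₀ δ hrow φ
  by_cases hmem : φ ∈ MulAction.orbit (nor P) φ₀
  · rw [Set.indicator_of_mem hmem, h1 hmem]
  · rw [Set.indicator_of_notMem hmem, h2 hmem]
    simp

end Cfsg.Agent.Helper24.DefOneGAL8
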