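import Mathlib
import Cfsg.Prelude.Def_Characters
import Cfsg.Prelude.Def_Blocks
import Cfsg.Agent.Helper3.DixonDefs
import Cfsg.Agent.Helper80.CharLevel
import Cfsg.Agent.Helper80.Pullback

/-!
# (DEFL) for S4467 (Dixon's theorem): the deflation step
-/

set_option autoImplicit false

namespace Cfsg.Agent.Helper24.Dixon

open Cfsg Cfsg.Agent.Helper3.Dixon
open scoped commutatorElement

universe u

/-- (DEFL) deflation step: if `Q ⊔ ker φ` is not normal in `H`, pass to `H ⧸ ker φ`
(`Helper80.IsIrrCharacter.exists_descend`, `Sylow.mapSurjective`) and apply the hypothesis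
`IH` to the faithful irreducible character there. -/
theorem good_of_sup_ker_not_normal {H : Type u} [Group H] [Finite H]
    (hsolv : Group.IsSolvable H) {p : ℕ} [Fact p.Prime]
    (IH : ∀ (H' : Type u) [Group H'] [Finite H'], Nat.card H' ≤ Nat.card H →
      Group.IsSolvable H' → ∀ φ' : IrrCharacter H',
      (∀ h : H', (φ' : H' → ℂ) h = (φ' : H' → ℂ) 1 → h = 1) →
      ∀ Q' : Sylow p H', ¬ (Q' : Subgroup H').Normal → Good p (charDegree (φ' : H' → ℂ)))
    (φ : IrrCharacter H) (Q : Sylow p H)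
    (hQ : ¬ ((Q : Subgroup H) ⊔
        Helper80.kerChar (φ : H → ℂ) (Helper80.IsIrrCharacter.isCharacter φ.2)).Normal) :
    Good p (charDegree (φ : H → ℂ)) := by
  classical
  have hφc := Helper80.IsIrrCharacter.isCharacter φ.2
  set K : Subgroup H := Helper80.kerChar (φ : H → ℂ) hφc with hK
  have hsurj : Function.Surjective (QuotientGroup.mk' K) := QuotientGroup.mk'_surjective K
  have hker : ∀ g : H, QuotientGroup.mk' K g = 1 → (φ : H → ℂ) g = (φ : H → ℂ) 1 := by
    intro g hg
    have hgK : g ∈ K := by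
      rw [← QuotientGroup.ker_mk' K]
      exact MonoidHom.mem_ker.2 hg
    exact (Helper80.mem_kerChar hφc g).1 hgK
  obtain ⟨ψ', hψ'irr, hψ'⟩ :=
    Helper80.IsIrrCharacter.exists_descend φ.2 (QuotientGroup.mk' K) hsurj hker
  have hone : ψ' 1 = (φ : H → ℂ) 1 := by
    have h := hψ' 1
    rw [map_one] at h
    exact h.symm
  have hfaith : ∀ h' : H ⧸ K, ψ' h' = ψ' 1 → h' = 1 := by
    intro h' hh'
    obtain ⟨g, rfl⟩ := hsurj h'
    rw [← hψ' g, hone] at hh'
    have hgK : g ∈ K := (Helper80.mem_kerChar hφc g).2 hh'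
    rw [← QuotientGroup.ker_mk' K] at hgK
    exact MonoidHom.mem_ker.1 hgK
  have hcard : Nat.card (H ⧸ K) ≤ Nat.card H :=
    Nat.card_le_card_of_surjective _ hsurj
  have hsolv' : Group.IsSolvable (H ⧸ K) := Group.isSolvable_of_surjective hsurj
  have hQ' : ¬ ((Q.mapSurjective hsurj : Sylow p (H ⧸ K)) : Subgroup (H ⧸ K)).Normal := by
    intro hn
    apply hQ
    have h1 : (Subgroup.comap (QuotientGroup.mk' K)
        ((Q.mapSurjective hsurj : Sylow p (H ⧸ K)) : Subgroup (H ⧸ K))).Normal :=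
      Subgroup.Normal.comap hn _
    rw [Sylow.coe_mapSurjective, Subgroup.comap_map_eq, QuotientGroup.ker_mk'] at h1
    exact h1
  have hgood := IH (H ⧸ K) hcard hsolv' ⟨ψ', hψ'irr⟩ hfaith (Q.mapSurjective hsurj) hQ'
  have hdeg : charDegree ψ' = charDegree (φ : H → ℂ) := by
    unfold charDegree
    rw [hone]
  rw [← hdeg]
  exact hgood

end Cfsg.Agent.Helper24.Dixon
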