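import Mathlib
import Cfsg.Prelude.Def_Characters
import Cfsg.Prelude.Def_Blocks
import Cfsg.Agent.Helper3.DixonDefs
import Cfsg.Agent.Helper80.CharLevel
import Cfsg.Agent.Helper74.CharBasic

/-!
# (KER) for S4467 (Dixon's theorem): the kernel argument
-/

set_option autoImplicit false

namespace Cfsg.Agent.Helper24.Dixon

open Cfsg Cfsg.Agent.Helper3.Dixon
open scoped commutatorElement

universe u

/-- an element on which every irreducible constituent takes its degree is in the kernel -/
theorem apply_eq_one_of_constituents {H : Type u} [Group H] [Fintype H] {ψ : H → ℂ}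
    (hψ : IsCharacter H ψ) (z : H)
    (hz : ∀ φ : IrrCharacter H, classInner ψ (φ : H → ℂ) ≠ 0 →
      (φ : H → ℂ) z = (φ : H → ℂ) 1) : ψ z = ψ 1 := by
  classical
  let _ := Helper74.irrFintype H
  have hsum := Helper74.isCharacter_eq_sum_irr hψ
  have h1 := congrFun hsum z
  have h2 := congrFun hsum 1
  rw [Finset.sum_apply] at h1 h2
  rw [h1, h2]
  refine Finset.sum_congr rfl fun φ _ => ?_
  simp only [Pi.smul_apply, smul_eq_mul]
  by_cases h0 : classInner ψ (φ : H → ℂ) = 0
  · rw [h0, zero_mul, zero_mul]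
  · rw [hz φ h0]

/-- (KER) a faithful character `ψ` of `H` and a non-normal Sylow `p`-subgroup `Q`: some
irreducible constituent `φ` has `Q ⊔ ker φ` not normal.  Paper proof: `ker ψ = ⋂ ker φ_i`
over the constituents; if all `Q ⊔ K_i` are normal then `L = ⋂ (Q ⊔ K_i)` is normal, and for
`y ∈ L`, `y ^ |Q| ∈ K_i` for all `i` (image of `y` in `H ⧸ K_i` lies in the image of `Q`), so
`y ^ |Q| = 1`: `L` is a `p`-group containing the Sylow `Q`, so `L = Q` is normal. -/
theorem exists_constituent_sup_ker_not_normal {H : Type u} [Group H] [Fintype H] {p : ℕ}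
    [Fact p.Prime] {ψ : H → ℂ} (hψ : IsCharacter H ψ) (hfaith : ∀ h : H, ψ h = ψ 1 → h = 1)
    (Q : Sylow p H) (hQ : ¬ (Q : Subgroup H).Normal) :
    ∃ φ : IrrCharacter H, classInner ψ (φ : H → ℂ) ≠ 0 ∧
      ¬ ((Q : Subgroup H) ⊔
        Helper80.kerChar (φ : H → ℂ) (Helper80.IsIrrCharacter.isCharacter φ.2)).Normal := by
  classical
  by_contra hcon
  push Not at hcon
  apply hQ
  -- the intersection of the normal subgroups `Q ⊔ ker φ`
  let L : Subgroup H :=
    { carrier := {y | ∀ φ : IrrCharacter H, classInner ψ (φ : H → ℂ) ≠ 0 →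
        y ∈ (Q : Subgroup H) ⊔
          Helper80.kerChar (φ : H → ℂ) (Helper80.IsIrrCharacter.isCharacter φ.2)}
      one_mem' := fun φ _ => Subgroup.one_mem _
      mul_mem' := fun {a b} ha hb φ hφ => Subgroup.mul_mem _ (ha φ hφ) (hb φ hφ)
      inv_mem' := fun {a} ha φ hφ => Subgroup.inv_mem _ (ha φ hφ) }
  have hLmem : ∀ y, y ∈ L ↔ ∀ φ : IrrCharacter H, classInner ψ (φ : H → ℂ) ≠ 0 →
      y ∈ (Q : Subgroup H) ⊔
        Helper80.kerChar (φ : H → ℂ) (Helper80.IsIrrCharacter.isCharacter φ.2) :=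
    fun y => Iff.rfl
  have hLnormal : L.Normal := by
    constructor
    intro y hy g
    rw [hLmem] at hy ⊢
    intro φ hφ
    exact (hcon φ hφ).conj_mem y (hy φ hφ) g
  have hQL : (Q : Subgroup H) ≤ L := by
    intro y hy
    rw [hLmem]
    intro φ hφ
    exact Subgroup.mem_sup_left hy
  -- every element of `L` has order dividing `|Q|`
  have hpow : ∀ y ∈ L, y ^ Nat.card (Q : Subgroup H) = 1 := by
    intro y hy
    apply hfaith
    apply apply_eq_one_of_constituents hψ
    intro φ hφ
    set K : Subgroup H :=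
      Helper80.kerChar (φ : H → ℂ) (Helper80.IsIrrCharacter.isCharacter φ.2) with hK
    have hyQK : y ∈ (Q : Subgroup H) ⊔ K := (hLmem y).1 hy φ hφ
    -- the image of `y` in `H ⧸ K` lies in the image of `Q`
    have hmap : QuotientGroup.mk' K y ∈ (Q : Subgroup H).map (QuotientGroup.mk' K) := by
      have h1 : QuotientGroup.mk' K y ∈ ((Q : Subgroup H) ⊔ K).map (QuotientGroup.mk' K) :=
        Subgroup.mem_map_of_mem _ hyQK
      have h2 : K.map (QuotientGroup.mk' K) = ⊥ :=
        (Subgroup.map_eq_bot_iff K).2 (le_of_eq (QuotientGroup.ker_mk' K).symm)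
      rw [Subgroup.map_sup, h2, sup_bot_eq] at h1
      exact h1
    obtain ⟨q, hq, hqy⟩ := Subgroup.mem_map.1 hmap
    have hqpow : q ^ Nat.card (Q : Subgroup H) = 1 := by
      have h := pow_card_eq_one' (G := ↥(Q : Subgroup H)) (x := ⟨q, hq⟩)
      have h' := congrArg (Subtype.val) h
      rw [Subgroup.coe_pow, Subgroup.coe_one] at h'
      exact h'
    have hker : y ^ Nat.card (Q : Subgroup H) ∈ K := by
      rw [← QuotientGroup.ker_mk' K, MonoidHom.mem_ker, map_pow, ← hqy, ← map_pow, hqpow,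
        map_one]
    exact (Helper80.mem_kerChar (Helper80.IsIrrCharacter.isCharacter φ.2) _).1 hker
  -- so `L` is a `p`-group containing the Sylow subgroup `Q`
  obtain ⟨a, ha⟩ := IsPGroup.iff_card.1 Q.isPGroup'
  have hLp : IsPGroup p L := by
    intro g
    refine ⟨a, ?_⟩
    apply Subtype.ext
    rw [Subgroup.coe_pow, ← ha]
    exact hpow g g.2
  have hLQ : L = (Q : Subgroup H) := Q.is_maximal' hLp hQL
  rw [← hLQ]
  exact hLnormal

end Cfsg.Agent.Helper24.Dixon
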