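import Mathlib
import Cfsg.Agent.Helper48.E27C1

/-!
# (C2) of helper3's S3701: the star shape of five integer vectors with Gram matrix `4 J + I`

`star'` takes the statement (C1) `norm_two` as an explicit hypothesis `hC1`; `star` is the exact
skeleton statement, using helper48's `Cfsg.Agent.Helper48.E27.norm_two`.
-/

set_option autoImplicit false
set_option linter.unusedSectionVars false

namespace Cfsg.Agent.Helper24.E27C2

open Finset

section
variable {ι : Type*} [Fintype ι] [DecidableEq ι]

theorem sum_ind_mul (u : ι) (g : ι → ℤ) :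
    ∑ x, (if x = u then (1 : ℤ) else 0) * g x = g u := by
  simp [ite_mul]

/-- inner product of two difference-of-indicator vectors -/
theorem sum_diff_mul_diff (x y x' y' : ι) :
    ∑ z, ((if z = x then (1 : ℤ) else 0) - (if z = y then 1 else 0)) *
        ((if z = x' then (1 : ℤ) else 0) - (if z = y' then 1 else 0)) =
      (if x = x' then 1 else 0) - (if x = y' then 1 else 0) - (if y = x' then 1 else 0)
        + (if y = y' then 1 else 0) := by
  have h1 : ∀ z : ι, ((if z = x then (1 : ℤ) else 0) - (if z = y then 1 else 0)) *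
        ((if z = x' then (1 : ℤ) else 0) - (if z = y' then 1 else 0)) =
      (if z = x then (1 : ℤ) else 0) * ((if z = x' then (1 : ℤ) else 0) - (if z = y' then 1 else 0))
      - (if z = y then (1 : ℤ) else 0) *
        ((if z = x' then (1 : ℤ) else 0) - (if z = y' then 1 else 0)) := fun z => by ring
  simp_rw [h1]
  rw [Finset.sum_sub_distrib, sum_ind_mul, sum_ind_mul]
  ring

/-- four "roots" with pairwise inner product one share their head or share their tail -/
theorem common_of_pairwise (X Y : Fin 4 → ι)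
    (h : ∀ j k : Fin 4, j ≠ k → (X j = X k ∧ Y j ≠ Y k) ∨ (Y j = Y k ∧ X j ≠ X k)) :
    (∀ k, X k = X 0) ∨ (∀ k, Y k = Y 0) := by
  rcases h 0 1 (by decide) with ⟨h01, h01'⟩ | ⟨h01, h01'⟩
  · left
    intro k
    by_cases hk0 : k = 0
    · rw [hk0]
    by_cases hk1 : k = 1
    · rw [hk1, h01]
    rcases h 0 k (Ne.symm hk0) with ⟨h0k, -⟩ | ⟨h0k, h0k'⟩
    · exact h0k.symm
    · exfalso
      rcases h 1 k (Ne.symm hk1) with ⟨h1k, -⟩ | ⟨h1k, -⟩
      · exact h0k' (h01.trans h1k)
      · exact h01' (h0k.trans h1k.symm)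
  · right
    intro k
    by_cases hk0 : k = 0
    · rw [hk0]
    by_cases hk1 : k = 1
    · rw [hk1, h01]
    rcases h 0 k (Ne.symm hk0) with ⟨h0k, h0k'⟩ | ⟨h0k, -⟩
    · exfalso
      rcases h 1 k (Ne.symm hk1) with ⟨h1k, -⟩ | ⟨h1k, -⟩
      · exact h01' (h0k.trans h1k.symm)
      · exact h0k' (h01.trans h1k)
    · exact h0k.symm

/-- (C2), with (C1) as a hypothesis -/
theorem star' (hC1 : ∀ (d : ι → ℕ), (∀ x, 0 < d x) → ∀ f : ι → ℤ, ∑ x, f x ^ 2 = 2 →
      ∑ x, (d x : ℤ) * f x = 0 →
      ∃ x y : ι, x ≠ y ∧ d x = d y ∧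
        ∀ z, f z = (if z = x then 1 else 0) - (if z = y then 1 else 0))
    (d : ι → ℕ) (hd : ∀ x, 0 < d x) (a : Fin 5 → ι → ℤ)
    (haa : ∀ i j, ∑ x, a i x * a j x = if i = j then 5 else 4)
    (hda : ∀ i, ∑ x, (d x : ℤ) * a i x = 0) :
    ∃ (ε : ℤ) (θ : Fin 5 → ι) (D : ℕ) (W : ι → ℤ), (ε = 1 ∨ ε = -1) ∧ Function.Injective θ ∧
      (∀ i, d (θ i) = D) ∧ ∀ i x, a i x = W x + if x = θ i then ε else 0 := by
  -- inner products of the differences
  have hip : ∀ j k : Fin 4, ∑ x, (a j.succ x - a 0 x) * (a k.succ x - a 0 x) =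
      if j = k then 2 else 1 := by
    intro j k
    have e : ∀ x, (a j.succ x - a 0 x) * (a k.succ x - a 0 x) =
        a j.succ x * a k.succ x - a j.succ x * a 0 x - a 0 x * a k.succ x + a 0 x * a 0 x :=
      fun x => by ring
    simp_rw [e]
    rw [Finset.sum_add_distrib, Finset.sum_sub_distrib, Finset.sum_sub_distrib, haa, haa, haa, haa]
    have h1 : (j.succ : Fin 5) ≠ 0 := Fin.succ_ne_zero j
    have h2 : (0 : Fin 5) ≠ k.succ := (Fin.succ_ne_zero k).symm
    rw [if_neg h1, if_neg h2, if_pos rfl]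
    by_cases hjk : j = k
    · rw [if_pos hjk, if_pos (by rw [hjk])]
      norm_num
    · rw [if_neg hjk, if_neg (fun h => hjk (Fin.succ_injective _ h))]
      norm_num
  have hnorm : ∀ j : Fin 4, ∑ x, (a j.succ x - a 0 x) ^ 2 = 2 := by
    intro j
    have := hip j j
    rw [if_pos rfl] at this
    rw [← this]
    exact Finset.sum_congr rfl (fun x _ => by ring)
  have horth : ∀ j : Fin 4, ∑ x, (d x : ℤ) * (a j.succ x - a 0 x) = 0 := by
    intro j
    simp_rw [mul_sub]
    rw [Finset.sum_sub_distrib, hda, hda, sub_zero]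
  choose X Y hXY hdXY hf using fun j : Fin 4 =>
    hC1 d hd (fun x => a j.succ x - a 0 x) (hnorm j) (horth j)
  -- pairwise sharing
  have hpair : ∀ j k : Fin 4, j ≠ k →
      (X j = X k ∧ Y j ≠ Y k) ∨ (Y j = Y k ∧ X j ≠ X k) := by
    intro j k hjk
    have h1 := hip j k
    rw [if_neg hjk] at h1
    have e : ∀ x, (a j.succ x - a 0 x) * (a k.succ x - a 0 x) =
        ((if x = X j then (1 : ℤ) else 0) - (if x = Y j then 1 else 0)) *
        ((if x = X k then (1 : ℤ) else 0) - (if x = Y k then 1 else 0)) := by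
      intro x
      have e1 : a j.succ x - a 0 x = _ := hf j x
      have e2 : a k.succ x - a 0 x = _ := hf k x
      rw [e1, e2]
    simp_rw [e] at h1
    rw [sum_diff_mul_diff] at h1
    have hj := hXY j
    have hk := hXY k
    by_cases c1 : X j = X k <;> by_cases c2 : X j = Y k <;> by_cases c3 : Y j = X k <;>
      by_cases c4 : Y j = Y k <;>
      (first | rw [if_pos c1] at h1 | rw [if_neg c1] at h1) <;>
      (first | rw [if_pos c2] at h1 | rw [if_neg c2] at h1) <;>
      (first | rw [if_pos c3] at h1 | rw [if_neg c3] at h1) <;>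
      (first | rw [if_pos c4] at h1 | rw [if_neg c4] at h1) <;>
      first
        | omega
        | (left; exact ⟨c1, c4⟩)
        | (right; exact ⟨c4, c1⟩)
        | (exfalso; apply hk; rw [← c1, c2])
        | (exfalso; apply hj; rw [c1, ← c3])
  rcases common_of_pairwise X Y hpair with hX | hY
  · -- common head
    have hXall : ∀ j k, X j = X k := fun j k => (hX j).trans (hX k).symm
    have hYinj : Function.Injective Y := by
      intro j k hjk
      by_contra hne
      rcases hpair j k hne with ⟨-, h2⟩ | ⟨-, h2⟩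
      · exact h2 hjk
      · exact h2 (hXall j k)
    refine ⟨-1, Fin.cons (X 0) Y, d (X 0), fun z => a 0 z + if z = X 0 then 1 else 0,
      Or.inr rfl, ?_, ?_, ?_⟩
    · rw [Fin.cons_injective_iff]
      refine ⟨?_, hYinj⟩
      rintro ⟨j, hj⟩
      exact hXY j ((hX j).trans hj.symm)
    · intro i
      refine Fin.cases ?_ (fun j => ?_) i
      · rfl
      · show d (Y j) = d (X 0)
        rw [← hdXY j, hX j]
    · intro i z
      refine Fin.cases ?_ (fun j => ?_) i
      · show a 0 z = a 0 z + (if z = X 0 then 1 else 0) + if z = X 0 then -1 else 0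
        split_ifs <;> ring
      · show a j.succ z = a 0 z + (if z = X 0 then 1 else 0) + if z = Y j then -1 else 0
        have this : a j.succ z - a 0 z = _ := hf j z
        rw [hX j] at this
        split_ifs at this ⊢ <;> linarith
  · -- common tail
    have hYall : ∀ j k, Y j = Y k := fun j k => (hY j).trans (hY k).symm
    have hXinj : Function.Injective X := by
      intro j k hjk
      by_contra hne
      rcases hpair j k hne with ⟨-, h2⟩ | ⟨-, h2⟩
      · exact h2 (hYall j k)
      · exact h2 hjk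
    refine ⟨1, Fin.cons (Y 0) X, d (Y 0), fun z => a 0 z - if z = Y 0 then 1 else 0,
      Or.inl rfl, ?_, ?_, ?_⟩
    · rw [Fin.cons_injective_iff]
      refine ⟨?_, hXinj⟩
      rintro ⟨j, hj⟩
      exact hXY j (hj.trans (hY j).symm)
    · intro i
      refine Fin.cases ?_ (fun j => ?_) i
      · rfl
      · show d (X j) = d (Y 0)
        rw [hdXY j, hY j]
    · intro i z
      refine Fin.cases ?_ (fun j => ?_) i
      · show a 0 z = a 0 z - (if z = Y 0 then 1 else 0) + if z = Y 0 then 1 else 0
        ring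
      · show a j.succ z = a 0 z - (if z = Y 0 then 1 else 0) + if z = X j then 1 else 0
        have this : a j.succ z - a 0 z = _ := hf j z
        rw [hY j] at this
        split_ifs at this ⊢ <;> linarith

/-- (C2) the star shape of the five regular vectors. -/
theorem star (d : ι → ℕ) (hd : ∀ x, 0 < d x) (a : Fin 5 → ι → ℤ)
    (haa : ∀ i j, ∑ x, a i x * a j x = if i = j then 5 else 4)
    (hda : ∀ i, ∑ x, (d x : ℤ) * a i x = 0) :
    ∃ (ε : ℤ) (θ : Fin 5 → ι) (D : ℕ) (W : ι → ℤ), (ε = 1 ∨ ε = -1) ∧ Function.Injective θ ∧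
      (∀ i, d (θ i) = D) ∧ ∀ i x, a i x = W x + if x = θ i then ε else 0 :=
  star' (fun d hd f hf hdf => Cfsg.Agent.Helper48.E27.norm_two d hd f hf hdf) d hd a haa hda

end

end Cfsg.Agent.Helper24.E27C2
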