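import Mathlib
import Cfsg.Agent.Helper24.Coprime
import Cfsg.Agent.Helper24.OddOmega
import Cfsg.Agent.Helper21.Fitting
import Cfsg.Agent.Helper22.Subnormal

/-!
# Elementary abelian 2-groups acting faithfully on nilpotent groups of odd order (helper24)
-/

set_option autoImplicit false

namespace Cfsg.Agent.Helper24

open Subgroup

variable {S : Type*} [Group S]

/-- The `s`-primary part of a nilpotent subgroup `F` of `S`, as a subgroup of `S`. -/
noncomputable def primePart (s : ℕ) [Fact s.Prime] (F : Subgroup S) [Finite F] : Subgroup S :=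
  ((Classical.arbitrary (Sylow s ↥F) : Sylow s ↥F) : Subgroup ↥F).map F.subtype

theorem primePart_le (s : ℕ) [Fact s.Prime] (F : Subgroup S) [Finite F] : primePart s F ≤ F := by
  rintro _ ⟨x, -, rfl⟩; exact x.2

theorem isPGroup_primePart (s : ℕ) [Fact s.Prime] (F : Subgroup S) [Finite F] :
    IsPGroup s (primePart s F) := by
  unfold primePart
  exact (Classical.arbitrary (Sylow s ↥F)).2.map F.subtype

/-- In a nilpotent subgroup, every `s`-element lies in the `s`-primary part. -/
theorem mem_primePart_of_pow (s : ℕ) [Fact s.Prime] (F : Subgroup S) [Finite F]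
    (hF : Group.IsNilpotent ↥F) {x : S} (hx : x ∈ F) {j : ℕ} (hj : x ^ s ^ j = 1) :
    x ∈ primePart s F := by
  classical
  set P := (Classical.arbitrary (Sylow s ↥F) : Sylow s ↥F) with hP
  have h03 := (Group.isNilpotent_of_finite_tfae (G := ↥F)).out 0 3
  have hall := h03.mp hF
  have hPn : (P : Subgroup ↥F).Normal := hall s inferInstance P
  have hz : IsPGroup s (Subgroup.zpowers (⟨x, hx⟩ : ↥F)) := by
    apply IsPGroup.of_card (n := (Nat.card (Subgroup.zpowers (⟨x, hx⟩ : ↥F))).factorization s) 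
    have hord : orderOf (⟨x, hx⟩ : ↥F) ∣ s ^ j := by
      apply orderOf_dvd_of_pow_eq_one
      apply Subtype.ext
      simpa using hj
    rw [Nat.card_zpowers]
    obtain ⟨i, -, hi⟩ := (Nat.dvd_prime_pow Fact.out).mp hord
    rw [hi, Nat.Prime.factorization_pow Fact.out]
    simp
  obtain ⟨Q, hQ⟩ := hz.exists_le_sylow
  obtain ⟨g, hg⟩ := MulAction.exists_smul_eq ↥F P Q
  have hPQ : Q = P := by
    rw [← hg]
    have : (P : Subgroup ↥F).Normal := hPn
    exact Sylow.smul_eq_of_normal
  have : (⟨x, hx⟩ : ↥F) ∈ (P : Subgroup ↥F) := by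
    rw [← hPQ]; exact hQ (Subgroup.mem_zpowers _)
  exact ⟨⟨x, hx⟩, this, rfl⟩


theorem conj_pow_eq_one {a u : S} {k : ℕ} (h : u ^ k = 1) : (a * u * a⁻¹) ^ k = 1 := by
  rw [conj_pow, h, mul_one, mul_inv_cancel]

/-- Normalizers of `F` normalize its primary parts. -/
theorem mem_normalizer_primePart (s : ℕ) [Fact s.Prime] (F : Subgroup S) [Finite F]
    (hF : Group.IsNilpotent ↥F) {a : S} (ha : a ∈ Subgroup.normalizer (F : Set S)) :
    a ∈ Subgroup.normalizer ((primePart s F : Subgroup S) : Set S) := by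
  have : Finite (primePart s F) := Finite.of_injective
    (fun x : primePart s F => (⟨x.1, primePart_le s F x.2⟩ : F))
    (fun x y h => Subtype.ext (by simpa using congrArg Subtype.val h))
  apply Subgroup.mem_normalizer_fintype
  intro u hu
  obtain ⟨k, hk⟩ := (isPGroup_primePart s F) ⟨u, hu⟩
  have hk' : u ^ s ^ k = 1 := by simpa using congrArg Subtype.val hk
  exact mem_primePart_of_pow s F hF (conj_mem_of_mem_normalizer ha (primePart_le s F hu))
    (conj_pow_eq_one hk')

/-- An element commuting with all primary parts of the nilpotent subgroup `F` centralizes `F`. -/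
theorem commute_of_commute_primePart (F : Subgroup S) [Finite F] (hF : Group.IsNilpotent ↥F) {a : S}
    (h : ∀ (s : ℕ) [Fact s.Prime], ∀ u ∈ primePart s F, a * u = u * a) :
    ∀ x ∈ F, a * x = x * a := by
  suffices H : ∀ n : ℕ, ∀ x : S, orderOf x = n → x ∈ F → a * x = x * a from
    fun x hx => H (orderOf x) x rfl hx
  intro n
  induction n using Nat.strong_induction_on with
  | _ n ih =>
  intro x hn hx
  have hfin : IsOfFinOrder x := by
    have := isOfFinOrder_of_finite (⟨x, hx⟩ : F)
    exact (Submonoid.isOfFinOrder_coe (H := F.toSubmonoid) (x := ⟨x, hx⟩)).mpr this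
  have hnpos : 0 < n := by rw [← hn]; exact hfin.orderOf_pos
  by_cases hn1 : n = 1
  · rw [hn1, orderOf_eq_one_iff] at hn
    rw [hn, mul_one, one_mul]
  · set s := n.minFac with hs
    have hsp : s.Prime := Nat.minFac_prime hn1
    have : Fact s.Prime := ⟨hsp⟩
    obtain ⟨e, m, hsm, hnem⟩ := Nat.exists_eq_pow_mul_and_not_dvd hnpos.ne' s hsp.ne_one
    have he : e ≠ 0 := by
      rintro rfl
      rw [pow_zero, one_mul] at hnem
      exact hsm (hnem ▸ Nat.minFac_dvd n)
    have hmpos : 0 < m := by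
      rcases Nat.eq_zero_or_pos m with h0 | h0
      · rw [h0, mul_zero] at hnem; omega
      · exact h0
    -- the s-part
    have h1 : a * x ^ m = x ^ m * a := by
      apply h s
      apply mem_primePart_of_pow s F hF (F.pow_mem hx m) (j := e)
      rw [← pow_mul, mul_comm, ← hnem, ← hn, pow_orderOf_eq_one]
    -- the s'-part
    have h2 : a * x ^ s ^ e = x ^ s ^ e * a := by
      have hord : orderOf (x ^ s ^ e) = m := by
        rw [orderOf_pow' x (pow_ne_zero e hsp.ne_zero), hn, hnem,
          Nat.gcd_eq_right (dvd_mul_right _ _), Nat.mul_div_cancel_left _ (pow_pos hsp.pos e)]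
      have hlt : m < n := by
        rw [hnem]
        have : 2 ≤ s ^ e := by
          calc 2 ≤ s := hsp.two_le
            _ = s ^ 1 := (pow_one s).symm
            _ ≤ s ^ e := Nat.pow_le_pow_right hsp.pos (Nat.one_le_iff_ne_zero.mpr he)
        nlinarith
      exact ih m hlt _ hord (F.pow_mem hx _)
    have hcop : Nat.Coprime (s ^ e) m := Nat.Coprime.pow_left e ((Nat.Prime.coprime_iff_not_dvd hsp).mpr hsm)
    have hbez := Nat.gcd_eq_gcd_ab (s ^ e) m
    rw [hcop.gcd_eq_one] at hbez
    have hx' : x = (x ^ s ^ e) ^ (Nat.gcdA (s ^ e) m) * (x ^ m) ^ (Nat.gcdB (s ^ e) m) := by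
      rw [← zpow_natCast x (s ^ e), ← zpow_natCast x m, ← zpow_mul, ← zpow_mul, ← zpow_add]
      have : ((s ^ e : ℕ) : ℤ) * Nat.gcdA (s ^ e) m + (m : ℤ) * Nat.gcdB (s ^ e) m = 1 := by
        rw [← hbez]; simp
      rw [this, zpow_one]
    have c1 : Commute a (x ^ s ^ e) := h2
    have c2 : Commute a (x ^ m) := h1
    have : Commute a x := by
      rw [hx']
      exact (c1.zpow_right _).mul_right (c2.zpow_right _)
    exact this


/-- In a group of odd order every element is a power of its square. -/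
theorem mem_of_sq_mem_of_odd {X Z : Subgroup S} [Finite X] (hodd : Odd (Nat.card X)) {x : S}
    (hx : x ∈ X) (h : x * x ∈ Z) : x ∈ Z := by
  have hord : orderOf x ∣ Nat.card X := orderOf_dvd_card_of_mem hx
  have hoddx : Odd (orderOf x) := Odd.of_dvd_nat hodd hord
  obtain ⟨k, hk⟩ := hoddx
  have : x = (x * x) ^ (k + 1) := by
    rw [← pow_two, ← pow_mul]
    have : 2 * (k + 1) = orderOf x + 1 := by omega
    rw [this, pow_succ, pow_orderOf_eq_one, one_mul]
  rw [this]
  exact Z.pow_mem h _

/-- The `±` lemma: if the elementary abelian `2`-group `J` acts on `X/Z` (abelian, of odd order) without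
proper nontrivial invariant subgroups, then every element of `J` centralizes or inverts `X/Z`. -/
theorem pm_lemma [Finite S] (J X Z : Subgroup S)
    (hJc : ∀ a ∈ J, ∀ b ∈ J, a * b = b * a) (hJ2 : ∀ a ∈ J, a * a = 1)
    (hZX : Z ≤ X) (hJX : J ≤ Subgroup.normalizer (X : Set S)) (hJZ : J ≤ Subgroup.normalizer (Z : Set S))
    (hXZ : X ≤ Subgroup.normalizer (Z : Set S))
    (hcomm : ∀ x ∈ X, ∀ y ∈ X, x⁻¹ * y⁻¹ * x * y ∈ Z)
    (hodd : Odd (Nat.card X))
    (hmin : ∀ Y : Subgroup S, Z ≤ Y → Y ≤ X → J ≤ Subgroup.normalizer (Y : Set S) → Y = Z ∨ Y = X)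
    (j : S) (hj : j ∈ J) :
    (∀ x ∈ X, j * x * j⁻¹ * x⁻¹ ∈ Z) ∨ (∀ x ∈ X, j * x * j⁻¹ * x ∈ Z) := by
  have hjj : j * j = 1 := hJ2 j hj
  have hjX : ∀ x ∈ X, j * x * j⁻¹ ∈ X := fun x hx => conj_mem_of_mem_normalizer (hJX hj) hx
  have hXZc : ∀ x ∈ X, ∀ z ∈ Z, x * z * x⁻¹ ∈ Z := fun x hx z hz =>
    conj_mem_of_mem_normalizer (hXZ hx) hz
  have hXZc' : ∀ x ∈ X, ∀ z ∈ Z, x⁻¹ * z * x ∈ Z := fun x hx z hz => by
    have := hXZc x⁻¹ (X.inv_mem hx) z hz
    simpa using this
  let Yp : Subgroup S :=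
    { carrier := {x | x ∈ X ∧ j * x * j⁻¹ * x⁻¹ ∈ Z}
      one_mem' := ⟨X.one_mem, by simp⟩
      mul_mem' := by
        rintro x y ⟨hx, hx'⟩ ⟨hy, hy'⟩
        refine ⟨X.mul_mem hx hy, ?_⟩
        have : j * (x * y) * j⁻¹ * (x * y)⁻¹ =
            (j * x * j⁻¹ * x⁻¹) * (x * (j * y * j⁻¹ * y⁻¹) * x⁻¹) := by group
        rw [this]
        exact Z.mul_mem hx' (hXZc x hx _ hy')
      inv_mem' := by
        rintro x ⟨hx, hx'⟩
        refine ⟨X.inv_mem hx, ?_⟩
        have : j * x⁻¹ * j⁻¹ * x⁻¹⁻¹ = x⁻¹ * (j * x * j⁻¹ * x⁻¹)⁻¹ * x := by group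
        rw [this]
        exact hXZc' x hx _ (Z.inv_mem hx') }
  let Ym : Subgroup S :=
    { carrier := {x | x ∈ X ∧ j * x * j⁻¹ * x ∈ Z}
      one_mem' := ⟨X.one_mem, by simp⟩
      mul_mem' := by
        rintro x y ⟨hx, hx'⟩ ⟨hy, hy'⟩
        refine ⟨X.mul_mem hx hy, ?_⟩
        have : j * (x * y) * j⁻¹ * (x * y) =
            (j * x * j⁻¹ * x) * (x⁻¹ * (j * y * j⁻¹ * y) * x) * (x⁻¹ * y⁻¹ * x * y) := by group
        rw [this]
        exact Z.mul_mem (Z.mul_mem hx' (hXZc' x hx _ hy')) (hcomm x hx y hy)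
      inv_mem' := by
        rintro x ⟨hx, hx'⟩
        refine ⟨X.inv_mem hx, ?_⟩
        have : j * x⁻¹ * j⁻¹ * x⁻¹ = (x * (j * x * j⁻¹ * x) * x⁻¹)⁻¹ := by group
        rw [this]
        exact Z.inv_mem (hXZc x hx _ hx') }
  have hYp_mem : ∀ x, x ∈ Yp ↔ x ∈ X ∧ j * x * j⁻¹ * x⁻¹ ∈ Z := fun x => Iff.rfl
  have hYm_mem : ∀ x, x ∈ Ym ↔ x ∈ X ∧ j * x * j⁻¹ * x ∈ Z := fun x => Iff.rfl
  have hZYp : Z ≤ Yp := fun z hz =>
    ⟨hZX hz, Z.mul_mem (conj_mem_of_mem_normalizer (hJZ hj) hz) (Z.inv_mem hz)⟩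
  have hZYm : Z ≤ Ym := fun z hz =>
    ⟨hZX hz, Z.mul_mem (conj_mem_of_mem_normalizer (hJZ hj) hz) hz⟩
  have hJYp : J ≤ Subgroup.normalizer (Yp : Set S) := by
    intro k hk
    apply Subgroup.mem_normalizer_fintype
    rintro x ⟨hx, hx'⟩
    refine ⟨conj_mem_of_mem_normalizer (hJX hk) hx, ?_⟩
    have hkj : j * k = k * j := hJc j hj k hk
    have : j * (k * x * k⁻¹) * j⁻¹ * (k * x * k⁻¹)⁻¹ = k * (j * x * j⁻¹ * x⁻¹) * k⁻¹ := by
      calc j * (k * x * k⁻¹) * j⁻¹ * (k * x * k⁻¹)⁻¹
          = (j * k) * x * (j * k)⁻¹ * (k * x⁻¹ * k⁻¹) := by group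
        _ = (k * j) * x * (k * j)⁻¹ * (k * x⁻¹ * k⁻¹) := by rw [hkj]
        _ = k * (j * x * j⁻¹ * x⁻¹) * k⁻¹ := by group
    rw [this]
    exact conj_mem_of_mem_normalizer (hJZ hk) hx'
  have hJYm : J ≤ Subgroup.normalizer (Ym : Set S) := by
    intro k hk
    apply Subgroup.mem_normalizer_fintype
    rintro x ⟨hx, hx'⟩
    refine ⟨conj_mem_of_mem_normalizer (hJX hk) hx, ?_⟩
    have hkj : j * k = k * j := hJc j hj k hk
    have : j * (k * x * k⁻¹) * j⁻¹ * (k * x * k⁻¹) = k * (j * x * j⁻¹ * x) * k⁻¹ := by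
      calc j * (k * x * k⁻¹) * j⁻¹ * (k * x * k⁻¹)
          = (j * k) * x * (j * k)⁻¹ * (k * x * k⁻¹) := by group
        _ = (k * j) * x * (k * j)⁻¹ * (k * x * k⁻¹) := by rw [hkj]
        _ = k * (j * x * j⁻¹ * x) * k⁻¹ := by group
    rw [this]
    exact conj_mem_of_mem_normalizer (hJZ hk) hx'
  rcases hmin Yp hZYp (fun x hx => hx.1) hJYp with hp | hp
  · rcases hmin Ym hZYm (fun x hx => hx.1) hJYm with hm | hm
    · -- both equal Z: then X = Z
      left
      have hXleZ : ∀ x ∈ X, x ∈ Z := by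
        intro x hx
        set w := j * x * j⁻¹ with hw
        have hwX : w ∈ X := hjX x hx
        have hww : j * w * j⁻¹ = x := by
          have : j * (j * x * j⁻¹) * j⁻¹ = (j * j) * x * (j * j)⁻¹ := by group
          rw [hw, this, hjj]; simp
        -- x⁺ = w * x ∈ Yp = Z
        have h1 : w * x ∈ Yp := by
          refine ⟨X.mul_mem hwX hx, ?_⟩
          have : j * (w * x) * j⁻¹ * (w * x)⁻¹ = (j * w * j⁻¹) * (j * x * j⁻¹) * (w * x)⁻¹ := by group
          rw [this, hww, ← hw]
          have : x * w * (w * x)⁻¹ = x⁻¹⁻¹ * w⁻¹⁻¹ * x⁻¹ * w⁻¹ := by group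
          rw [this]
          exact hcomm _ (X.inv_mem hx) _ (X.inv_mem hwX)
        rw [hp] at h1
        -- x⁻ = w⁻¹ * x ∈ Ym = Z
        have h2 : w⁻¹ * x ∈ Ym := by
          refine ⟨X.mul_mem (X.inv_mem hwX) hx, ?_⟩
          have : j * (w⁻¹ * x) * j⁻¹ * (w⁻¹ * x) = (j * w * j⁻¹)⁻¹ * (j * x * j⁻¹) * (w⁻¹ * x) := by group
          rw [this, hww, ← hw]
          have : x⁻¹ * w * (w⁻¹ * x) = 1 := by group
          rw [this]; exact Z.one_mem
        rw [hm] at h2
        -- x * x ∈ Z
        apply mem_of_sq_mem_of_odd hodd hx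
        have : x * x = (x * (w * x) * x⁻¹) * (w⁻¹ * x) := by group
        rw [this]
        exact Z.mul_mem (hXZc x hx _ h1) h2
      intro x hx
      exact Z.mul_mem (conj_mem_of_mem_normalizer (hJZ hj) (hXleZ x hx)) (Z.inv_mem (hXleZ x hx))
    · right
      intro x hx
      have : x ∈ Ym := by rw [hm]; exact hx
      exact this.2
  · left
    intro x hx
    have : x ∈ Yp := by rw [hp]; exact hx
    exact this.2


/-- Under the hypotheses of the `±` lemma, `Z⟨x⟩` is `J`-invariant for every `x ∈ X`. -/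
theorem sup_zpowers_invariant [Finite S] (J X Z : Subgroup S)
    (hJc : ∀ a ∈ J, ∀ b ∈ J, a * b = b * a) (hJ2 : ∀ a ∈ J, a * a = 1)
    (hZX : Z ≤ X) (hJX : J ≤ Subgroup.normalizer (X : Set S)) (hJZ : J ≤ Subgroup.normalizer (Z : Set S))
    (hXZ : X ≤ Subgroup.normalizer (Z : Set S))
    (hcomm : ∀ x ∈ X, ∀ y ∈ X, x⁻¹ * y⁻¹ * x * y ∈ Z)
    (hodd : Odd (Nat.card X))
    (hmin : ∀ Y : Subgroup S, Z ≤ Y → Y ≤ X → J ≤ Subgroup.normalizer (Y : Set S) → Y = Z ∨ Y = X)
    (x : S) (hx : x ∈ X) :
    J ≤ Subgroup.normalizer ((Z ⊔ Subgroup.zpowers x : Subgroup S) : Set S) := by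
  intro j hj
  apply Subgroup.mem_normalizer_fintype
  have hle : Z ⊔ Subgroup.zpowers x ≤
      (Z ⊔ Subgroup.zpowers x).comap (MulAut.conj j).toMonoidHom := by
    apply sup_le
    · intro z hz
      rw [Subgroup.mem_comap]
      exact Subgroup.mem_sup_left (conj_mem_of_mem_normalizer (hJZ hj) hz)
    · rw [Subgroup.zpowers_le, Subgroup.mem_comap]
      show j * x * j⁻¹ ∈ Z ⊔ Subgroup.zpowers x
      rcases pm_lemma J X Z hJc hJ2 hZX hJX hJZ hXZ hcomm hodd hmin j hj with h | h
      · have : j * x * j⁻¹ = (j * x * j⁻¹ * x⁻¹) * x := by group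
        rw [this]
        exact Subgroup.mul_mem _ (Subgroup.mem_sup_left (h x hx))
          (Subgroup.mem_sup_right (Subgroup.mem_zpowers x))
      · have : j * x * j⁻¹ = (j * x * j⁻¹ * x) * x⁻¹ := by group
        rw [this]
        exact Subgroup.mul_mem _ (Subgroup.mem_sup_left (h x hx))
          (Subgroup.mem_sup_right (Subgroup.inv_mem _ (Subgroup.mem_zpowers x)))
  intro y hy
  exact hle hy

/-- If `b` normalizes `P` and `N` then `b` normalizes `C_P(N)`. -/
theorem mem_normalizer_inf_centralizer' [Finite S] {P N : Subgroup S} {b : S}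
    (hbP : b ∈ Subgroup.normalizer (P : Set S)) (hbN : b ∈ Subgroup.normalizer (N : Set S)) :
    b ∈ Subgroup.normalizer ((P ⊓ Subgroup.centralizer (N : Set S) : Subgroup S) : Set S) := by
  apply Subgroup.mem_normalizer_fintype
  intro z hz
  obtain ⟨hzP, hzN⟩ := Subgroup.mem_inf.mp hz
  refine Subgroup.mem_inf.mpr ⟨conj_mem_of_mem_normalizer hbP hzP, ?_⟩
  rw [Subgroup.mem_centralizer_iff] at hzN ⊢
  intro n hn
  have hn' : b⁻¹ * n * b ∈ N := conj_inv_mem_of_mem_normalizer hbN hn
  have h := hzN _ hn'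
  calc n * (b * z * b⁻¹) = b * ((b⁻¹ * n * b) * z) * b⁻¹ := by group
    _ = b * (z * (b⁻¹ * n * b)) * b⁻¹ := by rw [h]
    _ = b * z * b⁻¹ * n := by group

/-- Normalizers of `X` normalize its derived subgroup. -/
theorem mem_normalizer_commutator [Finite S] {X : Subgroup S} {b : S}
    (hb : b ∈ Subgroup.normalizer (X : Set S)) :
    b ∈ Subgroup.normalizer ((⁅X, X⁆ : Subgroup S) : Set S) := by
  apply Subgroup.mem_normalizer_fintype
  intro y hy
  have h1 : (⁅X, X⁆ : Subgroup S).map (MulAut.conj b).toMonoidHom = ⁅X, X⁆ := by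
    rw [Subgroup.map_commutator, Cfsg.Agent.Helper21.map_conj_eq_of_mem_normalizer hb]
  have : b * y * b⁻¹ ∈ (⁅X, X⁆ : Subgroup S).map (MulAut.conj b).toMonoidHom :=
    ⟨y, hy, rfl⟩
  rw [h1] at this
  exact this


/-- Elements of order dividing two have order coprime to an odd prime. -/
theorem coprime_orderOf_of_sq {t : S} (ht : t * t = 1) {s : ℕ} (hs : s.Prime) (hs2 : s ≠ 2) :
    (orderOf t).Coprime s := by
  have h1 : orderOf t ∣ 2 := orderOf_dvd_of_pow_eq_one (by rw [pow_two]; exact ht)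
  have h2 : Nat.Coprime 2 s := (Nat.coprime_primes Nat.prime_two hs).mpr (Ne.symm hs2)
  exact Nat.Coprime.coprime_dvd_left h1 h2

/-- **Existence of an invariant subgroup of prime order not centralized by `I`.** -/
theorem exists_invariant_prime_order [Finite S] [Group.IsSolvable S] (J I F : Subgroup S)
    (hJc : ∀ a ∈ J, ∀ b ∈ J, a * b = b * a) (hJ2 : ∀ a ∈ J, a * a = 1) (hIJ : I ≤ J)
    (hJF : J ≤ Subgroup.normalizer (F : Set S)) (hFnil : Group.IsNilpotent ↥F)
    (hFodd : Odd (Nat.card F)) (hIF : ¬ I ≤ Subgroup.centralizer (F : Set S)) :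
    ∃ A : Subgroup S, A ≤ F ∧ (Nat.card A).Prime ∧ J ≤ Subgroup.normalizer (A : Set S) ∧
      ¬ I ≤ Subgroup.centralizer (A : Set S) := by
  classical
  set 𝒳 : Set (Subgroup S) := {X | X ≤ F ∧ J ≤ Subgroup.normalizer (X : Set S) ∧
    ¬ I ≤ Subgroup.centralizer (X : Set S)} with h𝒳
  have hfin : 𝒳.Finite := Set.toFinite _
  have hne : 𝒳.Nonempty := ⟨F, le_rfl, hJF, hIF⟩
  obtain ⟨X, hX, hminX⟩ := Set.exists_min_image 𝒳 (fun X => Nat.card X) hfin hne
  obtain ⟨hXF, hJX, hIX⟩ := hX
  have hXnil : Group.IsNilpotent ↥X := Cfsg.Agent.Helper22.isNilpotent_of_le hXF hFnil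
  have hXodd : Odd (Nat.card X) := Odd.of_dvd_nat hFodd (Subgroup.card_dvd_of_le hXF)
  -- (★0)
  have star0 : ∀ Y : Subgroup S, Y ≤ X → Y ≠ X → J ≤ Subgroup.normalizer (Y : Set S) →
      I ≤ Subgroup.centralizer (Y : Set S) := by
    intro Y hYX hne hJY
    by_contra hcon
    have hY : Y ∈ 𝒳 := ⟨le_trans hYX hXF, hJY, hcon⟩
    have h1 := hminX Y hY
    have h2 := card_lt_of_lt (lt_of_le_of_ne hYX hne)
    omega
  have hXne : X ≠ ⊥ := by
    rintro rfl
    apply hIX
    intro i _
    rw [Subgroup.mem_centralizer_iff]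
    intro y hy
    rw [SetLike.mem_coe, Subgroup.mem_bot] at hy
    rw [hy, one_mul, mul_one]
  -- (i) X is an s-group
  obtain ⟨s, hsF, hXs⟩ : ∃ (s : ℕ) (_ : Fact s.Prime), IsPGroup s X := by
    by_contra hcon
    push Not at hcon
    apply hIX
    intro i hi
    rw [Subgroup.mem_centralizer_iff]
    intro x hx
    symm
    refine commute_of_commute_primePart X hXnil ?_ x hx
    intro s hs u hu
    by_contra hne
    have hJP : J ≤ Subgroup.normalizer ((primePart s X : Subgroup S) : Set S) :=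
      fun j hj => mem_normalizer_primePart s X hXnil (hJX hj)
    have hIP : ¬ I ≤ Subgroup.centralizer ((primePart s X : Subgroup S) : Set S) := by
      intro hle
      have := hle hi
      rw [Subgroup.mem_centralizer_iff] at this
      exact hne (this u hu).symm
    have heq : primePart s X = X := by
      by_contra hne'
      exact hIP (star0 _ (primePart_le s X) hne' hJP)
    apply hcon s hs
    rw [← heq]
    exact isPGroup_primePart s X
  have hsp : s.Prime := hsF.out
  have hs2 : s ≠ 2 := by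
    rintro rfl
    obtain ⟨k, hk⟩ := IsPGroup.iff_card.mp hXs
    have hk0 : k ≠ 0 := by
      rintro rfl
      rw [pow_zero] at hk
      exact hXne (Subgroup.eq_bot_of_card_eq X hk)
    rw [hk] at hXodd
    exact (Nat.not_even_iff_odd.mpr hXodd) ((Nat.even_pow' hk0).mpr even_two)
  have hIcop : ∀ i ∈ I, (orderOf i).Coprime s := fun i hi =>
    coprime_orderOf_of_sq (hJ2 i (hIJ hi)) hsp hs2
  -- (★)
  have star : ∀ Y : Subgroup S, Y ≤ X → Y ≠ X → J ≤ Subgroup.normalizer (Y : Set S) →
      X ≤ Subgroup.centralizer (Y : Set S) := by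
    intro Y hYX hne hJY
    by_contra hcon
    have hIY := star0 Y hYX hne hJY
    set C := X ⊓ Subgroup.centralizer (Y : Set S) with hC
    have hCX : C ≤ X := inf_le_left
    have hCne : C ≠ X := by
      intro h
      apply hcon
      rw [← h]; exact inf_le_right
    have hJC : J ≤ Subgroup.normalizer (C : Set S) :=
      fun j hj => mem_normalizer_inf_centralizer' (hJX hj) (hJY hj)
    have hIC := star0 C hCX hCne hJC
    apply hIX
    intro i hi
    rw [Subgroup.mem_centralizer_iff]
    intro x hx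
    symm
    refine thompson_PxQ hXs (hXs.to_le hYX) (le_trans hYX Subgroup.le_normalizer)
      (hJX (hIJ hi)) (hIcop i hi) ?_ ?_ x hx
    · intro b hb
      have := hIY hi
      rw [Subgroup.mem_centralizer_iff] at this
      exact (this b hb).symm
    · intro u hu hub
      have huC : u ∈ C := by
        refine Subgroup.mem_inf.mpr ⟨hu, ?_⟩
        rw [Subgroup.mem_centralizer_iff]
        intro b hb
        exact hub b hb
      have := hIC hi
      rw [Subgroup.mem_centralizer_iff] at this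
      exact (this u huC).symm
  -- (ii) X is abelian
  have hXab : ∀ x ∈ X, ∀ y ∈ X, x * y = y * x := by
    by_contra hnab
    set Z := X ⊓ Subgroup.centralizer (X : Set S) with hZ
    have hZX : Z ≤ X := inf_le_left
    have hJZ : J ≤ Subgroup.normalizer (Z : Set S) :=
      fun j hj => mem_normalizer_inf_centralizer' (hJX hj) (hJX hj)
    have hXZ : X ≤ Subgroup.normalizer (Z : Set S) :=
      fun x hx => mem_normalizer_inf_centralizer' (Subgroup.le_normalizer hx) (Subgroup.le_normalizer hx)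
    have hZmem : ∀ z, z ∈ Z ↔ z ∈ X ∧ ∀ y ∈ X, y * z = z * y := by
      intro z
      rw [hZ, Subgroup.mem_inf, Subgroup.mem_centralizer_iff]
      rfl
    -- every proper J-invariant subgroup lies in Z
    have hprop : ∀ Y : Subgroup S, Y ≤ X → Y ≠ X → J ≤ Subgroup.normalizer (Y : Set S) → Y ≤ Z := by
      intro Y hYX hne hJY y hy
      rw [hZmem]
      refine ⟨hYX hy, fun x hx => ?_⟩
      have := star Y hYX hne hJY hx
      rw [Subgroup.mem_centralizer_iff] at this
      exact (this y hy).symm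
    have hD : (⁅X, X⁆ : Subgroup S) ≤ Z := by
      apply hprop
      · exact Subgroup.commutator_le_self X
      · exact (Group.IsSolvable.commutator_lt_of_ne_bot hXne).ne
      · exact fun j hj => mem_normalizer_commutator (hJX hj)
    have hcomm : ∀ x ∈ X, ∀ y ∈ X, x⁻¹ * y⁻¹ * x * y ∈ Z := by
      intro x hx y hy
      apply hD
      have := Subgroup.commutator_mem_commutator (X.inv_mem hx) (X.inv_mem hy)
      rw [commutatorElement_def] at this
      simpa using this
    have hmin : ∀ Y : Subgroup S, Z ≤ Y → Y ≤ X → J ≤ Subgroup.normalizer (Y : Set S) →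
        Y = Z ∨ Y = X := by
      intro Y hZY hYX hJY
      by_cases h : Y = X
      · exact Or.inr h
      · exact Or.inl (le_antisymm (hprop Y hYX h hJY) hZY)
    -- pick x ∈ X \ Z
    have hex : ∃ x ∈ X, x ∉ Z := by
      by_contra hcon
      push Not at hcon
      apply hnab
      intro x hx y hy
      have := (hZmem y).mp (hcon y hy)
      exact this.2 x hx
    obtain ⟨x, hx, hxZ⟩ := hex
    have hJY := sup_zpowers_invariant J X Z hJc hJ2 hZX hJX hJZ hXZ hcomm hXodd hmin x hx
    have hYX : Z ⊔ Subgroup.zpowers x ≤ X := sup_le hZX (by rw [Subgroup.zpowers_le]; exact hx)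
    rcases hmin _ le_sup_left hYX hJY with h | h
    · apply hxZ
      rw [← h]
      exact Subgroup.mem_sup_right (Subgroup.mem_zpowers x)
    · apply hxZ
      rw [hZmem]
      refine ⟨hx, ?_⟩
      have hle : Z ⊔ Subgroup.zpowers x ≤ Subgroup.centralizer ({x} : Set S) := by
        apply sup_le
        · intro z hz
          rw [Subgroup.mem_centralizer_iff]
          intro y hy
          rw [Set.mem_singleton_iff] at hy
          rw [hy]
          exact ((hZmem z).mp hz).2 x hx
        · rw [Subgroup.zpowers_le, Subgroup.mem_centralizer_iff]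
          intro y hy
          rw [Set.mem_singleton_iff] at hy
          rw [hy]
      intro y hy
      have : y ∈ Subgroup.centralizer ({x} : Set S) := hle (h ▸ hy)
      rw [Subgroup.mem_centralizer_iff] at this
      exact (this x rfl).symm
  -- (iii)
  obtain ⟨t, htI, htX⟩ : ∃ t ∈ I, t ∉ Subgroup.centralizer (X : Set S) := by
    by_contra hcon
    push Not at hcon
    exact hIX hcon
  have htJ : t ∈ J := hIJ htI
  have htt : t * t = 1 := hJ2 t htJ
  have htinv : t⁻¹ = t := by
    rw [inv_eq_iff_mul_eq_one]; exact htt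
  let Xm : Subgroup S :=
    { carrier := {x | x ∈ X ∧ t * x * t⁻¹ = x⁻¹}
      one_mem' := ⟨X.one_mem, by simp⟩
      mul_mem' := by
        rintro x y ⟨hx, hx'⟩ ⟨hy, hy'⟩
        refine ⟨X.mul_mem hx hy, ?_⟩
        have : t * (x * y) * t⁻¹ = (t * x * t⁻¹) * (t * y * t⁻¹) := by group
        rw [this, hx', hy', mul_inv_rev]
        exact hXab _ (X.inv_mem hx) _ (X.inv_mem hy)
      inv_mem' := by
        rintro x ⟨hx, hx'⟩
        refine ⟨X.inv_mem hx, ?_⟩
        have : t * x⁻¹ * t⁻¹ = (t * x * t⁻¹)⁻¹ := by group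
        rw [this, hx'] }
  have hXmX : Xm ≤ X := fun x hx => hx.1
  have hJXm : J ≤ Subgroup.normalizer (Xm : Set S) := by
    intro k hk
    apply Subgroup.mem_normalizer_fintype
    rintro x ⟨hx, hx'⟩
    refine ⟨conj_mem_of_mem_normalizer (hJX hk) hx, ?_⟩
    have hkt : t * k = k * t := hJc t htJ k hk
    calc t * (k * x * k⁻¹) * t⁻¹ = (t * k) * x * (t * k)⁻¹ := by group
      _ = (k * t) * x * (k * t)⁻¹ := by rw [hkt]
      _ = k * (t * x * t⁻¹) * k⁻¹ := by group
      _ = (k * x * k⁻¹)⁻¹ := by rw [hx']; group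
  have hXmeq : Xm = X := by
    by_contra hne
    have hIXm := star0 Xm hXmX hne hJXm
    -- an element not centralized by t
    apply htX
    rw [Subgroup.mem_centralizer_iff]
    intro u hu
    by_contra hut
    set v := u⁻¹ * (t * u * t⁻¹) with hv
    have htu : t * u * t⁻¹ ∈ X := conj_mem_of_mem_normalizer (hJX htJ) hu
    have hvX : v ∈ X := X.mul_mem (X.inv_mem hu) htu
    have hvm : v ∈ Xm := by
      refine ⟨hvX, ?_⟩
      have h1 : t * v * t⁻¹ = (t * u * t⁻¹)⁻¹ * ((t * t) * u * (t * t)⁻¹) := by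
        rw [hv]; group
      rw [h1, htt, hv]
      group
    have htv := hIXm htI
    rw [Subgroup.mem_centralizer_iff] at htv
    have h2 : t * v * t⁻¹ = v := by
      have := htv v hvm
      calc t * v * t⁻¹ = (t * v) * t⁻¹ := rfl
        _ = (v * t) * t⁻¹ := by rw [← this]
        _ = v := by group
    have h3 : v⁻¹ = v := by rw [← hvm.2, h2]
    have h4 : v * v = 1 := by
      calc v * v = v⁻¹ * v := by rw [h3]
        _ = 1 := by group
    have h5 : v ∈ (⊥ : Subgroup S) :=
      mem_of_sq_mem_of_odd hXodd hvX (by rw [h4]; exact Subgroup.one_mem _)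
    rw [Subgroup.mem_bot, hv] at h5
    apply hut
    have : t * u * t⁻¹ = u := by
      calc t * u * t⁻¹ = u * (u⁻¹ * (t * u * t⁻¹)) := by group
        _ = u := by rw [h5, mul_one]
    calc u * t = (t * u * t⁻¹) * t := by rw [this]
      _ = t * u := by group
  have htinvX : ∀ x ∈ X, t * x * t⁻¹ = x⁻¹ := by
    intro x hx
    have : x ∈ Xm := by rw [hXmeq]; exact hx
    exact this.2
  -- J-invariant subgroups of X are trivial or X
  have hmin : ∀ Y : Subgroup S, (⊥ : Subgroup S) ≤ Y → Y ≤ X → J ≤ Subgroup.normalizer (Y : Set S) →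
      Y = ⊥ ∨ Y = X := by
    intro Y _ hYX hJY
    by_cases h : Y = X
    · exact Or.inr h
    · left
      have hIY := star0 Y hYX h hJY
      rw [eq_bot_iff]
      intro y hy
      have htY := hIY htI
      rw [Subgroup.mem_centralizer_iff] at htY
      have h1 : t * y * t⁻¹ = y := by
        calc t * y * t⁻¹ = (y * t) * t⁻¹ := by rw [htY y hy]
          _ = y := by group
      have h2 : y⁻¹ = y := by rw [← htinvX y (hYX hy), h1]
      have h3 : y * y = 1 := by
        calc y * y = y⁻¹ * y := by rw [h2]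
          _ = 1 := by group
      exact mem_of_sq_mem_of_odd hXodd (hYX hy) (by rw [h3]; exact Subgroup.one_mem _)
  -- an element of prime order
  obtain ⟨k, hk⟩ := IsPGroup.iff_card.mp hXs
  have hk0 : k ≠ 0 := by
    rintro rfl
    rw [pow_zero] at hk
    exact hXne (Subgroup.eq_bot_of_card_eq X hk)
  have hsdvd : s ∣ Nat.card X := by rw [hk]; exact dvd_pow_self s hk0
  obtain ⟨x, hxord⟩ := exists_prime_orderOf_dvd_card' s hsdvd
  have hxX : (x : S) ∈ X := x.2
  have hxord' : orderOf (x : S) = s := by rw [Subgroup.orderOf_coe]; exact hxord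
  have hJY := sup_zpowers_invariant J X ⊥ hJc hJ2 bot_le hJX
    (fun j _ => by
      rw [Subgroup.normalizer_eq_top_iff.mpr (inferInstance : (⊥ : Subgroup S).Normal)]
      exact Subgroup.mem_top j)
    (fun y _ => by
      rw [Subgroup.normalizer_eq_top_iff.mpr (inferInstance : (⊥ : Subgroup S).Normal)]
      exact Subgroup.mem_top y)
    (fun a ha b hb => by
      rw [Subgroup.mem_bot]
      have := hXab a⁻¹ (X.inv_mem ha) b⁻¹ (X.inv_mem hb)
      calc a⁻¹ * b⁻¹ * a * b = (b⁻¹ * a⁻¹) * a * b := by rw [this]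
        _ = 1 := by group)
    hXodd hmin (x : S) hxX
  rw [bot_sup_eq] at hJY
  have hzX : Subgroup.zpowers (x : S) ≤ X := by rw [Subgroup.zpowers_le]; exact hxX
  have hzeq : Subgroup.zpowers (x : S) = X := by
    rcases hmin _ bot_le hzX hJY with h | h
    · exfalso
      have : (x : S) ∈ (⊥ : Subgroup S) := by rw [← h]; exact Subgroup.mem_zpowers _
      rw [Subgroup.mem_bot] at this
      rw [this, orderOf_one] at hxord'
      exact hsp.one_lt.ne hxord'
    · exact h
  refine ⟨X, hXF, ?_, hJX, hIX⟩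
  rw [← hzeq, Nat.card_zpowers, hxord']
  exact hsp


/-- Commuting subgroups with trivial intersection: the join has order the product of the orders. -/
theorem card_sup_of_commute_of_disjoint {A B : Subgroup S}
    (hcomm : ∀ a ∈ A, ∀ b ∈ B, a * b = b * a) (hdisj : A ⊓ B = ⊥) :
    Nat.card ↥(A ⊔ B) = Nat.card A * Nat.card B := by
  have comm : ∀ (a : A) (b : B), Commute (A.subtype a) (B.subtype b) :=
    fun a b => hcomm a a.2 b b.2
  have hinj : Function.Injective (MonoidHom.noncommCoprod A.subtype B.subtype comm) := by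
    rw [MonoidHom.noncommCoprod_injective]
    refine ⟨A.subtype_injective, B.subtype_injective, ?_⟩
    rw [Subgroup.range_subtype, Subgroup.range_subtype, disjoint_iff]
    exact hdisj
  have hrange : (MonoidHom.noncommCoprod A.subtype B.subtype comm).range = A ⊔ B := by
    rw [MonoidHom.noncommCoprod_range, Subgroup.range_subtype, Subgroup.range_subtype]
  rw [← hrange, ← Nat.card_prod]
  exact (Nat.card_congr (MonoidHom.ofInjective hinj).toEquiv).symm

/-- An involution normalizing a subgroup of prime order centralizes or inverts it. -/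
theorem centralizes_or_inverts {B : Subgroup S} (hB : (Nat.card B).Prime) {i : S} (hii : i * i = 1)
    (hiB : i ∈ Subgroup.normalizer (B : Set S)) :
    (∀ b ∈ B, i * b = b * i) ∨ (∀ b ∈ B, i * b * i⁻¹ = b⁻¹) := by
  have : Fact (Nat.card B).Prime := ⟨hB⟩
  have hfin : Finite B := Nat.finite_of_card_ne_zero hB.ne_zero
  have hcyc : IsCyclic B := isCyclic_of_prime_card rfl
  have hab : ∀ a ∈ B, ∀ b ∈ B, a * b = b * a := by
    intro a ha b hb
    let _ := IsCyclic.commGroup (α := ↥B)
    have := mul_comm (⟨a, ha⟩ : B) ⟨b, hb⟩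
    exact congrArg Subtype.val this
  set C := B ⊓ Subgroup.centralizer ({i} : Set S) with hC
  have hCB : C ≤ B := inf_le_left
  have hdvd : Nat.card C ∣ Nat.card B := Subgroup.card_dvd_of_le hCB
  rcases (Nat.dvd_prime hB).mp hdvd with h1 | h1
  · right
    have hCbot : C = ⊥ := Subgroup.eq_bot_of_card_eq C h1
    intro b hb
    have hb' : i * b * i⁻¹ ∈ B := conj_mem_of_mem_normalizer hiB hb
    have hc : b * (i * b * i⁻¹) ∈ C := by
      refine Subgroup.mem_inf.mpr ⟨B.mul_mem hb hb', ?_⟩
      rw [Subgroup.mem_centralizer_iff]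
      intro y hy
      rw [Set.mem_singleton_iff] at hy
      rw [hy]
      have h2 : i * (b * (i * b * i⁻¹)) = ((i * b * i⁻¹) * ((i * i) * b * (i * i)⁻¹)) * i := by group
      rw [h2, hii]
      simp only [one_mul, inv_one, mul_one]
      rw [hab _ hb' _ hb]
    rw [hCbot, Subgroup.mem_bot] at hc
    exact (eq_inv_of_mul_eq_one_right hc)
  · left
    have hCeq : C = B := Subgroup.eq_of_le_of_card_ge hCB (le_of_eq h1.symm)
    intro b hb
    have : b ∈ C := by rw [hCeq]; exact hb
    have := (Subgroup.mem_inf.mp this).2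
    rw [Subgroup.mem_centralizer_iff] at this
    exact this i rfl

/-- The centralizer of an invariant subgroup of prime order has index at most two in an elementary
abelian `2`-group. -/
theorem relIndex_centralizer_le_two [Finite S] {I B : Subgroup S} (hI2 : ∀ a ∈ I, a * a = 1)
    (hB : (Nat.card B).Prime) (hIB : I ≤ Subgroup.normalizer (B : Set S)) :
    (Subgroup.centralizer (B : Set S)).relIndex I ≤ 2 := by
  by_cases h : I ≤ Subgroup.centralizer (B : Set S)
  · rw [Subgroup.relIndex_eq_one.mpr h]; norm_num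
  · obtain ⟨a, haI, haC⟩ : ∃ a ∈ I, a ∉ Subgroup.centralizer (B : Set S) := by
      by_contra hcon
      push Not at hcon
      exact h hcon
    have hinv : ∀ c ∈ I, c ∉ Subgroup.centralizer (B : Set S) → ∀ b ∈ B, c * b * c⁻¹ = b⁻¹ := by
      intro c hc hcC
      rcases centralizes_or_inverts hB (hI2 c hc) (hIB hc) with h1 | h1
      · exfalso
        apply hcC
        rw [Subgroup.mem_centralizer_iff]
        intro b hb
        exact (h1 b hb).symm
      · exact h1
    apply le_of_eq
    rw [Subgroup.relIndex_eq_two_iff]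
    refine ⟨a, haI, fun b hbI => ?_⟩
    by_cases hb : b ∈ Subgroup.centralizer (B : Set S)
    · right
      refine ⟨hb, fun hba => ?_⟩
      apply haC
      have : a = b⁻¹ * (b * a) := by group
      rw [this]
      exact Subgroup.mul_mem _ (Subgroup.inv_mem _ hb) hba
    · left
      refine ⟨?_, hb⟩
      rw [Subgroup.mem_centralizer_iff]
      intro x hx
      have h1 := hinv a haI haC x hx
      have h2 := hinv b hbI hb x⁻¹ (B.inv_mem hx)
      rw [inv_inv] at h2
      calc x * (b * a) = (b * x⁻¹ * b⁻¹) * (b * a) := by rw [h2]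
        _ = b * (a * x * a⁻¹) * a := by rw [h1]; group
        _ = b * a * x := by group


theorem iInf_centralizer_le {ι : Type*} (f : ι → Subgroup S) :
    (⨅ i, Subgroup.centralizer ((f i : Subgroup S) : Set S)) ≤
      Subgroup.centralizer ((⨆ i, f i : Subgroup S) : Set S) := by
  intro x hx
  rw [Subgroup.mem_iInf] at hx
  rw [Subgroup.mem_centralizer_iff]
  intro y hy
  have hle : (⨆ i, f i) ≤ Subgroup.centralizer ({x} : Set S) := by
    apply iSup_le
    intro i z hz
    rw [Subgroup.mem_centralizer_iff]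
    intro w hw
    rw [Set.mem_singleton_iff] at hw
    rw [hw]
    have := hx i
    rw [Subgroup.mem_centralizer_iff] at this
    exact (this z hz).symm
  have := hle hy
  rw [Subgroup.mem_centralizer_iff] at this
  exact (this x rfl).symm

/-- `n` invariant subgroups of prime order cut out a subgroup of index at most `2 ^ n`. -/
theorem relIndex_centralizer_iSup_le [Finite S] {I : Subgroup S} (hI2 : ∀ a ∈ I, a * a = 1) {n : ℕ}
    (f : Fin n → Subgroup S) (hf : ∀ i, (Nat.card (f i)).Prime)
    (hIf : ∀ i, I ≤ Subgroup.normalizer ((f i : Subgroup S) : Set S)) :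
    (Subgroup.centralizer ((⨆ i, f i : Subgroup S) : Set S)).relIndex I ≤ 2 ^ n := by
  have h1 := Subgroup.relIndex_dvd_of_le_left I (iInf_centralizer_le f)
  have h2 : (⨅ i, Subgroup.centralizer ((f i : Subgroup S) : Set S)).relIndex I ≤
      ∏ _i : Fin n, 2 := by
    refine le_trans (Subgroup.relIndex_iInf_le _) ?_
    apply Finset.prod_le_prod'
    intro i _
    exact relIndex_centralizer_le_two hI2 (hf i) (hIf i)
  rw [Finset.prod_const, Finset.card_univ, Fintype.card_fin] at h2
  have hpos : 0 < (⨅ i, Subgroup.centralizer ((f i : Subgroup S) : Set S)).relIndex I := by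
    rw [Subgroup.relIndex]
    exact Nat.pos_of_ne_zero Subgroup.index_ne_zero_of_finite
  exact le_trans (Nat.le_of_dvd hpos h1) h2


/-- In a nilpotent subgroup, primary parts for different primes commute. -/
theorem commute_primePart_of_ne (F : Subgroup S) [Finite F] (hF : Group.IsNilpotent ↥F)
    (s r : ℕ) [hs : Fact s.Prime] [hr : Fact r.Prime] (hsr : s ≠ r) {u a : S}
    (hu : u ∈ primePart s F) (ha : a ∈ primePart r F) : u * a = a * u := by
  have huF : u ∈ F := primePart_le s F hu
  have haF : a ∈ F := primePart_le r F ha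
  have h1 : u * a * u⁻¹ * a⁻¹ ∈ primePart s F := by
    have : u * a * u⁻¹ * a⁻¹ = u * (a * u⁻¹ * a⁻¹) := by group
    rw [this]
    refine Subgroup.mul_mem _ hu ?_
    exact conj_mem_of_mem_normalizer
      (mem_normalizer_primePart s F hF (Subgroup.le_normalizer haF)) (Subgroup.inv_mem _ hu)
  have h2 : u * a * u⁻¹ * a⁻¹ ∈ primePart r F := by
    refine Subgroup.mul_mem _ ?_ (Subgroup.inv_mem _ ha)
    exact conj_mem_of_mem_normalizer
      (mem_normalizer_primePart r F hF (Subgroup.le_normalizer huF)) ha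
  obtain ⟨i, hi⟩ := (isPGroup_primePart s F) ⟨_, h1⟩
  obtain ⟨j, hj⟩ := (isPGroup_primePart r F) ⟨_, h2⟩
  have hi' : (u * a * u⁻¹ * a⁻¹) ^ s ^ i = 1 := by simpa using congrArg Subtype.val hi
  have hj' : (u * a * u⁻¹ * a⁻¹) ^ r ^ j = 1 := by simpa using congrArg Subtype.val hj
  have hd1 := orderOf_dvd_of_pow_eq_one hi'
  have hd2 := orderOf_dvd_of_pow_eq_one hj'
  have hcop : Nat.Coprime (s ^ i) (r ^ j) :=
    Nat.Coprime.pow i j ((Nat.coprime_primes hs.out hr.out).mpr hsr)
  have h3 : orderOf (u * a * u⁻¹ * a⁻¹) = 1 :=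
    Nat.eq_one_of_dvd_coprimes hcop hd1 hd2
  rw [orderOf_eq_one_iff] at h3
  calc u * a = (u * a * u⁻¹ * a⁻¹) * (a * u) := by group
    _ = a * u := by rw [h3, one_mul]

/-- **Core theorem.** -/
theorem exists_independent_family [Finite S] [Group.IsSolvable S] (J : Subgroup S)
    (hJc : ∀ a ∈ J, ∀ b ∈ J, a * b = b * a) (hJ2 : ∀ a ∈ J, a * a = 1) :
    ∀ (n : ℕ) (I F : Subgroup S), I ≤ J → J ≤ Subgroup.normalizer (F : Set S) →
      Group.IsNilpotent ↥F → Odd (Nat.card F) → Nat.card I = 2 ^ n →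
      I ⊓ Subgroup.centralizer (F : Set S) = ⊥ →
      ∃ f : Fin n → Subgroup S, (∀ i, (Nat.card ↥(f i)).Prime) ∧ (∀ i, f i ≤ F) ∧
        (∀ i, J ≤ Subgroup.normalizer ((f i) : Set S)) ∧
        (∀ i j, i ≠ j → ∀ a ∈ f i, ∀ b ∈ f j, a * b = b * a) ∧
        Nat.card ↥(⨆ i, f i) = ∏ i, Nat.card ↥(f i) ∧
        I ⊓ Subgroup.centralizer ((⨆ i, f i : Subgroup S) : Set S) = ⊥ := by
  intro n
  induction n with
  | zero =>
    intro I F _ _ _ _ hIcard _
    refine ⟨fun i => i.elim0, fun i => i.elim0, fun i => i.elim0, fun i => i.elim0,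
      fun i => i.elim0, ?_, ?_⟩
    · rw [iSup_of_empty, Subgroup.card_bot]; simp
    · rw [pow_zero] at hIcard
      rw [Subgroup.eq_bot_of_card_eq I hIcard, bot_inf_eq]
  | succ n ih =>
    intro I F hIJ hJF hFnil hFodd hIcard hIF
    have hI2 : ∀ a ∈ I, a * a = 1 := fun a ha => hJ2 a (hIJ ha)
    have hIne : ¬ I ≤ Subgroup.centralizer (F : Set S) := by
      intro hle
      rw [inf_eq_left.mpr hle] at hIF
      rw [hIF, Subgroup.card_bot] at hIcard
      have : 2 ≤ 2 ^ (n + 1) := by
        calc 2 = 2 ^ 1 := (pow_one 2).symm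
          _ ≤ 2 ^ (n + 1) := Nat.pow_le_pow_right (by norm_num) (by omega)
      omega
    obtain ⟨A, hAF, hAp, hJA, hIA⟩ :=
      exists_invariant_prime_order J I F hJc hJ2 hIJ hJF hFnil hFodd hIne
    set r := Nat.card A with hr
    have hrF : Fact r.Prime := ⟨hAp⟩
    have hAfin : Finite A := Nat.finite_of_card_ne_zero hAp.ne_zero
    have hr2 : r ≠ 2 := by
      intro h2
      have hdvd : r ∣ Nat.card F := Subgroup.card_dvd_of_le hAF
      rw [h2] at hdvd
      exact (Nat.not_even_iff_odd.mpr hFodd) (even_iff_two_dvd.mpr hdvd)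
    set I₁ := I ⊓ Subgroup.centralizer (A : Set S) with hI₁
    have hI₁I : I₁ ≤ I := inf_le_left
    -- card I₁ = 2 ^ n
    have hrel : (Subgroup.centralizer (A : Set S)).relIndex I = 2 := by
      have h1 := relIndex_centralizer_le_two hI2 hAp (le_trans hIJ hJA)
      have h2 : (Subgroup.centralizer (A : Set S)).relIndex I ≠ 1 := by
        rw [Ne, Subgroup.relIndex_eq_one]; exact hIA
      have h3 : (Subgroup.centralizer (A : Set S)).relIndex I ≠ 0 := by
        rw [Subgroup.relIndex]; exact Subgroup.index_ne_zero_of_finite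
      omega
    have hI₁card : Nat.card I₁ = 2 ^ n := by
      have h1 := Subgroup.relIndex_mul_relIndex ⊥ I₁ I bot_le hI₁I
      rw [Subgroup.relIndex_bot_left, Subgroup.relIndex_bot_left, hI₁,
        Subgroup.inf_relIndex_left, hrel, hIcard, pow_succ] at h1
      exact Nat.eq_of_mul_eq_mul_right (by norm_num) h1
    set F₁ := F ⊓ Subgroup.centralizer (A : Set S) with hF₁
    have hF₁F : F₁ ≤ F := inf_le_left
    have hF₁nil : Group.IsNilpotent ↥F₁ := Cfsg.Agent.Helper22.isNilpotent_of_le hF₁F hFnil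
    have hF₁odd : Odd (Nat.card F₁) := Odd.of_dvd_nat hFodd (Subgroup.card_dvd_of_le hF₁F)
    have hJF₁ : J ≤ Subgroup.normalizer (F₁ : Set S) :=
      fun j hj => mem_normalizer_inf_centralizer' (hJF hj) (hJA hj)
    -- A lies in the r-part of F
    have hApart : A ≤ primePart r F := by
      intro a ha
      apply mem_primePart_of_pow r F hFnil (hAF ha) (j := 1)
      rw [pow_one]
      have := orderOf_dvd_card_of_mem ha
      exact orderOf_dvd_iff_pow_eq_one.mp this
    have hAr : IsPGroup r A := IsPGroup.of_card (n := 1) (by rw [pow_one])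
    -- Thompson: I₁ acts faithfully on F₁
    have hI₁F₁ : I₁ ⊓ Subgroup.centralizer (F₁ : Set S) = ⊥ := by
      rw [eq_bot_iff]
      intro k hk
      obtain ⟨hkI₁, hkF₁⟩ := Subgroup.mem_inf.mp hk
      obtain ⟨hkI, hkA⟩ := Subgroup.mem_inf.mp hkI₁
      rw [Subgroup.mem_centralizer_iff] at hkA hkF₁
      rw [← hIF]
      refine Subgroup.mem_inf.mpr ⟨hkI, ?_⟩
      rw [Subgroup.mem_centralizer_iff]
      intro x hx
      symm
      refine commute_of_commute_primePart F hFnil ?_ x hx
      intro s hs u hu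
      by_cases hsr : s = r
      · subst hsr
        have hsF : hs = hrF := Subsingleton.elim _ _
        subst hsF
        refine thompson_PxQ (isPGroup_primePart _ F) hAr ?_ ?_ ?_ ?_ ?_ u hu
        · intro a ha
          exact mem_normalizer_primePart _ F hFnil (Subgroup.le_normalizer (hAF ha))
        · exact mem_normalizer_primePart _ F hFnil (hJF (hIJ hkI))
        · exact coprime_orderOf_of_sq (hI2 k hkI) hAp hr2
        · intro b hb
          exact (hkA b hb).symm
        · intro v hv hvA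
          have hvF₁ : v ∈ F₁ := by
            refine Subgroup.mem_inf.mpr ⟨primePart_le _ F hv, ?_⟩
            rw [Subgroup.mem_centralizer_iff]
            exact hvA
          exact (hkF₁ v hvF₁).symm
      · have huF₁ : u ∈ F₁ := by
          refine Subgroup.mem_inf.mpr ⟨primePart_le s F hu, ?_⟩
          rw [Subgroup.mem_centralizer_iff]
          intro a ha
          exact (commute_primePart_of_ne F hFnil s r hsr hu (hApart ha)).symm
        exact (hkF₁ u huF₁).symm
    obtain ⟨f', hf'p, hf'F, hf'J, hf'c, hf'card, hf'I⟩ :=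
      ih I₁ F₁ (le_trans hI₁I hIJ) hJF₁ hF₁nil hF₁odd hI₁card hI₁F₁
    set A' : Subgroup S := ⨆ i, f' i with hA'
    have hA'F₁ : A' ≤ F₁ := iSup_le hf'F
    have hcommAA' : ∀ a ∈ A, ∀ b ∈ A', a * b = b * a := by
      intro a ha b hb
      have := (Subgroup.mem_inf.mp (hA'F₁ hb)).2
      rw [Subgroup.mem_centralizer_iff] at this
      exact this a ha
    -- A ⊓ A' = ⊥
    have hdisj : A ⊓ A' = ⊥ := by
      have hdvd : Nat.card ↥(A ⊓ A') ∣ r := Subgroup.card_dvd_of_le inf_le_left
      rcases (Nat.dvd_prime hAp).mp hdvd with h1 | h1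
      · exact Subgroup.eq_bot_of_card_eq _ h1
      · exfalso
        have hAA' : A ≤ A' := by
          have : A ⊓ A' = A := Subgroup.eq_of_le_of_card_ge inf_le_left (le_of_eq h1.symm)
          rw [← this]; exact inf_le_right
        have hIbot : I ⊓ Subgroup.centralizer (A' : Set S) = ⊥ := by
          rw [eq_bot_iff, ← hf'I]
          intro x hx
          obtain ⟨hxI, hxA'⟩ := Subgroup.mem_inf.mp hx
          refine Subgroup.mem_inf.mpr ⟨Subgroup.mem_inf.mpr ⟨hxI, ?_⟩, hxA'⟩
          exact Subgroup.centralizer_le (SetLike.coe_subset_coe.mpr hAA') hxA'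
        have h2 := relIndex_centralizer_iSup_le hI2 f' hf'p (fun i => le_trans hIJ (hf'J i))
        rw [← Subgroup.inf_relIndex_left, hIbot, Subgroup.relIndex_bot_left, hIcard] at h2
        have : 2 ^ n < 2 ^ (n + 1) := Nat.pow_lt_pow_right (by norm_num) (by omega)
        omega
    -- the new family
    refine ⟨Fin.cons (α := fun _ => Subgroup S) A f', ?_, ?_, ?_, ?_, ?_, ?_⟩
    · intro i
      refine Fin.cases ?_ (fun i => ?_) i
      · rw [Fin.cons_zero]; exact hAp
      · rw [Fin.cons_succ]; exact hf'p i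
    · intro i
      refine Fin.cases ?_ (fun i => ?_) i
      · rw [Fin.cons_zero]; exact hAF
      · rw [Fin.cons_succ]; exact le_trans (hf'F i) hF₁F
    · intro i
      refine Fin.cases ?_ (fun i => ?_) i
      · rw [Fin.cons_zero]; exact hJA
      · rw [Fin.cons_succ]; exact hf'J i
    · intro i j
      refine Fin.cases ?_ (fun i => ?_) i
      · refine Fin.cases ?_ (fun j => ?_) j
        · intro h; exact absurd rfl h
        · intro _ a ha b hb
          rw [Fin.cons_zero] at ha
          rw [Fin.cons_succ] at hb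
          exact hcommAA' a ha b (le_iSup f' j hb)
      · refine Fin.cases ?_ (fun j => ?_) j
        · intro _ a ha b hb
          rw [Fin.cons_succ] at ha
          rw [Fin.cons_zero] at hb
          exact (hcommAA' b hb a (le_iSup f' i ha)).symm
        · intro hij a ha b hb
          rw [Fin.cons_succ] at ha hb
          exact hf'c i j (fun h => hij (by rw [h])) a ha b hb
    · have hsup : (⨆ i, (Fin.cons (α := fun _ => Subgroup S) A f' : Fin (n + 1) → Subgroup S) i) =
          A ⊔ A' := by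
        apply le_antisymm
        · apply iSup_le
          intro i
          refine Fin.cases ?_ (fun i => ?_) i
          · rw [Fin.cons_zero]; exact le_sup_left
          · rw [Fin.cons_succ]; exact le_trans (le_iSup f' i) le_sup_right
        · apply sup_le
          · have := le_iSup (Fin.cons (α := fun _ => Subgroup S) A f' : Fin (n + 1) → Subgroup S) 0
            rwa [Fin.cons_zero] at this
          · apply iSup_le
            intro i
            have := le_iSup (Fin.cons (α := fun _ => Subgroup S) A f' : Fin (n + 1) → Subgroup S) i.succ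
            rwa [Fin.cons_succ] at this
      rw [hsup, card_sup_of_commute_of_disjoint hcommAA' hdisj, Fin.prod_univ_succ, hf'card]
      simp only [Fin.cons_zero, Fin.cons_succ]
    · have hsup : A ⊔ A' ≤
          (⨆ i, (Fin.cons (α := fun _ => Subgroup S) A f' : Fin (n + 1) → Subgroup S) i) := by
        apply sup_le
        · have := le_iSup (Fin.cons (α := fun _ => Subgroup S) A f' : Fin (n + 1) → Subgroup S) 0
          rwa [Fin.cons_zero] at this
        · apply iSup_le
          intro i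
          have := le_iSup (Fin.cons (α := fun _ => Subgroup S) A f' : Fin (n + 1) → Subgroup S) i.succ
          rwa [Fin.cons_succ] at this
      rw [eq_bot_iff, ← hf'I]
      intro x hx
      obtain ⟨hxI, hxC⟩ := Subgroup.mem_inf.mp hx
      have hxC' := Subgroup.centralizer_le (SetLike.coe_subset_coe.mpr hsup) hxC
      have hxA : x ∈ Subgroup.centralizer (A : Set S) :=
        Subgroup.centralizer_le (SetLike.coe_subset_coe.mpr le_sup_left) hxC'
      have hxA' : x ∈ Subgroup.centralizer (A' : Set S) :=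
        Subgroup.centralizer_le (SetLike.coe_subset_coe.mpr le_sup_right) hxC'
      exact Subgroup.mem_inf.mpr ⟨Subgroup.mem_inf.mpr ⟨hxI, hxA⟩, hxA'⟩

end Cfsg.Agent.Helper24
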