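import Mathlib
import Cfsg.Agent.Helper34.FratLinDefs

/-!
# Piece (ARITH) of S4188 (helper34): the arithmetic of the bound functions `f3`, `f5`
-/

set_option autoImplicit false

open Cfsg.Agent.Helper34.FratLin

namespace Cfsg.Agent.Helper24.FratLin

theorem f5_add (a b : ℕ) (ha : 1 ≤ a) (hb : 1 ≤ b) : f5 a + f5 b ≤ f5 (a + b) := by
  unfold f5
  omega

theorem f5_A (m : ℕ) (hm : 1 ≤ m) : 1 + 2 * f5 m ≤ f5 (2 * m) := by
  unfold f5
  omega

theorem f5_B (n : ℕ) (hn : 2 ≤ n) : 3 ≤ f5 n := by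
  unfold f5
  omega

theorem f5_one : f5 1 = 1 := by
  unfold f5
  norm_num

theorem f3_add (a b : ℕ) (ha : 1 ≤ a) (hb : 1 ≤ b) : f3 a + f3 b ≤ f3 (a + b) := by
  unfold f3
  split_ifs <;> omega

theorem f3_A (m : ℕ) (hm : 2 ≤ m) : 1 + 2 * f3 m ≤ f3 (2 * m) := by
  unfold f3
  split_ifs <;> omega

theorem f3_B (n : ℕ) (hn : 3 ≤ n) : 3 ≤ f3 n := by
  unfold f3
  split_ifs <;> omega

theorem f3_one : f3 1 = 1 := by
  unfold f3
  norm_num

theorem f3_two : f3 2 = 2 := by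
  unfold f3
  norm_num

theorem f3_add_two (n : ℕ) (hn : 2 ≤ n) : f3 (n + 2) = f3 n + 3 := by
  unfold f3
  split_ifs <;> omega

theorem two_pow_f3_le_aux (n : ℕ) :
    2 ^ f3 (n + 2) ≤ 3 ^ (n + 2) - 1 ∧ 2 ^ f3 (n + 3) ≤ 3 ^ (n + 3) - 1 := by
  induction n with
  | zero =>
    refine ⟨?_, ?_⟩
    · have : f3 2 = 2 := f3_two
      rw [Nat.zero_add, this]
      norm_num
    · have : f3 3 = 3 := by
        unfold f3
        norm_num
      rw [Nat.zero_add, this]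
      norm_num
  | succ n ih =>
    refine ⟨ih.2, ?_⟩
    have h1 : f3 (n + 1 + 3) = f3 (n + 2) + 3 := by
      have := f3_add_two (n + 2) (by omega)
      rw [show n + 1 + 3 = n + 2 + 2 by ring]
      exact this
    have h2 : (3 : ℕ) ^ (n + 1 + 3) = 9 * 3 ^ (n + 2) := by
      rw [show n + 1 + 3 = (n + 2) + 2 by ring, pow_add]
      ring
    have h3 : 1 ≤ 3 ^ (n + 2) := Nat.one_le_pow _ _ (by norm_num)
    rw [h1, pow_add, h2]
    have h4 := ih.1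
    omega

theorem two_pow_f3_le (n : ℕ) (hn : 1 ≤ n) : 2 ^ f3 n ≤ 3 ^ n - 1 := by
  rcases Nat.lt_or_ge n 2 with h | h
  · have : n = 1 := by omega
    subst this
    rw [f3_one]
    norm_num
  · obtain ⟨k, rfl⟩ : ∃ k, n = k + 2 := ⟨n - 2, by omega⟩
    exact (two_pow_f3_le_aux k).1

theorem two_pow_f5_le (r n : ℕ) (hr : 5 ≤ r) (hn : 1 ≤ n) : 2 ^ f5 n ≤ r ^ n - 1 := by
  unfold f5
  have h1 : 2 ^ (2 * n - 1) * 2 = 4 ^ n := by
    rw [← pow_succ, show 2 * n - 1 + 1 = 2 * n by omega, pow_mul]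
    norm_num
  have h2 : 4 ^ n ≤ r ^ n := Nat.pow_le_pow_left (by omega) n
  have h3 : 4 ≤ 4 ^ n := by
    calc 4 = 4 ^ 1 := by norm_num
      _ ≤ 4 ^ n := Nat.pow_le_pow_right (by norm_num) hn
  omega

end Cfsg.Agent.Helper24.FratLin
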