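import Mathlib
import Cfsg.Agent.Helper34.FratLinDefs

/-!
# Piece (F4) of S4188 (helper34): central involutions of an irreducible faithful representation
act as `-1`; an involution conjugate to its negative has a fixed space of half the dimension.
-/

set_option autoImplicit false

open Cfsg.Agent.Helper34.FratLin

namespace Cfsg.Agent.Helper24.FratLin

section aux

variable {F Q V : Type*} [Field F] [Group Q] [AddCommGroup V] [Module F V]

theorem rho_mul_apply (ρ : Representation F Q V) (g h : Q) (v : V) :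
    ρ (g * h) v = ρ g (ρ h v) := by
  rw [map_mul]
  rfl

theorem rho_one_apply (ρ : Representation F Q V) (v : V) : ρ 1 v = v := by
  rw [map_one]
  rfl

theorem rho_injective (ρ : Representation F Q V) (g : Q) : Function.Injective (ρ g) := by
  intro v w h
  have := congrArg (ρ g⁻¹) h
  rwa [← rho_mul_apply, ← rho_mul_apply, inv_mul_cancel, rho_one_apply, rho_one_apply] at this

theorem mem_ker_sub_one (ρ : Representation F Q V) (a : Q) (v : V) :
    v ∈ LinearMap.ker (ρ a - 1) ↔ ρ a v = v := by
  rw [LinearMap.mem_ker, LinearMap.sub_apply, sub_eq_zero]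
  rfl

end aux

/-- (F4a) -/
theorem central_involution_eq_neg {F Q V : Type*} [Field F] [Group Q] [AddCommGroup V]
    [Module F V] (ρ : Representation F Q V) (hρ : Function.Injective ρ)
    (hirr : Irred ρ) (c : Q) (hc : c ∈ Subgroup.center Q) (hc2 : c ^ 2 = 1) (hc1 : c ≠ 1) :
    ∀ v : V, ρ c v = -v := by
  have hT2 : ∀ v : V, ρ c (ρ c v) = v := by
    intro v
    rw [← rho_mul_apply, ← pow_two, hc2, rho_one_apply]
  have hinv : ∀ g : Q, LinearMap.ker (ρ c - 1) ≤ (LinearMap.ker (ρ c - 1)).comap (ρ g) := by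
    intro g v hv
    rw [mem_ker_sub_one] at hv
    rw [Submodule.mem_comap, mem_ker_sub_one, ← rho_mul_apply,
      ← (Subgroup.mem_center_iff.mp hc g), rho_mul_apply, hv]
  rcases hirr _ hinv with h | h
  · intro v
    have hmem : v + ρ c v ∈ LinearMap.ker (ρ c - 1) := by
      rw [mem_ker_sub_one, map_add, hT2, add_comm]
    rw [h, Submodule.mem_bot] at hmem
    exact (eq_neg_of_add_eq_zero_right hmem)
  · exfalso
    apply hc1
    apply hρ
    rw [map_one]
    ext v
    have hmem : v ∈ LinearMap.ker (ρ c - 1) := by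
      rw [h]
      exact Submodule.mem_top
    rw [mem_ker_sub_one] at hmem
    rw [hmem]
    rfl

/-- (F4c) -/
theorem fixed_invariant {F Q V : Type*} [Field F] [Group Q] [AddCommGroup V]
    [Module F V] (ρ : Representation F Q V) (a g : Q) (hg : g * a = a * g) :
    LinearMap.ker (ρ a - 1) ≤ (LinearMap.ker (ρ a - 1)).comap (ρ g) := by
  intro v hv
  rw [mem_ker_sub_one] at hv
  rw [Submodule.mem_comap, mem_ker_sub_one, ← rho_mul_apply, ← hg, rho_mul_apply, hv]

/-- (F4b) -/
theorem two_mul_finrank_fixed {F Q V : Type*} [Field F] [Group Q] [AddCommGroup V]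
    [Module F V] [FiniteDimensional F V] (h2 : (2 : F) ≠ 0) (ρ : Representation F Q V)
    (a z x : Q) (ha : a ^ 2 = 1) (hz : ∀ v : V, ρ z v = -v) (hx : x * a * x⁻¹ = a * z) :
    2 * Module.finrank F (LinearMap.ker (ρ a - 1)) = Module.finrank F V := by
  have hA2 : ∀ v : V, ρ a (ρ a v) = v := by
    intro v
    rw [← rho_mul_apply, ← pow_two, ha, rho_one_apply]
  -- the anticommutation relation
  have hanti : ∀ v : V, ρ a (ρ x v) = -ρ x (ρ a v) := by
    intro v
    have h1 : x * a = a * z * x := by
      rw [← hx]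
      group
    have h3 : ρ (x * a) v = ρ (a * z * x) v := by rw [h1]
    rw [rho_mul_apply, rho_mul_apply, rho_mul_apply, hz, map_neg] at h3
    rw [h3, neg_neg]
  -- the `-1`-eigenspace
  have memM : ∀ v : V, v ∈ LinearMap.ker (ρ a + 1) ↔ ρ a v = -v := by
    intro v
    rw [LinearMap.mem_ker, LinearMap.add_apply, add_eq_zero_iff_eq_neg]
    rfl
  have hxP : ∀ v ∈ LinearMap.ker (ρ a - 1), ρ x v ∈ LinearMap.ker (ρ a + 1) := by
    intro v hv
    rw [mem_ker_sub_one] at hv
    rw [memM, hanti, hv]
  have hxM : ∀ v ∈ LinearMap.ker (ρ a + 1), ρ x v ∈ LinearMap.ker (ρ a - 1) := by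
    intro v hv
    rw [memM] at hv
    rw [mem_ker_sub_one, hanti, hv, map_neg, neg_neg]
  have hle1 : Module.finrank F (LinearMap.ker (ρ a - 1)) ≤
      Module.finrank F (LinearMap.ker (ρ a + 1)) := by
    apply LinearMap.finrank_le_finrank_of_injective (f := (ρ x).restrict hxP)
    intro v w h
    apply Subtype.ext
    apply rho_injective ρ x
    exact congrArg Subtype.val h
  have hle2 : Module.finrank F (LinearMap.ker (ρ a + 1)) ≤
      Module.finrank F (LinearMap.ker (ρ a - 1)) := by
    apply LinearMap.finrank_le_finrank_of_injective (f := (ρ x).restrict hxM)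
    intro v w h
    apply Subtype.ext
    apply rho_injective ρ x
    exact congrArg Subtype.val h
  have heq : Module.finrank F (LinearMap.ker (ρ a + 1)) =
      Module.finrank F (LinearMap.ker (ρ a - 1)) := le_antisymm hle2 hle1
  have hinf : LinearMap.ker (ρ a - 1) ⊓ LinearMap.ker (ρ a + 1) = ⊥ := by
    rw [eq_bot_iff]
    intro v hv
    obtain ⟨hv1, hv2⟩ := Submodule.mem_inf.mp hv
    rw [mem_ker_sub_one] at hv1
    rw [memM, hv1] at hv2
    rw [Submodule.mem_bot]
    have h3 : (2 : F) • v = 0 := by
      rw [two_smul]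
      nth_rewrite 1 [hv2]
      exact neg_add_cancel v
    exact (smul_eq_zero.mp h3).resolve_left h2
  have hsup : LinearMap.ker (ρ a - 1) ⊔ LinearMap.ker (ρ a + 1) = ⊤ := by
    rw [eq_top_iff]
    intro v _
    have hdec : v = (2 : F)⁻¹ • (v + ρ a v) + (2 : F)⁻¹ • (v - ρ a v) := by
      rw [← smul_add, add_add_sub_cancel, ← two_smul F v, smul_smul, inv_mul_cancel₀ h2, one_smul]
    rw [hdec]
    apply Submodule.add_mem_sup
    · apply Submodule.smul_mem
      rw [mem_ker_sub_one, map_add, hA2, add_comm]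
    · apply Submodule.smul_mem
      rw [memM, map_sub, hA2, neg_sub]
  have hdim := Submodule.finrank_sup_add_finrank_inf_eq (LinearMap.ker (ρ a - 1))
    (LinearMap.ker (ρ a + 1))
  rw [hinf, hsup, finrank_top, finrank_bot, add_zero, heq] at hdim
  omega

end Cfsg.Agent.Helper24.FratLin
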