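import Mathlib

/-!
# (NETA) for S3612: Netto coordinates of a Steiner triple system on `ZMod p` invariant under
translations and multiplication by non-zero squares
-/

set_option autoImplicit false
set_option linter.unusedVariables false

namespace Cfsg.Agent.Helper24.N2

/-- (NETA) Netto coordinates -/
theorem netto_coords {p : ℕ} [Fact p.Prime] (hp : 3 < p) (τ : ZMod p → ZMod p → ZMod p)
    (hne1 : ∀ i j, i ≠ j → τ i j ≠ i) (hne2 : ∀ i j, i ≠ j → τ i j ≠ j)
    (hsymm : ∀ i j, i ≠ j → τ i j = τ j i) (hinv : ∀ i j, i ≠ j → τ i (τ i j) = j)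
    (htr : ∀ i j, i ≠ j → τ (i + 1) (j + 1) = τ i j + 1)
    (hsq : ∀ s i j, s ≠ 0 → IsSquare s → i ≠ j → τ (s * i) (s * j) = s * τ i j) :
    ∃ n : ZMod p, n * n - n + 1 = 0 ∧ ¬ IsSquare n ∧
      ∀ t i, i ≠ 0 → τ t (t + i) = t + (if IsSquare i then n * i else n⁻¹ * i) := by
  classical
  have hpp : p.Prime := Fact.out
  have h3 : (3 : ZMod p) ≠ 0 := by
    intro h
    have h' : ((3 : ℕ) : ZMod p) = 0 := by exact_mod_cast h
    rw [ZMod.natCast_eq_zero_iff] at h'
    have := Nat.le_of_dvd (by norm_num) h'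
    omega
  -- translation by naturals
  have htrN : ∀ (k : ℕ) (i j : ZMod p), i ≠ j → τ (i + k) (j + k) = τ i j + k := by
    intro k
    induction k with
    | zero => intro i j _; simp
    | succ k ih =>
      intro i j hij
      have h1 : i + (k : ZMod p) ≠ j + k := fun h => hij (add_right_cancel h)
      have h2 := htr (i + k) (j + k) h1
      rw [ih i j hij] at h2
      push_cast
      rw [← add_assoc, ← add_assoc, h2, add_assoc]
  have htrZ : ∀ (t i j : ZMod p), i ≠ j → τ (i + t) (j + t) = τ i j + t := by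
    intro t i j hij
    have h := htrN t.val i j hij
    rwa [ZMod.natCast_zmod_val] at h
  set Z : ZMod p → ZMod p := fun i => τ 0 i with hZ
  have hτZ : ∀ t i, i ≠ 0 → τ t (t + i) = t + Z i := by
    intro t i hi
    have h := htrZ t 0 i (Ne.symm hi)
    rw [zero_add, add_comm i t] at h
    rw [h, add_comm]
  have hZ0 : ∀ i, i ≠ 0 → Z i ≠ 0 := fun i hi => hne1 0 i (Ne.symm hi)
  have hZi : ∀ i, i ≠ 0 → Z i ≠ i := fun i hi => hne2 0 i (Ne.symm hi)
  have hZZ : ∀ i, i ≠ 0 → Z (Z i) = i := fun i hi => hinv 0 i (Ne.symm hi)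
  have hZs : ∀ s i, s ≠ 0 → IsSquare s → i ≠ 0 → Z (s * i) = s * Z i := by
    intro s i hs hss hi
    have h := hsq s 0 i hs hss (Ne.symm hi)
    rwa [mul_zero] at h
  have hZneg : ∀ i, i ≠ 0 → Z (-i) = Z i - i := by
    intro i hi
    have h := htrZ (-i) i 0 hi
    rw [add_neg_cancel, zero_add, hsymm i 0 hi] at h
    rw [sub_eq_add_neg]
    exact h
  set n := Z 1 with hn
  have hn0 : n ≠ 0 := hZ0 1 one_ne_zero
  have hn1 : n ≠ 1 := hZi 1 one_ne_zero
  have hZn : Z n = 1 := hZZ 1 one_ne_zero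
  have hZsq : ∀ s, s ≠ 0 → IsSquare s → Z s = s * n := by
    intro s hs hss
    have h := hZs s 1 hs hss one_ne_zero
    rwa [mul_one] at h
  have hm10 : (-1 : ZMod p) ≠ 0 := neg_ne_zero.2 one_ne_zero
  -- `n` is not a square
  have hnsq : ¬ IsSquare n := by
    intro hsqn
    have h1 : n * n = 1 := by rw [← hZsq n hn0 hsqn]; exact hZn
    have h2 : n = -1 := by
      rcases mul_self_eq_one_iff.1 h1 with h | h
      · exact absurd h hn1
      · exact h
    have hm1 : IsSquare (-1 : ZMod p) := h2 ▸ hsqn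
    have h3' : Z (-1) = n - 1 := hZneg 1 one_ne_zero
    have h4 : Z (-1) = (-1) * n := hZsq (-1) hm10 hm1
    rw [h4, h2] at h3'
    apply h3
    linear_combination h3'
  -- the quotient of two non-squares is a square
  have hquot : ∀ i, i ≠ 0 → ¬ IsSquare i → IsSquare (i * n⁻¹) := by
    intro i hi hnsqi
    have hin : i * n⁻¹ ≠ 0 := mul_ne_zero hi (inv_ne_zero hn0)
    rw [← quadraticChar_one_iff_isSquare hin, map_mul]
    have h1 := quadraticChar_neg_one_iff_not_isSquare.2 hnsqi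
    have h2 := quadraticChar_neg_one_iff_not_isSquare.2 hnsq
    have h3 : quadraticChar (ZMod p) n⁻¹ = -1 := by
      have h : quadraticChar (ZMod p) n⁻¹ * quadraticChar (ZMod p) n = 1 := by
        rw [← map_mul, inv_mul_cancel₀ hn0, map_one]
      rw [h2] at h
      linarith
    rw [h1, h3]
    norm_num
  have hZnsq : ∀ i, i ≠ 0 → ¬ IsSquare i → Z i = n⁻¹ * i := by
    intro i hi hnsqi
    have hs := hquot i hi hnsqi
    have hs0 : i * n⁻¹ ≠ 0 := mul_ne_zero hi (inv_ne_zero hn0)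
    have h := hZs (i * n⁻¹) n hs0 hs hn0
    rw [hZn, mul_one, mul_assoc, inv_mul_cancel₀ hn0, mul_one] at h
    rw [h, mul_comm]
  -- `-1` is not a square
  have hm1 : ¬ IsSquare (-1 : ZMod p) := by
    intro hm1
    have h1 : Z (-1) = (-1) * n := hZsq (-1) hm10 hm1
    have h2 : Z (-1) = n - 1 := hZneg 1 one_ne_zero
    have h3' : Z (-n) = 1 - n := by rw [hZneg n hn0, hZn]
    have h4 : Z (-n) = -1 := by
      have h := hZs (-1) n hm10 hm1 hn0
      rw [hZn, mul_one, neg_one_mul] at h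
      exact h
    apply h3
    have e1 : (-1) * n = n - 1 := h1.symm.trans h2
    have e2 : (1 : ZMod p) - n = -1 := h3'.symm.trans h4
    linear_combination 2 * e2 - e1
  have hrel : n * n - n + 1 = 0 := by
    have h1 : Z (-1) = n⁻¹ * (-1) := hZnsq (-1) hm10 hm1
    have h2 : Z (-1) = n - 1 := hZneg 1 one_ne_zero
    have e : n⁻¹ * (-1) = n - 1 := h1.symm.trans h2
    have h : n * (n⁻¹ * (-1)) = n * (n - 1) := by rw [e]
    rw [← mul_assoc, mul_inv_cancel₀ hn0] at h
    linear_combination -h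
  refine ⟨n, hrel, hnsq, ?_⟩
  intro t i hi
  rw [hτZ t i hi]
  split_ifs with h
  · rw [hZsq i hi h, mul_comm]
  · rw [hZnsq i hi h]

end Cfsg.Agent.Helper24.N2
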