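import Mathlib

/-!
# (NETB) for S3612: the Netto system of order `p > 7` contains a non-Pasch triangle
-/

set_option autoImplicit false

namespace Cfsg.Agent.Helper24.N2

/-- the linear Pasch equation has non-zero leading coefficient for each sign pattern -/
theorem netb_coeff_ne_zero {K : Type*} [Field K] (n : K) (hn : n * n - n + 1 = 0)
    (h2 : (2 : K) ≠ 0) (c₁ c₂ c₃ : K) (h₁ : c₁ = n ∨ c₁ = 1 - n) (h₂ : c₂ = n ∨ c₂ = 1 - n)
    (h₃ : c₃ = n ∨ c₃ = 1 - n) : c₁ * c₃ - c₂ ≠ 0 := by
  have hn0 : n ≠ 0 := by
    rintro rfl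
    simp at hn
  have hn1 : n ≠ 1 := by
    rintro rfl
    simp at hn
  have h1n : (1 : K) - n ≠ 0 := sub_ne_zero.2 (Ne.symm hn1)
  rcases h₁ with h₁ | h₁ <;> rcases h₂ with h₂ | h₂ <;> rcases h₃ with h₃ | h₃ <;>
    rw [h₁, h₂, h₃]
  · -- n * n - n = -1
    have : n * n - n = -1 := by linear_combination hn
    rw [this]; exact neg_ne_zero.2 one_ne_zero
  · -- n * (1 - n) - n = 1 - n
    have : n * (1 - n) - n = 1 - n := by linear_combination -hn
    rw [this]; exact h1n
  · -- n * n - (1 - n) = 2 * (n - 1)
    have : n * n - (1 - n) = 2 * (n - 1) := by linear_combination hn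
    rw [this]; exact mul_ne_zero h2 (sub_ne_zero.2 hn1)
  · -- n * (1 - n) - (1 - n) = n
    have : n * (1 - n) - (1 - n) = n := by linear_combination -hn
    rw [this]; exact hn0
  · -- (1 - n) * n - n = 1 - n
    have : (1 - n) * n - n = 1 - n := by linear_combination -hn
    rw [this]; exact h1n
  · -- (1 - n) * (1 - n) - n = -2 n
    have : (1 - n) * (1 - n) - n = -(2 * n) := by linear_combination hn
    rw [this]; exact neg_ne_zero.2 (mul_ne_zero h2 hn0)
  · -- (1 - n) * n - (1 - n) = n
    have : (1 - n) * n - (1 - n) = n := by linear_combination -hn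
    rw [this]; exact hn0
  · -- (1 - n) * (1 - n) - (1 - n) = -1
    have : (1 - n) * (1 - n) - (1 - n) = -1 := by linear_combination hn
    rw [this]; exact neg_ne_zero.2 one_ne_zero

/-- no primitive sixth root of unity modulo 11 -/
theorem netb_eleven : ∀ m : ZMod 11, m * m - m + 1 ≠ 0 := by decide

/-- (NETB) the Netto system of order `p > 7` contains a non-Pasch triangle -/
theorem netto_not_pasch {p : ℕ} [Fact p.Prime] (hp : 7 < p) (τ : ZMod p → ZMod p → ZMod p)
    (n : ZMod p) (hn : n * n - n + 1 = 0)
    (hτ : ∀ t i, i ≠ 0 → τ t (t + i) = t + (if IsSquare i then n * i else n⁻¹ * i))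
    (hP : ∀ i j k, i ≠ j → k ≠ i → k ≠ j → k ≠ τ i j → τ (τ i j) (τ i k) = τ j k) : False := by
  classical
  have hpp : p.Prime := Fact.out
  have hn0 : n ≠ 0 := by
    rintro rfl
    simp at hn
  have hninv : n⁻¹ = 1 - n := by
    have h : n * (1 - n) = 1 := by linear_combination -hn
    exact inv_eq_of_mul_eq_one_right h
  have h2 : (2 : ZMod p) ≠ 0 := by
    intro h
    have h' : ((2 : ℕ) : ZMod p) = 0 := by exact_mod_cast h
    rw [ZMod.natCast_eq_zero_iff] at h'
    have := Nat.le_of_dvd (by norm_num) h'
    omega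
  -- the coefficient function
  set C : ZMod p → ZMod p := fun i => if IsSquare i then n else 1 - n with hC
  have hCor : ∀ i, C i = n ∨ C i = 1 - n := by
    intro i
    simp only [hC]
    split_ifs
    · left; rfl
    · right; rfl
  have hτ' : ∀ u v, u ≠ v → τ u v = u + C (v - u) * (v - u) := by
    intro u v huv
    have h := hτ u (v - u) (sub_ne_zero.2 (Ne.symm huv))
    rw [add_sub_cancel] at h
    rw [h]
    simp only [hC]
    split_ifs
    · rfl
    · rw [hninv]
  have h01 : τ 0 1 = n := by
    rw [hτ' 0 1 zero_ne_one]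
    simp only [hC, sub_zero, mul_one, zero_add]
    rw [if_pos IsSquare.one]
  -- the candidate values of `z`
  let g : Bool × Bool × Bool → ZMod p := fun b =>
    (1 - (if b.2.1 then n else 1 - n) - n + (if b.2.2 then n else 1 - n) * n) *
      ((if b.1 then n else 1 - n) * (if b.2.2 then n else 1 - n) -
        (if b.2.1 then n else 1 - n))⁻¹
  have hmem : ∀ z : ZMod p, z ≠ 0 → z ≠ 1 → z ≠ n →
      z ∈ Finset.image g (Finset.univ : Finset (Bool × Bool × Bool)) := by
    intro z hz0 hz1 hzn
    have hpasch := hP 0 1 z zero_ne_one hz0 hz1 (by rw [h01]; exact hzn)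
    rw [h01, hτ' 0 z (Ne.symm hz0), hτ' 1 z (Ne.symm hz1), zero_add, sub_zero] at hpasch
    -- `C z * z ≠ n`
    have hne : n ≠ C z * z := by
      intro h
      by_cases hsq : IsSquare z
      · have hCz : C z = n := by simp only [hC]; rw [if_pos hsq]
        rw [hCz] at h
        have : z = 1 := by
          have h' : n * 1 = n * z := by rw [mul_one]; exact h
          exact (mul_left_cancel₀ hn0 h').symm
        exact hz1 this
      · have hCz : C z = 1 - n := by simp only [hC]; rw [if_neg hsq]
        rw [hCz] at h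
        apply hsq
        refine ⟨n, ?_⟩
        have : n * n = n * ((1 - n) * z) := by rw [← h]
        have h3 : n * ((1 - n) * z) = z := by
          have h4 : n * (1 - n) = 1 := by linear_combination -hn
          rw [← mul_assoc, h4, one_mul]
        rw [← h3, ← this]
    rw [hτ' n (C z * z) hne] at hpasch
    -- solve the linear equation
    set c₁ := C z with hc₁
    set c₂ := C (z - 1) with hc₂
    set c₃ := C (c₁ * z - n) with hc₃
    have hcoef : c₁ * c₃ - c₂ ≠ 0 :=
      netb_coeff_ne_zero n hn h2 c₁ c₂ c₃ (hCor _) (hCor _) (hCor _)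
    have hlin : (c₁ * c₃ - c₂) * z = 1 - c₂ - n + c₃ * n := by linear_combination hpasch
    have hz : z = (1 - c₂ - n + c₃ * n) * (c₁ * c₃ - c₂)⁻¹ := by
      rw [eq_mul_inv_iff_mul_eq₀ hcoef, mul_comm]
      exact hlin
    rw [Finset.mem_image]
    refine ⟨(decide (IsSquare z), decide (IsSquare (z - 1)), decide (IsSquare (c₁ * z - n))),
      Finset.mem_univ _, ?_⟩
    conv_rhs => rw [hz]
    simp only [g, decide_eq_true_eq, hc₁, hc₂, hc₃, hC]
  -- counting
  have hsub : (Finset.univ : Finset (ZMod p)) ⊆
      Finset.image g (Finset.univ : Finset (Bool × Bool × Bool)) ∪ {0, 1, n} := by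
    intro z _
    by_cases hz0 : z = 0
    · simp [hz0]
    by_cases hz1 : z = 1
    · simp [hz1]
    by_cases hzn : z = n
    · simp [hzn]
    exact Finset.mem_union_left _ (hmem z hz0 hz1 hzn)
  have hcard := Finset.card_le_card hsub
  rw [Finset.card_univ, ZMod.card] at hcard
  have h8 : (Finset.image g (Finset.univ : Finset (Bool × Bool × Bool))).card ≤ 8 := by
    refine le_trans Finset.card_image_le ?_
    simp
  have h3 : ({0, 1, n} : Finset (ZMod p)).card ≤ 3 := Finset.card_le_three
  have hle : p ≤ 11 := by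
    have := Finset.card_union_le (Finset.image g (Finset.univ : Finset (Bool × Bool × Bool)))
      ({0, 1, n} : Finset (ZMod p))
    omega
  have hp11 : p = 11 := by
    interval_cases p
    · exact absurd hpp (by norm_num)
    · exact absurd hpp (by norm_num)
    · exact absurd hpp (by norm_num)
    · rfl
  subst hp11
  exact netb_eleven n hn

end Cfsg.Agent.Helper24.N2
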