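import Mathlib

/-!
# (STSINV) for S3612: an anti-Pasch Steiner triple system with an involutory automorphism whose
fixed points are exactly a line has `3 ∣ v`
-/

set_option autoImplicit false
set_option linter.unusedVariables false

namespace Cfsg.Agent.Helper24.N2

/-- the basic step: for a fixed point `u` and a moved point `x` whose line `x, σ x` does not pass
through `u`, the point `y = T u x` is moved, and its line `y, σ y` meets the fixed line neither in
`u` nor in the point of `x` -/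
theorem sts_step {Ω : Type*} [DecidableEq Ω] (T : Ω → Ω → Ω) (F : Finset Ω)
    (hF : ∀ x ∈ F, ∀ y ∈ F, x ≠ y → T x y ∈ F)
    (hne1 : ∀ x y, x ≠ y → T x y ≠ x) (hne2 : ∀ x y, x ≠ y → T x y ≠ y)
    (hsymm : ∀ x y, x ≠ y → T x y = T y x) (hinv : ∀ x y, x ≠ y → T x (T x y) = y)
    (σ : Ω → Ω) (hσF : ∀ x ∈ F, σ x ∈ F) (hσ2 : ∀ x ∈ F, σ (σ x) = x)
    (hσT : ∀ x ∈ F, ∀ y ∈ F, x ≠ y → σ (T x y) = T (σ x) (σ y))
    (hAP : ∀ x ∈ F, ∀ y ∈ F, ∀ z ∈ F, x ≠ y → z ≠ x → z ≠ y → z ≠ T x y →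
      T (T x y) (T x z) ≠ T y z)
    (u : Ω) (hu : u ∈ F) (hσu : σ u = u) (x : Ω) (hx : x ∈ F) (hσx : σ x ≠ x)
    (hxu : T x (σ x) ≠ u) :
    T u x ∈ F ∧ σ (T u x) ≠ T u x ∧ T (T u x) (σ (T u x)) ≠ u ∧
      T (T u x) (σ (T u x)) ≠ T x (σ x) ∧ T u (T u x) = x := by
  have hux : u ≠ x := by
    rintro rfl
    exact hσx hσu
  have hσxF : σ x ∈ F := hσF x hx
  have huσx : u ≠ σ x := by
    intro h
    have : σ u = σ (σ x) := congrArg σ h
    rw [hσu, hσ2 x hx] at this
    exact hux this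
  have hyF : T u x ∈ F := hF u hu x hx hux
  have hσy : σ (T u x) = T u (σ x) := by
    rw [hσT u hu x hx hux, hσu]
  -- `σ x ≠ T u x`, else the line of `x` passes through `u`
  have hσxy : σ x ≠ T u x := by
    intro h
    apply hxu
    rw [h, hsymm u x hux, hinv x u (Ne.symm hux)]
  have hyne : σ (T u x) ≠ T u x := by
    rw [hσy]
    intro h
    have h1 : T u (T u (σ x)) = T u (T u x) := congrArg (T u) h
    rw [hinv u (σ x) huσx, hinv u x hux] at h1
    exact hσx h1
  have hyu : T u x ≠ u := hne1 u x hux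
  refine ⟨hyF, hyne, ?_, ?_, hinv u x hux⟩
  · -- `m y ≠ u`
    intro h
    have h1 : T (T u x) (T (T u x) (σ (T u x))) = σ (T u x) := hinv _ _ (Ne.symm hyne)
    rw [h, hsymm (T u x) u hyu, hinv u x hux] at h1
    -- h1 : x = σ (T u x)
    have h2 : σ x = T u x := by
      have h3 := congrArg σ h1
      rw [hσ2 _ hyF] at h3
      exact h3
    exact hσxy h2
  · -- `m y ≠ m x` by the anti-Pasch axiom
    rw [hσy]
    exact hAP u hu x hx (σ x) hσxF hux (Ne.symm huσx) hσx hσxy

/-- the classes of moved points attached to two fixed points `v, w` are equinumerous, via the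
third fixed point `u` -/
theorem sts_card_eq {Ω : Type*} [DecidableEq Ω] (T : Ω → Ω → Ω) (F : Finset Ω)
    (hF : ∀ x ∈ F, ∀ y ∈ F, x ≠ y → T x y ∈ F)
    (hne1 : ∀ x y, x ≠ y → T x y ≠ x) (hne2 : ∀ x y, x ≠ y → T x y ≠ y)
    (hsymm : ∀ x y, x ≠ y → T x y = T y x) (hinv : ∀ x y, x ≠ y → T x (T x y) = y)
    (σ : Ω → Ω) (hσF : ∀ x ∈ F, σ x ∈ F) (hσ2 : ∀ x ∈ F, σ (σ x) = x)
    (hσT : ∀ x ∈ F, ∀ y ∈ F, x ≠ y → σ (T x y) = T (σ x) (σ y))
    (hAP : ∀ x ∈ F, ∀ y ∈ F, ∀ z ∈ F, x ≠ y → z ≠ x → z ≠ y → z ≠ T x y →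
      T (T x y) (T x z) ≠ T y z)
    (u v w : Ω) (hu : u ∈ F) (hσu : σ u = u) (huv : u ≠ v) (huw : u ≠ w)
    (hline : ∀ x ∈ F, σ x ≠ x → T x (σ x) = u ∨ T x (σ x) = v ∨ T x (σ x) = w) :
    ((F.filter (fun x => σ x ≠ x)).filter (fun x => T x (σ x) = v)).card =
      ((F.filter (fun x => σ x ≠ x)).filter (fun x => T x (σ x) = w)).card := by
  -- the map `x ↦ T u x` sends the class of `v'` to the class of `w'` for `{v', w'} = {v, w}`
  have hmap : ∀ v' w' : Ω, u ≠ v' → (∀ x ∈ F, σ x ≠ x →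
      T x (σ x) = u ∨ T x (σ x) = v' ∨ T x (σ x) = w') →
      ∀ x ∈ (F.filter (fun x => σ x ≠ x)).filter (fun x => T x (σ x) = v'),
        T u x ∈ (F.filter (fun x => σ x ≠ x)).filter (fun x => T x (σ x) = w') ∧
          T u (T u x) = x := by
    intro v' w' huv' hline' x hx
    rw [Finset.mem_filter, Finset.mem_filter] at hx
    obtain ⟨⟨hxF, hσx⟩, hmx⟩ := hx
    have hxu : T x (σ x) ≠ u := by rw [hmx]; exact Ne.symm huv'
    obtain ⟨h1, h2, h3, h4, h5⟩ :=
      sts_step T F hF hne1 hne2 hsymm hinv σ hσF hσ2 hσT hAP u hu hσu x hxF hσx hxu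
    refine ⟨?_, h5⟩
    rw [Finset.mem_filter, Finset.mem_filter]
    refine ⟨⟨h1, h2⟩, ?_⟩
    rcases hline' _ h1 h2 with h | h | h
    · exact absurd h h3
    · rw [hmx] at h4; exact absurd h h4
    · exact h
  have hline2 : ∀ x ∈ F, σ x ≠ x → T x (σ x) = u ∨ T x (σ x) = w ∨ T x (σ x) = v := by
    intro x hx hσx
    rcases hline x hx hσx with h | h | h
    · exact Or.inl h
    · exact Or.inr (Or.inr h)
    · exact Or.inr (Or.inl h)
  exact Finset.card_nbij' (fun x => T u x) (fun x => T u x)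
    (fun x hx => (hmap v w huv hline x hx).1)
    (fun x hx => (hmap w v huw hline2 x hx).1)
    (fun x hx => (hmap v w huv hline x hx).2)
    (fun x hx => (hmap w v huw hline2 x hx).2)

/-- (STSINV) a Steiner triple system without Pasch configurations admitting an involutory
automorphism whose fixed points are exactly a line has `3 ∣ v` -/
theorem sts_invol_three_dvd {Ω : Type*} [DecidableEq Ω] (T : Ω → Ω → Ω) (F : Finset Ω)
    (hF : ∀ x ∈ F, ∀ y ∈ F, x ≠ y → T x y ∈ F)
    (hne1 : ∀ x y, x ≠ y → T x y ≠ x) (hne2 : ∀ x y, x ≠ y → T x y ≠ y)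
    (hsymm : ∀ x y, x ≠ y → T x y = T y x) (hinv : ∀ x y, x ≠ y → T x (T x y) = y)
    (σ : Ω → Ω) (hσF : ∀ x ∈ F, σ x ∈ F) (hσ2 : ∀ x ∈ F, σ (σ x) = x)
    (hσT : ∀ x ∈ F, ∀ y ∈ F, x ≠ y → σ (T x y) = T (σ x) (σ y))
    (a b : Ω) (ha : a ∈ F) (hb : b ∈ F) (hab : a ≠ b)
    (hfix : ∀ x ∈ F, σ x = x ↔ x = a ∨ x = b ∨ x = T a b)
    (hAP : ∀ x ∈ F, ∀ y ∈ F, ∀ z ∈ F, x ≠ y → z ≠ x → z ≠ y → z ≠ T x y →
      T (T x y) (T x z) ≠ T y z) :
    3 ∣ F.card := by
  set c := T a b with hc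
  have hcF : c ∈ F := hF a ha b hb hab
  have hca : c ≠ a := hne1 a b hab
  have hcb : c ≠ b := hne2 a b hab
  have hσa : σ a = a := (hfix a ha).2 (Or.inl rfl)
  have hσb : σ b = b := (hfix b hb).2 (Or.inr (Or.inl rfl))
  have hσc : σ c = c := (hfix c hcF).2 (Or.inr (Or.inr rfl))
  -- the line of a moved point meets the fixed line
  have hline : ∀ x ∈ F, σ x ≠ x → T x (σ x) = a ∨ T x (σ x) = b ∨ T x (σ x) = c := by
    intro x hx hσx
    have hσxF := hσF x hx
    have hmF : T x (σ x) ∈ F := hF x hx (σ x) hσxF (Ne.symm hσx)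
    have hfixm : σ (T x (σ x)) = T x (σ x) := by
      rw [hσT x hx (σ x) hσxF (Ne.symm hσx), hσ2 x hx, hsymm (σ x) x hσx]
    exact (hfix _ hmF).1 hfixm
  -- the three classes
  set M : Ω → Finset Ω := fun z =>
    (F.filter (fun x => σ x ≠ x)).filter (fun x => T x (σ x) = z) with hM
  have hMac : (M a).card = (M c).card := by
    refine sts_card_eq T F hF hne1 hne2 hsymm hinv σ hσF hσ2 hσT hAP b a c hb hσb
      (Ne.symm hab) (Ne.symm hcb) ?_
    intro x hx hσx
    rcases hline x hx hσx with h | h | h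
    · exact Or.inr (Or.inl h)
    · exact Or.inl h
    · exact Or.inr (Or.inr h)
  have hMab : (M a).card = (M b).card := by
    refine sts_card_eq T F hF hne1 hne2 hsymm hinv σ hσF hσ2 hσT hAP c a b hcF hσc
      hca hcb ?_
    intro x hx hσx
    rcases hline x hx hσx with h | h | h
    · exact Or.inr (Or.inl h)
    · exact Or.inr (Or.inr h)
    · exact Or.inl h
  -- the fixed points
  have hfixset : F.filter (fun x => σ x = x) = {a, b, c} := by
    ext x
    simp only [Finset.mem_filter, Finset.mem_insert, Finset.mem_singleton]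
    constructor
    · rintro ⟨hx, hσx⟩
      exact (hfix x hx).1 hσx
    · intro h
      have hxF : x ∈ F := by
        rcases h with rfl | rfl | rfl
        · exact ha
        · exact hb
        · exact hcF
      exact ⟨hxF, (hfix x hxF).2 h⟩
  have h3 : ({a, b, c} : Finset Ω).card = 3 := by
    rw [Finset.card_insert_of_notMem, Finset.card_insert_of_notMem, Finset.card_singleton]
    · simp only [Finset.mem_singleton]; exact Ne.symm hcb
    · simp only [Finset.mem_insert, Finset.mem_singleton]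
      rintro (h | h)
      · exact hab h
      · exact hca h.symm
  have hsplit : (F.filter (fun x => σ x = x)).card + (F.filter (fun x => ¬ σ x = x)).card =
      F.card := Finset.card_filter_add_card_filter_not (s := F) (fun x => σ x = x)
  have hfib : (F.filter (fun x => σ x ≠ x)).card =
      ∑ z ∈ ({a, b, c} : Finset Ω), (M z).card := by
    apply Finset.card_eq_sum_card_fiberwise
    intro x hx
    rw [Finset.mem_coe, Finset.mem_filter] at hx
    have := hline x hx.1 hx.2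
    simp only [Finset.coe_insert, Finset.coe_singleton, Set.mem_insert_iff,
      Set.mem_singleton_iff]
    exact this
  rw [Finset.sum_insert, Finset.sum_insert, Finset.sum_singleton] at hfib
  · rw [hfixset, h3] at hsplit
    have : (F.filter (fun x => ¬ σ x = x)).card = (F.filter (fun x => σ x ≠ x)).card := rfl
    rw [this, hfib, ← hMab, ← hMac] at hsplit
    exact ⟨1 + (M a).card, by omega⟩
  · simp only [Finset.mem_singleton]; exact Ne.symm hcb
  · simp only [Finset.mem_insert, Finset.mem_singleton]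
    rintro (h | h)
    · exact hab h
    · exact hca h.symm

end Cfsg.Agent.Helper24.N2
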