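import Mathlib

/-!
# (SPLIT) for S3613: a subgroup of index at most two of a group transitive on an odd number of
points is transitive
-/

set_option autoImplicit false

namespace Cfsg.Agent.Helper24.N3

open MulAction
open scoped Pointwise

/-- (SPLIT) a subgroup of index at most two of a group transitive on an odd number of points is
transitive -/
theorem transitive_of_odd {G Ω : Type*} [Group G] [MulAction G Ω] [DecidableEq Ω]
    (Y H : Subgroup G) (hHY : H ≤ Y) (hnorm : ∀ y ∈ Y, ∀ h ∈ H, y * h * y⁻¹ ∈ H)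
    (hidx : ∀ y ∈ Y, ∀ y' ∈ Y, y ∉ H → y' ∉ H → y⁻¹ * y' ∈ H)
    (R : Finset Ω) (hodd : Odd R.card) (hinv : ∀ y ∈ Y, ∀ x ∈ R, y • x ∈ R)
    (htr : ∀ x ∈ R, ∀ x' ∈ R, ∃ y ∈ Y, y • x = x') :
    ∀ x ∈ R, ∀ x' ∈ R, ∃ h ∈ H, h • x = x' := by
  classical
  intro x hx x' hx'
  obtain ⟨y, hyY, hyx⟩ := htr x hx x' hx'
  by_cases hyH : y ∈ H
  · exact ⟨y, hyH, hyx⟩
  by_contra hcon
  push Not at hcon
  -- the `H`-orbit of `x` inside `R` and its translate by `y`
  set O1 : Finset Ω := R.filter (fun z => ∃ h ∈ H, h • x = z) with hO1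
  set O2 : Finset Ω := O1.image (fun z => y • z) with hO2
  have hO1R : O1 ⊆ R := Finset.filter_subset _ _
  have hO2R : O2 ⊆ R := by
    intro z hz
    rw [hO2, Finset.mem_image] at hz
    obtain ⟨w, hw, rfl⟩ := hz
    exact hinv y hyY w (hO1R hw)
  have hcover : R ⊆ O1 ∪ O2 := by
    intro z hz
    obtain ⟨y', hy'Y, hy'z⟩ := htr x hx z hz
    by_cases hy'H : y' ∈ H
    · apply Finset.mem_union_left
      rw [hO1, Finset.mem_filter]
      exact ⟨hz, y', hy'H, hy'z⟩
    · apply Finset.mem_union_right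
      have hh : y⁻¹ * y' ∈ H := hidx y hyY y' hy'Y hyH hy'H
      rw [hO2, Finset.mem_image]
      refine ⟨(y⁻¹ * y') • x, ?_, ?_⟩
      · rw [hO1, Finset.mem_filter]
        exact ⟨hinv _ (hHY hh) x hx, y⁻¹ * y', hh, rfl⟩
      · rw [← mul_smul, mul_inv_cancel_left]
        exact hy'z
  have hdisj : Disjoint O1 O2 := by
    rw [Finset.disjoint_left]
    intro z hz1 hz2
    rw [hO1, Finset.mem_filter] at hz1
    obtain ⟨_, h1, hh1, hz1⟩ := hz1
    rw [hO2, Finset.mem_image] at hz2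
    obtain ⟨w, hw, hwz⟩ := hz2
    rw [hO1, Finset.mem_filter] at hw
    obtain ⟨_, h2, hh2, hw⟩ := hw
    -- `h1 • x = y • h2 • x`
    have heq : h1 • x = y • (h2 • x) := by rw [hz1, hw, hwz]
    have hmem : y * h2⁻¹ * y⁻¹ * h1 ∈ H :=
      H.mul_mem (hnorm y hyY h2⁻¹ (H.inv_mem hh2)) hh1
    refine hcon _ hmem ?_
    rw [mul_smul, heq, ← mul_smul, ← mul_smul]
    have : y * h2⁻¹ * y⁻¹ * y * h2 = y := by group
    rw [this]
    exact hyx
  have hRe : R = O1 ∪ O2 :=
    Finset.Subset.antisymm hcover (Finset.union_subset hO1R hO2R)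
  have hcard2 : O2.card = O1.card := by
    rw [hO2]
    apply Finset.card_image_of_injective
    intro a b hab
    exact MulAction.injective y hab
  have hcard : R.card = 2 * O1.card := by
    rw [hRe, Finset.card_union_of_disjoint hdisj, hcard2]
    ring
  rw [hcard] at hodd
  exact (Nat.not_odd_iff_even.2 (even_two_mul _)) hodd

end Cfsg.Agent.Helper24.N3
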