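import Mathlib

/-!
# (W) for S3613: a primitive rank 3 group of degree `q + 1`, `q` an odd prime, does not exist

The argument (Weiss): the two non-trivial suborbit lengths `k < l` are coprime (`k + l = q`), so for
`γ` in the short suborbit of `β` the two-point stabiliser `H_{βγ}` is still transitive on the long
suborbit `D β`; hence `D γ = D β`, and the complement of `D β` is a non-trivial block.
-/

set_option autoImplicit false

namespace Cfsg.Agent.Helper24.N3

open MulAction
open scoped Pointwise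

section W

variable (H : Type*) {X : Type*} [Group H] [MulAction H X]

/-- the orbit of `y` under the stabiliser of `x`, as a plain set -/
def wOrb (x y : X) : Set X := {z | ∃ a : H, a • x = x ∧ a • y = z}

theorem mem_wOrb_self (x y : X) : y ∈ wOrb H x y := ⟨1, one_smul _ _, one_smul _ _⟩

theorem wOrb_self (x : X) : wOrb H x x = {x} := by
  ext z
  constructor
  · rintro ⟨a, hax, haz⟩
    rw [Set.mem_singleton_iff, ← haz, hax]
  · intro hz
    rw [Set.mem_singleton_iff] at hz
    rw [hz]
    exact mem_wOrb_self H x x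

variable {H}

theorem wOrb_eq_of_mem {x y z : X} (h : z ∈ wOrb H x y) : wOrb H x z = wOrb H x y := by
  obtain ⟨a, hax, hay⟩ := h
  have hax' : a⁻¹ • x = x := by rw [inv_smul_eq_iff, hax]
  have haz' : a⁻¹ • z = y := by rw [inv_smul_eq_iff, hay]
  ext w
  constructor
  · rintro ⟨b, hbx, hbz⟩
    refine ⟨b * a, ?_, ?_⟩
    · rw [mul_smul, hax, hbx]
    · rw [mul_smul, hay, hbz]
  · rintro ⟨b, hbx, hby⟩
    refine ⟨b * a⁻¹, ?_, ?_⟩
    · rw [mul_smul, hax', hbx]
    · rw [mul_smul, haz', hby]

theorem wOrb_smul (g : H) (x y : X) :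
    wOrb H (g • x) (g • y) = (fun z => g • z) '' wOrb H x y := by
  ext w
  constructor
  · rintro ⟨a, hax, hay⟩
    refine ⟨(g⁻¹ * a * g) • y, ⟨g⁻¹ * a * g, ?_, rfl⟩, ?_⟩
    · rw [mul_smul, mul_smul, hax, inv_smul_smul]
    · show g • (g⁻¹ * a * g) • y = w
      rw [mul_smul, mul_smul, smul_inv_smul]
      exact hay
  · rintro ⟨z, ⟨a, hax, hay⟩, rfl⟩
    refine ⟨g * a * g⁻¹, ?_, ?_⟩
    · rw [mul_smul, mul_smul, inv_smul_smul, hax]
    · rw [mul_smul, mul_smul, inv_smul_smul, hay]

theorem orbit_stabilizer_eq_wOrb (x y : X) : orbit ↥(stabilizer H x) y = wOrb H x y := by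
  ext z
  constructor
  · rintro ⟨⟨a, ha⟩, rfl⟩
    exact ⟨a, mem_stabilizer_iff.1 ha, rfl⟩
  · rintro ⟨a, ha, rfl⟩
    exact ⟨⟨a, mem_stabilizer_iff.2 ha⟩, rfl⟩

variable (H)

/-- the length of the suborbit of `y` with respect to `x` -/
noncomputable def wsz (x y : X) : ℕ := (wOrb H x y).ncard

variable {H}

theorem wsz_smul (g : H) (x y : X) : wsz H (g • x) (g • y) = wsz H x y := by
  unfold wsz
  rw [wOrb_smul]
  exact Set.ncard_image_of_injective _ (MulAction.injective g)

theorem wsz_eq_of_mem {x y z : X} (h : z ∈ wOrb H x y) : wsz H x z = wsz H x y := by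
  unfold wsz
  rw [wOrb_eq_of_mem h]

theorem wsz_self [Finite X] (x : X) : wsz H x x = 1 := by
  unfold wsz
  rw [wOrb_self, Set.ncard_singleton]

/-- orbit-stabiliser for a subgroup `L` acting on `X` -/
theorem ncard_mul_card_inf_stabilizer [Finite H] (L : Subgroup H) (y : X) :
    ({z | ∃ a ∈ L, a • y = z} : Set X).ncard * Nat.card ↥(L ⊓ stabilizer H y) = Nat.card ↥L := by
  have h1 := Subgroup.card_mul_index (stabilizer ↥L y)
  rw [MulAction.index_stabilizer] at h1
  have h2 : orbit ↥L y = {z | ∃ a ∈ L, a • y = z} := by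
    ext z
    constructor
    · rintro ⟨⟨a, ha⟩, rfl⟩
      exact ⟨a, ha, rfl⟩
    · rintro ⟨a, ha, rfl⟩
      exact ⟨⟨a, ha⟩, rfl⟩
  have h3 : stabilizer ↥L y = (L ⊓ stabilizer H y).subgroupOf L := by
    ext ⟨a, ha⟩
    rw [mem_stabilizer_iff, Subgroup.mem_subgroupOf, Subgroup.mem_inf, mem_stabilizer_iff]
    constructor
    · intro h
      exact ⟨ha, h⟩
    · intro h
      exact h.2
  have h4 : Nat.card ↥(stabilizer ↥L y) = Nat.card ↥(L ⊓ stabilizer H y) := by
    rw [h3]
    exact Nat.card_congr (Subgroup.subgroupOfEquivOfLe inf_le_left).toEquiv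
  rw [h2, h4] at h1
  rw [mul_comm]
  exact h1

/-- the core of the argument, with the three suborbits of `β` given explicitly -/
theorem false_of_three_suborbits [Finite H] [Finite X] (hprim : IsPreprimitive H X)
    (β γ1 γ2 : X) (hcov : ∀ y, y = β ∨ y ∈ wOrb H β γ1 ∨ y ∈ wOrb H β γ2)
    (hγ1 : γ1 ≠ β) (k l : ℕ) (hk : wsz H β γ1 = k) (hl : wsz H β γ2 = l) (hkl : k < l)
    (hcop : Nat.Coprime k l) : False := by
  classical
  have : IsPretransitive H X := hprim.toIsPretransitive
  have hk1 : 1 ≤ k := by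
    rw [← hk]
    unfold wsz
    exact (Set.ncard_pos (Set.toFinite _)).2 ⟨γ1, mem_wOrb_self H β γ1⟩
  have hl1 : l ≠ 1 := by omega
  -- the values of `wsz β`
  have hval : ∀ y, wsz H β y = 1 ∨ wsz H β y = k ∨ wsz H β y = l := by
    intro y
    rcases hcov y with h | h | h
    · left; rw [h]; exact wsz_self β
    · right; left; rw [wsz_eq_of_mem h]; exact hk
    · right; right; rw [wsz_eq_of_mem h]; exact hl
  have hvalx : ∀ x y : X, wsz H x y = 1 ∨ wsz H x y = k ∨ wsz H x y = l := by
    intro x y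
    obtain ⟨g, hg⟩ := exists_smul_eq H β x
    have h := wsz_smul g β (g⁻¹ • y)
    rw [hg, smul_inv_smul] at h
    rw [h]
    exact hval _
  -- the long suborbit
  set D : X → Set X := fun x => {y | wsz H x y = l} with hD
  have hDβ : D β = wOrb H β γ2 := by
    ext y
    simp only [hD, Set.mem_ofPred_eq]
    constructor
    · intro hy
      rcases hcov y with h | h | h
      · rw [h, wsz_self] at hy
        exact absurd hy.symm hl1
      · rw [wsz_eq_of_mem h, hk] at hy
        omega
      · exact h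
    · intro h
      rw [wsz_eq_of_mem h]
      exact hl
  have hDimage : ∀ (g : H) (x : X), D (g • x) = (fun z => g • z) '' D x := by
    intro g x
    ext z
    simp only [hD, Set.mem_ofPred_eq, Set.mem_image]
    constructor
    · intro hz
      refine ⟨g⁻¹ • z, ?_, smul_inv_smul g z⟩
      have h := wsz_smul g x (g⁻¹ • z)
      rw [smul_inv_smul] at h
      rw [← h]
      exact hz
    · rintro ⟨w, hw, rfl⟩
      rw [wsz_smul]
      exact hw
  have hDcard : ∀ x, (D x).ncard = l := by
    intro x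
    obtain ⟨g, hg⟩ := exists_smul_eq H β x
    rw [← hg, hDimage, Set.ncard_image_of_injective _ (MulAction.injective g), hDβ]
    exact hl
  -- the key claim at `β`
  have hkey : ∀ γ, γ ∉ D β → D γ = D β := by
    intro γ hγ
    by_cases hγβ : γ = β
    · rw [hγβ]
    have hγ1' : γ ∈ wOrb H β γ1 := by
      rcases hcov γ with h | h | h
      · exact absurd h hγβ
      · exact h
      · rw [hDβ] at hγ
        exact absurd h hγ
    have hszγ : wsz H β γ = k := by rw [wsz_eq_of_mem hγ1']; exact hk
    -- the two-point stabiliser is transitive on the long suborbit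
    set A : Subgroup H := stabilizer H β with hA
    set M : Set X := {z | ∃ a ∈ A ⊓ stabilizer H γ, a • γ2 = z} with hM
    have hOβγ : ({z | ∃ a ∈ A, a • γ = z} : Set X) = wOrb H β γ := by
      ext z
      constructor
      · rintro ⟨a, ha, rfl⟩
        exact ⟨a, mem_stabilizer_iff.1 ha, rfl⟩
      · rintro ⟨a, ha, rfl⟩
        exact ⟨a, mem_stabilizer_iff.2 ha, rfl⟩
    have hOβδ : ({z | ∃ a ∈ A, a • γ2 = z} : Set X) = wOrb H β γ2 := by
      ext z
      constructor
      · rintro ⟨a, ha, rfl⟩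
        exact ⟨a, mem_stabilizer_iff.1 ha, rfl⟩
      · rintro ⟨a, ha, rfl⟩
        exact ⟨a, mem_stabilizer_iff.2 ha, rfl⟩
    have e1 := ncard_mul_card_inf_stabilizer A γ
    have e2 := ncard_mul_card_inf_stabilizer A γ2
    have e3 := ncard_mul_card_inf_stabilizer (A ⊓ stabilizer H γ) γ2
    have e4 := ncard_mul_card_inf_stabilizer (A ⊓ stabilizer H γ2) γ
    rw [hOβγ] at e1
    rw [hOβδ] at e2
    have hk' : (wOrb H β γ).ncard = k := hszγ
    have hl' : (wOrb H β γ2).ncard = l := hl
    rw [hk'] at e1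
    rw [hl'] at e2
    rw [inf_right_comm] at e4
    set c := Nat.card ↥(A ⊓ stabilizer H γ ⊓ stabilizer H γ2) with hc
    have hcpos : 0 < c := Nat.card_pos
    set m := M.ncard with hm
    set m' := ({z | ∃ a ∈ A ⊓ stabilizer H γ2, a • γ = z} : Set X).ncard with hm'
    have hmul : k * m * c = l * m' * c := by
      calc k * m * c = k * (m * c) := by ring
        _ = k * Nat.card ↥(A ⊓ stabilizer H γ) := by rw [e3]
        _ = Nat.card ↥A := e1
        _ = l * Nat.card ↥(A ⊓ stabilizer H γ2) := e2.symm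
        _ = l * (m' * c) := by rw [e4]
        _ = l * m' * c := by ring
    have hmul' : k * m = l * m' := Nat.eq_of_mul_eq_mul_right hcpos hmul
    have hldvd : l ∣ m := by
      have h1 : l ∣ m * k := ⟨m', by rw [mul_comm m k]; exact hmul'⟩
      exact Nat.Coprime.dvd_of_dvd_mul_right hcop.symm h1
    have hMsub : M ⊆ wOrb H β γ2 := by
      rintro z ⟨a, ha, rfl⟩
      exact ⟨a, mem_stabilizer_iff.1 (Subgroup.mem_inf.1 ha).1, rfl⟩
    have hMpos : 0 < m :=
      (Set.ncard_pos (Set.toFinite _)).2 ⟨γ2, 1, Subgroup.one_mem _, one_smul _ _⟩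
    have hMle : m ≤ l := by
      rw [← hl']
      exact Set.ncard_le_ncard hMsub (Set.toFinite _)
    have hml : l ≤ m := Nat.le_of_dvd hMpos hldvd
    have hMeq : M = wOrb H β γ2 := by
      apply Set.eq_of_subset_of_ncard_le hMsub _ (Set.toFinite _)
      rw [hl']
      exact hml
    -- so the long suborbit of `β` lies in one suborbit of `γ`
    have hsub : wOrb H β γ2 ⊆ wOrb H γ γ2 := by
      rw [← hMeq]
      rintro z ⟨a, ha, rfl⟩
      exact ⟨a, mem_stabilizer_iff.1 (Subgroup.mem_inf.1 ha).2, rfl⟩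
    have hge : l ≤ wsz H γ γ2 := by
      rw [← hl']
      exact Set.ncard_le_ncard hsub (Set.toFinite _)
    have hszγδ : wsz H γ γ2 = l := by
      rcases hvalx γ γ2 with h | h | h
      · omega
      · omega
      · exact h
    have hOeq : wOrb H β γ2 = wOrb H γ γ2 := by
      apply Set.eq_of_subset_of_ncard_le hsub _ (Set.toFinite _)
      rw [hl']
      exact le_of_eq hszγδ
    have hsubD : wOrb H γ γ2 ⊆ D γ := by
      intro z hz
      simp only [hD, Set.mem_ofPred_eq]
      rw [wsz_eq_of_mem hz]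
      exact hszγδ
    have hDγ : wOrb H γ γ2 = D γ := by
      apply Set.eq_of_subset_of_ncard_le hsubD _ (Set.toFinite _)
      rw [hDcard γ]
      exact le_of_eq hszγδ.symm
    rw [← hDγ, ← hOeq, hDβ]
  -- transport the key claim
  have hkeyx : ∀ x z, z ∉ D x → D z = D x := by
    intro x z hz
    obtain ⟨g, hg⟩ := exists_smul_eq H β x
    have h1 : g⁻¹ • z ∉ D β := by
      intro h
      apply hz
      rw [← hg, hDimage]
      exact ⟨g⁻¹ • z, h, smul_inv_smul g z⟩
    have h2 := hkey _ h1
    have h3 : D z = D (g • (g⁻¹ • z)) := by rw [smul_inv_smul]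
    rw [h3, hDimage, h2, ← hDimage, hg]
  -- the block
  have hblock : IsBlock H (D β)ᶜ := by
    rw [isBlock_iff_smul_eq_or_disjoint]
    intro g
    have hg : g • (D β)ᶜ = (D (g • β))ᶜ := by
      rw [Set.smul_set_compl, hDimage, Set.image_smul]
    by_cases hd : Disjoint (g • (D β)ᶜ) (D β)ᶜ
    · exact Or.inr hd
    · left
      rw [Set.not_disjoint_iff] at hd
      obtain ⟨z, hz1, hz2⟩ := hd
      rw [hg] at hz1
      rw [hg, ← hkeyx (g • β) z hz1, ← hkeyx β z hz2]
  rcases hprim.isTrivialBlock_of_isBlock hblock with h | h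
  · -- `β` and `γ1` are two distinct points of the block
    have hβB : β ∈ (D β)ᶜ := by
      simp only [hD, Set.mem_compl_iff, Set.mem_ofPred_eq]
      rw [wsz_self]
      exact fun h => hl1 h.symm
    have hγB : γ1 ∈ (D β)ᶜ := by
      simp only [hD, Set.mem_compl_iff, Set.mem_ofPred_eq]
      rw [hk]
      omega
    exact hγ1 (h hγB hβB)
  · have hγ2 : γ2 ∈ D β := by
      simp only [hD, Set.mem_ofPred_eq]
      exact hl
    have : γ2 ∈ (D β)ᶜ := by rw [h]; exact Set.mem_univ _
    exact this hγ2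

end W

/-- (W) a primitive rank 3 group of degree `q + 1`, `q` an odd prime, does not exist -/
theorem false_of_prim_rank3_prime {H X : Type*} [Group H] [Finite H] [MulAction H X] [Finite X]
    (hprim : IsPreprimitive H X) (β : X)
    (h3 : Nat.card (orbitRel.Quotient ↥(stabilizer H β) X) = 3) (q : ℕ) (hq : q.Prime)
    (hq3 : 3 ≤ q) (hX : Nat.card X = q + 1) : False := by
  classical
  have : Finite (orbitRel.Quotient ↥(stabilizer H β) X) :=
    Nat.finite_of_card_ne_zero (by rw [h3]; norm_num)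
  have : Fintype (orbitRel.Quotient ↥(stabilizer H β) X) := Fintype.ofFinite _
  have hcardQ : Fintype.card (orbitRel.Quotient ↥(stabilizer H β) X) = 3 := by
    rw [← Nat.card_eq_fintype_card]
    exact h3
  set q0 : orbitRel.Quotient ↥(stabilizer H β) X := Quotient.mk'' β with hq0
  have herase : (Finset.univ.erase q0).card = 2 := by
    rw [Finset.card_erase_of_mem (Finset.mem_univ _), Finset.card_univ, hcardQ]
  obtain ⟨q1, q2, hq12, hqe⟩ := Finset.card_eq_two.1 herase
  obtain ⟨γ1, hγ1⟩ := Quotient.exists_rep q1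
  obtain ⟨γ2, hγ2⟩ := Quotient.exists_rep q2
  have hq1 : q1 ≠ q0 := by
    have : q1 ∈ Finset.univ.erase q0 := by rw [hqe]; simp
    exact (Finset.mem_erase.1 this).1
  have hq2 : q2 ≠ q0 := by
    have : q2 ∈ Finset.univ.erase q0 := by rw [hqe]; simp
    exact (Finset.mem_erase.1 this).1
  -- classes versus suborbits
  have hclass : ∀ y z : X, (Quotient.mk'' y : orbitRel.Quotient ↥(stabilizer H β) X) =
      Quotient.mk'' z ↔ y ∈ wOrb H β z := by
    intro y z
    rw [Quotient.eq'', orbitRel_apply, orbit_stabilizer_eq_wOrb]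
  have hγ1' : (Quotient.mk'' γ1 : orbitRel.Quotient ↥(stabilizer H β) X) = q1 := hγ1
  have hγ2' : (Quotient.mk'' γ2 : orbitRel.Quotient ↥(stabilizer H β) X) = q2 := hγ2
  have hcov : ∀ y, y = β ∨ y ∈ wOrb H β γ1 ∨ y ∈ wOrb H β γ2 := by
    intro y
    by_cases hy : (Quotient.mk'' y : orbitRel.Quotient ↥(stabilizer H β) X) = q0
    · left
      have h := (hclass y β).1 hy
      rw [wOrb_self] at h
      exact h
    · have hmem : (Quotient.mk'' y : orbitRel.Quotient ↥(stabilizer H β) X) ∈
          Finset.univ.erase q0 := Finset.mem_erase.2 ⟨hy, Finset.mem_univ _⟩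
      rw [hqe, Finset.mem_insert, Finset.mem_singleton] at hmem
      rcases hmem with h | h
      · right; left
        rw [← hγ1'] at h
        exact (hclass y γ1).1 h
      · right; right
        rw [← hγ2'] at h
        exact (hclass y γ2).1 h
  have hγ1β : γ1 ≠ β := by
    intro h
    apply hq1
    rw [← hγ1', h]
  have hγ2β : γ2 ≠ β := by
    intro h
    apply hq2
    rw [← hγ2', h]
  have hβ1 : β ∉ wOrb H β γ1 := by
    intro h
    apply hq1
    rw [← hγ1', hq0]
    exact ((hclass β γ1).2 h).symm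
  have hβ2 : β ∉ wOrb H β γ2 := by
    intro h
    apply hq2
    rw [← hγ2', hq0]
    exact ((hclass β γ2).2 h).symm
  have hdisj : Disjoint (wOrb H β γ1) (wOrb H β γ2) := by
    rw [Set.disjoint_left]
    intro y h1 h2
    apply hq12
    rw [← hγ1', ← hγ2']
    rw [hclass]
    have e1 := wOrb_eq_of_mem h1
    have e2 := wOrb_eq_of_mem h2
    rw [← e2, e1]
    exact mem_wOrb_self H β γ1
  -- counting
  have huniv : (Set.univ : Set X) = {β} ∪ (wOrb H β γ1 ∪ wOrb H β γ2) := by
    ext y
    simp only [Set.mem_univ, Set.mem_union, Set.mem_singleton_iff, true_iff]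
    exact hcov y
  have hcount : q + 1 = 1 + (wsz H β γ1 + wsz H β γ2) := by
    rw [← hX, ← Set.ncard_univ, huniv, Set.ncard_union_eq _ (Set.toFinite _) (Set.toFinite _),
      Set.ncard_singleton, Set.ncard_union_eq hdisj (Set.toFinite _) (Set.toFinite _)]
    · rfl
    · rw [Set.disjoint_singleton_left, Set.mem_union]
      rintro (h | h)
      · exact hβ1 h
      · exact hβ2 h
  set k := wsz H β γ1 with hk
  set l := wsz H β γ2 with hl
  have hk1 : 1 ≤ k := by
    rw [hk]
    unfold wsz
    exact (Set.ncard_pos (Set.toFinite _)).2 ⟨γ1, mem_wOrb_self H β γ1⟩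
  have hl1 : 1 ≤ l := by
    rw [hl]
    unfold wsz
    exact (Set.ncard_pos (Set.toFinite _)).2 ⟨γ2, mem_wOrb_self H β γ2⟩
  have hsum : k + l = q := by omega
  have hcop : Nat.Coprime k l := by
    have hdvd : Nat.gcd k l ∣ q := by
      rw [← hsum]
      exact Nat.dvd_add (Nat.gcd_dvd_left k l) (Nat.gcd_dvd_right k l)
    rcases (Nat.dvd_prime hq).1 hdvd with h | h
    · exact h
    · have hle : Nat.gcd k l ≤ k := Nat.gcd_le_left l (by omega)
      omega
  have hne : k ≠ l := by
    intro h
    have h2 : 2 ∣ q := ⟨k, by omega⟩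
    rcases (Nat.dvd_prime hq).1 h2 with h' | h'
    · omega
    · omega
  rcases Nat.lt_or_gt_of_ne hne with hlt | hlt
  · exact false_of_three_suborbits hprim β γ1 γ2 hcov hγ1β k l hk.symm hl.symm hlt hcop
  · refine false_of_three_suborbits hprim β γ2 γ1 ?_ hγ2β l k hl.symm hk.symm hlt hcop.symm
    intro y
    rcases hcov y with h | h | h
    · exact Or.inl h
    · exact Or.inr (Or.inr h)
    · exact Or.inr (Or.inl h)

end Cfsg.Agent.Helper24.N3
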