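import Mathlib
import Cfsg.Agent.Helper99.O9.Defs

set_option autoImplicit false
set_option linter.unusedSectionVars false
set_option linter.unusedVariables false

/-!
# S2517 (helper99's farm), pieces (SIMS) `sim_symm` and (SIMT) `sim_trans`
-/

namespace Cfsg.Agent.Helper24.O9

open Matrix QuadraticMap Cfsg.Agent.Helper44 Cfsg.Agent.Helper44.QType Cfsg.Agent.Helper99.O9

universe u

variable {F : Type u} [Field F] [Fintype F]

/-- (SIMS) -/
theorem sim_symm {P P' : OPair F} (h : P.Sim P') : P'.Sim P := by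
  rw [OPair.sim_def] at h ⊢
  obtain ⟨C, hC, hg⟩ := h
  have hC' : ∀ w, P.Q (C.symm w) = P'.Q w := by
    intro w
    rw [← hC, LinearEquiv.apply_symm_apply]
  refine ⟨C.symm, hC', ?_⟩
  apply isometryGroup_ext
  intro v
  rw [isoTransport_mulVec, ← hg, isoTransport_mulVec, LinearEquiv.symm_symm,
    LinearEquiv.symm_apply_apply, LinearEquiv.symm_apply_apply]

/-- (SIMT) -/
theorem sim_trans {P P' P'' : OPair F} (h : P.Sim P') (h' : P'.Sim P'') : P.Sim P'' := by
  rw [OPair.sim_def] at h h' ⊢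
  obtain ⟨C, hC, hg⟩ := h
  obtain ⟨C', hC', hg'⟩ := h'
  have hC'' : ∀ w, P''.Q ((C.trans C') w) = P.Q w := by
    intro w
    rw [LinearEquiv.trans_apply, hC', hC]
  refine ⟨C.trans C', hC'', ?_⟩
  apply isometryGroup_ext
  intro v
  rw [isoTransport_mulVec, ← hg', isoTransport_mulVec, ← hg, isoTransport_mulVec]
  rfl

end Cfsg.Agent.Helper24.O9
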