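import Mathlib

/-!
# Helper24 / piece (BR1) for helper45's S2547: commutator subgroups of a central cover
-/

set_option autoImplicit false

namespace Cfsg.Agent.Helper24.OddStBR1

open scoped commutatorElement

/-- commutators do not see central factors -/
theorem commutatorElement_central_mul {O : Type*} [Group O] {z₁ z₂ : O}
    (h₁ : z₁ ∈ Subgroup.center O) (h₂ : z₂ ∈ Subgroup.center O) (a b : O) :
    ⁅z₁ * a, z₂ * b⁆ = ⁅a, b⁆ := by
  have c₁ : ∀ g : O, g * z₁ = z₁ * g := Subgroup.mem_center_iff.mp h₁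
  have c₂ : ∀ g : O, g * z₂ = z₂ * g := Subgroup.mem_center_iff.mp h₂
  rw [commutatorElement_def, commutatorElement_def, mul_inv_rev, mul_inv_rev]
  have e1 : z₁ * a * (z₂ * b) * (a⁻¹ * z₁⁻¹) * (b⁻¹ * z₂⁻¹)
      = z₁ * (a * z₂) * b * a⁻¹ * (z₁⁻¹ * b⁻¹) * z₂⁻¹ := by group
  rw [e1, c₂ a]
  have c₁' : ∀ g : O, z₁⁻¹ * g = g * z₁⁻¹ := fun g => by
    have := c₁ g
    calc z₁⁻¹ * g = z₁⁻¹ * (g * z₁) * z₁⁻¹ := by group
      _ = z₁⁻¹ * (z₁ * g) * z₁⁻¹ := by rw [this]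
      _ = g * z₁⁻¹ := by group
  rw [c₁' b⁻¹]
  have e2 : z₁ * (z₂ * a) * b * a⁻¹ * (b⁻¹ * z₁⁻¹) * z₂⁻¹
      = z₁ * (z₂ * (a * b * a⁻¹ * b⁻¹)) * z₁⁻¹ * z₂⁻¹ := by group
  rw [e2, ← c₂ (a * b * a⁻¹ * b⁻¹), ← c₁ (a * b * a⁻¹ * b⁻¹ * z₂)]
  group

/-- (BR1) the commutator subgroups of `G` and of a central cover `O = Z(O) f(G)` are isomorphic -/
theorem commutator_equiv_of_central_cover {G O : Type*} [Group G] [Group O] (f : G →* O)
    (hf : Function.Injective f)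
    (hcov : ∀ o : O, ∃ z ∈ Subgroup.center O, ∃ g : G, o = z * f g) :
    Nonempty (↥(commutator G) ≃* ↥(commutator O)) := by
  have hmap : (commutator G).map f = commutator O := by
    rw [commutator_def, commutator_def, Subgroup.map_commutator, ← MonoidHom.range_eq_map]
    apply le_antisymm
    · exact Subgroup.commutator_mono le_top le_top
    · rw [Subgroup.commutator_le]
      intro o₁ _ o₂ _
      obtain ⟨z₁, hz₁, g₁, rfl⟩ := hcov o₁
      obtain ⟨z₂, hz₂, g₂, rfl⟩ := hcov o₂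
      rw [commutatorElement_central_mul hz₁ hz₂]
      exact Subgroup.commutator_mem_commutator ⟨g₁, rfl⟩ ⟨g₂, rfl⟩
  exact ⟨((commutator G).equivMapOfInjective f hf).trans (MulEquiv.subgroupCongr hmap)⟩

end Cfsg.Agent.Helper24.OddStBR1
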