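import Mathlib
import Cfsg.Agent.Helper74.DegreeRatio

/-!
# Helper24 / piece (CL) for helper45's S2547: an irreducible character of `p`-power degree
restricts irreducibly to a normal subgroup of index prime to `p`
-/

set_option autoImplicit false

namespace Cfsg.Agent.Helper24.OddStCL

open Cfsg Cfsg.Agent.Helper74

/-- a divisor `b` of a number prime to `p` with `b * d = p ^ k` is `1` -/
theorem eq_one_of_mul_eq_prime_pow {p : ℕ} (hp : p.Prime) {k b d n : ℕ}
    (h : p ^ k = b * d) (hb : b ∣ n) (hn : ¬ p ∣ n) : b = 1 := by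
  have hbp : b ∣ p ^ k := Dvd.intro _ h.symm
  obtain ⟨j, -, rfl⟩ := (Nat.dvd_prime_pow hp).mp hbp
  rcases Nat.eq_zero_or_pos j with hj | hj
  · rw [hj, pow_zero]
  · exfalso
    exact hn (dvd_trans (dvd_pow_self p hj.ne') hb)

/-- (CL) an irreducible character of prime power degree restricts irreducibly to a normal subgroup of index
prime to `p` (from the landed S0887: `χ(1)/ϑ(1)` divides the index) -/
theorem irr_restrict_of_coprime {G : Type*} [Group G] [Fintype G] (N : Subgroup G) [N.Normal]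
    (χ : G → ℂ) (hχ : IsIrrCharacter G χ) (p : ℕ) [Fact p.Prime] (k : ℕ)
    (hdeg : χ 1 = ((p ^ k : ℕ) : ℂ)) (hidx : ¬ p ∣ N.index) :
    IsIrrCharacter N (fun x : N => χ x) := by
  classical
  have hp : p.Prime := Fact.out
  let _ : Fintype N := Fintype.ofFinite N
  let _ : Fintype (IrrCharacter N) := irrFintype N
  set ψ : N → ℂ := fun x : N => χ x with hψdef
  have hψ : IsCharacter N ψ := isCharacter_restrict N (isCharacter_of_isIrr hχ)
  -- multiplicities
  have hm : ∀ θ : IrrCharacter N, ∃ m : ℕ, classInner ψ (θ : N → ℂ) = m :=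
    fun θ => isCharacter_inner_irr_nat hψ θ
  choose m hmul using hm
  have hsum : ψ = ∑ θ : IrrCharacter N, (m θ : ℂ) • (θ : N → ℂ) := by
    have h := isCharacter_eq_sum_irr hψ
    rw [h]
    refine Finset.sum_congr rfl fun θ _ => ?_
    rw [hmul θ]
  -- the degree of every constituent is `p ^ k`
  have hdegθ : ∀ θ : IrrCharacter N, m θ ≠ 0 → (θ : N → ℂ) 1 = ((p ^ k : ℕ) : ℂ) := by
    intro θ hθ0
    have hcon : classInner (fun n : N => χ n) (θ : N → ℂ) ≠ 0 := by
      show classInner ψ (θ : N → ℂ) ≠ 0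
      rw [hmul θ]
      exact_mod_cast hθ0
    obtain ⟨b, hb, hbdvd⟩ := degree_ratio_dvd N hχ θ.2 hcon
    obtain ⟨d, hd⟩ := isCharacter_apply_one (isCharacter_of_isIrr θ.2)
    rw [hdeg, hd] at hb
    have hb' : p ^ k = b * d := by exact_mod_cast hb
    have hb1 : b = 1 := eq_one_of_mul_eq_prime_pow hp hb' hbdvd hidx
    rw [hb1, one_mul] at hb'
    rw [hd, hb']
  -- the multiplicities sum to one
  have hψ1 : ψ 1 = ((p ^ k : ℕ) : ℂ) := hdeg
  have hpk : ((p ^ k : ℕ) : ℂ) ≠ 0 := by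
    have : p ^ k ≠ 0 := pow_ne_zero _ hp.ne_zero
    exact_mod_cast this
  have hone : ∑ θ : IrrCharacter N, m θ = 1 := by
    have h1 : ψ 1 = ∑ θ : IrrCharacter N, (m θ : ℂ) * ((p ^ k : ℕ) : ℂ) := by
      conv_lhs => rw [hsum]
      rw [Finset.sum_apply]
      refine Finset.sum_congr rfl fun θ _ => ?_
      rw [Pi.smul_apply, smul_eq_mul]
      by_cases h0 : m θ = 0
      · rw [h0]; simp
      · rw [hdegθ θ h0]
    rw [hψ1, ← Finset.sum_mul] at h1
    have h2 : (∑ θ : IrrCharacter N, (m θ : ℂ)) = 1 := by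
      have h3 : (1 : ℂ) * ((p ^ k : ℕ) : ℂ) = (∑ θ : IrrCharacter N, (m θ : ℂ)) * ((p ^ k : ℕ) : ℂ) := by
        rw [one_mul]; exact h1
      exact (mul_right_cancel₀ hpk h3).symm
    exact_mod_cast h2
  -- hence exactly one constituent, with multiplicity one
  obtain ⟨θ₀, hθ₀⟩ : ∃ θ₀ : IrrCharacter N, m θ₀ ≠ 0 := by
    by_contra hcon
    push Not at hcon
    rw [Finset.sum_eq_zero (fun θ _ => hcon θ)] at hone
    exact zero_ne_one hone
  have hsplit := Finset.add_sum_erase Finset.univ m (Finset.mem_univ θ₀)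
  rw [hone] at hsplit
  have hm0 : m θ₀ = 1 := by
    have : 0 < m θ₀ := Nat.pos_of_ne_zero hθ₀
    omega
  have hrest : ∑ θ ∈ Finset.univ.erase θ₀, m θ = 0 := by omega
  have hzero : ∀ θ : IrrCharacter N, θ ≠ θ₀ → m θ = 0 := by
    intro θ hne
    exact (Finset.sum_eq_zero_iff.mp hrest) θ (Finset.mem_erase.mpr ⟨hne, Finset.mem_univ θ⟩)
  have hfinal : ψ = (θ₀ : N → ℂ) := by
    rw [hsum, Finset.sum_eq_single θ₀]
    · rw [hm0]; simp
    · intro θ _ hne
      rw [hzero θ hne]; simp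
    · intro h; exact absurd (Finset.mem_univ _) h
  rw [hfinal]
  exact θ₀.2

end Cfsg.Agent.Helper24.OddStCL
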