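import Mathlib
import Cfsg.Agent.Helper62.Ore.Defs

/-!
# S2444 (helper62's farm), piece (QK): the key lemma from a cyclic `K` on `range Γ`
-/

set_option autoImplicit false

namespace Cfsg.Agent.Helper24.Ore

open Polynomial Module Cfsg.Agent.Helper62.Ore

variable {F : Type*} [Field F] {V : Type*} [AddCommGroup V] [Module F V]

/-- companion operator in a basis `e' 0, …, e' m`: `Y (e' (j+1)) = e' j`, and `e' m` is cyclic with
relation polynomial `f₁`. -/
theorem QK_companion {W : Type*} [AddCommGroup W] [Module F W] [FiniteDimensional F W]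
    {m : ℕ} (hm : finrank F W = m + 1) (e' : ℕ → W)
    (hLI : LinearIndependent F (fun j : Fin (m + 1) => e' (j : ℕ)))
    (f₁ : F[X]) (hf₁ : f₁.Monic) (hdeg : f₁.natDegree = m + 1) (h0 : f₁.coeff 0 ≠ 0) :
    ∃ Y₁ : W ≃ₗ[F] W, (∀ j, j < m → Y₁ (e' (j + 1)) = e' j) ∧
      Cyc (m + 1) (Y₁ : W →ₗ[F] W) (e' m) ∧ Rel (m + 1) (Y₁ : W →ₗ[F] W) (e' m) f₁ := by
  classical
  have hcard : Fintype.card (Fin (m + 1)) = finrank F W := by simp [hm]
  set B : Basis (Fin (m + 1)) F W := basisOfLinearIndependentOfCardEqFinrank hLI hcard with hB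
  have hBj : ∀ j : Fin (m + 1), B j = e' (j : ℕ) := by
    intro j; simp [hB]
  set Y : W →ₗ[F] W := B.constr F (fun j : Fin (m + 1) =>
    if (j : ℕ) = 0 then -∑ i ∈ Finset.range (m + 1), f₁.coeff i • e' (m - i)
    else e' ((j : ℕ) - 1)) with hY
  have hY1 : ∀ j, j < m → Y (e' (j + 1)) = e' j := by
    intro j hj
    have : e' (j + 1) = B ⟨j + 1, by omega⟩ := by rw [hBj]
    rw [this, hY, Basis.constr_basis]
    simp
  have hY0 : Y (e' 0) = -∑ i ∈ Finset.range (m + 1), f₁.coeff i • e' (m - i) := by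
    have : e' 0 = B ⟨0, by omega⟩ := by rw [hBj]
    rw [this, hY, Basis.constr_basis]
    simp
  have hpow : ∀ i, i ≤ m → (Y ^ i) (e' m) = e' (m - i) := by
    intro i
    induction i with
    | zero => intro _; simp
    | succ i ih =>
      intro hi
      rw [pow_succ', Module.End.mul_apply, ih (by omega)]
      have : m - i = (m - (i + 1)) + 1 := by omega
      rw [this, hY1 _ (by omega)]
  -- surjectivity
  have hlt : ∀ j, j < m → e' j ∈ LinearMap.range Y := fun j hj => ⟨_, hY1 j hj⟩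
  have hlast : e' m ∈ LinearMap.range Y := by
    have h1 : f₁.coeff 0 • e' m =
        -Y (e' 0) - ∑ i ∈ Finset.range m, f₁.coeff (i + 1) • e' (m - (i + 1)) := by
      rw [hY0, Finset.sum_range_succ']
      simp
    have h2 : f₁.coeff 0 • e' m ∈ LinearMap.range Y := by
      rw [h1]
      refine Submodule.sub_mem _ (Submodule.neg_mem _ ⟨_, rfl⟩) (Submodule.sum_mem _ ?_)
      intro i hi
      exact Submodule.smul_mem _ _ (hlt _ (by have := Finset.mem_range.mp hi; omega))
    exact (Submodule.smul_mem_iff _ h0).mp h2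
  have hsurj : Function.Surjective Y := by
    rw [← LinearMap.range_eq_top, eq_top_iff, ← B.span_eq, Submodule.span_le]
    rintro _ ⟨j, rfl⟩
    rw [hBj]
    by_cases hj : (j : ℕ) < m
    · exact hlt _ hj
    · have : (j : ℕ) = m := by have := j.isLt; omega
      rw [this]; exact hlast
  have hinj : Function.Injective Y := LinearMap.injective_iff_surjective.mpr hsurj
  refine ⟨LinearEquiv.ofBijective Y ⟨hinj, hsurj⟩, ?_, ?_, ?_⟩
  · intro j hj
    exact hY1 j hj
  · have hco : ((LinearEquiv.ofBijective Y ⟨hinj, hsurj⟩ : W ≃ₗ[F] W) : W →ₗ[F] W) = Y := by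
      ext x; rfl
    rw [hco]
    unfold Cyc
    have : (fun i : Fin (m + 1) => (Y ^ (i : ℕ)) (e' m)) =
        (fun j : Fin (m + 1) => e' (j : ℕ)) ∘ Fin.rev := by
      funext i
      rw [hpow _ (by have := i.isLt; omega)]
      simp only [Function.comp_apply, Fin.val_rev]
      congr 1
      omega
    rw [this]
    exact hLI.comp _ Fin.rev_injective
  · have hco : ((LinearEquiv.ofBijective Y ⟨hinj, hsurj⟩ : W ≃ₗ[F] W) : W →ₗ[F] W) = Y := by
      ext x; rfl
    rw [hco]
    refine ⟨hf₁, hdeg, ?_⟩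
    rw [Polynomial.aeval_eq_sum_range, hdeg, Finset.sum_range_succ, LinearMap.add_apply,
      LinearMap.sum_apply]
    have hlead : f₁.coeff (m + 1) = 1 := by
      rw [← hdeg]; exact hf₁.coeff_natDegree
    rw [hlead, one_smul, pow_succ', Module.End.mul_apply, hpow m le_rfl, Nat.sub_self, hY0]
    rw [add_neg_eq_zero]
    refine Finset.sum_congr rfl ?_
    intro i hi
    rw [LinearMap.smul_apply, hpow i (by have := Finset.mem_range.mp hi; omega)]

/-- (QK) the key lemma, from a cyclic `K` on `range Γ` with `Γ K` nilpotent. -/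
theorem Qlemma_of_K {W : Type*} [AddCommGroup W] [Module F W] [FiniteDimensional F W]
    {m : ℕ} (hm : finrank F W = m + 1) (Γ K : Module.End F W) (κ b₀ : W)
    (hκ : Γ κ = 0) (hκ' : κ ∉ LinearMap.range Γ) (hrank : finrank F (LinearMap.range Γ) = m)
    (hK : ∀ x, K x ∈ LinearMap.range Γ) (hb : b₀ ∈ LinearMap.range Γ)
    (hLI : LinearIndependent F (fun i : Fin m => (K ^ (i : ℕ)) b₀))
    (hnil : IsNilpotent (Γ ∘ₗ K))
    (f₁ : F[X]) (hf₁ : f₁.Monic) (hdeg : f₁.natDegree = m + 1) (h0 : f₁.coeff 0 ≠ 0) :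
    ∃ (Y₁ : W ≃ₗ[F] W) (b : W), Cyc (m + 1) (Y₁ : W →ₗ[F] W) b ∧
      Rel (m + 1) (Y₁ : W →ₗ[F] W) b f₁ ∧ IsNilpotent (Γ ∘ₗ (Y₁.symm : W →ₗ[F] W)) := by
  classical
  -- all powers of `K` at `b₀` lie in `P = range Γ`
  have hKP : ∀ j, (K ^ j) b₀ ∈ LinearMap.range Γ := by
    intro j
    cases j with
    | zero => simpa using hb
    | succ j => rw [pow_succ', Module.End.mul_apply]; exact hK _
  -- `P` is the span of the Krylov family
  have hspanle : Submodule.span F (Set.range (fun i : Fin m => (K ^ (i : ℕ)) b₀)) ≤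
      LinearMap.range Γ := by
    rw [Submodule.span_le]
    rintro _ ⟨i, rfl⟩
    exact hKP _
  have hspan : Submodule.span F (Set.range (fun i : Fin m => (K ^ (i : ℕ)) b₀)) =
      LinearMap.range Γ := by
    apply Submodule.eq_of_le_of_finrank_eq hspanle
    rw [finrank_span_eq_card hLI, hrank, Fintype.card_fin]
  -- the basis
  set e' : ℕ → W := fun j => if j < m then (K ^ j) b₀ else (K ^ m) b₀ + κ with he'
  have he1 : ∀ j, j < m → e' j = (K ^ j) b₀ := fun j hj => by simp [he', hj]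
  have he2 : e' m = (K ^ m) b₀ + κ := by simp [he']
  have hLI' : LinearIndependent F (fun j : Fin (m + 1) => e' (j : ℕ)) := by
    have hsn : (fun j : Fin (m + 1) => e' (j : ℕ)) =
        Fin.snoc (fun i : Fin m => (K ^ (i : ℕ)) b₀) ((K ^ m) b₀ + κ) := by
      funext j
      refine Fin.lastCases ?_ (fun i => ?_) j
      · simp [he2]
      · simp [he1 _ i.isLt]
    rw [hsn, linearIndependent_finSnoc]
    refine ⟨hLI, ?_⟩
    rw [hspan]
    intro hmem
    apply hκ'
    have := Submodule.sub_mem _ hmem (hKP m)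
    simpa using this
  obtain ⟨Y₁, hY1, hcyc, hrel⟩ := QK_companion hm e' hLI' f₁ hf₁ hdeg h0
  refine ⟨Y₁, e' m, hcyc, hrel, ?_⟩
  -- the inverse on the basis
  have hZ : ∀ j, j < m → Y₁.symm (e' j) = e' (j + 1) := by
    intro j hj
    rw [← hY1 j hj, LinearEquiv.symm_apply_apply]
  -- `Γ Z = Γ K` on the generators of `P`
  have hgen' : ∀ j, j < m → Γ (Y₁.symm ((K ^ j) b₀)) = Γ (K ((K ^ j) b₀)) := by
    intro j hj
    rw [← he1 _ hj, hZ _ hj]
    by_cases hi : j + 1 < m
    · rw [he1 _ hi, he1 _ hj, pow_succ', Module.End.mul_apply]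
    · have him : j + 1 = m := by omega
      have hpw : (K ^ m) b₀ = K ((K ^ j) b₀) := by
        rw [← him, pow_succ', Module.End.mul_apply]
      rw [him, he2, map_add, hκ, add_zero, he1 _ hj, hpw]
  have hgen : ∀ i : Fin m, Γ (Y₁.symm ((K ^ (i : ℕ)) b₀)) = Γ (K ((K ^ (i : ℕ)) b₀)) :=
    fun i => hgen' _ i.isLt
  have hP : ∀ p ∈ LinearMap.range Γ, Γ (Y₁.symm p) = Γ (K p) := by
    intro p hp
    rw [← hspan] at hp
    have hEq : Set.EqOn (Γ ∘ₗ (Y₁.symm : W →ₗ[F] W)) (Γ ∘ₗ K)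
        (Set.range (fun i : Fin m => (K ^ (i : ℕ)) b₀)) := by
      rintro _ ⟨i, rfl⟩
      exact hgen i
    exact LinearMap.eqOn_span hEq hp
  obtain ⟨k, hk⟩ := hnil
  refine ⟨k + 1, ?_⟩
  have hpowP : ∀ n, ∀ p ∈ LinearMap.range Γ,
      ((Γ ∘ₗ (Y₁.symm : W →ₗ[F] W)) ^ n) p = ((Γ ∘ₗ K) ^ n) p := by
    intro n
    induction n with
    | zero => intro p _; simp
    | succ n ih =>
      intro p hp
      rw [pow_succ, pow_succ, Module.End.mul_apply, Module.End.mul_apply,
        LinearMap.comp_apply, LinearMap.comp_apply, LinearEquiv.coe_coe, hP p hp]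
      exact ih _ ⟨_, rfl⟩
  ext w
  rw [pow_succ, Module.End.mul_apply, LinearMap.comp_apply, hpowP k _ ⟨_, rfl⟩, hk]
  simp

end Cfsg.Agent.Helper24.Ore
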