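import Mathlib

/-!
# (Q) for S3664: extension of `N` by an automorphism `σ` of order `3`, acting compatibly on `V`
-/

set_option autoImplicit false

namespace Cfsg.Agent.Helper24.PG63

/-- the subgroup of pairs `(α, β)` of automorphisms of `N` and `V` with
`β ψN(n) β⁻¹ = ψN(α n)` -/
def compatSub {N V : Type} [Group N] [CommGroup V] (ψN : N →* MulAut V) :
    Subgroup (MulAut N × MulAut V) where
  carrier := {c | ∀ n : N, c.2 * ψN n * c.2⁻¹ = ψN (c.1 n)}
  one_mem' := by
    intro n
    simp
  mul_mem' := by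
    intro a b ha hb n
    have h1 := hb n
    have h2 := ha (b.1 n)
    show (a * b).2 * ψN n * ((a * b).2)⁻¹ = ψN ((a * b).1 n)
    rw [Prod.snd_mul, Prod.fst_mul, MulAut.mul_apply, ← h2, ← h1, mul_inv_rev]
    group
  inv_mem' := by
    intro a ha n
    have h1 := ha (a.1⁻¹ n)
    show (a⁻¹).2 * ψN n * ((a⁻¹).2)⁻¹ = ψN ((a⁻¹).1 n)
    rw [Prod.snd_inv, Prod.fst_inv, inv_inv]
    rw [MulAut.apply_inv_self] at h1
    rw [← h1]
    group

/-- (Q) extension of `N` by an automorphism `σ` of order `3`, acting compatibly on `V` -/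
theorem exists_extension {N V : Type} [Group N] [Finite N] [CommGroup V] (σ : MulAut N)
    (ψN : N →* MulAut V) (Φ : MulAut V) (hσ : σ ^ 3 = 1) (hσ1 : σ ≠ 1) (hΦ : Φ ^ 3 = 1)
    (hcompat : ∀ n : N, Φ * ψN n * Φ⁻¹ = ψN (σ n)) (h3 : ¬ 3 ∣ Nat.card N) :
    ∃ (P : Type) (_ : Group P) (_ : Finite P) (ι : N →* P) (ψ : P →* MulAut V),
      Function.Injective ι ∧ (∀ n, ψ (ι n) = ψN n) ∧ Nat.card P = 3 * Nat.card N ∧
      (∀ a : P, ¬ 3 ∣ orderOf a → ∃ n, ι n = a) ∧
      (∀ n : N, σ n = n → ¬ 3 ∣ orderOf n → ∃ a : P, orderOf a = 3 * orderOf n) ∧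
      (∀ a : P, ∀ q : ℕ, q.Prime → q ≠ 3 → orderOf a = 3 * q →
        ∃ n : N, orderOf n = q ∧ σ n = n) := by
  classical
  have : Fact (Nat.Prime 3) := ⟨Nat.prime_three⟩
  set c0 : MulAut N × MulAut V := (σ, Φ) with hc0
  have hc03 : c0 ^ 3 = 1 := by
    rw [hc0, Prod.pow_mk, hσ, hΦ]
    rfl
  have hc01 : c0 ≠ 1 := fun h => hσ1 (congrArg Prod.fst h)
  have hord : orderOf c0 = 3 := orderOf_eq_prime hc03 hc01
  set C : Subgroup (MulAut N × MulAut V) := Subgroup.zpowers c0 with hC
  have hCcard : Nat.card C = 3 := by rw [hC, Nat.card_zpowers, hord]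
  have : Finite C := Nat.finite_of_card_ne_zero (by rw [hCcard]; norm_num)
  have hCle : C ≤ compatSub ψN := by
    rw [hC, Subgroup.zpowers_le]
    exact hcompat
  set φ : C →* MulAut N := (MonoidHom.fst _ _).comp C.subtype with hφ
  set ψ2 : C →* MulAut V := (MonoidHom.snd _ _).comp C.subtype with hψ2
  have hlift : ∀ c : C,
      ψN.comp (φ c).toMonoidHom = (MulAut.conj (ψ2 c)).toMonoidHom.comp ψN := by
    intro c
    ext n : 1
    simp only [MonoidHom.comp_apply, MulEquiv.coe_toMonoidHom, MulAut.conj_apply]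
    exact (hCle c.2 n).symm
  have : Finite (N ⋊[φ] C) := Finite.of_equiv _ SemidirectProduct.equivProd.symm
  -- the generator of `C`
  set c : C := ⟨c0, Subgroup.mem_zpowers c0⟩ with hc
  have hcord : orderOf c = 3 := by rw [hc, Subgroup.orderOf_mk, hord]
  have hφc : ∀ n : N, φ c n = σ n := fun n => rfl
  have hcardP : Nat.card (N ⋊[φ] C) = 3 * Nat.card N := by
    rw [SemidirectProduct.card, hCcard, mul_comm]
  -- elements of order prime to 3 lie in `N`
  have hprime3 : ∀ a : N ⋊[φ] C, ¬ 3 ∣ orderOf a → ∃ n, SemidirectProduct.inl n = a := by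
    intro a ha
    have hr : (SemidirectProduct.rightHom a : C) = 1 := by
      have h1 : orderOf (SemidirectProduct.rightHom a : C) ∣ orderOf a :=
        orderOf_map_dvd _ a
      have h2 : orderOf (SemidirectProduct.rightHom a : C) ∣ 3 := by
        rw [← hCcard]
        exact orderOf_dvd_natCard _
      rcases (Nat.dvd_prime Nat.prime_three).1 h2 with h | h
      · exact orderOf_eq_one_iff.1 h
      · rw [h] at h1
        exact absurd h1 ha
    have hk : a ∈ (SemidirectProduct.rightHom : N ⋊[φ] C →* C).ker := MonoidHom.mem_ker.2 hr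
    rw [← SemidirectProduct.range_inl_eq_ker_rightHom] at hk
    exact hk
  -- conjugation of `inl n` by `inr c`
  have hconj : ∀ n : N, (SemidirectProduct.inr c : N ⋊[φ] C) * SemidirectProduct.inl n *
      (SemidirectProduct.inr c)⁻¹ = SemidirectProduct.inl (σ n) := by
    intro n
    rw [← hφc, SemidirectProduct.inl_aut, map_inv]
  have hinr : orderOf (SemidirectProduct.inr c : N ⋊[φ] C) = 3 := by
    rw [orderOf_injective _ SemidirectProduct.inr_injective c, hcord]
  refine ⟨N ⋊[φ] C, inferInstance, inferInstance, SemidirectProduct.inl,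
    SemidirectProduct.lift ψN ψ2 hlift, SemidirectProduct.inl_injective,
    fun n => SemidirectProduct.lift_inl _ _ _ n, hcardP, hprime3, ?_, ?_⟩
  · -- a `σ`-fixed element of order prime to 3 gives an element of order `3 * orderOf n`
    intro n hn h3n
    have hcomm : Commute (SemidirectProduct.inl n : N ⋊[φ] C) (SemidirectProduct.inr c) := by
      have h := hconj n
      rw [hn] at h
      show SemidirectProduct.inl n * SemidirectProduct.inr c =
        SemidirectProduct.inr c * SemidirectProduct.inl n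
      calc (SemidirectProduct.inl n : N ⋊[φ] C) * SemidirectProduct.inr c
          = (SemidirectProduct.inr c * SemidirectProduct.inl n *
              (SemidirectProduct.inr c)⁻¹) * SemidirectProduct.inr c := by rw [h]
        _ = SemidirectProduct.inr c * SemidirectProduct.inl n := by group
    have ho1 : orderOf (SemidirectProduct.inl n : N ⋊[φ] C) = orderOf n :=
      orderOf_injective _ SemidirectProduct.inl_injective n
    refine ⟨SemidirectProduct.inl n * SemidirectProduct.inr c, ?_⟩
    have hco : (orderOf (SemidirectProduct.inl n : N ⋊[φ] C)).Coprime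
        (orderOf (SemidirectProduct.inr c : N ⋊[φ] C)) := by
      rw [ho1, hinr]
      exact ((Nat.Prime.coprime_iff_not_dvd Nat.prime_three).2 h3n).symm
    rw [hcomm.orderOf_mul_eq_mul_orderOf_of_coprime hco, ho1, hinr, mul_comm]
  · -- an element of order `3 q` gives a `σ`-fixed element of order `q`
    intro a q hq hq3 ha
    have hqpos : 0 < q := hq.pos
    have h3q : ¬ 3 ∣ q := fun h => hq3 ((Nat.prime_dvd_prime_iff_eq Nat.prime_three hq).1 h).symm
    -- `x = a ^ 3` of order `q`, `z = a ^ q` of order `3`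
    have hx : orderOf (a ^ 3) = q := by
      rw [orderOf_pow' a (by norm_num : (3 : ℕ) ≠ 0), ha,
        Nat.gcd_eq_right (Dvd.intro _ rfl), Nat.mul_div_cancel_left _ (by norm_num)]
    have hz : orderOf (a ^ q) = 3 := by
      rw [orderOf_pow' a hqpos.ne', ha, Nat.gcd_eq_right (Dvd.intro_left _ rfl),
        Nat.mul_div_cancel _ hqpos]
    have hxz : Commute (a ^ 3) (a ^ q) := (Commute.refl a).pow_pow 3 q
    -- Sylow 3-subgroups have order 3
    have hsyl : ∀ S : Sylow 3 (N ⋊[φ] C), Nat.card S = 3 := by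
      intro S
      rw [Sylow.card_eq_multiplicity, hcardP,
        Nat.factorization_mul (by norm_num) Nat.card_pos.ne', Finsupp.add_apply,
        Nat.Prime.factorization_self Nat.prime_three,
        Nat.factorization_eq_zero_of_not_dvd h3]
      norm_num
    -- Sylow subgroups containing `z` and `inr c`
    have hZp : IsPGroup 3 (Subgroup.zpowers (a ^ q)) :=
      IsPGroup.of_card (n := 1) (by rw [Nat.card_zpowers, hz, pow_one])
    have hRp : IsPGroup 3 (Subgroup.zpowers (SemidirectProduct.inr c : N ⋊[φ] C)) :=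
      IsPGroup.of_card (n := 1) (by rw [Nat.card_zpowers, hinr, pow_one])
    obtain ⟨S1, hS1⟩ := hZp.exists_le_sylow
    obtain ⟨S2, hS2⟩ := hRp.exists_le_sylow
    have hS2eq : Subgroup.zpowers (SemidirectProduct.inr c : N ⋊[φ] C) = (S2 : Subgroup _) := by
      apply Subgroup.eq_of_le_of_card_ge hS2
      rw [hsyl S2, Nat.card_zpowers, hinr]
    obtain ⟨g, hg⟩ := MulAction.exists_smul_eq (N ⋊[φ] C) S1 S2
    have hzS1 : a ^ q ∈ (S1 : Subgroup _) := hS1 (Subgroup.mem_zpowers _)
    set w := g * a ^ q * g⁻¹ with hw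
    have hwS2 : w ∈ (S2 : Subgroup _) := by
      rw [← hg, Sylow.smul_def, Sylow.pointwise_smul_def]
      have h := Subgroup.smul_mem_pointwise_smul (a ^ q) (MulAut.conj g) (S1 : Subgroup _) hzS1
      rw [MulAut.smul_def, MulAut.conj_apply] at h
      exact h
    have hword : orderOf w = 3 := by
      have h := MulEquiv.orderOf_eq (MulAut.conj g) (a ^ q)
      rw [MulAut.conj_apply] at h
      rw [hw, h, hz]
    -- `inr c` is a power of `w`
    have hwR : Subgroup.zpowers w = Subgroup.zpowers (SemidirectProduct.inr c : N ⋊[φ] C) := by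
      apply Subgroup.eq_of_le_of_card_ge
      · rw [Subgroup.zpowers_le, hS2eq]
        exact hwS2
      · rw [Nat.card_zpowers, Nat.card_zpowers, hword, hinr]
    have hcw : (SemidirectProduct.inr c : N ⋊[φ] C) ∈ Subgroup.zpowers w := by
      rw [hwR]
      exact Subgroup.mem_zpowers _
    obtain ⟨j, hj⟩ := Subgroup.mem_zpowers_iff.1 hcw
    -- the conjugate `x'` of `x` commutes with `inr c`
    set x' := g * a ^ 3 * g⁻¹ with hx'
    have hx'w : Commute x' w := by
      show x' * w = w * x'
      rw [hx', hw]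
      have h := hxz.eq
      calc g * a ^ 3 * g⁻¹ * (g * a ^ q * g⁻¹) = g * (a ^ 3 * a ^ q) * g⁻¹ := by group
        _ = g * (a ^ q * a ^ 3) * g⁻¹ := by rw [h]
        _ = g * a ^ q * g⁻¹ * (g * a ^ 3 * g⁻¹) := by group
    have hx'c : Commute x' (SemidirectProduct.inr c : N ⋊[φ] C) := by
      rw [← hj]
      exact hx'w.zpow_right j
    have hx'ord : orderOf x' = q := by
      have h := MulEquiv.orderOf_eq (MulAut.conj g) (a ^ 3)
      rw [MulAut.conj_apply] at h
      rw [hx', h, hx]
    obtain ⟨n', hn'⟩ := hprime3 x' (by rw [hx'ord]; exact h3q)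
    refine ⟨n', ?_, ?_⟩
    · have h := orderOf_injective (SemidirectProduct.inl : N →* N ⋊[φ] C)
        SemidirectProduct.inl_injective n'
      rw [← h, hn', hx'ord]
    · apply SemidirectProduct.inl_injective (φ := φ)
      rw [← hconj n', hn']
      have h := hx'c.eq
      calc (SemidirectProduct.inr c : N ⋊[φ] C) * x' * (SemidirectProduct.inr c)⁻¹
          = x' * SemidirectProduct.inr c * (SemidirectProduct.inr c)⁻¹ := by rw [h]
        _ = x' := by group

end Cfsg.Agent.Helper24.PG63
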