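import Mathlib
import Cfsg.Agent.Helper1.ShultDefs

set_option autoImplicit false

/-!
# Shult's theorem for `S₃` (S4305), piece (B1) of helper1's plan #4604: basic tools (helper24)

Elementary lemmas on normalizers, the conjugates `τ_i = σ^i τ σ^{-i}` of `τ`, the invariance of
`BCfg` under `τ ↦ τ_i`, and the subgroup `SD Q D` of the elements of `N(Q) ∩ N(D)` acting trivially
on `Q / D`.
-/

namespace Cfsg.Agent.Helper24.ShultB

open Subgroup Cfsg.Agent.Helper1.Shult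

variable {H : Type*} [Group H]

theorem conj_mem {X : Subgroup H} {g x : H} (hg : g ∈ normalizer (X : Set H)) (hx : x ∈ X) :
    g * x * g⁻¹ ∈ X := (mem_normalizer_iff.mp hg x).mp hx

theorem conj_mem' {X : Subgroup H} {g x : H} (hg : g ∈ normalizer (X : Set H)) (hx : x ∈ X) :
    g⁻¹ * x * g ∈ X := by
  have := conj_mem (inv_mem hg) hx
  simpa using this

/-- an element normalizing `D` normalizes its centralizer -/
theorem mem_normalizer_centralizer {D : Subgroup H} {g : H} (hg : g ∈ normalizer (D : Set H)) :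
    g ∈ normalizer ((centralizer (D : Set H) : Subgroup H) : Set H) := by
  have key : ∀ g : H, g ∈ normalizer (D : Set H) → ∀ x ∈ centralizer (D : Set H),
      g * x * g⁻¹ ∈ centralizer (D : Set H) := by
    intro g hg x hx
    rw [mem_centralizer_iff] at hx ⊢
    intro d hd
    have h1 := hx _ (conj_mem' hg hd)
    calc d * (g * x * g⁻¹) = g * ((g⁻¹ * d * g) * x) * g⁻¹ := by group
      _ = g * (x * (g⁻¹ * d * g)) * g⁻¹ := by rw [h1]
      _ = g * x * g⁻¹ * d := by group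
  rw [mem_normalizer_iff]
  intro x
  refine ⟨key g hg x, fun hx => ?_⟩
  have := key g⁻¹ (inv_mem hg) _ hx
  have e : g⁻¹ * (g * x * g⁻¹) * g⁻¹⁻¹ = x := by group
  rwa [e] at this

theorem mem_normalizer_inf {A B : Subgroup H} {g : H} (hA : g ∈ normalizer (A : Set H))
    (hB : g ∈ normalizer (B : Set H)) : g ∈ normalizer ((A ⊓ B : Subgroup H) : Set H) := by
  rw [mem_normalizer_iff] at hA hB ⊢
  intro x
  rw [mem_inf, mem_inf, hA x, hB x]

/-- in a finite group, closure under conjugation by `g` is enough for `g ∈ N(X)` -/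
theorem mem_normalizer_of_conj_mem [Finite H] {X : Subgroup H} {g : H}
    (h : ∀ x ∈ X, g * x * g⁻¹ ∈ X) : g ∈ normalizer (X : Set H) := by
  have hpow : ∀ n : ℕ, ∀ x ∈ X, g ^ n * x * (g ^ n)⁻¹ ∈ X := by
    intro n
    induction n with
    | zero => intro x hx; simpa using hx
    | succ n ih =>
      intro x hx
      have := h _ (ih x hx)
      have e : g * (g ^ n * x * (g ^ n)⁻¹) * g⁻¹ = g ^ (n + 1) * x * (g ^ (n + 1))⁻¹ := by
        rw [pow_succ']; group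
      rwa [e] at this
  rw [mem_normalizer_iff]
  intro x
  refine ⟨h x, fun hx => ?_⟩
  have hpos : 0 < orderOf g := orderOf_pos g
  have h1 := hpow (orderOf g - 1) _ hx
  have e : g ^ (orderOf g - 1) = g⁻¹ := by
    rw [eq_inv_iff_mul_eq_one, ← pow_succ, Nat.sub_add_cancel hpos, pow_orderOf_eq_one]
  rw [e] at h1
  have e2 : g⁻¹ * (g * x * g⁻¹) * g⁻¹⁻¹ = x := by group
  rwa [e2] at h1

/-- the conjugate `σ^i τ σ^{-i}` -/
def tauI (σ τ : H) (i : ℕ) : H := σ ^ i * τ * σ⁻¹ ^ i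

theorem tauI_eq (σ τ : H) (i : ℕ) : tauI σ τ i = σ ^ i * τ * (σ ^ i)⁻¹ := by
  rw [tauI, inv_pow]

theorem s3pair_tauI {σ τ : H} (h : S3Pair σ τ) (i : ℕ) : S3Pair σ (tauI σ τ i) := by
  refine ⟨h.oσ, ?_, ?_⟩
  · rw [tauI_eq]
    have := orderOf_injective (MulAut.conj (σ ^ i)).toMonoidHom (MulAut.conj (σ ^ i)).injective τ
    rw [← h.oτ, ← this]
    rfl
  · rw [tauI_eq]
    have h1 : σ ^ i * σ = σ * σ ^ i := by rw [← pow_succ, ← pow_succ']
    calc σ ^ i * τ * (σ ^ i)⁻¹ * σ * (σ ^ i * τ * (σ ^ i)⁻¹)⁻¹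
        = σ ^ i * (τ * ((σ ^ i)⁻¹ * (σ * σ ^ i)) * τ⁻¹) * (σ ^ i)⁻¹ := by group
      _ = σ ^ i * (τ * σ * τ⁻¹) * (σ ^ i)⁻¹ := by rw [← h1]; group
      _ = σ⁻¹ := by
        rw [h.rel]
        have h2 : σ ^ i * σ⁻¹ = σ⁻¹ * σ ^ i := by
          have : σ⁻¹ * (σ ^ i * σ) * σ⁻¹ = σ⁻¹ * (σ * σ ^ i) * σ⁻¹ := by rw [h1]
          calc σ ^ i * σ⁻¹ = σ⁻¹ * (σ * σ ^ i) * σ⁻¹ := by rw [← h1]; group
            _ = σ⁻¹ * σ ^ i := by group
        rw [h2]; group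

theorem tauI_mem_normalizer {σ τ : H} {X : Subgroup H} (h : Inv σ τ X) (i : ℕ) :
    tauI σ τ i ∈ normalizer (X : Set H) := by
  rw [tauI_eq]
  exact mul_mem (mul_mem (pow_mem h.1 i) h.2) (inv_mem (pow_mem h.1 i))

theorem inv_tauI_iff {σ τ : H} {X : Subgroup H} (i : ℕ) :
    Inv σ (tauI σ τ i) X ↔ Inv σ τ X := by
  constructor
  · rintro ⟨h1, h2⟩
    refine ⟨h1, ?_⟩
    have e : τ = (σ ^ i)⁻¹ * tauI σ τ i * σ ^ i := by rw [tauI_eq]; group
    rw [e]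
    exact mul_mem (mul_mem (inv_mem (pow_mem h1 i)) h2) (pow_mem h1 i)
  · intro h
    exact ⟨h.1, tauI_mem_normalizer h i⟩

theorem fix_tauI {σ τ : H} (X : Subgroup H) (i : ℕ) : Fix σ (tauI σ τ i) X = Fix σ τ X := by
  have key : centralizer ({σ, tauI σ τ i} : Set H) = centralizer ({σ, τ} : Set H) := by
    ext v
    simp only [mem_centralizer_iff, Set.mem_insert_iff, Set.mem_singleton_iff, forall_eq_or_imp,
      forall_eq]
    constructor
    · rintro ⟨h1, h2⟩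
      refine ⟨h1, ?_⟩
      have h3 : σ ^ i * v = v * σ ^ i := ((Commute.pow_left (show Commute σ v from h1) i)).eq
      have h4 : (σ ^ i)⁻¹ * v = v * (σ ^ i)⁻¹ :=
        ((Commute.pow_left (show Commute σ v from h1) i)).inv_left.eq
      rw [tauI_eq] at h2
      calc τ * v = (σ ^ i)⁻¹ * ((σ ^ i * τ * (σ ^ i)⁻¹) * (σ ^ i * v)) := by group
        _ = (σ ^ i)⁻¹ * ((σ ^ i * τ * (σ ^ i)⁻¹) * v) * σ ^ i := by rw [h3]; group
        _ = (σ ^ i)⁻¹ * v * (σ ^ i * τ * (σ ^ i)⁻¹) * σ ^ i := by rw [h2]; group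
        _ = v * τ := by rw [h4]; group
    · rintro ⟨h1, h2⟩
      refine ⟨h1, ?_⟩
      have h3 : σ ^ i * v = v * σ ^ i := ((Commute.pow_left (show Commute σ v from h1) i)).eq
      have h4 : (σ ^ i)⁻¹ * v = v * (σ ^ i)⁻¹ :=
        ((Commute.pow_left (show Commute σ v from h1) i)).inv_left.eq
      rw [tauI_eq]
      calc σ ^ i * τ * (σ ^ i)⁻¹ * v = σ ^ i * τ * (v * (σ ^ i)⁻¹) := by rw [← h4]; group
        _ = σ ^ i * (τ * v) * (σ ^ i)⁻¹ := by group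
        _ = σ ^ i * v * τ * (σ ^ i)⁻¹ := by rw [h2]; group
        _ = v * (σ ^ i * τ * (σ ^ i)⁻¹) := by rw [h3]; group
  unfold Cfsg.Agent.Helper1.Shult.Fix
  rw [key]

/-- `BCfg` is invariant under replacing `τ` by `σ^i τ σ^{-i}` -/
theorem bcfg_tauI {p q r : ℕ} {σ τ : H} {P Q W CP : Subgroup H} (c : BCfg p q r σ τ P Q W CP)
    (i : ℕ) : BCfg p q r σ (tauI σ τ i) P Q W CP where
  hS := s3pair_tauI c.hS i
  hp2 := c.hp2
  hp3 := c.hp3
  hq2 := c.hq2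
  hq3 := c.hq3
  hr2 := c.hr2
  hr3 := c.hr3
  hpq := c.hpq
  hqr := c.hqr
  hP := c.hP
  hQ := c.hQ
  hQea := c.hQea
  hW := c.hW
  hWr := c.hWr
  hPinv := (inv_tauI_iff i).2 c.hPinv
  hQinv := (inv_tauI_iff i).2 c.hQinv
  hWinv := (inv_tauI_iff i).2 c.hWinv
  hPQ := c.hPQ
  hPW := c.hPW
  hQW := c.hQW
  hfaith := c.hfaith
  hfixW := by rw [fix_tauI]; exact c.hfixW
  hfixQ := by rw [fix_tauI]; exact c.hfixQ
  hfixP := by rw [fix_tauI]; exact c.hfixP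
  hCQP := c.hCQP
  hCP := c.hCP
  hCPne := c.hCPne
  hPcomm := c.hPcomm
  hPpow := c.hPpow
  hPirr := fun P0 h1 h2 h3 => c.hPirr P0 h1 h2 ((inv_tauI_iff i).1 h3)
  hWQ := c.hWQ

/-- the elements of `N(Q) ∩ N(D)` acting trivially on `Q / D` -/
def SD (Q D : Subgroup H) : Subgroup H where
  carrier := {g | g ∈ normalizer (Q : Set H) ∧ g ∈ normalizer (D : Set H) ∧
    ∀ x ∈ Q, x⁻¹ * (g * x * g⁻¹) ∈ D}
  mul_mem' := by
    rintro g h ⟨hg1, hg2, hg3⟩ ⟨hh1, hh2, hh3⟩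
    refine ⟨mul_mem hg1 hh1, mul_mem hg2 hh2, fun x hx => ?_⟩
    have h1 := hh3 x hx
    have h2 := hg3 _ (conj_mem hh1 hx)
    have e : x⁻¹ * (g * h * x * (g * h)⁻¹)
        = (x⁻¹ * (h * x * h⁻¹)) * ((h * x * h⁻¹)⁻¹ * (g * (h * x * h⁻¹) * g⁻¹)) := by group
    rw [e]
    exact mul_mem h1 h2
  one_mem' := by
    refine ⟨one_mem _, one_mem _, fun x _ => ?_⟩
    simp
  inv_mem' := by
    rintro g ⟨hg1, hg2, hg3⟩
    refine ⟨inv_mem hg1, inv_mem hg2, fun x hx => ?_⟩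
    have h1 := hg3 _ (conj_mem' hg1 hx)
    have e : x⁻¹ * (g⁻¹ * x * g⁻¹⁻¹) = ((g⁻¹ * x * g)⁻¹ * (g * (g⁻¹ * x * g) * g⁻¹))⁻¹ := by group
    rw [e]
    exact inv_mem h1

theorem mem_SD {Q D : Subgroup H} {g : H} : g ∈ SD Q D ↔ g ∈ normalizer (Q : Set H) ∧
    g ∈ normalizer (D : Set H) ∧ ∀ x ∈ Q, x⁻¹ * (g * x * g⁻¹) ∈ D := Iff.rfl

/-- coprimality with 6 of the order of a `p`-group, `p ≠ 2, 3` -/
theorem coprime_six_of_pgroup {p : ℕ} [hp : Fact p.Prime] (hp2 : p ≠ 2) (hp3 : p ≠ 3)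
    {X : Subgroup H} [Finite H] (hX : IsPGroup p X) : (Nat.card X).Coprime 6 := by
  obtain ⟨n, hn⟩ := IsPGroup.iff_card.mp hX
  rw [hn]
  apply Nat.Coprime.pow_left
  rw [Nat.Prime.coprime_iff_not_dvd hp.out]
  intro hdvd
  have h6 : (6 : ℕ) = 2 * 3 := rfl
  rw [h6] at hdvd
  rcases (Nat.Prime.dvd_mul hp.out).1 hdvd with h | h
  · exact hp2 ((Nat.prime_dvd_prime_iff_eq hp.out Nat.prime_two).1 h)
  · exact hp3 ((Nat.prime_dvd_prime_iff_eq hp.out Nat.prime_three).1 h)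

/-- elements of a `p`-group, `p ≠ 2, 3`, are powers of their sixth powers -/
theorem mem_of_pow_six_mem {p : ℕ} [hp : Fact p.Prime] (hp2 : p ≠ 2) (hp3 : p ≠ 3)
    {P : Subgroup H} [Finite H] (hP : IsPGroup p P) {x : H} (hx : x ∈ P) {R : Subgroup H}
    (h6 : x ^ 6 ∈ R) : x ∈ R := by
  have hcop : (Nat.card P).Coprime 6 := coprime_six_of_pgroup hp2 hp3 hP
  have ho : orderOf x ∣ Nat.card P := by
    have := orderOf_dvd_natCard (⟨x, hx⟩ : ↥P)
    rwa [Subgroup.orderOf_mk] at this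
  have hc : Nat.Coprime 6 (orderOf x) := (Nat.Coprime.coprime_dvd_left ho hcop).symm
  obtain ⟨m, hm⟩ := exists_pow_eq_self_of_coprime hc
  rw [← hm]
  exact pow_mem h6 m

end Cfsg.Agent.Helper24.ShultB
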