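import Mathlib
import Cfsg.Agent.Helper1.ShultDefs
import Cfsg.Agent.Helper24.ShultB1a
import Cfsg.Agent.Helper11.ShultL

set_option autoImplicit false
set_option linter.unusedSectionVars false

/-!
# Shult's theorem for `S₃` (S4305), piece (B1): consequences of `σ` centralizing `P / CP` (helper24)
-/

namespace Cfsg.Agent.Helper24.ShultB

open Subgroup Cfsg.Agent.Helper1.Shult

variable {H : Type*} [Group H] [Finite H]

section

variable {p q r : ℕ} [Fact p.Prime] [Fact q.Prime] [Fact r.Prime] {σ τ : H}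
  {P Q W CP : Subgroup H}

theorem bCP_le_P (c : BCfg p q r σ τ P Q W CP) : CP ≤ P := by
  rw [c.hCP]; exact inf_le_left

theorem bCP_le_cent (c : BCfg p q r σ τ P Q W CP) : CP ≤ centralizer (Q : Set H) := by
  rw [c.hCP]; exact inf_le_right

theorem bCP_comm (c : BCfg p q r σ τ P Q W CP) {a u : H} (ha : a ∈ CP) (hu : u ∈ Q) :
    a * u = u * a := by
  have := mem_centralizer_iff.mp ((bCP_le_cent c) ha) u hu
  exact this.symm

theorem bCP_inv (c : BCfg p q r σ τ P Q W CP) : Inv σ τ CP := by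
  rw [c.hCP]
  exact ⟨mem_normalizer_inf c.hPinv.1 (mem_normalizer_centralizer c.hQinv.1),
    mem_normalizer_inf c.hPinv.2 (mem_normalizer_centralizer c.hQinv.2)⟩

theorem bP_le_norm_CP (c : BCfg p q r σ τ P Q W CP) : P ≤ normalizer (CP : Set H) := by
  intro x hx
  rw [c.hCP]
  exact mem_normalizer_inf (le_normalizer hx) (mem_normalizer_centralizer (c.hPQ hx))

theorem bCP_pgroup (c : BCfg p q r σ τ P Q W CP) : IsPGroup p CP :=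
  c.hP.to_le (bCP_le_P c)

theorem tau_sq {τ : H} (hτ : orderOf τ = 2) : τ * τ = 1 := by
  have := pow_orderOf_eq_one τ
  rwa [hτ, pow_two] at this

theorem tau_inv {τ : H} (hτ : orderOf τ = 2) : τ⁻¹ = τ :=
  inv_eq_of_mul_eq_one_left (tau_sq hτ)

/-- `τ` inverts `P / CP` when `σ` centralizes it -/
theorem tau_inverts_mod (c : BCfg p q r σ τ P Q W CP)
    (h1 : ∀ x ∈ P, x⁻¹ * (σ * x * σ⁻¹) ∈ CP) :
    ∀ x ∈ P, x * (τ * x * τ⁻¹) ∈ CP := by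
  intro x hx
  have hτx : τ * x * τ⁻¹ ∈ P := conj_mem c.hPinv.2 hx
  have hy : x * (τ * x * τ⁻¹) ∈ P := mul_mem hx hτx
  have hτ2 := tau_sq c.hS.oτ
  have hτi := tau_inv c.hS.oτ
  have hyτ : (x * (τ * x * τ⁻¹))⁻¹ * (τ * (x * (τ * x * τ⁻¹)) * τ⁻¹) ∈ CP := by
    have h := c.hPcomm _ (inv_mem hτx) _ (inv_mem hx)
    have e : (x * (τ * x * τ⁻¹))⁻¹ * (τ * (x * (τ * x * τ⁻¹)) * τ⁻¹)
        = (τ * x * τ⁻¹)⁻¹ * x⁻¹ * (τ * x * τ⁻¹)⁻¹⁻¹ * x⁻¹⁻¹ := by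
      rw [hτi]
      calc (x * (τ * x * τ))⁻¹ * (τ * (x * (τ * x * τ)) * τ)
          = (τ * x * τ)⁻¹ * x⁻¹ * (τ * x * τ) * x * (τ * τ) := by group
        _ = (τ * x * τ)⁻¹ * x⁻¹ * (τ * x * τ)⁻¹⁻¹ * x⁻¹⁻¹ := by rw [hτ2]; group
    rw [e]; exact h
  obtain ⟨n, hn, hσn, hτn⟩ := Cfsg.Agent.Helper11.Shult.s3_fixed_lift c.hS CP (bCP_inv c)
    (coprime_six_of_pgroup c.hp2 c.hp3 (bCP_pgroup c)) _ (h1 _ hy) hyτ
  have hfix : x * (τ * x * τ⁻¹) * n ∈ Cfsg.Agent.Helper1.Shult.Fix σ τ P := by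
    unfold Cfsg.Agent.Helper1.Shult.Fix
    refine mem_inf.2 ⟨mul_mem hy ((bCP_le_P c) hn), ?_⟩
    rw [mem_centralizer_iff]
    intro g hg
    rcases hg with rfl | hg
    · calc g * (x * (τ * x * τ⁻¹) * n) = g * (x * (τ * x * τ⁻¹) * n) * g⁻¹ * g := by group
        _ = x * (τ * x * τ⁻¹) * n * g := by rw [hσn]
    · rw [Set.mem_singleton_iff] at hg
      subst hg
      calc g * (x * (g * x * g⁻¹) * n) = g * (x * (g * x * g⁻¹) * n) * g⁻¹ * g := by group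
        _ = x * (g * x * g⁻¹) * n * g := by rw [hτn]
  rw [c.hfixP, mem_bot] at hfix
  have : x * (τ * x * τ⁻¹) = n⁻¹ := eq_inv_of_mul_eq_one_left hfix
  rw [this]
  exact inv_mem hn

/-- `σ ^ k` centralizes `P / CP` -/
theorem sigma_mem_SD (c : BCfg p q r σ τ P Q W CP)
    (h1 : ∀ x ∈ P, x⁻¹ * (σ * x * σ⁻¹) ∈ CP) : σ ∈ SD P CP :=
  mem_SD.2 ⟨c.hPinv.1, (bCP_inv c).1, h1⟩

theorem P_le_SD (c : BCfg p q r σ τ P Q W CP) : P ≤ SD P CP := by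
  intro y hy
  refine mem_SD.2 ⟨le_normalizer hy, (bP_le_norm_CP c) hy, fun x hx => ?_⟩
  have := c.hPcomm _ (inv_mem hx) _ hy
  have e : x⁻¹ * (y * x * y⁻¹) = x⁻¹ * y * x⁻¹⁻¹ * y⁻¹ := by group
  rw [e]; exact this

/-- an element of `Q` fixed by `σ` is inverted by `τ` -/
theorem tau_inverts_Qsigma (c : BCfg p q r σ τ P Q W CP) {u : H} (hu : u ∈ Q)
    (hσu : σ * u * σ⁻¹ = u) : τ * u * τ⁻¹ = u⁻¹ := by
  have hτu : τ * u * τ⁻¹ ∈ Q := conj_mem c.hQinv.2 hu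
  have hτ2 := tau_sq c.hS.oτ
  have hτi := tau_inv c.hS.oτ
  have hrel : τ⁻¹ * σ * τ = σ⁻¹ := by
    have := c.hS.rel
    rw [hτi] at this ⊢
    exact this
  have hσu' : σ⁻¹ * u * σ = u := by
    calc σ⁻¹ * u * σ = σ⁻¹ * (σ * u * σ⁻¹) * σ := by rw [hσu]
      _ = u := by group
  have hfix : u * (τ * u * τ⁻¹) ∈ Cfsg.Agent.Helper1.Shult.Fix σ τ Q := by
    unfold Cfsg.Agent.Helper1.Shult.Fix
    refine mem_inf.2 ⟨mul_mem hu hτu, ?_⟩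
    rw [mem_centralizer_iff]
    intro g hg
    rcases hg with rfl | hg
    · have e1 : g * (τ * u * τ⁻¹) * g⁻¹ = τ * u * τ⁻¹ := by
        calc g * (τ * u * τ⁻¹) * g⁻¹ = τ * ((τ⁻¹ * g * τ) * u * (τ⁻¹ * g * τ)⁻¹) * τ⁻¹ := by group
          _ = τ * (g⁻¹ * u * g) * τ⁻¹ := by rw [hrel]; group
          _ = τ * u * τ⁻¹ := by rw [hσu']
      calc g * (u * (τ * u * τ⁻¹)) = (g * u * g⁻¹) * (g * (τ * u * τ⁻¹) * g⁻¹) * g := by group
        _ = u * (τ * u * τ⁻¹) * g := by rw [hσu, e1]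
    · rw [Set.mem_singleton_iff] at hg
      subst hg
      have e1 : g * (g * u * g⁻¹) * g⁻¹ = u := by
        calc g * (g * u * g⁻¹) * g⁻¹ = (g * g) * u * (g * g)⁻¹ := by group
          _ = u := by rw [hτ2]; group
      calc g * (u * (g * u * g⁻¹)) = (g * u * g⁻¹) * (g * (g * u * g⁻¹) * g⁻¹) * g := by group
        _ = (g * u * g⁻¹) * u * g := by rw [e1]
        _ = u * (g * u * g⁻¹) * g := by rw [c.hQea.1 _ hτu _ hu]
  rw [c.hfixQ, mem_bot] at hfix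
  exact eq_inv_of_mul_eq_one_right hfix

/-- `σ` has no fixed points on `Q` -/
theorem sigma_fpf_Q (c : BCfg p q r σ τ P Q W CP)
    (h1 : ∀ x ∈ P, x⁻¹ * (σ * x * σ⁻¹) ∈ CP) :
    ∀ u ∈ Q, σ * u * σ⁻¹ = u → u = 1 := by
  intro u hu hσu
  have hτu := tau_inverts_Qsigma c hu hσu
  have hmod := tau_inverts_mod c h1
  -- every `x ∈ P` centralizes `u`
  have hcent : ∀ x ∈ P, x * u = u * x := by
    intro x hx
    have hxu : x * u * x⁻¹ ∈ Q := conj_mem (c.hPQ hx) hu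
    -- `x u x⁻¹` is fixed by `σ`
    have hσxu : σ * (x * u * x⁻¹) * σ⁻¹ = x * u * x⁻¹ := by
      have hc := h1 x hx
      have hcu := (bCP_comm c) hc hu
      calc σ * (x * u * x⁻¹) * σ⁻¹
          = x * ((x⁻¹ * (σ * x * σ⁻¹)) * (σ * u * σ⁻¹)) * (x⁻¹ * (σ * x * σ⁻¹))⁻¹ * x⁻¹ := by group
        _ = x * ((x⁻¹ * (σ * x * σ⁻¹)) * u) * (x⁻¹ * (σ * x * σ⁻¹))⁻¹ * x⁻¹ := by rw [hσu]
        _ = x * (u * (x⁻¹ * (σ * x * σ⁻¹))) * (x⁻¹ * (σ * x * σ⁻¹))⁻¹ * x⁻¹ := by rw [hcu]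
        _ = x * u * x⁻¹ := by group
    have h2 := tau_inverts_Qsigma c hxu hσxu
    -- the other computation
    have hc' := hmod x hx
    have hcu' : (x * (τ * x * τ⁻¹)) * u⁻¹ = u⁻¹ * (x * (τ * x * τ⁻¹)) :=
      (bCP_comm c) hc' (inv_mem hu)
    have h3 : τ * (x * u * x⁻¹) * τ⁻¹ = x⁻¹ * u⁻¹ * x := by
      calc τ * (x * u * x⁻¹) * τ⁻¹
          = x⁻¹ * ((x * (τ * x * τ⁻¹)) * (τ * u * τ⁻¹)) * (x * (τ * x * τ⁻¹))⁻¹ * x := by group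
        _ = x⁻¹ * ((x * (τ * x * τ⁻¹)) * u⁻¹) * (x * (τ * x * τ⁻¹))⁻¹ * x := by rw [hτu]
        _ = x⁻¹ * (u⁻¹ * (x * (τ * x * τ⁻¹))) * (x * (τ * x * τ⁻¹))⁻¹ * x := by rw [hcu']
        _ = x⁻¹ * u⁻¹ * x := by group
    have h4 : x⁻¹ * u⁻¹ * x = (x * u * x⁻¹)⁻¹ := by rw [← h3, h2]
    -- so `x ^ 2` commutes with `u`
    have h5 : Commute (x ^ 2) u := by
      have h6 : x⁻¹ * u⁻¹ * x = x * u⁻¹ * x⁻¹ := by rw [h4]; group
      have h7 : x ^ 2 * u⁻¹ = u⁻¹ * x ^ 2 := by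
        calc x ^ 2 * u⁻¹ = x * (x * u⁻¹ * x⁻¹) * x := by rw [pow_two]; group
          _ = x * (x⁻¹ * u⁻¹ * x) * x := by rw [h6]
          _ = u⁻¹ * x ^ 2 := by rw [pow_two]; group
      have : Commute (x ^ 2) u⁻¹ := h7
      simpa using this.inv_right
    have hcop : (Nat.card P).Coprime 6 := coprime_six_of_pgroup c.hp2 c.hp3 c.hP
    have ho : orderOf x ∣ Nat.card P := by
      have := orderOf_dvd_natCard (⟨x, hx⟩ : ↥P)
      rwa [Subgroup.orderOf_mk] at this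
    have hc2 : Nat.Coprime 2 (orderOf x) := by
      have h6 : Nat.Coprime 6 (orderOf x) := (Nat.Coprime.coprime_dvd_left ho hcop).symm
      exact Nat.Coprime.coprime_dvd_left (by norm_num : 2 ∣ 6) h6
    obtain ⟨m, hm⟩ := exists_pow_eq_self_of_coprime hc2
    have := (h5.pow_left m).eq
    rwa [hm] at this
  have hmem : u ∈ Q ⊓ centralizer (P : Set H) := by
    refine mem_inf.2 ⟨hu, ?_⟩
    rw [mem_centralizer_iff]
    exact hcent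
  rw [c.hCQP, mem_bot] at hmem
  exact hmem

/-- every element of `Q` is of the form `x⁻¹ σ x σ⁻¹` -/
theorem Q_surj (c : BCfg p q r σ τ P Q W CP)
    (h1 : ∀ x ∈ P, x⁻¹ * (σ * x * σ⁻¹) ∈ CP) :
    ∀ u ∈ Q, ∃ x ∈ Q, x⁻¹ * (σ * x * σ⁻¹) = u := by
  have hfpf := sigma_fpf_Q c h1
  let f : ↥Q → ↥Q := fun x =>
    ⟨(x : H)⁻¹ * (σ * x * σ⁻¹), Q.mul_mem (Q.inv_mem x.2) (conj_mem c.hQinv.1 x.2)⟩
  have hinj : Function.Injective f := by
    intro x y hxy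
    have h2 : (x : H)⁻¹ * (σ * x * σ⁻¹) = (y : H)⁻¹ * (σ * y * σ⁻¹) := congrArg Subtype.val hxy
    have hσx : σ * x * σ⁻¹ ∈ Q := conj_mem c.hQinv.1 x.2
    have hσy : σ * y * σ⁻¹ ∈ Q := conj_mem c.hQinv.1 y.2
    have h3 : σ * ((y : H) * (x : H)⁻¹) * σ⁻¹ = (y : H) * (x : H)⁻¹ := by
      have e1 : (σ * y * σ⁻¹) = (y : H) * ((x : H)⁻¹ * (σ * x * σ⁻¹)) := by
        rw [h2]; group
      calc σ * ((y : H) * (x : H)⁻¹) * σ⁻¹ = (σ * y * σ⁻¹) * (σ * x * σ⁻¹)⁻¹ := by group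
        _ = (y : H) * ((x : H)⁻¹ * (σ * x * σ⁻¹)) * (σ * x * σ⁻¹)⁻¹ := by rw [← e1]
        _ = (y : H) * (x : H)⁻¹ := by group
    have h4 := hfpf _ (Q.mul_mem y.2 (Q.inv_mem x.2)) h3
    apply Subtype.ext
    have : (y : H) = x := by
      calc (y : H) = (y : H) * (x : H)⁻¹ * x := by group
        _ = x := by rw [h4, one_mul]
    exact this.symm
  have hsurj := Finite.injective_iff_surjective.mp hinj
  intro u hu
  obtain ⟨x, hx⟩ := hsurj ⟨u, hu⟩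
  exact ⟨x, x.2, congrArg Subtype.val hx⟩

end

end Cfsg.Agent.Helper24.ShultB
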