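import Mathlib
import Cfsg.Agent.Helper1.ShultDefs
import Cfsg.Agent.Helper24.ShultB1b
import Cfsg.Agent.Helper60.WardW2
import Cfsg.Agent.Helper62.ShultC
import Cfsg.Agent.Helper62.ShultS
import Cfsg.Agent.Helper60.ShultO

set_option autoImplicit false
set_option linter.unusedSectionVars false

/-!
# Shult's theorem for `S₃` (S4305), piece (B1): the hyperplanes of `Q` (helper24)
-/

namespace Cfsg.Agent.Helper24.ShultB

open Subgroup Cfsg.Agent.Helper1.Shult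

variable {H : Type*} [Group H] [Finite H]

theorem inv_bot (σ τ : H) : Inv σ τ (⊥ : Subgroup H) := by
  constructor <;>
  · rw [mem_normalizer_iff]
    intro x
    simp [mem_bot, conj_eq_one_iff]

theorem mem_normalizer_bot (g : H) : g ∈ normalizer (((⊥ : Subgroup H) : Subgroup H) : Set H) := by
  rw [mem_normalizer_iff]
  intro x
  simp [mem_bot, conj_eq_one_iff]

section

variable {p q r : ℕ} [Fact p.Prime] [Fact q.Prime] [Fact r.Prime] {σ τ : H}
  {P Q W CP : Subgroup H}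

theorem hypset_WQ (c : BCfg p q r σ τ P Q W CP) : HypSet q W Q ⊥ where
  hVab := c.hW.1
  hTV := c.hQW
  hTs := c.hQ
  hcop := by
    obtain ⟨n, hn⟩ := IsPGroup.iff_card.mp c.hWr
    rw [hn]
    exact Nat.Coprime.pow_left n
      ((Nat.coprime_primes (Fact.out : r.Prime) (Fact.out : q.Prime)).2 (Ne.symm c.hqr))
  hS0T := bot_le
  hS0 := bot_le
  hcomm := fun t ht u hu => by
    rw [mem_bot, c.hQea.1 t ht u hu]; group
  hpow := fun t ht => by
    rw [mem_bot]; exact c.hQea.2 t ht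
  hfix := c.hWQ

/-- `Q` normalizes its subgroups -/
theorem Q_le_norm (c : BCfg p q r σ τ P Q W CP) {D : Subgroup H} (hDQ : D ≤ Q) :
    Q ≤ normalizer (D : Set H) := by
  intro x hx
  apply mem_normalizer_of_conj_mem
  intro d hd
  have : x * d * x⁻¹ = d := by
    rw [c.hQea.1 x hx d (hDQ hd)]; group
  rw [this]; exact hd

theorem norm_WD {W D : Subgroup H} {g : H} (hW : g ∈ normalizer (W : Set H))
    (hD : g ∈ normalizer (D : Set H)) :
    g ∈ normalizer ((W ⊓ centralizer (D : Set H) : Subgroup H) : Set H) :=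
  mem_normalizer_inf hW (mem_normalizer_centralizer hD)

theorem Q_le_norm_WD (c : BCfg p q r σ τ P Q W CP) {D : Subgroup H} (hDQ : D ≤ Q) :
    Q ≤ normalizer ((W ⊓ centralizer (D : Set H) : Subgroup H) : Set H) :=
  fun _ hx => norm_WD (c.hQW hx) (Q_le_norm c hDQ hx)

/-- there is a hyperplane of `Q` with nontrivial fixed points on `W` -/
theorem exists_hyp (c : BCfg p q r σ τ P Q W CP) :
    ∃ D : Subgroup H, IsHyp q Q ⊥ D ∧ W ⊓ centralizer (D : Set H) ≠ ⊥ := by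
  by_contra hcon
  push Not at hcon
  have hs := hypset_WQ c
  have hgen := Cfsg.Agent.Helper60.WardW2.gen_hyperplanes (s := q) W Q ⊥ hs.hVab hs.hTV hs.hcop
    hs.hS0T hs.hS0 hs.hcomm hs.hpow hs.hfix
  have hbot : (⨆ D : {D : Subgroup H // ⊥ ≤ D ∧ D ≤ Q ∧ D.relIndex Q = q},
      W ⊓ centralizer ((D : Subgroup H) : Set H)) = ⊥ := by
    rw [iSup_eq_bot]
    rintro ⟨D, hD⟩
    exact hcon D hD
  rw [hbot] at hgen
  have hW : W = ⊥ := le_bot_iff.mp hgen
  have hQ : Q = ⊥ := by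
    rw [eq_bot_iff]
    intro x hx
    rw [← c.hfaith]
    refine mem_inf.2 ⟨hx, ?_⟩
    rw [mem_centralizer_iff]
    intro w hw
    rw [hW] at hw
    have : w = 1 := by simpa using hw
    rw [this]; simp
  apply c.hCPne
  rw [c.hCP]
  apply le_antisymm inf_le_left
  intro x hx
  refine mem_inf.2 ⟨hx, ?_⟩
  rw [mem_centralizer_iff]
  intro u hu
  rw [hQ] at hu
  have : u = 1 := by simpa using hu
  rw [this]; simp

/-- `C_Q(C_W(D)) = D` for a hyperplane `D` with `C_W(D) ≠ 1` -/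
theorem mem_of_cent (c : BCfg p q r σ τ P Q W CP) {D : Subgroup H} (hD : IsHyp q Q ⊥ D)
    (hne : W ⊓ centralizer (D : Set H) ≠ ⊥) {x : H} (hxQ : x ∈ Q)
    (hx : x ∈ centralizer ((W ⊓ centralizer (D : Set H) : Subgroup H) : Set H)) : x ∈ D := by
  obtain ⟨-, hDQ, hidx⟩ := hD
  have hq : q.Prime := Fact.out
  set K : Subgroup H := Q ⊓ centralizer ((W ⊓ centralizer (D : Set H) : Subgroup H) : Set H)
    with hK
  have hDK : D ≤ K := by
    intro d hd
    refine mem_inf.2 ⟨hDQ hd, ?_⟩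
    rw [mem_centralizer_iff]
    intro w hw
    exact (mem_centralizer_iff.mp (mem_inf.1 hw).2 d hd).symm
  have hKQ : K ≤ Q := inf_le_left
  have hmul := Subgroup.relIndex_mul_relIndex D K Q hDK hKQ
  rw [hidx] at hmul
  have hdvd : D.relIndex K ∣ q := Dvd.intro _ hmul
  rcases (Nat.dvd_prime hq).1 hdvd with h | h
  · exact (Subgroup.relIndex_eq_one.1 h) (mem_inf.2 ⟨hxQ, hx⟩)
  · exfalso
    rw [h] at hmul
    have h3 : K.relIndex Q = 1 := by
      have : q * K.relIndex Q = q * 1 := by rw [hmul, mul_one]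
      exact Nat.eq_of_mul_eq_mul_left hq.pos this
    have hQK : Q ≤ K := Subgroup.relIndex_eq_one.1 h3
    apply hne
    rw [eq_bot_iff]
    intro w hw
    rw [← c.hWQ]
    refine mem_inf.2 ⟨(mem_inf.1 hw).1, ?_⟩
    rw [mem_centralizer_iff]
    intro u hu
    have := mem_centralizer_iff.mp (mem_inf.1 (hQK hu)).2 w hw
    exact this.symm

/-- a hyperplane with nontrivial fixed points is not normalized by `σ` -/
theorem sigma_notin_norm (c : BCfg p q r σ τ P Q W CP)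
    (h1 : ∀ x ∈ P, x⁻¹ * (σ * x * σ⁻¹) ∈ CP) {D : Subgroup H} (hD : IsHyp q Q ⊥ D)
    (hne : W ⊓ centralizer (D : Set H) ≠ ⊥) : σ ∉ normalizer (D : Set H) := by
  intro hσD
  have hs := hypset_WQ c
  have hq : q.Prime := Fact.out
  have hall : ∀ x ∈ Q, x⁻¹ * (σ * x * σ⁻¹) ∈ D := by
    by_cases hτD : τ ∈ normalizer (D : Set H)
    · exact Cfsg.Agent.Helper62.Shult.sigma_cyclic_quotient c.hS Q D hq hD.2.1
        (Q_le_norm c hD.2.1) hD.2.2 c.hQinv ⟨hσD, hτD⟩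
    · intro x hx
      by_contra hnot
      have hxQ : x⁻¹ * (σ * x * σ⁻¹) ∈ Q := mul_mem (inv_mem hx) (conj_mem c.hQinv.1 hx)
      have hnc : x⁻¹ * (σ * x * σ⁻¹) ∉
          centralizer ((W ⊓ centralizer (D : Set H) : Subgroup H) : Set H) :=
        fun h => hnot (mem_of_cent c hD hne hxQ h)
      have hEA : IsEA r (W ⊓ centralizer (D : Set H)) :=
        ⟨fun u hu v hv => c.hW.1 u (mem_inf.1 hu).1 v (mem_inf.1 hv).1,
          fun w hw => c.hW.2 w (mem_inf.1 hw).1⟩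
      obtain ⟨v, hv, hv1, hσv⟩ := Cfsg.Agent.Helper62.Shult.sigma_fixed_point c.hq2 c.hq3 c.hr3
        c.hqr σ c.hS.oσ Q (W ⊓ centralizer (D : Set H)) c.hQ hEA c.hQinv.1
        (norm_WD c.hWinv.1 hσD) (Q_le_norm_WD c hD.2.1) ⟨x, hx, hnc⟩
      exact hv1 (Cfsg.Agent.Helper60.Shult.orbit_sigma c.hS hs c.hWinv c.hQinv (inv_bot σ τ)
        c.hfixW D hD hσD hτD v hv hσv)
  have hQD : Q ≤ D := by
    intro u hu
    obtain ⟨x, hx, rfl⟩ := Q_surj c h1 u hu
    exact hall x hx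
  have h1' : D.relIndex Q = 1 := Subgroup.relIndex_eq_one.2 hQD
  rw [hD.2.2] at h1'
  exact hq.one_lt.ne' h1'

/-- a hyperplane with nontrivial fixed points is centralized modulo itself by some `τ_i` -/
theorem exists_tau (c : BCfg p q r σ τ P Q W CP)
    (h1 : ∀ x ∈ P, x⁻¹ * (σ * x * σ⁻¹) ∈ CP) {D : Subgroup H} (hD : IsHyp q Q ⊥ D)
    (hne : W ⊓ centralizer (D : Set H) ≠ ⊥) : ∃ i : ℕ, tauI σ τ i ∈ SD Q D := by
  have hσD := sigma_notin_norm c h1 hD hne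
  have hs := hypset_WQ c
  have hex : ∃ i : ℕ, σ ^ i * τ * σ⁻¹ ^ i ∈ normalizer (D : Set H) := by
    by_contra hcon
    push Not at hcon
    exact hne (Cfsg.Agent.Helper60.Shult.orbit_regular c.hS hs c.hWinv c.hQinv (inv_bot σ τ)
      c.hfixW D hD hσD hcon)
  obtain ⟨i, hi⟩ := hex
  have hi' : tauI σ τ i ∈ normalizer (D : Set H) := hi
  refine ⟨i, mem_SD.2 ⟨tauI_mem_normalizer c.hQinv i, hi', ?_⟩⟩
  have ci := bcfg_tauI c i
  have hinvert := Cfsg.Agent.Helper60.Shult.orbit_tau ci.hS hs ci.hWinv ci.hQinv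
    (inv_bot σ (tauI σ τ i)) ci.hfixW D hD hi' hσD
  intro x hx
  generalize tauI σ τ i = t at *
  have htx : t * x * t⁻¹ ∈ Q := conj_mem ci.hQinv.2 hx
  apply mem_of_cent c hD hne (mul_mem (inv_mem hx) htx)
  rw [mem_centralizer_iff]
  intro w hw
  have hxw : x * w * x⁻¹ ∈ W ⊓ centralizer (D : Set H) := conj_mem (Q_le_norm_WD c hD.2.1 hx) hw
  have e1 := hinvert _ hxw
  have e2 := hinvert _ hw
  have e3 : (t * x * t⁻¹) * w⁻¹ * (t * x * t⁻¹)⁻¹ = x * w⁻¹ * x⁻¹ := by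
    calc (t * x * t⁻¹) * w⁻¹ * (t * x * t⁻¹)⁻¹ = (t * x * t⁻¹) * (t * w * t⁻¹) * (t * x * t⁻¹)⁻¹ := by
          rw [e2]
      _ = t * (x * w * x⁻¹) * t⁻¹ := by group
      _ = (x * w * x⁻¹)⁻¹ := e1
      _ = x * w⁻¹ * x⁻¹ := by group
  have e4 : (x⁻¹ * (t * x * t⁻¹)) * w⁻¹ = w⁻¹ * (x⁻¹ * (t * x * t⁻¹)) := by
    calc (x⁻¹ * (t * x * t⁻¹)) * w⁻¹
        = x⁻¹ * ((t * x * t⁻¹) * w⁻¹ * (t * x * t⁻¹)⁻¹) * (t * x * t⁻¹) := by group
      _ = x⁻¹ * (x * w⁻¹ * x⁻¹) * (t * x * t⁻¹) := by rw [e3]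
      _ = w⁻¹ * (x⁻¹ * (t * x * t⁻¹)) := by group
  have e5 : Commute (x⁻¹ * (t * x * t⁻¹)) w⁻¹ := e4
  have e6 : Commute (x⁻¹ * (t * x * t⁻¹)) w := by simpa using e5.inv_right
  exact e6.symm.eq

end

end Cfsg.Agent.Helper24.ShultB
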