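import Mathlib
import Cfsg.Agent.Helper1.ShultDefs
import Cfsg.Agent.Helper24.ShultB1c
import Cfsg.Agent.Helper75.ShultNilA
import Cfsg.Agent.Helper60.ShultO

set_option autoImplicit false
set_option linter.unusedSectionVars false

/-!
# Shult's theorem for `S₃` (S4305), piece (B1) of helper1's plan #4604 (helper24)

`lemmaB_case1`: the minimal configuration `BCfg` of Lemma B is impossible when `σ` centralizes
`P / CP`.
-/

namespace Cfsg.Agent.Helper24.ShultB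

open Subgroup Cfsg.Agent.Helper1.Shult

variable {H : Type*} [Group H] [Finite H]

/-- `SD Q (x D x⁻¹) = x (SD Q D) x⁻¹` (one inclusion) -/
theorem SD_conj {Q D : Subgroup H} {g x : H} (hx : x ∈ normalizer (Q : Set H))
    (hg : g ∈ SD Q (D.map (MulAut.conj x).toMonoidHom)) : x⁻¹ * g * x ∈ SD Q D := by
  obtain ⟨g1, g2, g3⟩ := mem_SD.1 hg
  have hmap : ∀ y : H, y ∈ D.map (MulAut.conj x).toMonoidHom → x⁻¹ * y * x ∈ D := by
    intro y hy
    obtain ⟨d, hd, rfl⟩ := Subgroup.mem_map.1 hy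
    have : x⁻¹ * ((MulAut.conj x).toMonoidHom d) * x = d := by
      simp [MulAut.conj_apply, mul_assoc]
    rw [this]; exact hd
  have hmap' : ∀ d ∈ D, x * d * x⁻¹ ∈ D.map (MulAut.conj x).toMonoidHom := by
    intro d hd
    exact Subgroup.mem_map.2 ⟨d, hd, by simp [MulAut.conj_apply]⟩
  refine mem_SD.2 ⟨mul_mem (mul_mem (inv_mem hx) g1) hx, ?_, ?_⟩
  · apply mem_normalizer_of_conj_mem
    intro d hd
    have h2 := hmap _ (conj_mem g2 (hmap' d hd))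
    have e : x⁻¹ * g * x * d * (x⁻¹ * g * x)⁻¹ = x⁻¹ * (g * (x * d * x⁻¹) * g⁻¹) * x := by group
    rw [e]; exact h2
  · intro u hu
    have h2 := hmap _ (g3 _ (conj_mem hx hu))
    have e : u⁻¹ * (x⁻¹ * g * x * u * (x⁻¹ * g * x)⁻¹)
        = x⁻¹ * ((x * u * x⁻¹)⁻¹ * (g * (x * u * x⁻¹) * g⁻¹)) * x := by group
    rw [e]; exact h2

/-- `τ_i⁻¹ τ_j` is a power of `σ` -/
theorem tauI_inv_mul_mem {σ τ : H} (h : S3Pair σ τ) (i j : ℕ) :
    (tauI σ τ i)⁻¹ * tauI σ τ j ∈ zpowers σ := by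
  have hτn : τ ∈ normalizer ((zpowers σ : Subgroup H) : Set H) := by
    apply mem_normalizer_of_conj_mem
    intro g hg
    obtain ⟨k, rfl⟩ := mem_zpowers_iff.1 hg
    rw [← conj_zpow, h.rel]
    exact zpow_mem (inv_mem (mem_zpowers σ)) k
  have h1 : (σ ^ i)⁻¹ * σ ^ j ∈ zpowers σ :=
    mul_mem (inv_mem (pow_mem (mem_zpowers σ) i)) (pow_mem (mem_zpowers σ) j)
  have h2 := conj_mem' hτn h1
  rw [tauI_eq, tauI_eq]
  have e : (σ ^ i * τ * (σ ^ i)⁻¹)⁻¹ * (σ ^ j * τ * (σ ^ j)⁻¹)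
      = σ ^ i * (τ⁻¹ * ((σ ^ i)⁻¹ * σ ^ j) * τ) * (σ ^ j)⁻¹ := by group
  rw [e]
  exact mul_mem (mul_mem (pow_mem (mem_zpowers σ) i) h2) (inv_mem (pow_mem (mem_zpowers σ) j))

section

variable {p q r : ℕ} [Fact p.Prime] [Fact q.Prime] [Fact r.Prime] {σ τ : H}
  {P Q W CP : Subgroup H}

theorem CP_le_SD (c : BCfg p q r σ τ P Q W CP) {D : Subgroup H} (hDQ : D ≤ Q) :
    CP ≤ SD Q D := by
  intro a ha
  refine mem_SD.2 ⟨c.hPQ (bCP_le_P c ha), ?_, fun u hu => ?_⟩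
  · apply mem_normalizer_of_conj_mem
    intro d hd
    have : a * d * a⁻¹ = d := by rw [bCP_comm c ha (hDQ hd)]; group
    rw [this]; exact hd
  · have : u⁻¹ * (a * u * a⁻¹) = 1 := by rw [bCP_comm c ha hu]; group
    rw [this]; exact one_mem _

/-- the cube computation: from `s z ∈ R` with `s³ = 1`, `s` centralizing `P / CP`, get `z³ ∈ R` -/
theorem cube_mem (c : BCfg p q r σ τ P Q W CP) {R : Subgroup H} (hCPR : CP ≤ R) {s z : H}
    (hs : s ∈ SD P CP) (hs3 : s * s * s = 1) (hz : z ∈ P) (hb : s * z ∈ R) : z * z * z ∈ R := by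
  have hb3 : (s * z) * (s * z) * (s * z) ∈ R := mul_mem (mul_mem hb hb) hb
  have hc1 : z⁻¹ * (s * z * s⁻¹) ∈ CP := (mem_SD.1 hs).2.2 z hz
  have hc2 : z⁻¹ * (s * s * z * (s * s)⁻¹) ∈ CP := (mem_SD.1 (mul_mem hs hs)).2.2 z hz
  have hzz : z * z ∈ P := mul_mem hz hz
  have hcc1 : (z * z)⁻¹ * (z⁻¹ * (s * z * s⁻¹)) * (z * z) ∈ CP :=
    conj_mem' (bP_le_norm_CP c hzz) hc1
  have hcc2 : z⁻¹ * (z⁻¹ * (s * s * z * (s * s)⁻¹)) * z ∈ CP :=
    conj_mem' (bP_le_norm_CP c hz) hc2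
  have e : (s * z) * (s * z) * (s * z) = (z * z * z) *
      (((z * z)⁻¹ * (z⁻¹ * (s * z * s⁻¹)) * (z * z)) *
        (z⁻¹ * (z⁻¹ * (s * s * z * (s * s)⁻¹)) * z)) := by
    calc (s * z) * (s * z) * (s * z)
        = (s * z * s⁻¹) * (s * s * z * (s * s)⁻¹) * (s * s * s) * z := by group
      _ = (s * z * s⁻¹) * (s * s * z * (s * s)⁻¹) * z := by rw [hs3, mul_one]
      _ = _ := by group
  rw [e] at hb3
  have := mul_mem hb3 (inv_mem (hCPR (mul_mem hcc1 hcc2)))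
  rwa [mul_inv_cancel_right] at this

/-- **(B1)** Lemma B, minimal configuration, `σ` centralizes `P / CP`. -/
theorem lemmaB_case1 (c : BCfg p q r σ τ P Q W CP)
    (h1 : ∀ x ∈ P, x⁻¹ * (σ * x * σ⁻¹) ∈ CP) : False := by
  have hq : q.Prime := Fact.out
  have hp : p.Prime := Fact.out
  obtain ⟨D, hD, hne⟩ := exists_hyp c
  obtain ⟨x, hxP, hxCP⟩ : ∃ x ∈ P, x ∉ CP :=
    SetLike.exists_of_lt (lt_of_le_of_ne (bCP_le_P c) c.hCPne)
  obtain ⟨i, hi⟩ := exists_tau c h1 hD hne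
  -- the conjugate hyperplane
  have hD' : IsHyp q Q ⊥ (D.map (MulAut.conj x).toMonoidHom) :=
    Cfsg.Agent.Helper60.Shult.isHyp_conj hD x (c.hPQ hxP) (mem_normalizer_bot x)
  have hne' : W ⊓ centralizer ((D.map (MulAut.conj x).toMonoidHom : Subgroup H) : Set H) ≠ ⊥ := by
    obtain ⟨⟨w, hw⟩, hw1⟩ := (Subgroup.ne_bot_iff_exists_ne_one).1 hne
    intro hbot
    have h2 := (Cfsg.Agent.Helper60.Shult.fix_conj W D x (c.hPW hxP) w).1 hw
    rw [hbot, mem_bot] at h2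
    apply hw1
    apply Subtype.ext
    exact conj_eq_one_iff.1 h2
  obtain ⟨j, hj⟩ := exists_tau c h1 hD' hne'
  have ha : x⁻¹ * tauI σ τ j * x ∈ SD Q D := SD_conj (c.hPQ hxP) hj
  -- the two involutions
  have cj := bcfg_tauI c j
  have hmod' := tau_inverts_mod cj h1
  have ht'2 : tauI σ τ j * tauI σ τ j = 1 := tau_sq cj.hS.oτ
  have ht'i : (tauI σ τ j)⁻¹ = tauI σ τ j := tau_inv cj.hS.oτ
  have hs := tauI_inv_mul_mem c.hS i j
  have hsSD : (tauI σ τ i)⁻¹ * tauI σ τ j ∈ SD P CP :=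
    (zpowers_le.2 (sigma_mem_SD c h1)) hs
  have hs3 : (tauI σ τ i)⁻¹ * tauI σ τ j * ((tauI σ τ i)⁻¹ * tauI σ τ j) *
      ((tauI σ τ i)⁻¹ * tauI σ τ j) = 1 := by
    obtain ⟨k, hk⟩ := mem_zpowers_iff.1 hs
    rw [← hk]
    have hσ3 : σ ^ (3 : ℤ) = 1 := by
      have := pow_orderOf_eq_one σ
      rw [c.hS.oσ] at this
      exact_mod_cast this
    calc σ ^ k * σ ^ k * σ ^ k = (σ ^ (3 : ℤ)) ^ k := by
          rw [← zpow_mul, ← zpow_add, ← zpow_add]; congr 1; ring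
      _ = 1 := by rw [hσ3, one_zpow]
  generalize tauI σ τ i = t at *
  generalize tauI σ τ j = t' at *
  have hCPR : CP ≤ SD Q D := CP_le_SD c hD.2.1
  have hc2 : x⁻¹ * (t' * x⁻¹ * t'⁻¹) ∈ CP := hmod' x⁻¹ (inv_mem hxP)
  have hc3 : x⁻¹ * (x⁻¹ * (t' * x⁻¹ * t'⁻¹)) * x ∈ CP := conj_mem' (bP_le_norm_CP c hxP) hc2
  have ea : x⁻¹ * t' * x = t' * (x * x) * (x⁻¹ * (x⁻¹ * (t' * x⁻¹ * t'⁻¹)) * x) := by
    calc x⁻¹ * t' * x = 1 * x⁻¹ * t' * x := by group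
      _ = (t' * t') * x⁻¹ * t'⁻¹ * x := by rw [ht'2, ht'i]
      _ = _ := by group
  rw [ea] at ha
  have hb0 : t' * (x * x) ∈ SD Q D := by
    have := mul_mem ha (inv_mem (hCPR hc3))
    rwa [mul_inv_cancel_right] at this
  have hb : t⁻¹ * t' * (x * x) ∈ SD Q D := by
    have := mul_mem (inv_mem hi) hb0
    rwa [← mul_assoc] at this
  have hz3 := cube_mem c hCPR hsSD hs3 (mul_mem hxP hxP) hb
  have hx6 : x ^ 6 ∈ SD Q D := by
    have e : x ^ 6 = x * x * (x * x) * (x * x) := by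
      simp only [pow_succ, pow_zero, one_mul, mul_assoc]
    rw [e]; exact hz3
  have hxR : x ∈ SD Q D := mem_of_pow_six_mem c.hp2 c.hp3 c.hP hxP hx6
  -- `P ≤ SD Q D` by irreducibility
  have hmod := tau_inverts_mod c h1
  have hP0inv : Inv σ τ (P ⊓ SD Q D) := by
    constructor
    · apply mem_normalizer_of_conj_mem
      intro y hy
      have e : σ * y * σ⁻¹ = y * (y⁻¹ * (σ * y * σ⁻¹)) := by group
      rw [e]
      have h2 := h1 y (mem_inf.1 hy).1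
      exact mul_mem hy (mem_inf.2 ⟨bCP_le_P c h2, hCPR h2⟩)
    · apply mem_normalizer_of_conj_mem
      intro y hy
      have e : τ * y * τ⁻¹ = y⁻¹ * (y * (τ * y * τ⁻¹)) := by group
      rw [e]
      have h2 := hmod y (mem_inf.1 hy).1
      exact mul_mem (inv_mem hy) (mem_inf.2 ⟨bCP_le_P c h2, hCPR h2⟩)
  have hPR : P ≤ SD Q D := by
    rcases c.hPirr (P ⊓ SD Q D) (le_inf (bCP_le_P c) hCPR) inf_le_left hP0inv with h | h
    · exfalso
      apply hxCP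
      rw [← h]
      exact mem_inf.2 ⟨hxP, hxR⟩
    · rw [← h]; exact inf_le_right
  -- `Q ≤ D`, contradiction
  have hpD : ¬ p ∣ Nat.card D := by
    obtain ⟨n, hn⟩ := IsPGroup.iff_card.mp (c.hQ.to_le hD.2.1)
    rw [hn]
    intro hdvd
    exact c.hpq ((Nat.prime_dvd_prime_iff_eq hp hq).1 (hp.dvd_of_dvd_pow hdvd))
  have hPD : P ≤ normalizer (D : Set H) := fun y hy => (mem_SD.1 (hPR hy)).2.1
  have hQD : Q ≤ D := by
    intro u hu
    obtain ⟨y, hy1, hy2⟩ := Cfsg.Agent.Helper75.ShultNil.exists_fixed_in_coset c.hP hpD hPD u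
      (fun a ha => (mem_SD.1 (hPR ha)).2.2 u hu)
    have hyQ : y ∈ Q := by
      have : y = u * (u⁻¹ * y) := by group
      rw [this]
      exact mul_mem hu (hD.2.1 hy1)
    have hyC : y ∈ Q ⊓ centralizer (P : Set H) := by
      refine mem_inf.2 ⟨hyQ, ?_⟩
      rw [mem_centralizer_iff]
      intro a ha
      have := hy2 a ha
      calc a * y = a * y * a⁻¹ * a := by group
        _ = y * a := by rw [this]
    rw [c.hCQP, mem_bot] at hyC
    rw [hyC, mul_one] at hy1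
    simpa using inv_mem hy1
  have h1' : D.relIndex Q = 1 := Subgroup.relIndex_eq_one.2 hQD
  rw [hD.2.2] at h1'
  exact hq.one_lt.ne' h1'

end

end Cfsg.Agent.Helper24.ShultB
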