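import Mathlib
import Cfsg.Agent.Helper52.PQDefs
import Cfsg.Agent.Helper24.ShultB1
import Cfsg.Agent.Helper1.CoprimeAction
import Cfsg.Agent.Helper60.ShultO
import Cfsg.Agent.Helper38.PQFA
import Cfsg.Agent.Helper41.PQFB
import Cfsg.Agent.Helper79.PQFV
import Cfsg.Agent.Helper25.PQL

set_option autoImplicit false
set_option linter.unusedSectionVars false

/-!
# S4306 (nonabelian `pq` acting fixed-point-freely), piece (OF) `orbit_fix` of helper52's plan #5134
(helper24)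

The orbit lemma for an abelian `Q`: if `b ∈ {σ, τ_i}` normalizes the hyperplane `D` of `Q` (with
`V_D ≠ 1`) and centralizes `Q / D`, then so does every `x⁻¹ b x b⁻¹`, `x ∈ R`.
-/

namespace Cfsg.Agent.Helper24.PQ

open Subgroup Cfsg.Agent.Helper1.Shult Cfsg.Agent.Helper52.PQ Cfsg.Agent.Helper24.ShultB

variable {H : Type*} [Group H] [Finite H]

/-- `x (SD Q D) x⁻¹ ≤ SD Q (x D x⁻¹)` -/
theorem SD_conj' {Q D : Subgroup H} {g x : H} (hx : x ∈ normalizer (Q : Set H))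
    (hg : g ∈ SD Q D) : x * g * x⁻¹ ∈ SD Q (D.map (MulAut.conj x).toMonoidHom) := by
  obtain ⟨g1, g2, g3⟩ := mem_SD.1 hg
  have hmap' : ∀ d ∈ D, x * d * x⁻¹ ∈ D.map (MulAut.conj x).toMonoidHom := by
    intro d hd
    exact Subgroup.mem_map.2 ⟨d, hd, by simp [MulAut.conj_apply]⟩
  refine mem_SD.2 ⟨mul_mem (mul_mem hx g1) (inv_mem hx), ?_, ?_⟩
  · apply mem_normalizer_of_conj_mem
    intro y hy
    obtain ⟨d, hd, rfl⟩ := Subgroup.mem_map.1 hy
    have h2 := hmap' _ (conj_mem g2 hd)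
    have e : x * g * x⁻¹ * ((MulAut.conj x).toMonoidHom d) * (x * g * x⁻¹)⁻¹
        = x * (g * d * g⁻¹) * x⁻¹ := by
      simp only [MulEquiv.coe_toMonoidHom, MulAut.conj_apply]; group
    rw [e]; exact h2
  · intro u hu
    have h2 := hmap' _ (g3 _ (conj_mem' hx hu))
    have e : u⁻¹ * (x * g * x⁻¹ * u * (x * g * x⁻¹)⁻¹)
        = x * ((x⁻¹ * u * x)⁻¹ * (g * (x⁻¹ * u * x) * g⁻¹)) * x⁻¹ := by group
    rw [e]; exact h2

/-- in a cyclic group of prime order every nontrivial element is a generator -/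
theorem mem_zpowers_of_prime_order {a c : H} (hc : (orderOf c).Prime) (ha : a ∈ zpowers c)
    (ha1 : a ≠ 1) : c ∈ zpowers a := by
  have hle : zpowers a ≤ zpowers c := zpowers_le.2 ha
  have hdvd : orderOf a ∣ orderOf c := orderOf_dvd_of_mem_zpowers ha
  have hne1 : orderOf a ≠ 1 := fun h => ha1 (orderOf_eq_one_iff.1 h)
  have heq : orderOf a = orderOf c := ((Nat.dvd_prime hc).1 hdvd).resolve_left hne1
  have : zpowers a = zpowers c :=
    Subgroup.eq_of_le_of_card_ge hle (by rw [Nat.card_zpowers, Nat.card_zpowers, heq])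
  rw [this]; exact mem_zpowers c

/-- coprimality of `p`-power order with `s * t` -/
theorem coprime_mul_of_pgroup {p s t : ℕ} [hp : Fact p.Prime] (hs : s.Prime) (ht : t.Prime)
    (hps : p ≠ s) (hpt : p ≠ t) {X : Subgroup H} (hX : IsPGroup p X) :
    (Nat.card X).Coprime (s * t) := by
  obtain ⟨n, hn⟩ := IsPGroup.iff_card.mp hX
  rw [hn]
  apply Nat.Coprime.pow_left
  exact Nat.Coprime.mul_right ((Nat.coprime_primes hp.out hs).2 hps)
    ((Nat.coprime_primes hp.out ht).2 hpt)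

section

variable {s t ℓ w u : ℕ} [Fact ℓ.Prime] [Fact w.Prime] [Fact u.Prime] {σ τ : H}
  {V Q R : Subgroup H}

/-- **(OF)** the orbit lemma, `Q` abelian, with the conclusion of `(TY) types` for `(V, Q)` as a
hypothesis. -/
theorem orbit_fix_of_types (c : CoreCfg s t ℓ w u σ τ V Q R)
    (hTY : V ⊓ centralizer (Q : Set H) = ⊥ → ∀ D : Subgroup H, IsHyp w Q ⊥ D →
      V ⊓ centralizer (D : Set H) ≠ ⊥ →
      (σ ∈ normalizer (D : Set H) ∧ (∀ g ∈ Q, g⁻¹ * (σ * g * σ⁻¹) ∈ D) ∧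
          (V ⊓ centralizer (D : Set H)) ⊓ centralizer {σ} = ⊥) ∨
      (σ ∉ normalizer (D : Set H) ∧ ∃ i : ℕ,
          σ ^ i * τ * (σ ^ i)⁻¹ ∈ normalizer (D : Set H) ∧
          (∀ g ∈ Q, g⁻¹ * ((σ ^ i * τ * (σ ^ i)⁻¹) * g * (σ ^ i * τ * (σ ^ i)⁻¹)⁻¹) ∈ D) ∧
          (V ⊓ centralizer (D : Set H)) ⊓ centralizer {σ ^ i * τ * (σ ^ i)⁻¹} = ⊥))
    (D : Subgroup H)
    (hD : IsHyp w Q ⊥ D) (hVD : V ⊓ centralizer (D : Set H) ≠ ⊥) (b : H)
    (hb : b = σ ∨ ∃ i : ℕ, b = σ ^ i * τ * (σ ^ i)⁻¹) (hbD : b ∈ normalizer (D : Set H))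
    (hbQ : ∀ g ∈ Q, g⁻¹ * (b * g * b⁻¹) ∈ D) :
    ∀ x ∈ R, ∀ g ∈ Q,
      g⁻¹ * ((x⁻¹ * (b * x * b⁻¹)) * g * (x⁻¹ * (b * x * b⁻¹))⁻¹) ∈ D := by
  classical
  have hwp : w.Prime := Fact.out
  have hσA : σ ∈ closure ({σ, τ} : Set H) := subset_closure (Set.mem_insert _ _)
  have hτA : τ ∈ closure ({σ, τ} : Set H) :=
    subset_closure (Set.mem_insert_of_mem _ (Set.mem_singleton _))
  have hτi : ∀ i : ℕ, σ ^ i * τ * (σ ^ i)⁻¹ ∈ closure ({σ, τ} : Set H) := fun i =>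
    mul_mem (mul_mem (pow_mem hσA i) hτA) (inv_mem (pow_mem hσA i))
  have hform : ∀ a : H, (a = σ ∨ ∃ i : ℕ, a = σ ^ i * τ * (σ ^ i)⁻¹) →
      a ∈ closure ({σ, τ} : Set H) ∧ (orderOf a).Prime := by
    rintro a (rfl | ⟨i, rfl⟩)
    · exact ⟨hσA, by rw [c.hF.oσ]; exact c.hF.hs⟩
    · refine ⟨hτi i, ?_⟩
      have := Cfsg.Agent.Helper38.PQFA.frob_conj c.hF i
      rw [this.oτ]; exact this.ht
  have hAle : ∀ X : Subgroup H, Inv σ τ X → closure ({σ, τ} : Set H) ≤ normalizer (X : Set H) := by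
    intro X hX
    rw [closure_le]
    rintro _ (rfl | rfl)
    · exact hX.1
    · exact hX.2
  have hAQ := hAle Q c.hQinv
  have hAR := hAle R c.hRinv
  obtain ⟨hbA, hbord⟩ := hform b hb
  have hbF : b ∈ SD Q D := mem_SD.2 ⟨hAQ hbA, hbD, hbQ⟩
  have hb1 : b ≠ 1 := fun h => by rw [h, orderOf_one] at hbord; exact Nat.not_prime_one hbord
  have hVQ : V ⊓ centralizer (Q : Set H) = ⊥ :=
    Cfsg.Agent.Helper79.PQ.fixV_of_normal c Q le_rfl c.hQne c.hQinv le_normalizer c.hRQ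
  -- the key claim
  have key : ∀ x ∈ R, x⁻¹ * b * x ∈ SD Q D := by
    intro x hx
    by_contra hcon
    have hxQ : x ∈ normalizer (Q : Set H) := c.hRQ hx
    have hxV : x ∈ normalizer (V : Set H) := c.hRV hx
    have hD' : IsHyp w Q ⊥ (D.map (MulAut.conj x).toMonoidHom) :=
      Cfsg.Agent.Helper60.Shult.isHyp_conj hD x hxQ (mem_normalizer_bot x)
    have hVD' : V ⊓ centralizer ((D.map (MulAut.conj x).toMonoidHom : Subgroup H) : Set H)
        ≠ ⊥ := by
      obtain ⟨⟨v, hv⟩, hv1⟩ := (Subgroup.ne_bot_iff_exists_ne_one).1 hVD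
      intro hbot
      have h2 := (Cfsg.Agent.Helper60.Shult.fix_conj V D x hxV v).1 hv
      rw [hbot, mem_bot] at h2
      apply hv1
      apply Subtype.ext
      exact conj_eq_one_iff.1 h2
    -- the type of the conjugate hyperplane
    obtain ⟨b', hb'form, hb'F⟩ : ∃ b' : H, (b' = σ ∨ ∃ i : ℕ, b' = σ ^ i * τ * (σ ^ i)⁻¹) ∧
        b' ∈ SD Q (D.map (MulAut.conj x).toMonoidHom) := by
      rcases hTY hVQ _ hD' hVD' with ⟨h1, h2, -⟩ | ⟨-, i, h1, h2, -⟩
      · exact ⟨σ, Or.inl rfl, mem_SD.2 ⟨c.hQinv.1, h1, h2⟩⟩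
      · exact ⟨_, Or.inr ⟨i, rfl⟩, mem_SD.2 ⟨hAQ (hτi i), h1, h2⟩⟩
    obtain ⟨hb'A, hb'ord⟩ := hform b' hb'form
    have hb'1 : b' ≠ 1 := fun h => by
      rw [h, orderOf_one] at hb'ord; exact Nat.not_prime_one hb'ord
    have hf : x⁻¹ * b' * x ∈ SD Q D := SD_conj hxQ hb'F
    have hb'nb : b' ∉ zpowers b := by
      intro hmem
      have h1 : b ∈ zpowers b' := mem_zpowers_of_prime_order hbord hmem hb'1
      have h2 : b ∈ SD Q (D.map (MulAut.conj x).toMonoidHom) := (zpowers_le.2 hb'F) h1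
      exact hcon (SD_conj hxQ h2)
    -- the subgroup `M = R (F₀ ∩ N(R))`
    have hbM : b ∈ R ⊔ (SD Q D ⊓ normalizer (R : Set H)) :=
      mem_sup_right (mem_inf.2 ⟨hbF, hAR hbA⟩)
    have hb'M : b' ∈ R ⊔ (SD Q D ⊓ normalizer (R : Set H)) := by
      have h1 : x⁻¹ * b' * x ∈ R ⊔ (SD Q D ⊓ normalizer (R : Set H)) :=
        mem_sup_right (mem_inf.2 ⟨hf, mul_mem (mul_mem (inv_mem (le_normalizer hx)) (hAR hb'A))
          (le_normalizer hx)⟩)
      have h2 : x ∈ R ⊔ (SD Q D ⊓ normalizer (R : Set H)) := mem_sup_left hx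
      have e : b' = x * (x⁻¹ * b' * x) * x⁻¹ := by group
      rw [e]; exact mul_mem (mul_mem h2 h1) (inv_mem h2)
    have hAM : closure ({σ, τ} : Set H) ≤ R ⊔ (SD Q D ⊓ normalizer (R : Set H)) := by
      have hBle : closure ({b, b'} : Set H) ≤ closure ({σ, τ} : Set H) := by
        rw [closure_le]
        rintro _ (rfl | rfl)
        · exact hbA
        · exact hb'A
      have hBM : closure ({b, b'} : Set H) ≤ R ⊔ (SD Q D ⊓ normalizer (R : Set H)) := by
        rw [closure_le]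
        rintro _ (rfl | rfl)
        · exact hbM
        · exact hb'M
      have hbB : b ∈ closure ({b, b'} : Set H) := subset_closure (Set.mem_insert _ _)
      have hb'B : b' ∈ closure ({b, b'} : Set H) :=
        subset_closure (Set.mem_insert_of_mem _ (Set.mem_singleton _))
      rcases Cfsg.Agent.Helper41.PQ.frob_subgroup_cases c.hF _ hBle with hσB | hB | ⟨k, hB⟩
      · -- `σ ∈ B`; some `τ_i ∈ B`
        have hτB : τ ∈ closure ({b, b'} : Set H) := by
          have hex : ∃ i : ℕ, σ ^ i * τ * (σ ^ i)⁻¹ ∈ closure ({b, b'} : Set H) := by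
            rcases hb with rfl | ⟨i, rfl⟩
            · rcases hb'form with rfl | ⟨i, rfl⟩
              · exact absurd (mem_zpowers _) hb'nb
              · exact ⟨i, hb'B⟩
            · exact ⟨i, hbB⟩
          obtain ⟨i, hi⟩ := hex
          have e : τ = (σ ^ i)⁻¹ * (σ ^ i * τ * (σ ^ i)⁻¹) * σ ^ i := by group
          rw [e]
          exact mul_mem (mul_mem (inv_mem (pow_mem hσB i)) hi) (pow_mem hσB i)
        refine le_trans ?_ hBM
        rw [closure_le]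
        rintro _ (rfl | rfl)
        · exact hσB
        · exact hτB
      · exfalso
        rw [hB, mem_bot] at hbB
        exact hb1 hbB
      · exfalso
        rw [hB] at hbB hb'B
        have hk : (orderOf (σ ^ k * τ * (σ ^ k)⁻¹)).Prime := (hform _ (Or.inr ⟨k, rfl⟩)).2
        have h1 : σ ^ k * τ * (σ ^ k)⁻¹ ∈ zpowers b := mem_zpowers_of_prime_order hk hbB hb1
        exact hb'nb ((zpowers_le.2 h1) hb'B)
    have hMdecomp : ∀ a ∈ R ⊔ (SD Q D ⊓ normalizer (R : Set H)),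
        ∃ r ∈ R, ∃ f ∈ SD Q D ⊓ normalizer (R : Set H), a = r * f := by
      intro a ha
      have h1 : a ∈ (↑(R ⊔ (SD Q D ⊓ normalizer (R : Set H))) : Set H) := ha
      rw [Subgroup.coe_mul_of_right_le_normalizer_left R _ inf_le_right] at h1
      obtain ⟨r, hr, f, hf, rfl⟩ := h1
      exact ⟨r, hr, f, hf, rfl⟩
    -- Glauberman's lemma on the cosets of `F₀ = SD Q D`
    have hcop : (Nat.card (closure ({σ, τ} : Set H))).Coprime (Nat.card R) := by
      rw [Cfsg.Agent.Helper41.PQ.frob_card_closure c.hF]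
      exact (coprime_mul_of_pgroup c.hF.hs c.hF.ht c.hus c.hut c.hR).symm
    obtain ⟨⟨ω, hωT, hω⟩, -⟩ := Cfsg.Agent.Helper1.glauberman_ambient (Ω := H ⧸ SD Q D)
      (closure ({σ, τ} : Set H)) R hAR hcop
      (Or.inl (Cfsg.Agent.Helper41.PQ.frob_isSolvable_closure c.hF))
      {ω | ∃ y ∈ R, ω = (QuotientGroup.mk y : H ⧸ SD Q D)} ⟨QuotientGroup.mk 1, 1, one_mem _, rfl⟩
      (by
        rintro k hk _ ⟨y, hy, rfl⟩
        exact ⟨k * y, mul_mem hk hy, by rw [MulAction.Quotient.smul_mk, smul_eq_mul]⟩)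
      (by
        rintro a ha _ ⟨y, hy, rfl⟩
        obtain ⟨r, hr, f, hf, hrf⟩ := hMdecomp a (hAM ha)
        have haR : a ∈ normalizer (R : Set H) := hAR ha
        refine ⟨a * y * a⁻¹ * r, mul_mem (conj_mem haR hy) hr, ?_⟩
        rw [MulAction.Quotient.smul_mk, smul_eq_mul]
        refine QuotientGroup.eq.2 ?_
        have e : (a * y)⁻¹ * (a * y * a⁻¹ * r) = f⁻¹ := by rw [hrf]; group
        rw [e]
        exact inv_mem (mem_inf.1 hf).1)
      (by
        rintro _ ⟨y, hy, rfl⟩ _ ⟨y', hy', rfl⟩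
        refine ⟨y' * y⁻¹, mul_mem hy' (inv_mem hy), ?_⟩
        rw [MulAction.Quotient.smul_mk, smul_eq_mul, inv_mul_cancel_right])
    obtain ⟨y, hy, rfl⟩ := hωT
    have hfixA : ∀ a ∈ closure ({σ, τ} : Set H), y⁻¹ * a * y ∈ SD Q D := by
      intro a ha
      have h1 := hω a ha
      rw [MulAction.Quotient.smul_mk, smul_eq_mul] at h1
      have h2 := QuotientGroup.eq.1 h1.symm
      rwa [← mul_assoc] at h2
    -- `σ, τ` normalize `y D y⁻¹` and centralize `Q` modulo it: contradiction with `(L)`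
    have hyQ : y ∈ normalizer (Q : Set H) := c.hRQ hy
    have hconjA : ∀ a ∈ closure ({σ, τ} : Set H),
        a ∈ SD Q (D.map (MulAut.conj y).toMonoidHom) := by
      intro a ha
      have h1 := SD_conj' hyQ (hfixA a ha)
      have e : y * (y⁻¹ * a * y) * y⁻¹ = a := by group
      rwa [e] at h1
    have hD'' : IsHyp w Q ⊥ (D.map (MulAut.conj y).toMonoidHom) :=
      Cfsg.Agent.Helper60.Shult.isHyp_conj hD y hyQ (mem_normalizer_bot y)
    obtain ⟨g, hgQ, hgD⟩ : ∃ g ∈ Q, g ∉ D.map (MulAut.conj y).toMonoidHom := by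
      by_contra hall
      push Not at hall
      have h1 : (D.map (MulAut.conj y).toMonoidHom).relIndex Q = 1 :=
        Subgroup.relIndex_eq_one.2 hall
      rw [hD''.2.2] at h1
      exact hwp.one_lt.ne' h1
    have hσ'' := mem_SD.1 (hconjA σ hσA)
    have hτ'' := mem_SD.1 (hconjA τ hτA)
    have hcopD : (Nat.card (D.map (MulAut.conj y).toMonoidHom)).Coprime (s * t) :=
      coprime_mul_of_pgroup c.hF.hs c.hF.ht c.hws c.hwt (c.hQ.to_le hD''.2.1)
    obtain ⟨n, hn, hσn, hτn⟩ := Cfsg.Agent.Helper25.PQ.pq_fixed_lift c.hF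
      (D.map (MulAut.conj y).toMonoidHom) ⟨hσ''.2.1, hτ''.2.1⟩ hcopD g
      (hσ''.2.2 g hgQ) (hτ''.2.2 g hgQ)
    have hfix : g * n ∈ Cfsg.Agent.Helper1.Shult.Fix σ τ Q := by
      unfold Cfsg.Agent.Helper1.Shult.Fix
      refine mem_inf.2 ⟨mul_mem hgQ (hD''.2.1 hn), ?_⟩
      rw [mem_centralizer_iff]
      intro a ha
      rcases ha with rfl | ha
      · calc a * (g * n) = a * (g * n) * a⁻¹ * a := by group
          _ = g * n * a := by rw [hσn]
      · rw [Set.mem_singleton_iff] at ha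
        subst ha
        calc a * (g * n) = a * (g * n) * a⁻¹ * a := by group
          _ = g * n * a := by rw [hτn]
    rw [c.hfixQ, mem_bot] at hfix
    apply hgD
    have : g = n⁻¹ := eq_inv_of_mul_eq_one_left hfix
    rw [this]
    exact inv_mem hn
  intro x hx g hg
  have hy : x⁻¹ * (b * x * b⁻¹) ∈ SD Q D := by
    have h1 := mul_mem (key x hx) (inv_mem hbF)
    have e : x⁻¹ * b * x * b⁻¹ = x⁻¹ * (b * x * b⁻¹) := by group
    rwa [e] at h1
  exact (mem_SD.1 hy).2.2 g hg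

end

end Cfsg.Agent.Helper24.PQ
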