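import Mathlib
import Cfsg.Agent.Helper24.PQOF
import Cfsg.Agent.Helper62.PQTY

set_option autoImplicit false
set_option linter.unusedSectionVars false

/-!
# S4306, piece (OF) `orbit_fix` of helper52's plan #5134: exact skeleton signature (helper24)
-/

namespace Cfsg.Agent.Helper24.PQ

open Subgroup Cfsg.Agent.Helper1.Shult Cfsg.Agent.Helper52.PQ

variable {H : Type*} [Group H] [Finite H]

variable {s t ℓ w u : ℕ} [Fact ℓ.Prime] [Fact w.Prime] [Fact u.Prime] {σ τ : H}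
  {V Q R : Subgroup H}

/-- **(OF)** the orbit lemma, `Q` abelian. -/
theorem orbit_fix (c : CoreCfg s t ℓ w u σ τ V Q R) (hQab : IsEA w Q) (D : Subgroup H)
    (hD : IsHyp w Q ⊥ D) (hVD : V ⊓ centralizer (D : Set H) ≠ ⊥) (b : H)
    (hb : b = σ ∨ ∃ i : ℕ, b = σ ^ i * τ * (σ ^ i)⁻¹) (hbD : b ∈ normalizer (D : Set H))
    (hbQ : ∀ g ∈ Q, g⁻¹ * (b * g * b⁻¹) ∈ D) :
    ∀ x ∈ R, ∀ g ∈ Q,
      g⁻¹ * ((x⁻¹ * (b * x * b⁻¹)) * g * (x⁻¹ * (b * x * b⁻¹))⁻¹) ∈ D :=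
  orbit_fix_of_types c
    (fun hVQ => Cfsg.Agent.Helper62.PQ.types c.hF c.hwℓ c.hℓs c.hℓt c.hws c.hwt V Q c.hV hQab
      c.hVinv c.hQinv c.hQV c.hfixV c.hfixQ hVQ)
    D hD hVD b hb hbD hbQ

end Cfsg.Agent.Helper24.PQ
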