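import Cfsg.Agent.Helper45.PronBL3.Defs

/-! Helper24, block BL3 of helper45 (#15446, S2225/S2226), leaf (I): the conjugate of `J₀` from the conjugate of
`c = eM u u`. -/

set_option autoImplicit false

namespace Cfsg.Agent.Helper24.Pron

open Matrix Cfsg.Agent.Helper99.Pron Cfsg.Agent.Helper45.Pron

variable {F : Type*} [Field F]

/-- (I) `J₀ = u⁻¹ • c - 1` as matrices, so `x J₀ x⁻¹ = u⁻¹ • (x c x⁻¹) - 1`. -/
theorem conj_J0_val (x c : GL (Fin 2) F) (u a b : F) (hu : u ≠ 0)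
    (hc : (c : Matrix (Fin 2) (Fin 2) F) = eM u u)
    (hy : ((x * c * x⁻¹ : GL (Fin 2) F) : Matrix (Fin 2) (Fin 2) F) = eM a b) :
    ((x * J0 * x⁻¹ : GL (Fin 2) F) : Matrix (Fin 2) (Fin 2) F) = eM (a / u - 1) (b / u) := by
  have hJ : ((J0 : GL (Fin 2) F) : Matrix (Fin 2) (Fin 2) F)
      = u⁻¹ • (c : Matrix (Fin 2) (Fin 2) F) - 1 := by
    rw [J0_val, hc, smul_eM, eM_sub_one, inv_mul_cancel₀ hu, sub_self]
  have hxx : (x : Matrix (Fin 2) (Fin 2) F) * ((x⁻¹ : GL (Fin 2) F) : Matrix (Fin 2) (Fin 2) F) = 1 := by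
    rw [← Units.val_mul, mul_inv_cancel, Units.val_one]
  rw [Units.val_mul, Units.val_mul] at hy ⊢
  rw [hJ, Matrix.mul_sub, Matrix.sub_mul, Matrix.mul_smul, Matrix.smul_mul, hy, mul_one, hxx,
    smul_eM, eM_sub_one]
  congr 1
  · rw [div_eq_inv_mul]
  · rw [div_eq_inv_mul]

end Cfsg.Agent.Helper24.Pron
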