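import Cfsg.Agent.Helper45.PronBL3.Defs

/-! Helper24, block BL3 of helper45 (#15446, S2225/S2226), leaf (J): the square roots of `-1` in `E` are `± J₀`. -/

set_option autoImplicit false

namespace Cfsg.Agent.Helper24.Pron

open Matrix Cfsg.Agent.Helper99.Pron Cfsg.Agent.Helper45.Pron

variable {F : Type*} [Field F]

/-- (J) the square roots of `-1` in `E`. -/
theorem eM_sq_eq_neg_one (h2 : (2 : F) ≠ 0) (hns : ¬ ∃ i : F, i * i = -1) {s t : F}
    (h : eM s t * eM s t = -1) : s = 0 ∧ (t = 1 ∨ t = -1) := by
  rw [eM_mul, neg_one_eq_eM] at h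
  obtain ⟨h1, h3⟩ := eM_inj h
  have hst : s * t = 0 := by
    have : (2 : F) * (s * t) = 0 := by linear_combination h3
    rcases mul_eq_zero.mp this with h | h
    · exact absurd h h2
    · exact h
  rcases mul_eq_zero.mp hst with hs | ht
  · refine ⟨hs, ?_⟩
    rw [hs] at h1
    have : (t - 1) * (t + 1) = 0 := by linear_combination -h1
    rcases mul_eq_zero.mp this with h | h
    · left; linear_combination h
    · right; linear_combination h
  · exfalso
    apply hns
    refine ⟨s, ?_⟩
    rw [ht] at h1
    linear_combination h1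

end Cfsg.Agent.Helper24.Pron
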