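import Cfsg.Agent.Helper45.PronBL3.Defs

/-! Helper24, block BL3 of helper45 (#15446, S2225/S2226), leaf (K): `phi = diag(1,-1)` is not of the form `eM u v`. -/

set_option autoImplicit false

namespace Cfsg.Agent.Helper24.Pron

open Matrix Cfsg.Agent.Helper99.Pron Cfsg.Agent.Helper45.Pron

variable {F : Type*} [Field F]

/-- (K) `phiM = eM u v` would give `u = 1` and `u = -1`. -/
theorem phi_not_mem_Esub (h2 : (2 : F) ≠ 0) :
    (phi : GL (Fin 2) F) ∉ (Esub : Subgroup (GL (Fin 2) F)) := by
  rintro ⟨u, v, h⟩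
  rw [phi_val] at h
  have h00 := congrFun (congrFun h 0) 0
  have h11 := congrFun (congrFun h 1) 1
  simp [phiM, eM] at h00 h11
  apply h2
  rw [← h00] at h11
  linear_combination -h11

end Cfsg.Agent.Helper24.Pron
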