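import Cfsg.Agent.Helper71.PsuA.Defs

/-!
Helper24, S2089 block A (`n = 3`), `p'`-part of helper71 (#15135), piece (M1): the preimage of `T = ⟨x, y⟩` under a
central extension is abelian when some `w` inverts `x` and maps `y` into `⟨x⟩ y`, the kernel having no `2`-torsion.
-/

set_option autoImplicit false
set_option linter.unusedSectionVars false
set_option linter.unusedVariables false

namespace Cfsg.Agent.Helper24.PsuA

open scoped commutatorElement
open Matrix Cfsg.Agent.Helper43.PsuM Cfsg.Agent.Helper37.SU3Inv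
open Cfsg.Agent.Helper71.PsuA

universe u

/-- commutators do not see central factors -/
theorem M1_comm_central {Γ : Type*} [Group Γ] (u v z1 z2 : Γ) (h1 : ∀ g : Γ, z1 * g = g * z1)
    (h2 : ∀ g : Γ, z2 * g = g * z2) :
    (u * z1) * (v * z2) * (u * z1)⁻¹ * (v * z2)⁻¹ = u * v * u⁻¹ * v⁻¹ := by
  calc (u * z1) * (v * z2) * (u * z1)⁻¹ * (v * z2)⁻¹
      = u * (z1 * (v * z2)) * z1⁻¹ * u⁻¹ * (v * z2)⁻¹ := by group
    _ = u * ((v * z2) * z1) * z1⁻¹ * u⁻¹ * (v * z2)⁻¹ := by rw [h1]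
    _ = u * v * (z2 * u⁻¹) * z2⁻¹ * v⁻¹ := by group
    _ = u * v * (u⁻¹ * z2) * z2⁻¹ * v⁻¹ := by rw [h2]
    _ = u * v * u⁻¹ * v⁻¹ := by group

section central

variable {Γ G : Type*} [Group Γ] [Group G] [Finite Γ] (τ : Γ →* G) (hτ : Function.Surjective τ)
  (hc : τ.ker ≤ Subgroup.center Γ)

include hτ hc

/-- **(M1)** -/
theorem comap_comm_of_inverting (T : Subgroup G) (x y w : G) (hxy : x * y = y * x)
    (hgen : ∀ t ∈ T, ∃ i j : ℤ, t = x ^ i * y ^ j) (hwx : w * x * w⁻¹ = x⁻¹)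
    (hwy : ∃ k : ℤ, w * y * w⁻¹ = x ^ k * y) (h2 : ∀ a ∈ τ.ker, a ^ 2 = 1 → a = 1) :
    ∀ a ∈ T.comap τ, ∀ b ∈ T.comap τ, a * b = b * a := by
  obtain ⟨X, hX⟩ := hτ x
  obtain ⟨Y, hY⟩ := hτ y
  obtain ⟨W, hW⟩ := hτ w
  obtain ⟨k, hk⟩ := hwy
  have hcen : ∀ z : Γ, τ z = 1 → ∀ g : Γ, z * g = g * z := by
    intro z hz g
    have h := hc (show z ∈ τ.ker from hz)
    rw [Subgroup.mem_center_iff] at h
    exact (h g).symm
  -- the commutator `c = [X, Y]` is trivial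
  have hXY : X * Y = Y * X := by
    obtain ⟨c, hcdef⟩ : ∃ c, c = X * Y * X⁻¹ * Y⁻¹ := ⟨_, rfl⟩
    have hc1 : τ c = 1 := by
      rw [hcdef, map_mul, map_mul, map_mul, map_inv, map_inv, hX, hY, hxy]; group
    obtain ⟨a₁, ha₁def⟩ : ∃ a₁, a₁ = X * (W * X * W⁻¹) := ⟨_, rfl⟩
    have ha₁ : τ a₁ = 1 := by
      rw [ha₁def, map_mul, map_mul, map_mul, map_inv, hX, hW, hwx]; group
    obtain ⟨a₂, ha₂def⟩ : ∃ a₂, a₂ = (X ^ k * Y)⁻¹ * (W * Y * W⁻¹) := ⟨_, rfl⟩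
    have ha₂ : τ a₂ = 1 := by
      rw [ha₂def, map_mul, map_inv, map_mul, map_mul, map_mul, map_inv, map_zpow, hX, hY, hW, hk]
      group
    have e1 : W * X * W⁻¹ = X⁻¹ * a₁ := by rw [ha₁def]; group
    have e2 : W * Y * W⁻¹ = (X ^ k * Y) * a₂ := by rw [ha₂def]; group
    have hcW : W * c * W⁻¹ = c := by
      rw [← hcen c hc1 W]; group
    have hcc : c = c⁻¹ := by
      calc c = W * c * W⁻¹ := hcW.symm
        _ = (W * X * W⁻¹) * (W * Y * W⁻¹) * (W * X * W⁻¹)⁻¹ * (W * Y * W⁻¹)⁻¹ := by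
            rw [hcdef]; group
        _ = (X⁻¹ * a₁) * ((X ^ k * Y) * a₂) * (X⁻¹ * a₁)⁻¹ * ((X ^ k * Y) * a₂)⁻¹ := by
            rw [e1, e2]
        _ = X⁻¹ * (X ^ k * Y) * X⁻¹⁻¹ * (X ^ k * Y)⁻¹ :=
            M1_comm_central _ _ _ _ (hcen a₁ ha₁) (hcen a₂ ha₂)
        _ = X ^ (k - 1) * (c⁻¹ * X) * X ^ (-k) := by rw [hcdef]; group
        _ = X ^ (k - 1) * (X * c⁻¹) * X ^ (-k) := by
            rw [hcen c⁻¹ (by rw [map_inv, hc1, inv_one]) X]
        _ = X ^ (k - 1) * X * (c⁻¹ * X ^ (-k)) := by group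
        _ = X ^ (k - 1) * X * (X ^ (-k) * c⁻¹) := by
            rw [hcen c⁻¹ (by rw [map_inv, hc1, inv_one]) (X ^ (-k))]
        _ = c⁻¹ := by group
    have hc2 : c ^ 2 = 1 := by
      rw [pow_two]
      nth_rewrite 1 [hcc]
      group
    have hc0 : c = 1 := h2 c hc1 hc2
    calc X * Y = (X * Y * X⁻¹ * Y⁻¹) * (Y * X) := by group
      _ = Y * X := by rw [← hcdef, hc0, one_mul]
  -- every element of the preimage is `X ^ i * Y ^ j * z`, `z` central
  have hform : ∀ a ∈ T.comap τ, ∃ i j : ℤ, ∃ z : Γ, τ z = 1 ∧ a = X ^ i * Y ^ j * z := by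
    intro a ha
    obtain ⟨i, j, hij⟩ := hgen (τ a) ha
    refine ⟨i, j, (X ^ i * Y ^ j)⁻¹ * a, ?_, by group⟩
    rw [map_mul, map_inv, map_mul, map_zpow, map_zpow, hX, hY, hij]; group
  intro a ha b hb
  obtain ⟨i, j, z, hz, rfl⟩ := hform a ha
  obtain ⟨i', j', z', hz', rfl⟩ := hform b hb
  have cXY : Commute X Y := hXY
  have cz : ∀ g : Γ, Commute z g := fun g => hcen z hz g
  have cz' : ∀ g : Γ, Commute z' g := fun g => hcen z' hz' g
  have cP : Commute (X ^ i * Y ^ j) (X ^ i' * Y ^ j') := by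
    apply Commute.mul_left
    · apply Commute.mul_right
      · exact (Commute.refl X).zpow_zpow i i'
      · exact cXY.zpow_zpow i j'
    · apply Commute.mul_right
      · exact (cXY.symm).zpow_zpow j i'
      · exact (Commute.refl Y).zpow_zpow j j'
  have : Commute (X ^ i * Y ^ j * z) (X ^ i' * Y ^ j' * z') := by
    apply Commute.mul_left
    · apply Commute.mul_right cP
      exact (cz' _).symm
    · exact cz _
  exact this

end central

end Cfsg.Agent.Helper24.PsuA
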