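import Cfsg.Agent.Helper71.PsuA.Defs
import Cfsg.Agent.Helper89.PsuA_AC

/-!
Helper24, S2089 block A (`n = 3`), `p'`-part of helper71 (#15135), piece (M2): `P = T⟨s⟩` is good when the preimage of
`T` is abelian and the lifts of the fixed points of `s` on `T` commute with the lifts of `s`.
-/

set_option autoImplicit false
set_option linter.unusedSectionVars false
set_option linter.unusedVariables false

namespace Cfsg.Agent.Helper24.PsuA

open scoped commutatorElement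
open Matrix Cfsg.Agent.Helper43.PsuM Cfsg.Agent.Helper37.SU3Inv
open Cfsg.Agent.Helper71.PsuA

universe u

section central

variable {Γ G : Type*} [Group Γ] [Group G] [Finite Γ] (τ : Γ →* G) (hτ : Function.Surjective τ)
  (hc : τ.ker ≤ Subgroup.center Γ)

include hτ hc

/-- **(M2)** -/
theorem good_of_delta (T P : Subgroup G) (hTP : T ≤ P) (s : G) (hsP : s ∈ P)
    (hsT : ∀ t ∈ T, s * t * s⁻¹ ∈ T) (hsT' : ∀ t ∈ T, s⁻¹ * t * s ∈ T)
    (hgen : ∀ g ∈ P, ∃ t ∈ T, ∃ k : ℤ, g = t * s ^ k)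
    (hab : ∀ a ∈ T.comap τ, ∀ b ∈ T.comap τ, a * b = b * a)
    (hfix : ∀ t ∈ T, s * t * s⁻¹ = t → ∀ a b : Γ, τ a = t → τ b = s → a * b = b * a) :
    Good τ P := by
  obtain ⟨S, hS⟩ := hτ s
  have hSP : S ∈ P.comap τ := by rw [Subgroup.mem_comap, hS]; exact hsP
  -- the group `Q = ↥P̂`
  let Y : Subgroup ↥(P.comap τ) := (T.comap τ).subgroupOf (P.comap τ)
  let x : ↥(P.comap τ) := ⟨S, hSP⟩
  have hYmem : ∀ a : ↥(P.comap τ), a ∈ Y ↔ τ (a : Γ) ∈ T := fun a => by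
    rw [Subgroup.mem_subgroupOf, Subgroup.mem_comap]
  have hY : ∀ a ∈ Y, ∀ b ∈ Y, a * b = b * a := by
    intro a ha b hb
    apply Subtype.ext
    exact hab _ ((hYmem a).mp ha) _ ((hYmem b).mp hb)
  have hx : ∀ y ∈ Y, x * y * x⁻¹ ∈ Y := by
    intro y hy
    rw [hYmem] at hy ⊢
    have e : τ ((x * y * x⁻¹ : ↥(P.comap τ)) : Γ) = s * τ (y : Γ) * s⁻¹ := by
      simp only [Subgroup.coe_mul, Subgroup.coe_inv, map_mul, map_inv, x, hS]
    rw [e]
    exact hsT _ hy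
  have hx' : ∀ y ∈ Y, x⁻¹ * y * x ∈ Y := by
    intro y hy
    rw [hYmem] at hy ⊢
    have e : τ ((x⁻¹ * y * x : ↥(P.comap τ)) : Γ) = s⁻¹ * τ (y : Γ) * s := by
      simp only [Subgroup.coe_mul, Subgroup.coe_inv, map_mul, map_inv, x, hS]
    rw [e]
    exact hsT' _ hy
  have hgen' : ∀ g : ↥(P.comap τ), ∃ y ∈ Y, ∃ k : ℤ, g = y * x ^ k := by
    intro g
    obtain ⟨t, ht, k, hk⟩ := hgen (τ (g : Γ)) g.2
    refine ⟨g * x ^ (-k), ?_, k, by group⟩
    rw [hYmem]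
    have e : τ ((g * x ^ (-k) : ↥(P.comap τ)) : Γ) = τ (g : Γ) * s ^ (-k) := by
      simp only [Subgroup.coe_mul, Subgroup.coe_zpow, map_mul, map_zpow, x, hS]
    rw [e, hk]
    have : t * s ^ k * s ^ (-k) = t := by group
    rw [this]
    exact ht
  have hAC := Cfsg.Agent.Helper89.PsuA.exists_of_mem_commutator Y hY x hx hx' hgen'
  -- now `Good`
  unfold Good
  rw [eq_bot_iff]
  rintro z ⟨hz1, hz2⟩
  rw [Subgroup.mem_bot]
  have hz1' : τ z = 1 := hz1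
  have hz2' : z ∈ (commutator ↥(P.comap τ)).map (P.comap τ).subtype := by
    rw [Subgroup.map_subtype_commutator]
    exact hz2
  obtain ⟨c, hc', rfl⟩ := hz2'
  obtain ⟨y, hy, rfl⟩ := hAC c hc'
  have hyT : τ (y : Γ) ∈ T := (hYmem y).mp hy
  have e : ((P.comap τ).subtype (x * y * x⁻¹ * y⁻¹) : Γ) = S * (y : Γ) * S⁻¹ * (y : Γ)⁻¹ := by
    simp only [Subgroup.coe_subtype, Subgroup.coe_mul, Subgroup.coe_inv, x]
  rw [e] at hz1' ⊢
  have h1 : s * τ (y : Γ) * s⁻¹ = τ (y : Γ) := by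
    have h := hz1'
    rw [map_mul, map_mul, map_mul, map_inv, map_inv, hS, mul_inv_eq_one] at h
    exact h
  have h2 : (y : Γ) * S = S * (y : Γ) := hfix _ hyT h1 (y : Γ) S rfl hS
  calc S * (y : Γ) * S⁻¹ * (y : Γ)⁻¹ = (S * (y : Γ)) * S⁻¹ * (y : Γ)⁻¹ := by group
    _ = ((y : Γ) * S) * S⁻¹ * (y : Γ)⁻¹ := by rw [h2]
    _ = 1 := by group

end central

end Cfsg.Agent.Helper24.PsuA
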