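import Cfsg.Agent.Helper5.PsuE2.Defs
import Cfsg.Agent.Helper65.PsuM_INV

/-!
Helper24, S2089 block I-even-2 of helper5 (#15283), piece (XINV): the complement `Cq τ zT` is invariant under the lifts
of the root elements `xE σ a b t` of the Levi subgroup (one call of (INV) of block R).
-/

set_option autoImplicit false
set_option linter.unusedSectionVars false
set_option linter.unusedVariables false

namespace Cfsg.Agent.Helper24.PsuE2

open Matrix
open scoped commutatorElement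
open Cfsg.Agent.Helper43.PsuM.Ev
open Cfsg.Agent.Helper96.StLift
open Cfsg.Agent.Helper5.PsuE2

universe u

section group

variable {K : Type u} [Field K] {σ : K →+* K} {m : ℕ} {Γ : Type u} [Group Γ] [Finite Γ]
  (τ : Γ →* SUe m σ) (hτ : Function.Surjective τ)

/-- **(XINV)** -/
theorem Cq_conj_x (E : Ext2 τ hτ) (F : F4Facts σ) (R : RootFacts σ m) (hm : 4 ≤ m)
    (L : LiftFacts τ hτ) (zT : Fin m → Γ) (Z : ZFacts τ hτ zT)
    (hinf : Cq τ zT ⊓ τ.ker = ⊥) (a b : Fin m) (hab : a ≠ b) (t : K) (g : Γ)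
    (hg : τ g = xE σ a b t) : ∀ c ∈ Cq τ zT, g * c * g⁻¹ ∈ Cq τ zT := by
  -- the data of (INV)
  obtain ⟨M, hMdef⟩ : ∃ M : Subgroup Γ, M = (Qsub m σ).comap τ := ⟨_, rfl⟩
  obtain ⟨D, hDdef⟩ : ∃ D : Subgroup Γ,
      D = Subgroup.closure (Set.range zT ∪ Set.range (cT τ a b)) := ⟨_, rfl⟩
  have hcsh : Csh τ = ⁅M, (Tsub m σ).comap τ⁆ := by rw [hMdef]; rfl
  have hzD : ∀ l, zT l ∈ D := fun l => by
    rw [hDdef]; exact Subgroup.subset_closure (Or.inl ⟨l, rfl⟩)
  have hcD : ∀ u, cT τ a b u ∈ D := fun u => by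
    rw [hDdef]; exact Subgroup.subset_closure (Or.inr ⟨u, rfl⟩)
  have hcshM : Csh τ ≤ M := by rw [hMdef]; exact csh_le τ R.T_norm
  have hzM : ∀ l, zT l ∈ M := fun l => by
    rw [hMdef, Subgroup.mem_comap, Z.map_zT l]; exact R.z_mem l
  have hDM : D ≤ M := by
    rw [hDdef, Subgroup.closure_le]
    rintro x (⟨l, rfl⟩ | ⟨u, rfl⟩)
    · exact hzM l
    · exact hcshM (cT_mem τ hτ R hab u)
  have hCq : D ⊔ ⁅M, (Tsub m σ).comap τ⁆ = Cq τ zT := by
    rw [← hcsh]
    unfold Cq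
    apply le_antisymm
    · refine sup_le ?_ le_sup_left
      rw [hDdef, Subgroup.closure_le]
      rintro x (⟨l, rfl⟩ | ⟨u, rfl⟩)
      · exact (le_sup_right : Subgroup.closure (Set.range zT) ≤ _)
          (Subgroup.subset_closure ⟨l, rfl⟩)
      · exact (le_sup_left : Csh τ ≤ _) (cT_mem τ hτ R hab u)
    · refine sup_le le_sup_right ?_
      refine le_trans ?_ le_sup_left
      rw [hDdef]
      exact Subgroup.closure_mono Set.subset_union_left
  have hcen : ∀ z : Γ, τ z = 1 → ∀ x : Γ, Commute z x := by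
    intro z hz x
    have h := E.central (show z ∈ τ.ker from hz)
    rw [Subgroup.mem_center_iff] at h
    exact (h x).symm
  have hAM : τ.ker ≤ M := by
    intro x hx
    rw [hMdef, Subgroup.mem_comap, MonoidHom.mem_ker.mp hx]
    exact (Qsub m σ).one_mem
  have hH : Tij σ a b ≤ Tsub m σ := inf_le_left
  have hTM : ∀ g : Γ, τ g ∈ Tsub m σ → ∀ x ∈ M, g * x * g⁻¹ ∈ M := by
    intro g' hg' x hx
    rw [hMdef, Subgroup.mem_comap] at hx ⊢
    rw [map_mul, map_mul, map_inv]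
    exact R.T_norm _ hg' _ hx
  have hC : (D ⊔ ⁅M, (Tsub m σ).comap τ⁆) ⊓ τ.ker = ⊥ := by rw [hCq]; exact hinf
  have hgM : ∀ x ∈ M, g * x * g⁻¹ ∈ M := by
    intro x hx
    rw [hMdef, Subgroup.mem_comap] at hx ⊢
    rw [map_mul, map_mul, map_inv, hg]
    exact R.x_norm _ _ _ _ hx
  -- `g` normalises `D`
  have hgD : ∀ x ∈ D, g * x * g⁻¹ ∈ D := by
    have hle : D ≤ D.comap (MulAut.conj g).toMonoidHom := by
      nth_rewrite 1 [hDdef]
      rw [Subgroup.closure_le]
      rintro x (⟨l, rfl⟩ | ⟨u, rfl⟩)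
      · -- `zT l`
        rw [SetLike.mem_coe, Subgroup.mem_comap]
        show g * zT l * g⁻¹ ∈ D
        by_cases hlb : l = b
        · subst hlb
          by_cases ht : t = 0
          · have hg1 : τ g = 1 := by rw [hg, ht, R.x_zero]
            rw [(hcen g hg1 (zT l)).eq, mul_inv_cancel_right]
            exact hzD l
          · have e : g * zT l * g⁻¹ = ⁅g, zT l⁆ * zT l := by
              rw [commutatorElement_def]; group
            rw [e, lc_eq' hτ E.central hg (Z.map_zT l), Z.c1 a l hab t ht]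
            exact D.mul_mem (D.mul_mem (hcD t) (hzD a)) (hzD l)
        · have hcomm : Commute g (zT l) := L.x_z g (zT l) a b l t hab hlb hg (Z.map_zT l)
          rw [hcomm.eq, mul_inv_cancel_right]
          exact hzD l
      · -- `cT τ a b u`
        rw [SetLike.mem_coe, Subgroup.mem_comap]
        show g * cT τ a b u * g⁻¹ ∈ D
        rcases Z.c3 a b hab t u g hg with h | h
        · rw [h]; exact hcD u
        · rw [h]; exact D.mul_mem (hcD u) (hzD a)
    intro x hx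
    exact hle hx
  have hgH : ∀ h ∈ Tij σ a b, Commute (τ g) h := by
    intro h hh
    have h2 := (Subgroup.mem_inf.mp hh).2
    rw [Subgroup.mem_centralizer_iff] at h2
    rw [hg]
    exact h2 _ ⟨t, rfl⟩
  have hY : (⊥ : Subgroup (SUe m σ)) ≤ M.map τ := bot_le
  have hTY : ∀ t' ∈ Tsub m σ, ∀ y ∈ (⊥ : Subgroup (SUe m σ)), t' * y * t'⁻¹ ∈ (⊥ : Subgroup (SUe m σ)) := by
    intro t' _ y hy
    rw [Subgroup.mem_bot] at hy ⊢
    rw [hy]; group
  have hgY : ∀ y : Γ, τ y ∈ (⊥ : Subgroup (SUe m σ)) → Commute g y := by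
    intro y hy
    rw [Subgroup.mem_bot] at hy
    exact (hcen y hy g).symm
  have hMmap : M.map τ = Qsub m σ := by
    rw [hMdef]; exact Subgroup.map_comap_eq_self_of_surjective hτ _
  have hgen : M.map τ ≤ D.map τ ⊔ ⁅M.map τ, Tij σ a b⁆ ⊔ ⁅(⊥ : Subgroup (SUe m σ)), Tsub m σ⁆ := by
    rw [hMmap]
    refine le_trans R.Q_le ?_
    rw [Subgroup.closure_le]
    rintro x (⟨l, rfl⟩ | ⟨i, j, hij, u, rfl⟩)
    · apply (le_sup_left : D.map τ ⊔ ⁅Qsub m σ, Tij σ a b⁆ ≤ _)
      apply (le_sup_left : D.map τ ≤ _)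
      exact ⟨zT l, hzD l, Z.map_zT l⟩
    · by_cases h1 : i = a ∧ j = b
      · obtain ⟨rfl, rfl⟩ := h1
        apply (le_sup_left : D.map τ ⊔ ⁅Qsub m σ, Tij σ i j⁆ ≤ _)
        apply (le_sup_left : D.map τ ≤ _)
        exact ⟨cT τ i j u, hcD u, map_cT τ hτ R hab u⟩
      · by_cases h2 : i = b ∧ j = a
        · obtain ⟨rfl, rfl⟩ := h2
          apply (le_sup_left : D.map τ ⊔ ⁅Qsub m σ, Tij σ j i⁆ ≤ _)
          apply (le_sup_left : D.map τ ≤ _)
          refine ⟨cT τ j i (σ u), hcD (σ u), ?_⟩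
          rw [map_cT τ hτ R hab (σ u)]
          exact (R.c_symm j i hab u).symm
        · apply (le_sup_left : D.map τ ⊔ ⁅Qsub m σ, Tij σ a b⁆ ≤ _)
          apply (le_sup_right : ⁅Qsub m σ, Tij σ a b⁆ ≤ _)
          exact R.c_mem_comm_Tij a b i j hab hij h1 h2 u
  have key := Cfsg.Agent.Helper65.PsuM.conj_mem_comm_comap τ hτ E.central M D (Tsub m σ) (Tij σ a b) ⊥
    hDM hAM hH hTM hC g hgM hgD hgH hY hTY hgY hgen
  rw [hCq] at key
  exact key

end group

end Cfsg.Agent.Helper24.PsuE2
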