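import Cfsg.Agent.Helper78.PsuII.Stmts
import Cfsg.Agent.Helper30.PsuM_PL1
import Cfsg.Agent.Helper93.PsuM_PL2
import Cfsg.Agent.Helper31.PsuM_PL3

/-!
Helper24, S2089 block II part A of helper78 (#14873), piece (AL): first facts on the lifts (`LFacts`), from
(RK1) (the hypothesis `hRK`) and PL1-PL3 of block R.
-/

set_option autoImplicit false
set_option linter.unusedSectionVars false
set_option linter.unusedVariables false

namespace Cfsg.Agent.Helper24.PsuII

open Cfsg.Agent.Helper43.PsuM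
open Cfsg.Agent.Helper78.PsuII

universe u

section lift

variable {Γ G : Type u} [Group Γ] [Group G] [Finite Γ] {r : ℕ} (τ : Γ →* G)
  (hτ : Function.Surjective τ) (hc : τ.ker ≤ Subgroup.center Γ) (p : ℕ) [Fact p.Prime]
  (hcop : (Nat.card τ.ker).Coprime p) (D : RData G r) (hD : D.IsSplit p) (hG : GFacts D p)

include hτ hc hcop in
/-- canonical lifts are conjugation-equivariant -/
theorem AL_conj_plift (X X' : Subgroup G) (hX : IsPGroup p X) (hX' : IsPGroup p X') (g : Γ)
    (h : cj (τ g) X ≤ X') (x : Γ) (hx : x ∈ plift τ p X) : g * x * g⁻¹ ∈ plift τ p X' := by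
  obtain ⟨hx1, k, hk⟩ := (Cfsg.Agent.Helper30.PsuM.mem_plift_iff τ hτ hc p hcop X hX x).mp hx
  apply Subgroup.subset_closure
  refine ⟨?_, k, ?_⟩
  · apply h
    have e : τ (g * x * g⁻¹) = τ g * τ x * (τ g)⁻¹ := by rw [map_mul, map_mul, map_inv]
    rw [e]
    exact conj_mem_cj (τ g) hx1
  · rw [conj_pow, hk]; group

include hτ hc hcop hD hG

/-- **(AL)** first facts on the lifts. -/
theorem lFacts (hRK : ∀ i, Lt τ p D i ⊓ τ.ker = ⊥) : LFacts τ p D := by
  have hmp := Cfsg.Agent.Helper30.PsuM.mem_plift_iff τ hτ hc p hcop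
  have hpik := Cfsg.Agent.Helper93.PsuM.plift_inf_ker τ hτ hc p hcop
  have hpmap := Cfsg.Agent.Helper31.PsuM.plift_map τ hτ hc p hcop
  have hinj : ∀ i, ∀ g ∈ Lt τ p D i, τ g = 1 → g = 1 := by
    intro i g hg hg1
    have : g ∈ Lt τ p D i ⊓ τ.ker := ⟨hg, hg1⟩
    rw [hRK i] at this
    exact this
  have hconjLt : ∀ (g : Γ) (i j : Fin r),
      ((cj (τ g) (D.X j) ≤ D.X i ∧ cj (τ g) (D.Y j) ≤ D.Y i) ∨
        (cj (τ g) (D.X j) ≤ D.Y i ∧ cj (τ g) (D.Y j) ≤ D.X i)) →
      ∀ a ∈ Lt τ p D j, g * a * g⁻¹ ∈ Lt τ p D i := by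
    intro g i j hcond
    have hle : Lt τ p D j ≤ (Lt τ p D i).comap (MulAut.conj g).toMonoidHom := by
      unfold Lt
      rcases hcond with ⟨h1, h2⟩ | ⟨h1, h2⟩
      · refine sup_le ?_ ?_
        · intro x hx
          rw [Subgroup.mem_comap]
          exact (le_sup_left : Xt τ p D i ≤ _)
            (AL_conj_plift τ hτ hc p hcop _ _ (hG.pX j) (hG.pX i) g h1 x hx)
        · intro x hx
          rw [Subgroup.mem_comap]
          exact (le_sup_right : Yt τ p D i ≤ _)
            (AL_conj_plift τ hτ hc p hcop _ _ (hG.pY j) (hG.pY i) g h2 x hx)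
      · refine sup_le ?_ ?_
        · intro x hx
          rw [Subgroup.mem_comap]
          exact (le_sup_right : Yt τ p D i ≤ _)
            (AL_conj_plift τ hτ hc p hcop _ _ (hG.pX j) (hG.pY i) g h1 x hx)
        · intro x hx
          rw [Subgroup.mem_comap]
          exact (le_sup_left : Xt τ p D i ≤ _)
            (AL_conj_plift τ hτ hc p hcop _ _ (hG.pY j) (hG.pX i) g h2 x hx)
    intro a ha
    have := hle ha
    rw [Subgroup.mem_comap] at this
    simpa [MulAut.conj_apply] using this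
  refine
    { inj := hinj
      map_le := ?_
      surj := ?_
      mem_plift := ?_
      conj_plift := fun X X' hX hX' g h x hx => AL_conj_plift τ hτ hc p hcop X X' hX hX' g h x hx
      conj_Lt := hconjLt
      Xt_le_Ut := fun i => plift_mono τ p (hD.X_le i)
      Ut_inj := ?_
      Ut_map := fun g hg => plift_le_comap τ p D.U hg
      Xt_map := fun i g hg => plift_le_comap τ p (D.X i) hg
      Yt_map := fun i g hg => plift_le_comap τ p (D.Y i) hg
      Xt_surj := ?_
      mem_Ut := fun g hg hk => Subgroup.subset_closure ⟨hg, hk⟩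
      Ut_pow := fun g hg => ((hmp D.U hD.pU g).mp hg).2 }
  · -- map_le
    intro i
    have hle : Lt τ p D i ≤ (D.L i).comap τ := by
      unfold Lt RData.L
      refine sup_le ?_ ?_
      · exact (plift_le_comap τ p (D.X i)).trans (Subgroup.comap_mono le_sup_left)
      · exact (plift_le_comap τ p (D.Y i)).trans (Subgroup.comap_mono le_sup_right)
    exact fun g hg => hle hg
  · -- surj
    intro i a ha
    have hmap : (Lt τ p D i).map τ = D.L i := by
      unfold Lt RData.L Xt Yt
      rw [Subgroup.map_sup, hpmap _ (hG.pX i), hpmap _ (hG.pY i)]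
    rw [← hmap] at ha
    obtain ⟨g, hg, rfl⟩ := ha
    exact ⟨g, hg, rfl⟩
  · -- mem_plift
    intro i P hP g hg hgP
    obtain ⟨k, hk⟩ := hP ⟨τ g, hgP⟩
    have hk' : τ g ^ p ^ k = 1 := by
      have := congrArg Subtype.val hk
      simpa using this
    apply Subgroup.subset_closure
    refine ⟨hgP, k, ?_⟩
    apply hinj i _ ((Lt τ p D i).pow_mem hg _)
    rw [map_pow, hk']
  · -- Ut_inj
    intro g hg hg1
    have : g ∈ plift τ p D.U ⊓ τ.ker := ⟨hg, hg1⟩
    rw [hpik D.U hD.pU] at this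
    exact this
  · -- Xt_surj
    intro i x hx
    have hmap := hpmap (D.X i) (hG.pX i)
    rw [← hmap] at hx
    obtain ⟨g, hg, rfl⟩ := hx
    exact ⟨g, hg, rfl⟩

end lift

end Cfsg.Agent.Helper24.PsuII
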