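import Cfsg.Agent.Helper78.PsuII.Stmts

/-!
Helper24, S2089 block II part A of helper78 (#14873), piece (AN): the facts `NFacts` on the lifts `ñ_i`, `Ñ`.
-/

set_option autoImplicit false
set_option linter.unusedSectionVars false
set_option linter.unusedVariables false

namespace Cfsg.Agent.Helper24.PsuII

open Cfsg.Agent.Helper43.PsuM
open Cfsg.Agent.Helper78.PsuII

universe u

section lift

variable {Γ G : Type u} [Group Γ] [Group G] [Finite Γ] {r : ℕ} (τ : Γ →* G)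
  (hτ : Function.Surjective τ) (hc : τ.ker ≤ Subgroup.center Γ) (p : ℕ) [Fact p.Prime]
  (hcop : (Nat.card τ.ker).Coprime p) (D : RData G r) (hD : D.IsSplit p) (hG : GFacts D p)

omit [Finite Γ] [Fact p.Prime] in
theorem AN_Hit_le_Ht (i : Fin r) : Hit τ p D i ≤ Ht τ p D :=
  le_iSup (fun i => Hit τ p D i) i

omit [Finite Γ] [Fact p.Prime] in
theorem AN_mul_inv (i : Fin r) (a : Γ) (ha : a ∈ Nit τ p D i) (b : Γ) (hb : b ∈ Nit τ p D i) :
    a * b⁻¹ ∈ Hit τ p D i := by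
  refine ⟨(Lt τ p D i).mul_mem ha.1 ((Lt τ p D i).inv_mem hb.1), ?_⟩
  show τ (a * b⁻¹) ∈ D.H
  have h1 : τ (a * b⁻¹) = (τ a * (D.s i)⁻¹) * (τ b * (D.s i)⁻¹)⁻¹ := by
    rw [map_mul, map_inv]; group
  rw [h1]
  exact D.H.mul_mem ha.2 (D.H.inv_mem hb.2)

omit [Finite Γ] [Fact p.Prime] in
theorem AN_mul_mem (i : Fin r) (h : Γ) (hh : h ∈ Hit τ p D i) (a : Γ) (ha : a ∈ Nit τ p D i) :
    h * a ∈ Nit τ p D i := by
  refine ⟨(Lt τ p D i).mul_mem hh.1 ha.1, ?_⟩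
  have h1 : τ (h * a) * (D.s i)⁻¹ = τ h * (τ a * (D.s i)⁻¹) := by
    rw [map_mul]; group
  rw [h1]
  exact D.H.mul_mem hh.2 ha.2

include hG in
omit [Finite Γ] [Fact p.Prime] in
theorem AN_sq (i : Fin r) (a : Γ) (ha : a ∈ Nit τ p D i) : a * a ∈ Hit τ p D i := by
  refine ⟨(Lt τ p D i).mul_mem ha.1 ha.1, ?_⟩
  show τ (a * a) ∈ D.H
  have h1 : τ (a * a) = (τ a * (D.s i)⁻¹) * D.s i * ((τ a * (D.s i)⁻¹) * D.s i) := by
    rw [map_mul]; group
  rw [h1]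
  exact hG.hs_sq i _ ha.2

include hG in
omit [Finite Γ] [Fact p.Prime] in
theorem AN_map_N (hHF : HFacts τ p D) (g : Γ) (hg : g ∈ Nt τ p D) : τ g ∈ D.N := by
  have hle : Nt τ p D ≤ D.N.comap τ := by
    unfold Nt
    refine sup_le ?_ ?_
    · intro x hx
      exact hG.H_le_N (hHF.map_le x hx)
    · rw [Subgroup.closure_le]
      intro x hx
      obtain ⟨i, hi⟩ := Set.mem_iUnion.mp hx
      rw [SetLike.mem_coe, Subgroup.mem_comap]
      have h1 : τ x = (τ x * (D.s i)⁻¹) * D.s i := by group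
      rw [h1]
      exact D.N.mul_mem (hG.H_le_N hi.2) (hG.s_mem_N i)
  exact hle hg

include hD in
omit [Finite Γ] [Fact p.Prime] in
/-- `a b a⁻¹ ∈ H̃` for `a ∈ Nit i`, `b ∈ Hit j` -/
theorem AN_conj_Hit (hHF : HFacts τ p D) (i j : Fin r) (a : Γ) (ha : a ∈ Nit τ p D i)
    (b : Γ) (hb : b ∈ Hit τ p D j) : a * b * a⁻¹ ∈ Ht τ p D := by
  have hbH : τ b ∈ D.H := hb.2
  have hbH' : τ b⁻¹ ∈ D.H := by rw [map_inv]; exact D.H.inv_mem hbH
  -- `b⁻¹ a b ∈ Nit i`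
  have h1 : b⁻¹ * a * b ∈ Nit τ p D i := by
    refine ⟨?_, ?_⟩
    · have := hHF.norm b⁻¹ hbH' i a ha.1
      rwa [inv_inv] at this
    · have e : τ (b⁻¹ * a * b) * (D.s i)⁻¹
          = (τ b)⁻¹ * (τ a * (D.s i)⁻¹) * (D.s i * τ b * (D.s i)⁻¹) := by
        rw [map_mul, map_mul, map_inv]; group
      rw [e]
      exact D.H.mul_mem (D.H.mul_mem (D.H.inv_mem hbH) ha.2) (hD.s_H i _ hbH)
  have h2 : (b⁻¹ * a * b) * a⁻¹ ∈ Hit τ p D i := AN_mul_inv τ p D i _ h1 a ha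
  have e : a * b * a⁻¹ = b * ((b⁻¹ * a * b) * a⁻¹) := by group
  rw [e]
  exact (Ht τ p D).mul_mem (AN_Hit_le_Ht τ p D j hb) (AN_Hit_le_Ht τ p D i h2)

include hD in
omit [Finite Γ] [Fact p.Prime] in
/-- `a h a⁻¹ ∈ H̃` for `a ∈ Nit i`, `h ∈ H̃` -/
theorem AN_conj_Ht (hHF : HFacts τ p D) (i : Fin r) (a : Γ) (ha : a ∈ Nit τ p D i)
    (h : Γ) (hh : h ∈ Ht τ p D) : a * h * a⁻¹ ∈ Ht τ p D := by
  have hh' : h ∈ ⨆ j, Hit τ p D j := hh
  refine Subgroup.iSup_induction (fun j => Hit τ p D j) (C := fun h => a * h * a⁻¹ ∈ Ht τ p D) hh'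
    ?_ ?_ ?_
  · intro j b hb
    exact AN_conj_Hit τ p D hD hHF i j a ha b hb
  · simp [(Ht τ p D).one_mem]
  · intro x y hx hy
    have e : a * (x * y) * a⁻¹ = (a * x * a⁻¹) * (a * y * a⁻¹) := by group
    rw [e]
    exact (Ht τ p D).mul_mem hx hy

include hD hG in
omit [Finite Γ] [Fact p.Prime] in
/-- `a⁻¹ h a ∈ H̃` for `a ∈ Nit i`, `h ∈ H̃` -/
theorem AN_conj_Ht' (hHF : HFacts τ p D) (i : Fin r) (a : Γ) (ha : a ∈ Nit τ p D i)
    (h : Γ) (hh : h ∈ Ht τ p D) : a⁻¹ * h * a ∈ Ht τ p D := by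
  have h1 : a * a ∈ Ht τ p D := AN_Hit_le_Ht τ p D i (AN_sq τ p D hG i a ha)
  have h2 := AN_conj_Ht τ p D hD hHF i a ha h hh
  have e : a⁻¹ * h * a = (a * a)⁻¹ * (a * h * a⁻¹) * (a * a) := by group
  rw [e]
  exact (Ht τ p D).mul_mem ((Ht τ p D).mul_mem ((Ht τ p D).inv_mem h1) h2) h1

include hD hG in
omit [Finite Γ] [Fact p.Prime] in
theorem AN_normal (hHF : HFacts τ p D) (g : Γ) (hg : g ∈ Nt τ p D) :
    (∀ h ∈ Ht τ p D, g * h * g⁻¹ ∈ Ht τ p D) ∧ (∀ h ∈ Ht τ p D, g⁻¹ * h * g ∈ Ht τ p D) := by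
  -- the normaliser-like subgroup
  let T : Subgroup Γ :=
    { carrier := {g | (∀ h ∈ Ht τ p D, g * h * g⁻¹ ∈ Ht τ p D) ∧
        (∀ h ∈ Ht τ p D, g⁻¹ * h * g ∈ Ht τ p D)}
      mul_mem' := by
        rintro x y ⟨hx1, hx2⟩ ⟨hy1, hy2⟩
        refine ⟨fun h hh => ?_, fun h hh => ?_⟩
        · have e : x * y * h * (x * y)⁻¹ = x * (y * h * y⁻¹) * x⁻¹ := by group
          rw [e]; exact hx1 _ (hy1 h hh)
        · have e : (x * y)⁻¹ * h * (x * y) = y⁻¹ * (x⁻¹ * h * x) * y := by group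
          rw [e]; exact hy2 _ (hx2 h hh)
      one_mem' := by
        refine ⟨fun h hh => ?_, fun h hh => ?_⟩ <;> simpa using hh
      inv_mem' := by
        rintro x ⟨hx1, hx2⟩
        refine ⟨fun h hh => ?_, fun h hh => ?_⟩
        · rw [inv_inv]; exact hx2 h hh
        · rw [inv_inv]; exact hx1 h hh }
  have hle : Nt τ p D ≤ T := by
    unfold Nt
    refine sup_le ?_ ?_
    · intro x hx
      refine ⟨fun h hh => ?_, fun h hh => ?_⟩
      · exact (Ht τ p D).mul_mem ((Ht τ p D).mul_mem hx hh) ((Ht τ p D).inv_mem hx)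
      · exact (Ht τ p D).mul_mem ((Ht τ p D).mul_mem ((Ht τ p D).inv_mem hx) hh) hx
    · rw [Subgroup.closure_le]
      intro x hx
      obtain ⟨i, hi⟩ := Set.mem_iUnion.mp hx
      exact ⟨fun h hh => AN_conj_Ht τ p D hD hHF i x hi h hh,
        fun h hh => AN_conj_Ht' τ p D hD hG hHF i x hi h hh⟩
  exact hle hg

include hτ hc hcop hD hG

/-- **(AN)** the lifts `ñ_i` and `Ñ`. -/
theorem nFacts (hLF : LFacts τ p D) (hHF : HFacts τ p D) : NFacts τ p D := by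
  refine ⟨?_, ?_, ?_, ?_, ?_, ?_, ?_, ?_⟩
  · -- nonempty
    intro i
    obtain ⟨h, hh, hL⟩ := hG.exists_n i
    obtain ⟨g, hg, hgτ⟩ := hLF.surj i _ hL
    refine ⟨g, hg, ?_⟩
    rw [hgτ]
    have : h * D.s i * (D.s i)⁻¹ = h := by group
    rw [this]; exact hh
  · exact fun i a ha b hb => AN_mul_inv τ p D i a ha b hb
  · exact fun i h hh a ha => AN_mul_mem τ p D i h hh a ha
  · exact fun i a ha => AN_sq τ p D hG i a ha
  · -- conj_X
    intro i a ha x hx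
    have h1 : cj (τ a) (D.X i) ≤ D.Y i := by
      have e : τ a = (τ a * (D.s i)⁻¹) * D.s i := by group
      rw [e]
      exact hG.hs_X i _ ha.2
    exact hLF.conj_plift (D.X i) (D.Y i) (hG.pX i) (hG.pY i) a h1 x hx
  · exact fun g hg => AN_map_N τ p D hG hHF g hg
  · exact fun g hg h hh => (AN_normal τ p D hD hG hHF g hg).1 h hh
  · -- conj_n
    intro g hg i j hcond a ha
    have hν : τ g ∈ D.N := AN_map_N τ p D hG hHF g hg
    refine ⟨hLF.conj_Lt g i j (hD.conjL (τ g) hν i j hcond) a ha.1, ?_⟩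
    have e : τ (g * a * g⁻¹) * (D.s i)⁻¹
        = (τ g * (τ a * (D.s j)⁻¹) * (τ g)⁻¹) * (τ g * D.s j * (τ g)⁻¹ * (D.s i)⁻¹) := by
      rw [map_mul, map_mul, map_inv]; group
    rw [e]
    exact D.H.mul_mem (hG.N_H _ hν _ ha.2) hcond

end lift

end Cfsg.Agent.Helper24.PsuII
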