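import Cfsg.Agent.Helper78.PsuII.Stmts

/-!
Helper24, S2089 block II part A of helper78 (#14873), piece (AR): the lifted factorisation of `Ũ`, the lifted
rank one decomposition and the lifted dichotomy (`RFacts`).
-/

set_option autoImplicit false
set_option linter.unusedSectionVars false
set_option linter.unusedVariables false

namespace Cfsg.Agent.Helper24.PsuII

open Cfsg.Agent.Helper43.PsuM
open Cfsg.Agent.Helper78.PsuII

universe u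

section lift

variable {Γ G : Type u} [Group Γ] [Group G] [Finite Γ] {r : ℕ} (τ : Γ →* G)
  (hτ : Function.Surjective τ) (hc : τ.ker ≤ Subgroup.center Γ) (p : ℕ) [Fact p.Prime]
  (hcop : (Nat.card τ.ker).Coprime p) (D : RData G r) (hD : D.IsSplit p) (hG : GFacts D p)

omit [Finite Γ] [Fact p.Prime] in
theorem AR_Xt_le_Lt (i : Fin r) : Xt τ p D i ≤ Lt τ p D i := le_sup_left

omit [Finite Γ] [Fact p.Prime] in
theorem AR_Yt_le_Lt (i : Fin r) : Yt τ p D i ≤ Lt τ p D i := le_sup_right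

include hD in
omit [Finite Γ] [Fact p.Prime] in
theorem AR_factor (hLF : LFacts τ p D) (i : Fin r) (u : Γ) (hu : u ∈ Ut τ p D) :
    ∃ y ∈ Ut τ p D, ∃ x ∈ Xt τ p D i, u = y * x ∧
      ∀ a ∈ Nit τ p D i, a * y * a⁻¹ ∈ Ut τ p D := by
  obtain ⟨y₀, hy₀, x₀, hx₀, huyx, hsy⟩ := hD.factor i (τ u) (hLF.Ut_map u hu)
  obtain ⟨x, hx, hxτ⟩ := hLF.Xt_surj i x₀ hx₀
  have hxU : x ∈ Ut τ p D := hLF.Xt_le_Ut i hx
  have hyU : u * x⁻¹ ∈ Ut τ p D := (Ut τ p D).mul_mem hu ((Ut τ p D).inv_mem hxU)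
  refine ⟨u * x⁻¹, hyU, x, hx, by group, ?_⟩
  intro a ha
  have hτy : τ (u * x⁻¹) = y₀ := by
    rw [map_mul, map_inv, hxτ, huyx]; group
  apply hLF.mem_Ut
  · have e : τ (a * (u * x⁻¹) * a⁻¹)
        = (τ a * (D.s i)⁻¹) * (D.s i * y₀ * (D.s i)⁻¹) * (τ a * (D.s i)⁻¹)⁻¹ := by
      rw [map_mul, map_mul, map_inv, hτy]; group
    rw [e]
    exact hD.H_U _ ha.2 _ hsy
  · obtain ⟨k, hk⟩ := hLF.Ut_pow _ hyU
    refine ⟨k, ?_⟩
    rw [conj_pow, hk]; group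

include hD hG in
omit [Finite Γ] [Fact p.Prime] in
theorem AR_rank_one (hLF : LFacts τ p D) (hNF : NFacts τ p D) (i : Fin r) (a : Γ)
    (ha : a ∈ Nit τ p D i) (x : Γ) (hx : x ∈ Xt τ p D i) (hx1 : x ≠ 1) :
    ∃ x₁ ∈ Xt τ p D i, ∃ h ∈ Hit τ p D i, ∃ x₂ ∈ Xt τ p D i,
      a * x * a⁻¹ = x₁ * (h * a) * x₂ := by
  have hτx : τ x ≠ 1 := fun h => hx1 (hLF.Ut_inj x (hLF.Xt_le_Ut i hx) h)
  have hy : a * x * a⁻¹ ∈ Yt τ p D i := hNF.conj_X i a ha x hx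
  have hτy : τ (a * x * a⁻¹) ∈ D.Y i := hLF.Yt_map i _ hy
  have hτy1 : τ (a * x * a⁻¹) ≠ 1 := by
    intro h
    apply hτx
    have e : τ x = (τ a)⁻¹ * τ (a * x * a⁻¹) * τ a := by
      rw [map_mul, map_mul, map_inv]; group
    rw [e, h]; group
  obtain ⟨x₁', hx₁', h', hh', x₂', hx₂', hdec, hL⟩ := hG.rank_one_L i _ hτy hτy1
  obtain ⟨x₁, hx₁, hx₁τ⟩ := hLF.Xt_surj i x₁' hx₁'
  obtain ⟨x₂, hx₂, hx₂τ⟩ := hLF.Xt_surj i x₂' hx₂'
  have he : x₁⁻¹ * (a * x * a⁻¹) * x₂⁻¹ * a⁻¹ ∈ Hit τ p D i := by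
    refine ⟨?_, ?_⟩
    · exact (Lt τ p D i).mul_mem ((Lt τ p D i).mul_mem ((Lt τ p D i).mul_mem
        ((Lt τ p D i).inv_mem (AR_Xt_le_Lt τ p D i hx₁)) (AR_Yt_le_Lt τ p D i hy))
        ((Lt τ p D i).inv_mem (AR_Xt_le_Lt τ p D i hx₂))) ((Lt τ p D i).inv_mem ha.1)
    · show τ (x₁⁻¹ * (a * x * a⁻¹) * x₂⁻¹ * a⁻¹) ∈ D.H
      have e : τ (x₁⁻¹ * (a * x * a⁻¹) * x₂⁻¹ * a⁻¹) = h' * (τ a * (D.s i)⁻¹)⁻¹ := by
        rw [map_mul, map_mul, map_mul, map_inv, map_inv, map_inv, hdec, hx₁τ, hx₂τ]; group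
      rw [e]
      exact D.H.mul_mem hh' (D.H.inv_mem ha.2)
  refine ⟨x₁, hx₁, _, he, x₂, hx₂, by group⟩

include hD hG in
omit [Finite Γ] [Fact p.Prime] in
theorem AR_dichotomy (hLF : LFacts τ p D) (hNF : NFacts τ p D) (i : Fin r) (μ : Γ)
    (hμ : μ ∈ Nt τ p D) :
    (∀ x ∈ Xt τ p D i, μ⁻¹ * x * μ ∈ Ut τ p D) ∨ (∀ y ∈ Yt τ p D i, μ⁻¹ * y * μ ∈ Ut τ p D) := by
  have key : ∀ X : Subgroup G, IsPGroup p X → (∀ x ∈ X, (τ μ)⁻¹ * x * τ μ ∈ D.U) →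
      ∀ x ∈ plift τ p X, μ⁻¹ * x * μ ∈ Ut τ p D := by
    intro X hX h x hx
    have h1 : cj (τ μ⁻¹) X ≤ D.U := by
      intro a ha
      rw [mem_cj_iff, map_inv, inv_inv] at ha
      have e : a = (τ μ)⁻¹ * (τ μ * a * (τ μ)⁻¹) * τ μ := by group
      rw [e]
      exact h _ ha
    have := hLF.conj_plift X D.U hX hD.pU μ⁻¹ h1 x hx
    rwa [inv_inv] at this
  rcases hD.dichotomy i (τ μ) (hNF.map_N μ hμ) with h | h
  · exact Or.inl (key (D.X i) (hG.pX i) h)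
  · exact Or.inr (key (D.Y i) (hG.pY i) h)

include hτ hc hcop hD hG

/-- **(AR)** the lifted factorisation of `Ũ` and the lifted rank one decomposition. -/
theorem rFacts (hLF : LFacts τ p D) (hHF : HFacts τ p D) (hNF : NFacts τ p D) : RFacts τ p D :=
  ⟨fun i u hu => AR_factor τ p D hD hLF i u hu,
   fun i a ha x hx hx1 => AR_rank_one τ p D hD hG hLF hNF i a ha x hx hx1,
   fun i μ hμ => AR_dichotomy τ p D hD hG hLF hNF i μ hμ⟩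

end lift

end Cfsg.Agent.Helper24.PsuII
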