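import Cfsg.Agent.Helper16.PrincipalNorm
import Cfsg.Agent.Helper16.BlockOrthogonality
import Cfsg.Agent.Helper76.FaithfulCentral
import Cfsg.Agent.Helper79.Linear
import Cfsg.Agent.Helper79.ClassMult
import Cfsg.Agent.Helper80.Pullback

/-!
# The principal `2`-block of a group with a central involution and quaternion Sylow `2`-subgroups
of order `8`: elementary lemmas (helper24)

Group-theoretic bookkeeping on orders of elements (`Ord` section) and the sign of an irreducible
character at a central involution (`Sign` section).
-/

set_option autoImplicit false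

namespace Cfsg.Agent.Helper24.Q8

open Cfsg
open scoped ComplexConjugate

section Ord

variable {G : Type*} [Group G]

/-- A central element of order two times an element of odd order has order `2 * odd`. -/
theorem orderOf_central_mul {t r : G} (ht : t ∈ Subgroup.center G) (ht2 : orderOf t = 2)
    (hr : Odd (orderOf r)) : orderOf (t * r) = 2 * orderOf r := by
  have hc : Commute t r := (Subgroup.mem_center_iff.mp ht r).symm
  have hcop : Nat.Coprime (orderOf t) (orderOf r) := by
    rw [ht2]; exact (Nat.coprime_two_left).mpr hr
  rw [hc.orderOf_mul_eq_mul_orderOf_of_coprime hcop, ht2]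

variable [Finite G]

/-- In a finite group whose only involution is the central element `t` and whose `2`-elements have
exponent `4`: an element whose order is not divisible by `4` has `2`-part `1` or `t`. -/
theorem isPPart_of_not_four_dvd {t : G} (huniq : ∀ g : G, orderOf g = 2 → g = t) (g : G)
    (hg : ¬ 4 ∣ orderOf g) : ∃ u : G, IsPPart 2 g u ∧ (u = 1 ∨ u = t) := by
  obtain ⟨u, hu⟩ := Helper16.exists_isPPart 2 Nat.prime_two g
  refine ⟨u, hu, ?_⟩
  obtain ⟨y, huy, hcomm, ⟨k, hk⟩, hy⟩ := hu
  have hcop : Nat.Coprime (orderOf u) (orderOf y) := by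
    rw [hk]
    exact Nat.Coprime.pow_left _ ((Nat.Prime.coprime_iff_not_dvd Nat.prime_two).mpr hy)
  have hord : orderOf g = orderOf u * orderOf y := by
    rw [← huy]; exact hcomm.orderOf_mul_eq_mul_orderOf_of_coprime hcop
  have hk1 : k ≤ 1 := by
    by_contra hk2
    push Not at hk2
    apply hg
    rw [hord, hk]
    exact Dvd.dvd.mul_right (pow_dvd_pow 2 hk2) _
  interval_cases k
  · left
    rw [pow_zero] at hk
    exact orderOf_eq_one_iff.mp hk
  · right
    rw [pow_one] at hk
    exact huniq u hk

/-- An element of order `≡ 2 (mod 4)` is `t` times an element of odd order. -/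
theorem exists_odd_of_mod_four {t : G} (huniq : ∀ g : G, orderOf g = 2 → g = t) (g : G)
    (hg : orderOf g % 4 = 2) : ∃ r : G, Odd (orderOf r) ∧ g = t * r := by
  obtain ⟨u, hu⟩ := Helper16.exists_isPPart 2 Nat.prime_two g
  obtain ⟨y, huy, hcomm, ⟨k, hk⟩, hy⟩ := hu
  have hcop : Nat.Coprime (orderOf u) (orderOf y) := by
    rw [hk]
    exact Nat.Coprime.pow_left _ ((Nat.Prime.coprime_iff_not_dvd Nat.prime_two).mpr hy)
  have hord : orderOf g = orderOf u * orderOf y := by
    rw [← huy]; exact hcomm.orderOf_mul_eq_mul_orderOf_of_coprime hcop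
  have hyodd : Odd (orderOf y) := by
    rw [← Nat.not_even_iff_odd, even_iff_two_dvd]; exact hy
  have hk1 : k = 1 := by
    rcases Nat.lt_or_ge k 1 with h0 | h1
    · exfalso
      have : k = 0 := by omega
      rw [this, pow_zero] at hk
      rw [hord, hk, one_mul] at hg
      obtain ⟨j, hj⟩ := hyodd
      omega
    · rcases Nat.lt_or_ge 1 k with h2 | h2
      · exfalso
        have h4 : 4 ∣ orderOf g := by
          rw [hord, hk]
          exact Dvd.dvd.mul_right (pow_dvd_pow 2 h2) _
        omega
      · omega
  rw [hk1, pow_one] at hk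
  have hut : u = t := huniq u hk
  exact ⟨y, hyodd, by rw [← huy, hut]⟩

end Ord

section Sign

variable {G : Type*} [Group G]

/-- The scalar by which a central involution acts is `±1`. -/
theorem centralLam_sq {χ : G → ℂ} (hχ : IsIrrCharacter G χ) {t : G}
    (ht : t ∈ Subgroup.center G) (ht2 : t * t = 1) :
    Helper76.centralLam χ t = 1 ∨ Helper76.centralLam χ t = -1 := by
  have h1 := Helper76.centralLam_mul hχ (z := t) (w := t) ht
  rw [ht2, Helper76.centralLam_one hχ] at h1
  have h2 : (Helper76.centralLam χ t - 1) * (Helper76.centralLam χ t + 1) = 0 := by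
    linear_combination -h1
  rcases mul_eq_zero.mp h2 with h | h
  · left; linear_combination h
  · right; linear_combination h

/-- `|χ (t g)|² = |χ g|²` for a central involution `t`. -/
theorem mul_conj_central {χ : G → ℂ} (hχ : IsIrrCharacter G χ) {t : G}
    (ht : t ∈ Subgroup.center G) (ht2 : t * t = 1) (g : G) :
    χ (t * g) * conj (χ (t * g)) = χ g * conj (χ g) := by
  rw [Helper76.centralLam_spec hχ ht g]
  rcases centralLam_sq hχ ht ht2 with h | h <;> rw [h] <;> simp

end Sign

end Cfsg.Agent.Helper24.Q8
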