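import Cfsg.Agent.Helper24.Q8BlockA

/-!
# Splitting sums over a group by the `2`-part of the order (helper24)
-/

set_option autoImplicit false

namespace Cfsg.Agent.Helper24.Q8

open Cfsg
open scoped ComplexConjugate

section Sums

variable {G : Type*} [Group G] [Fintype G]

open Classical in
/-- Split a sum over `G` according to the order mod `4`. -/
theorem sum_split_order (f : G → ℂ) :
    ∑ g : G, f g = ∑ g ∈ Finset.univ.filter (fun g : G => Odd (orderOf g)), f g
      + ∑ g ∈ Finset.univ.filter (fun g : G => orderOf g % 4 = 2), f g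
      + ∑ g ∈ Finset.univ.filter (fun g : G => 4 ∣ orderOf g), f g := by
  rw [Finset.sum_filter, Finset.sum_filter, Finset.sum_filter, ← Finset.sum_add_distrib,
    ← Finset.sum_add_distrib]
  refine Finset.sum_congr rfl (fun g _ => ?_)
  have hpos : 0 < orderOf g := orderOf_pos g
  rcases Nat.even_or_odd (orderOf g) with he | ho
  · by_cases h4 : 4 ∣ orderOf g
    · have h2 : ¬ orderOf g % 4 = 2 := by omega
      have ho : ¬ Odd (orderOf g) := by rw [Nat.not_odd_iff_even]; exact he
      rw [if_neg ho, if_neg h2, if_pos h4]; ring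
    · have h2 : orderOf g % 4 = 2 := by
        obtain ⟨j, hj⟩ := he
        omega
      have ho : ¬ Odd (orderOf g) := by rw [Nat.not_odd_iff_even]; exact he
      rw [if_neg ho, if_pos h2, if_neg h4]; ring
  · have h4 : ¬ 4 ∣ orderOf g := by
      obtain ⟨j, hj⟩ := ho
      omega
    have h2 : ¬ orderOf g % 4 = 2 := by
      obtain ⟨j, hj⟩ := ho
      omega
    rw [if_pos ho, if_neg h2, if_neg h4]; ring

open Classical in
/-- The elements of order `≡ 2 (mod 4)` are the translates by `t` of the elements of odd order. -/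
theorem sum_mod_four_eq {t : G} (ht : t ∈ Subgroup.center G) (ht2 : orderOf t = 2)
    (huniq : ∀ g : G, orderOf g = 2 → g = t) (f : G → ℂ) :
    ∑ g ∈ Finset.univ.filter (fun g : G => orderOf g % 4 = 2), f g =
      ∑ r ∈ Finset.univ.filter (fun g : G => Odd (orderOf g)), f (t * r) := by
  have htt : t * t = 1 := by
    have := pow_orderOf_eq_one t
    rwa [ht2, pow_two] at this
  symm
  refine Finset.sum_nbij' (fun r => t * r) (fun g => t * g) ?_ ?_ ?_ ?_ ?_
  · intro r hr
    rw [Finset.mem_filter] at hr ⊢
    refine ⟨Finset.mem_univ _, ?_⟩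
    rw [orderOf_central_mul ht ht2 hr.2]
    obtain ⟨j, hj⟩ := hr.2
    omega
  · intro g hg
    rw [Finset.mem_filter] at hg ⊢
    refine ⟨Finset.mem_univ _, ?_⟩
    obtain ⟨r, hr, rfl⟩ := exists_odd_of_mod_four huniq g hg.2
    rwa [← mul_assoc, htt, one_mul]
  · intro r _
    show t * (t * r) = r
    rw [← mul_assoc, htt, one_mul]
  · intro g _
    show t * (t * g) = g
    rw [← mul_assoc, htt, one_mul]
  · intro r _
    rfl

/-- The norm of an irreducible character, unnormalised. -/
theorem sum_mul_conj_irr (χ : IrrCharacter G) :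
    ∑ g : G, (χ : G → ℂ) g * conj ((χ : G → ℂ) g) = (Nat.card G : ℂ) := by
  have h := Helper79.classInner_irr_self χ
  unfold classInner at h
  have hne : (Nat.card G : ℂ) ≠ 0 := Helper79.card_ne_zero_complex
  field_simp at h
  exact h

open Classical in
/-- The norm of an irreducible character split along the `2`-part of the order. -/
theorem norm_split {t : G} (ht : t ∈ Subgroup.center G) (ht2 : orderOf t = 2)
    (huniq : ∀ g : G, orderOf g = 2 → g = t) (χ : IrrCharacter G) :
    2 * ∑ g ∈ Finset.univ.filter (fun g : G => Odd (orderOf g)),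
        (χ : G → ℂ) g * conj ((χ : G → ℂ) g)
      + ∑ g ∈ Finset.univ.filter (fun g : G => 4 ∣ orderOf g),
        (χ : G → ℂ) g * conj ((χ : G → ℂ) g) = (Nat.card G : ℂ) := by
  have htt : t * t = 1 := by
    have := pow_orderOf_eq_one t
    rwa [ht2, pow_two] at this
  rw [← sum_mul_conj_irr χ, sum_split_order, sum_mod_four_eq ht ht2 huniq]
  have : ∑ r ∈ Finset.univ.filter (fun g : G => Odd (orderOf g)),
      (χ : G → ℂ) (t * r) * conj ((χ : G → ℂ) (t * r)) =
      ∑ r ∈ Finset.univ.filter (fun g : G => Odd (orderOf g)),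
      (χ : G → ℂ) r * conj ((χ : G → ℂ) r) :=
    Finset.sum_congr rfl (fun r _ => mul_conj_central χ.2 ht htt r)
  rw [this]
  ring

end Sums

end Cfsg.Agent.Helper24.Q8
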