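import Cfsg.Agent.Helper24.Q8BlockB
import Cfsg.Agent.S0942

/-!
# Principal `2`-block relations on the sections of `1`, `t` and `x` (helper24)
-/

set_option autoImplicit false
set_option linter.style.haveILetI false

namespace Cfsg.Agent.Helper24.Q8

open Cfsg Cfsg.Agent.Helper16
open scoped ComplexConjugate

section Rel

variable {G : Type*} [Group G] [Fintype G] {M : Ideal AlgInt}

open Classical in
/-- A `finsum` over a set of irreducible characters as a sum with indicators. -/
theorem finsum_mem_eq_sum (B : Set (IrrCharacter G)) (f : IrrCharacter G → ℂ) :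
    ∑ᶠ χ ∈ B, f χ = ∑ χ : IrrCharacter G, (if χ ∈ B then (1 : ℂ) else 0) * f χ := by
  rw [finsum_mem_def, finsum_eq_sum_of_fintype]
  refine Finset.sum_congr rfl (fun χ _ => ?_)
  rw [Set.indicator_apply]
  by_cases hχ : χ ∈ B
  · rw [if_pos hχ, if_pos hχ, one_mul]
  · rw [if_neg hχ, if_neg hχ, zero_mul]

/-- Members of the principal block are constant on the `2`-section of `x`. -/
theorem principal_eq_on_section (hM : IsPModular 2 M) {x : G} (hx4 : orderOf x = 4)
    (hsec : ∀ g : G, 4 ∣ orderOf g → ∃ a v : G, v ∈ centralizerPPrimeCore 2 x ∧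
      g = a * (x * v) * a⁻¹)
    (ζ : IrrCharacter G) (hζ : ζ ∈ principalBlock M G) (g : G) (hg : 4 ∣ orderOf g) :
    (ζ : G → ℂ) g = (ζ : G → ℂ) x := by
  obtain ⟨a, v, hv, rfl⟩ := hsec g hg
  rw [irr_isClassFunction ζ (x * v) a]
  haveI : Fact (Nat.Prime 2) := ⟨Nat.prime_two⟩
  exact Cfsg.Agent.S0942.result 2 M hM x ⟨2, by rw [hx4]; norm_num⟩ v hv ζ hζ

open Classical in
/-- The principal block norm sum at `x` is `4`. -/
theorem principal_norm_sum_x (hM : IsPModular 2 M) {x : G} (hx4 : orderOf x = 4)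
    (hnc : ∃ k : ℕ, (pPrimeCore 2 (Subgroup.centralizer ({x} : Set G))).index = 2 ^ k)
    (hfac : (Nat.card (Subgroup.centralizer ({x} : Set G))).factorization 2 = 2) :
    ∑ ζ : IrrCharacter G, (if ζ ∈ principalBlock M G then (1 : ℂ) else 0) *
      ((ζ : G → ℂ) x * conj ((ζ : G → ℂ) x)) = 4 := by
  haveI : Fact (Nat.Prime 2) := ⟨Nat.prime_two⟩
  haveI : Fintype (Subgroup.centralizer ({x} : Set G)) := Fintype.ofFinite _
  have hy : ¬ 2 ∣ orderOf (1 : Subgroup.centralizer ({x} : Set G)) := by
    rw [orderOf_one]; norm_num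
  have h1 := principal_norm_sum_eq hM x ⟨2, by rw [hx4]; norm_num⟩
    (1 : Subgroup.centralizer ({x} : Set G)) hy
  have h2 := principal_norm_sum_of_normal_complement (G := Subgroup.centralizer ({x} : Set G))
    hM hnc 1 hy
  rw [h2, hfac] at h1
  simp only [Subgroup.coe_one, mul_one] at h1
  rw [h1]
  norm_num

open Classical in
/-- Block orthogonality between the sections of `1` and `t`, with the signs of the central
involution. -/
theorem principal_orth_one_t (hM : IsPModular 2 M) {t : G} (ht : t ∈ Subgroup.center G)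
    (ht2 : orderOf t = 2) (r : G) (hr : Odd (orderOf r)) :
    ∑ ζ : IrrCharacter G, (if ζ ∈ principalBlock M G then (1 : ℂ) else 0) *
      (Helper76.centralLam (ζ : G → ℂ) t * ((ζ : G → ℂ) r * conj ((ζ : G → ℂ) r))) = 0 := by
  haveI : Fact (Nat.Prime 2) := ⟨Nat.prime_two⟩
  have htt : t * t = 1 := by
    have := pow_orderOf_eq_one t
    rwa [ht2, pow_two] at this
  have hr2 : ¬ 2 ∣ orderOf r := by
    rw [← even_iff_two_dvd, Nat.not_even_iff_odd]; exact hr
  have hgx : IsPPart 2 r 1 :=
    ⟨r, one_mul r, Commute.one_left r, ⟨0, by rw [orderOf_one, pow_zero]⟩, hr2⟩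
  have hhy : IsPPart 2 (t * r) t :=
    ⟨r, rfl, (Subgroup.mem_center_iff.mp ht r).symm, ⟨1, by rw [ht2, pow_one]⟩, hr2⟩
  have hne : ¬ IsConj (1 : G) t := by
    intro h
    have : t = 1 := isConj_one_right.mp h
    rw [this, orderOf_one] at ht2
    omega
  have h := block_orthogonality hM r (t * r) 1 t hgx hhy hne (principalBlock M G)
    (Helper78.isPBlock_principalBlock M G)
  rw [finsum_mem_eq_sum] at h
  refine (Finset.sum_congr rfl (fun ζ _ => ?_)).trans h
  congr 1
  rw [Helper79.irr_inv, Helper76.centralLam_spec ζ.2 ht r, map_mul]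
  rcases centralLam_sq ζ.2 ht htt with hl | hl <;> rw [hl] <;> simp

open Classical in
/-- Block orthogonality between an element whose order is not divisible by `4` and `x`. -/
theorem principal_orth_x (hM : IsPModular 2 M) {t x : G} (ht : t ∈ Subgroup.center G)
    (ht2 : orderOf t = 2) (hx4 : orderOf x = 4) (huniq : ∀ g : G, orderOf g = 2 → g = t)
    (g : G) (hg : ¬ 4 ∣ orderOf g) :
    ∑ ζ : IrrCharacter G, (if ζ ∈ principalBlock M G then (1 : ℂ) else 0) *
      ((ζ : G → ℂ) g * conj ((ζ : G → ℂ) x)) = 0 := by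
  haveI : Fact (Nat.Prime 2) := ⟨Nat.prime_two⟩
  obtain ⟨u, hu, hu1⟩ := isPPart_of_not_four_dvd huniq g hg
  have hxx : IsPPart 2 x x :=
    ⟨1, mul_one x, Commute.one_right x, ⟨2, by rw [hx4]; norm_num⟩, by rw [orderOf_one]; norm_num⟩
  have hne : ¬ IsConj u x := by
    intro h
    rcases hu1 with rfl | rfl
    · have : x = 1 := isConj_one_right.mp h
      rw [this, orderOf_one] at hx4
      omega
    · obtain ⟨c, hc⟩ := isConj_iff.mp h
      have hcomm := Subgroup.mem_center_iff.mp ht c
      have : x = u := by rw [← hc, hcomm, mul_inv_cancel_right]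
      rw [this, ht2] at hx4
      omega
  have h := block_orthogonality hM g x u x hu hxx hne (principalBlock M G)
    (Helper78.isPBlock_principalBlock M G)
  rw [finsum_mem_eq_sum] at h
  refine (Finset.sum_congr rfl (fun ζ _ => ?_)).trans h
  rw [Helper79.irr_inv]

end Rel

end Cfsg.Agent.Helper24.Q8
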