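import Cfsg.Agent.Helper24.Q8BlockC
import Cfsg.Agent.Helper16.QuotientDefect

/-!
# Inflation from `G ⧸ ⟨t⟩` and the principal block (helper24)
-/

set_option autoImplicit false
set_option linter.style.haveILetI false
set_option linter.unusedSectionVars false

namespace Cfsg.Agent.Helper24.Q8

open Cfsg Cfsg.Agent.Helper16
open scoped ComplexConjugate

section Infl

variable {G : Type*} [Group G] [Fintype G] {M : Ideal AlgInt} (N : Subgroup G) [N.Normal]
  [Fintype (G ⧸ N)]

/-- Inflation is injective. -/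
theorem inflate_injective : Function.Injective (inflate N) := by
  intro a b hab
  apply Subtype.ext
  funext q
  obtain ⟨g, rfl⟩ := QuotientGroup.mk_surjective q
  have := congrArg (fun χ : IrrCharacter G => (χ : G → ℂ) g) hab
  simpa [inflate_coe] using this

/-- Inflation maps the principal block into the principal block. -/
theorem inflate_mem_principalBlock (hM : IsPModular 2 M) (ζ' : IrrCharacter (G ⧸ N))
    (hζ' : ζ' ∈ principalBlock M (G ⧸ N)) : inflate N ζ' ∈ principalBlock M G := by
  haveI hMp : M.IsPrime := IsPModular.isPrime hM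
  have h := sameBlock_comp_mk (M := M) N (χ := Helper79.principalIrr (G ⧸ N)) (ψ := ζ') hζ'
  exact h

/-- The inflation of a character takes the same value at `t * g` and `g` for `t ∈ N`. -/
theorem inflate_mul_of_mem (ζ' : IrrCharacter (G ⧸ N)) {t : G} (htN : t ∈ N) (g : G) :
    (inflate N ζ' : G → ℂ) (t * g) = (inflate N ζ' : G → ℂ) g := by
  rw [inflate_coe]
  simp only [Function.comp_apply]
  rw [QuotientGroup.mk_mul, (QuotientGroup.eq_one_iff t).mpr htN, one_mul]

/-- The sign of an inflated character at `t ∈ N` is `+1`. -/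
theorem centralLam_inflate (ζ' : IrrCharacter (G ⧸ N)) {t : G} (htN : t ∈ N) :
    Helper76.centralLam (inflate N ζ' : G → ℂ) t = 1 := by
  unfold Helper76.centralLam
  have := inflate_mul_of_mem N ζ' htN 1
  rw [mul_one] at this
  rw [this]
  exact div_self (irr_one_ne_zero _)

/-- **Domination**: a member of the principal block of `G` with `t` in its kernel is inflated from
a member of the principal block of `G ⧸ N`, `N = {1, t}`. -/
theorem exists_deflate (hM : IsPModular 2 M) {t : G} (ht : t ∈ Subgroup.center G)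
    (ht2 : orderOf t = 2) (hN : ∀ n ∈ N, n = 1 ∨ n = t)
    (ζ : IrrCharacter G) (hζ : ζ ∈ principalBlock M G)
    (hl : Helper76.centralLam (ζ : G → ℂ) t = 1) :
    ∃ ζ' : IrrCharacter (G ⧸ N), ζ' ∈ principalBlock M (G ⧸ N) ∧ ζ = inflate N ζ' := by
  classical
  have htt : t * t = 1 := by
    have := pow_orderOf_eq_one t
    rwa [ht2, pow_two] at this
  have hker : ∀ n ∈ N, (ζ : G → ℂ) n = (ζ : G → ℂ) 1 := by
    intro n hn
    rcases hN n hn with rfl | rfl
    · rfl
    · have := Helper76.centralLam_spec ζ.2 ht 1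
      rw [mul_one, hl, one_mul] at this
      exact this
  set ζ' : IrrCharacter (G ⧸ N) := (Helper80.irrQuotientEquiv N).symm ⟨ζ, hker⟩ with hζ'def
  have hval : ∀ g : G, (ζ' : G ⧸ N → ℂ) (g : G ⧸ N) = (ζ : G → ℂ) g := fun g =>
    Helper80.irrQuotientEquiv_symm_apply N ⟨ζ, hker⟩ g
  have hinf : ζ = inflate N ζ' := by
    apply Subtype.ext
    funext g
    rw [inflate_coe]
    exact (hval g).symm
  refine ⟨ζ', ?_, hinf⟩
  show SameBlock M (fun _ : G ⧸ N => (1 : ℂ)) (ζ' : G ⧸ N → ℂ)
  refine sameBlock_of_forall_pRegular hM (χ := Helper79.principalIrr (G ⧸ N)) (ψ := ζ') ?_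
  intro q hq
  -- an odd-order lift of `q`
  obtain ⟨g₀, rfl⟩ := QuotientGroup.mk_surjective q
  have hqodd : Odd (orderOf (g₀ : G ⧸ N)) := by
    rw [← Nat.not_even_iff_odd, even_iff_two_dvd]; exact hq
  obtain ⟨g, hgq, hgodd⟩ : ∃ g : G, (g : G ⧸ N) = (g₀ : G ⧸ N) ∧ Odd (orderOf g) := by
    set k := orderOf (g₀ : G ⧸ N) with hk
    have h1 : g₀ ^ k ∈ N := by
      rw [← QuotientGroup.eq_one_iff, QuotientGroup.mk_pow, hk, pow_orderOf_eq_one]
    rcases hN _ h1 with h | h
    · refine ⟨g₀, rfl, ?_⟩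
      exact Odd.of_dvd_nat hqodd (orderOf_dvd_of_pow_eq_one h)
    · refine ⟨t * g₀, ?_, ?_⟩
      · have htN : t ∈ N := by rw [← h]; exact h1
        rw [QuotientGroup.mk_mul, (QuotientGroup.eq_one_iff t).mpr htN, one_mul]
      · have hc : Commute t g₀ := (Subgroup.mem_center_iff.mp ht g₀).symm
        have h2 : (t * g₀) ^ k = 1 := by
          rw [hc.mul_pow, h]
          obtain ⟨j, hj⟩ := hqodd
          rw [hj, pow_succ, pow_mul, pow_two, htt, one_pow, one_mul, htt]
        exact Odd.of_dvd_nat hqodd (orderOf_dvd_of_pow_eq_one h2)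
  rw [← hgq]
  -- relative index one
  have hrel : (Subgroup.centralizer ({g} : Set G)).relIndex
      ((Subgroup.centralizer ({(QuotientGroup.mk g : G ⧸ N)} : Set (G ⧸ N))).comap
        (QuotientGroup.mk' N)) = 1 := by
    rw [Subgroup.relIndex_eq_one]
    intro h hh
    rw [Subgroup.mem_comap, Subgroup.mem_centralizer_singleton_iff] at hh
    rw [Subgroup.mem_centralizer_singleton_iff]
    have hh' : (QuotientGroup.mk h : G ⧸ N) * QuotientGroup.mk g =
        QuotientGroup.mk g * QuotientGroup.mk h := hh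
    have hc : h * g * h⁻¹ * g⁻¹ ∈ N := by
      rw [← QuotientGroup.eq_one_iff]
      simp only [QuotientGroup.mk_mul, QuotientGroup.mk_inv]
      rw [hh']
      group
    rcases hN _ hc with h1 | h1
    · calc h * g = (h * g * h⁻¹ * g⁻¹) * g * h := by group
        _ = g * h := by rw [h1, one_mul]
    · exfalso
      have h2 : h * g * h⁻¹ = t * g := by
        calc h * g * h⁻¹ = (h * g * h⁻¹ * g⁻¹) * g := by group
          _ = t * g := by rw [h1]
      have h3 : orderOf (h * g * h⁻¹) = orderOf g := by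
        rw [orderOf_eq_orderOf_iff]
        intro n
        rw [conj_pow, conj_eq_one_iff]
      rw [h2, orderOf_central_mul ht ht2 hgodd] at h3
      obtain ⟨j, hj⟩ := hgodd
      omega
  have e1 := centralChar_comp_mk N (ζ' : G ⧸ N → ℂ) g
  have e2 := centralChar_comp_mk N (fun _ : G ⧸ N => (1 : ℂ)) g
  rw [hrel, Nat.cast_one, one_mul] at e1 e2
  have e3 : (ζ' : G ⧸ N → ℂ) ∘ (QuotientGroup.mk : G → G ⧸ N) = (ζ : G → ℂ) := by
    funext a; exact hval a
  rw [e3] at e1
  show MemLocalIdeal M (centralChar (fun _ : G ⧸ N => (1 : ℂ)) (QuotientGroup.mk g) -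
    centralChar (ζ' : G ⧸ N → ℂ) (QuotientGroup.mk g))
  rw [← e1, ← e2]
  exact hζ g

end Infl

end Cfsg.Agent.Helper24.Q8
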