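import Cfsg.Agent.Helper24.Q8BlockD

/-!
# Counting the principal `2`-block: `k(B₀) = 7` (helper24)
-/

set_option autoImplicit false
set_option linter.style.haveILetI false
set_option linter.unusedSectionVars false

namespace Cfsg.Agent.Helper24.Q8

open Cfsg Cfsg.Agent.Helper16
open scoped ComplexConjugate

/-- The arithmetic core of the count. -/
theorem count_core {I : Type*} [DecidableEq I] (B P : Finset I) (hPB : P ⊆ B) (hP4 : P.card = 4)
    (SO : I → ℂ) (Nc NB : ℂ) (hN : Nc ≠ 0) (h4 : 4 * NB = Nc)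
    (hP : ∀ ζ ∈ P, 2 * SO ζ + NB = Nc) (hE : ∀ ζ ∈ B \ P, 2 * SO ζ = Nc)
    (horth : ∑ ζ ∈ P, SO ζ = ∑ ζ ∈ B \ P, SO ζ) : B.card = 7 := by
  have h1 : ∑ ζ ∈ P, (2 * SO ζ + NB) = ∑ _ζ ∈ P, Nc := Finset.sum_congr rfl hP
  have h2 : ∑ ζ ∈ B \ P, (2 * SO ζ) = ∑ _ζ ∈ B \ P, Nc := Finset.sum_congr rfl hE
  rw [Finset.sum_add_distrib, ← Finset.mul_sum, Finset.sum_const, Finset.sum_const, hP4] at h1
  rw [← Finset.mul_sum, Finset.sum_const] at h2
  simp only [nsmul_eq_mul] at h1 h2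
  have h3 : (((B \ P).card : ℂ) - 3) * Nc = 0 := by
    have : (4 : ℂ) * NB = Nc := h4
    push_cast at h1
    linear_combination -h2 + h1 - this - 2 * horth
  have h5 : ((B \ P).card : ℂ) = 3 := by
    rcases mul_eq_zero.mp h3 with h | h
    · linear_combination h
    · exact absurd h hN
  have h6 : (B \ P).card = 3 := by exact_mod_cast h5
  have h7 := Finset.card_sdiff_add_card_eq_card hPB
  omega

section Count

variable {G : Type*} [Group G] [Fintype G] {M : Ideal AlgInt}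

open Classical in
/-- `k(B₀) = 7`, given the four members of the principal block with `t` in their kernel. -/
theorem card_eq_seven_of_P (hM : IsPModular 2 M) {t x : G} (ht : t ∈ Subgroup.center G)
    (ht2 : orderOf t = 2) (hx4 : orderOf x = 4) (huniq : ∀ g : G, orderOf g = 2 → g = t)
    (hsec : ∀ g : G, 4 ∣ orderOf g → ∃ a v : G, v ∈ centralizerPPrimeCore 2 x ∧
      g = a * (x * v) * a⁻¹)
    (hnc : ∃ k : ℕ, (pPrimeCore 2 (Subgroup.centralizer ({x} : Set G))).index = 2 ^ k)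
    (hfac : (Nat.card (Subgroup.centralizer ({x} : Set G))).factorization 2 = 2)
    (P : Finset (IrrCharacter G)) (hP1 : ∀ ψ ∈ P, ψ ∈ principalBlock M G) (hP2 : P.card = 4)
    (hP3 : ∀ ψ ∈ P, (ψ : G → ℂ) x * conj ((ψ : G → ℂ) x) = 1)
    (hP4 : ∀ ψ ∈ P, Helper76.centralLam (ψ : G → ℂ) t = 1)
    (hP5 : ∀ ζ ∈ principalBlock M G, Helper76.centralLam (ζ : G → ℂ) t = 1 → ζ ∈ P)
    (hP6 : Helper79.principalIrr G ∈ P) :
    Nat.card (principalBlock M G) = 7 := by
  have htt : t * t = 1 := by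
    have := pow_orderOf_eq_one t
    rwa [ht2, pow_two] at this
  set B : Finset (IrrCharacter G) := Finset.univ.filter (fun ζ => ζ ∈ principalBlock M G) with hB
  have hmemB : ∀ ζ, ζ ∈ B ↔ ζ ∈ principalBlock M G := by
    intro ζ; rw [hB, Finset.mem_filter]; simp
  have hPB : P ⊆ B := fun ψ hψ => (hmemB ψ).mpr (hP1 ψ hψ)
  have hcard : Nat.card (principalBlock M G) = B.card := by
    rw [Nat.card_eq_fintype_card, hB, Fintype.card_subtype]
  rw [hcard]
  -- sums with indicators as sums over `B`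
  have hind : ∀ f : IrrCharacter G → ℂ,
      ∑ ζ : IrrCharacter G, (if ζ ∈ principalBlock M G then (1 : ℂ) else 0) * f ζ =
        ∑ ζ ∈ B, f ζ := by
    intro f
    rw [hB, Finset.sum_filter]
    refine Finset.sum_congr rfl (fun ζ _ => ?_)
    by_cases h : ζ ∈ principalBlock M G
    · rw [if_pos h, if_pos h, one_mul]
    · rw [if_neg h, if_neg h, zero_mul]
  -- signs on `B \ P`
  have hsign : ∀ ζ ∈ B \ P, Helper76.centralLam (ζ : G → ℂ) t = -1 := by
    intro ζ hζ
    rw [Finset.mem_sdiff] at hζ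
    rcases centralLam_sq ζ.2 ht htt with h | h
    · exact absurd (hP5 ζ ((hmemB ζ).mp hζ.1) h) hζ.2
    · exact h
  -- (A) the other members vanish at `x`
  have hvan : ∀ ζ ∈ B \ P, (ζ : G → ℂ) x = 0 := by
    have h1 := principal_norm_sum_x hM hx4 hnc hfac
    rw [hind (fun ζ => (ζ : G → ℂ) x * conj ((ζ : G → ℂ) x)),
      ← Finset.sum_sdiff hPB, Finset.sum_congr rfl hP3, Finset.sum_const, hP2] at h1
    have h2 : ∑ ζ ∈ B \ P, (ζ : G → ℂ) x * conj ((ζ : G → ℂ) x) = 0 := by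
      simp only [nsmul_eq_mul, Nat.cast_ofNat, mul_one] at h1
      linear_combination h1
    have h3 : ∑ ζ ∈ B \ P, Complex.normSq ((ζ : G → ℂ) x) = 0 := by
      have : ((∑ ζ ∈ B \ P, Complex.normSq ((ζ : G → ℂ) x) : ℝ) : ℂ) = 0 := by
        rw [← h2]
        push_cast
        refine Finset.sum_congr rfl (fun ζ _ => ?_)
        rw [Complex.mul_conj]
      exact_mod_cast this
    intro ζ hζ
    have h4 := (Finset.sum_eq_zero_iff_of_nonneg (fun ζ _ => Complex.normSq_nonneg _)).mp h3 ζ hζ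
    exact Complex.normSq_eq_zero.mp h4
  -- the section of `x`
  set SB : Finset G := Finset.univ.filter (fun g : G => 4 ∣ orderOf g) with hSB
  set SO : Finset G := Finset.univ.filter (fun g : G => Odd (orderOf g)) with hSO
  have hsecval : ∀ ζ ∈ B, ∀ g ∈ SB, (ζ : G → ℂ) g = (ζ : G → ℂ) x := by
    intro ζ hζ g hg
    rw [hSB, Finset.mem_filter] at hg
    exact principal_eq_on_section hM hx4 hsec ζ ((hmemB ζ).mp hζ) g hg.2
  -- (H) `4 |SB| = |G|`
  have h4 : 4 * (SB.card : ℂ) = (Nat.card G : ℂ) := by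
    have hθ : ∀ g : G, ∑ ψ ∈ P, (ψ : G → ℂ) g * conj ((ψ : G → ℂ) x) =
        if 4 ∣ orderOf g then (4 : ℂ) else 0 := by
      intro g
      by_cases hg : 4 ∣ orderOf g
      · rw [if_pos hg]
        have hgS : g ∈ SB := by rw [hSB, Finset.mem_filter]; exact ⟨Finset.mem_univ _, hg⟩
        have : ∑ ψ ∈ P, (ψ : G → ℂ) g * conj ((ψ : G → ℂ) x) = ∑ _ψ ∈ P, (1 : ℂ) := by
          refine Finset.sum_congr rfl (fun ψ hψ => ?_)
          rw [hsecval ψ (hPB hψ) g hgS, hP3 ψ hψ]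
        rw [this, Finset.sum_const, hP2]
        simp
      · rw [if_neg hg]
        have h1 := principal_orth_x hM ht ht2 hx4 huniq g hg
        rw [hind (fun ζ => (ζ : G → ℂ) g * conj ((ζ : G → ℂ) x)), ← Finset.sum_sdiff hPB] at h1
        have h2 : ∑ ζ ∈ B \ P, (ζ : G → ℂ) g * conj ((ζ : G → ℂ) x) = 0 := by
          refine Finset.sum_eq_zero (fun ζ hζ => ?_)
          rw [hvan ζ hζ, map_zero, mul_zero]
        rw [h2, zero_add] at h1
        exact h1
    have h1 : ∑ g : G, ∑ ψ ∈ P, (ψ : G → ℂ) g * conj ((ψ : G → ℂ) x) = 4 * (SB.card : ℂ) := by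
      rw [Finset.sum_congr rfl (fun g _ => hθ g), ← Finset.sum_filter, Finset.sum_const]
      simp [hSB, mul_comm]
    have h2 : ∑ g : G, ∑ ψ ∈ P, (ψ : G → ℂ) g * conj ((ψ : G → ℂ) x) = (Nat.card G : ℂ) := by
      rw [Finset.sum_comm]
      have hsum : ∀ ψ ∈ P, ∑ g : G, (ψ : G → ℂ) g * conj ((ψ : G → ℂ) x) =
          if ψ = Helper79.principalIrr G then (Nat.card G : ℂ) else 0 := by
        intro ψ _
        rw [← Finset.sum_mul]
        by_cases hψ : ψ = Helper79.principalIrr G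
        · rw [if_pos hψ, hψ]
          show (∑ _g : G, (1 : ℂ)) * conj (1 : ℂ) = _
          simp [Nat.card_eq_fintype_card]
        · rw [if_neg hψ]
          have h := Helper79.classInner_irr_ne hψ
          unfold classInner at h
          have hne : (Nat.card G : ℂ)⁻¹ ≠ 0 := inv_ne_zero Helper79.card_ne_zero_complex
          have h' := (mul_eq_zero.mp h).resolve_left hne
          have : ∑ g : G, (ψ : G → ℂ) g = 0 := by
            rw [← h']
            refine Finset.sum_congr rfl (fun g _ => ?_)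
            show _ = (ψ : G → ℂ) g * conj (1 : ℂ)
            simp
          rw [this, zero_mul]
      rw [Finset.sum_congr rfl hsum, Finset.sum_ite_eq' P (Helper79.principalIrr G), if_pos hP6]
    rw [← h1, h2]
  -- apply the arithmetic core
  refine count_core B P hPB hP2
    (fun ζ => ∑ g ∈ SO, (ζ : G → ℂ) g * conj ((ζ : G → ℂ) g)) (Nat.card G : ℂ) (SB.card : ℂ)
    Helper79.card_ne_zero_complex h4 ?_ ?_ ?_
  · intro ψ hψ
    have h := norm_split ht ht2 huniq ψ
    have : ∑ g ∈ SB, (ψ : G → ℂ) g * conj ((ψ : G → ℂ) g) = (SB.card : ℂ) := by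
      have : ∑ g ∈ SB, (ψ : G → ℂ) g * conj ((ψ : G → ℂ) g) = ∑ _g ∈ SB, (1 : ℂ) := by
        refine Finset.sum_congr rfl (fun g hg => ?_)
        rw [hsecval ψ (hPB hψ) g hg, hP3 ψ hψ]
      rw [this, Finset.sum_const]
      simp
    rw [← this]
    exact h
  · intro ζ hζ
    have h := norm_split ht ht2 huniq ζ
    have : ∑ g ∈ SB, (ζ : G → ℂ) g * conj ((ζ : G → ℂ) g) = 0 := by
      refine Finset.sum_eq_zero (fun g hg => ?_)
      rw [hsecval ζ (Finset.mem_sdiff.mp hζ).1 g hg, hvan ζ hζ, zero_mul]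
    rw [this, add_zero] at h
    exact h
  · -- orthogonality summed over the odd elements
    have h1 : ∀ r ∈ SO, ∑ ζ ∈ P, (ζ : G → ℂ) r * conj ((ζ : G → ℂ) r) =
        ∑ ζ ∈ B \ P, (ζ : G → ℂ) r * conj ((ζ : G → ℂ) r) := by
      intro r hr
      rw [hSO, Finset.mem_filter] at hr
      have h := principal_orth_one_t hM ht ht2 r hr.2
      rw [hind (fun ζ => Helper76.centralLam (ζ : G → ℂ) t *
        ((ζ : G → ℂ) r * conj ((ζ : G → ℂ) r))), ← Finset.sum_sdiff hPB] at h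
      have e1 : ∑ ζ ∈ B \ P, Helper76.centralLam (ζ : G → ℂ) t *
          ((ζ : G → ℂ) r * conj ((ζ : G → ℂ) r)) =
          - ∑ ζ ∈ B \ P, (ζ : G → ℂ) r * conj ((ζ : G → ℂ) r) := by
        rw [← Finset.sum_neg_distrib]
        refine Finset.sum_congr rfl (fun ζ hζ => ?_)
        rw [hsign ζ hζ]; ring
      have e2 : ∑ ζ ∈ P, Helper76.centralLam (ζ : G → ℂ) t *
          ((ζ : G → ℂ) r * conj ((ζ : G → ℂ) r)) =
          ∑ ζ ∈ P, (ζ : G → ℂ) r * conj ((ζ : G → ℂ) r) := by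
        refine Finset.sum_congr rfl (fun ζ hζ => ?_)
        rw [hP4 ζ hζ, one_mul]
      rw [e1, e2] at h
      linear_combination h
    show ∑ ζ ∈ P, ∑ g ∈ SO, (ζ : G → ℂ) g * conj ((ζ : G → ℂ) g) =
      ∑ ζ ∈ B \ P, ∑ g ∈ SO, (ζ : G → ℂ) g * conj ((ζ : G → ℂ) g)
    rw [Finset.sum_comm, Finset.sum_comm (s := B \ P)]
    exact Finset.sum_congr rfl h1

end Count

end Cfsg.Agent.Helper24.Q8
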