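import Cfsg.Agent.Helper24.Q8BlockE

/-!
# `k(B₀) = 7` from the Klein-four data on `G ⧸ ⟨t⟩` (helper24)
-/

set_option autoImplicit false
set_option linter.style.haveILetI false
set_option linter.unusedSectionVars false

namespace Cfsg.Agent.Helper24.Q8

open Cfsg Cfsg.Agent.Helper16
open scoped ComplexConjugate

section Klein

variable {G : Type*} [Group G] [Fintype G] {M : Ideal AlgInt}

/-- `k(B₀) = 7` for a group with central involution `t`, given the structure of the principal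
block of `G ⧸ N`, `N = {1, t}` (the conclusion of the Klein-four theorem). -/
theorem card_eq_seven_of_klein (hM : IsPModular 2 M) {t x : G} (ht : t ∈ Subgroup.center G)
    (ht2 : orderOf t = 2) (hx4 : orderOf x = 4) (huniq : ∀ g : G, orderOf g = 2 → g = t)
    (hsec : ∀ g : G, 4 ∣ orderOf g → ∃ a v : G, v ∈ centralizerPPrimeCore 2 x ∧
      g = a * (x * v) * a⁻¹)
    (hnc : ∃ k : ℕ, (pPrimeCore 2 (Subgroup.centralizer ({x} : Set G))).index = 2 ^ k)
    (hfac : (Nat.card (Subgroup.centralizer ({x} : Set G))).factorization 2 = 2)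
    (N : Subgroup G) [N.Normal] [Fintype (G ⧸ N)] (htN : t ∈ N) (hN : ∀ n ∈ N, n = 1 ∨ n = t)
    (ζ₂ ζ₃ ζ₄ : IrrCharacter (G ⧸ N)) (ε : ℤ) (hε : ε = 1 ∨ ε = -1)
    (h2 : (ζ₂ : G ⧸ N → ℂ) ≠ (fun _ => 1)) (h3 : (ζ₃ : G ⧸ N → ℂ) ≠ (fun _ => 1))
    (h23 : ζ₂ ≠ ζ₃) (h24 : ζ₂ ≠ ζ₄) (h34 : ζ₃ ≠ ζ₄)
    (hB : principalBlock M (G ⧸ N) = {χ : IrrCharacter (G ⧸ N) |
      (χ : G ⧸ N → ℂ) = (fun _ => 1) ∨ χ = ζ₂ ∨ χ = ζ₃ ∨ χ = ζ₄})
    (hval : ∀ z : G ⧸ N, orderOf z = 2 → (ζ₂ : G ⧸ N → ℂ) z = 1 ∧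
      (ζ₃ : G ⧸ N → ℂ) z = (ε : ℂ) ∧ (ζ₄ : G ⧸ N → ℂ) z = -1) :
    Nat.card (principalBlock M G) = 7 := by
  classical
  have htt : t * t = 1 := by
    have := pow_orderOf_eq_one t
    rwa [ht2, pow_two] at this
  -- the image of `x` is an involution
  have hxN : x ∉ N := by
    intro h
    rcases hN x h with rfl | rfl
    · rw [orderOf_one] at hx4; omega
    · rw [ht2] at hx4; omega
  have hx2 : x ^ 2 = t := by
    apply huniq
    rw [orderOf_pow, hx4]
    norm_num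
  have hxbar : orderOf (x : G ⧸ N) = 2 := by
    haveI : Fact (Nat.Prime 2) := ⟨Nat.prime_two⟩
    refine orderOf_eq_prime ?_ ?_
    · rw [← QuotientGroup.mk_pow, hx2]
      exact (QuotientGroup.eq_one_iff t).mpr htN
    · intro h
      exact hxN ((QuotientGroup.eq_one_iff x).mp h)
  obtain ⟨hv2, hv3, hv4⟩ := hval (x : G ⧸ N) hxbar
  set ζ₁ : IrrCharacter (G ⧸ N) := Helper79.principalIrr (G ⧸ N) with hζ₁
  have h12 : ζ₁ ≠ ζ₂ := fun h => h2 (by rw [← h]; rfl)
  have h13 : ζ₁ ≠ ζ₃ := fun h => h3 (by rw [← h]; rfl)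
  have h14 : ζ₁ ≠ ζ₄ := by
    intro h
    have : (ζ₁ : G ⧸ N → ℂ) (x : G ⧸ N) = -1 := by rw [h]; exact hv4
    have h1 : (ζ₁ : G ⧸ N → ℂ) (x : G ⧸ N) = 1 := rfl
    rw [h1] at this
    norm_num at this
  set Q : Finset (IrrCharacter (G ⧸ N)) := {ζ₁, ζ₂, ζ₃, ζ₄} with hQ
  have hQcard : Q.card = 4 := by
    rw [hQ, Finset.card_insert_of_notMem, Finset.card_insert_of_notMem,
      Finset.card_insert_of_notMem, Finset.card_singleton]
    · simp only [Finset.mem_singleton]; exact h34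
    · simp only [Finset.mem_insert, Finset.mem_singleton, not_or]; exact ⟨h23, h24⟩
    · simp only [Finset.mem_insert, Finset.mem_singleton, not_or]; exact ⟨h12, h13, h14⟩
  have hQmem : ∀ χ : IrrCharacter (G ⧸ N), χ ∈ Q ↔ χ ∈ principalBlock M (G ⧸ N) := by
    intro χ
    rw [hB, hQ]
    simp only [Finset.mem_insert, Finset.mem_singleton, Set.mem_ofPred_eq]
    constructor
    · rintro (h | h | h | h)
      · left; rw [h]; rfl
      · right; left; exact h
      · right; right; left; exact h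
      · right; right; right; exact h
    · rintro (h | h | h | h)
      · left; exact Subtype.ext h
      · right; left; exact h
      · right; right; left; exact h
      · right; right; right; exact h
  have hQval : ∀ χ ∈ Q, (χ : G ⧸ N → ℂ) (x : G ⧸ N) * conj ((χ : G ⧸ N → ℂ) (x : G ⧸ N)) = 1 := by
    intro χ hχ
    rw [hQ] at hχ
    simp only [Finset.mem_insert, Finset.mem_singleton] at hχ
    rcases hχ with rfl | rfl | rfl | rfl
    · show (1 : ℂ) * conj (1 : ℂ) = 1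
      simp
    · rw [hv2]; simp
    · rw [hv3]
      rcases hε with h | h <;> rw [h] <;> simp
    · rw [hv4]; simp
  set P : Finset (IrrCharacter G) := Q.image (inflate N) with hP
  refine card_eq_seven_of_P hM ht ht2 hx4 huniq hsec hnc hfac P ?_ ?_ ?_ ?_ ?_ ?_
  · intro ψ hψ
    rw [hP, Finset.mem_image] at hψ
    obtain ⟨χ, hχ, rfl⟩ := hψ
    exact inflate_mem_principalBlock N hM χ ((hQmem χ).mp hχ)
  · rw [hP, Finset.card_image_of_injective _ (inflate_injective N), hQcard]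
  · intro ψ hψ
    rw [hP, Finset.mem_image] at hψ
    obtain ⟨χ, hχ, rfl⟩ := hψ
    exact hQval χ hχ
  · intro ψ hψ
    rw [hP, Finset.mem_image] at hψ
    obtain ⟨χ, hχ, rfl⟩ := hψ
    exact centralLam_inflate N χ htN
  · intro ζ hζ hl
    obtain ⟨ζ', hζ', rfl⟩ := exists_deflate N hM ht ht2 hN ζ hζ hl
    rw [hP, Finset.mem_image]
    exact ⟨ζ', (hQmem ζ').mpr hζ', rfl⟩
  · rw [hP, Finset.mem_image]
    refine ⟨ζ₁, ?_, ?_⟩
    · rw [hQ]; simp
    · apply Subtype.ext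
      funext g
      rfl

end Klein

end Cfsg.Agent.Helper24.Q8
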