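import Cfsg.Agent.Helper20.Quat8b
import Cfsg.Agent.Helper20.SylowConj
import Cfsg.Agent.Helper3.QuatInvol
import Cfsg.Agent.S0950

/-!
# Groups with a central involution and quaternion Sylow `2`-subgroups of order `8`:
element structure (helper24)
-/

set_option autoImplicit false
set_option linter.style.haveILetI false

namespace Cfsg.Agent.Helper24.Q8

open QuaternionGroup

/-- In `Q₈` every element of order four is inverted by some element. -/
theorem q8_exists_invert (p : QuaternionGroup 2) (hp : p * p ≠ 1) : ∃ q, q * p * q⁻¹ = p⁻¹ := by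
  revert p; decide

section

variable {G : Type*} [Group G]

/-- In a subgroup isomorphic to `Q₈` every element of order four is inverted by some element. -/
theorem quat_exists_invert (Q : Subgroup G) (eQ : Q ≃* QuaternionGroup 2) {p : G} (hp : p ∈ Q)
    (hp2 : p * p ≠ 1) : ∃ q ∈ Q, q * p * q⁻¹ = p⁻¹ := by
  have h1 : eQ ⟨p, hp⟩ * eQ ⟨p, hp⟩ ≠ 1 := by
    intro hc
    apply hp2
    have : (⟨p, hp⟩ : Q) * ⟨p, hp⟩ = 1 := by
      apply eQ.injective; rw [map_mul, map_one]; exact hc
    exact congrArg Subtype.val this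
  obtain ⟨q, hq⟩ := q8_exists_invert _ h1
  refine ⟨(eQ.symm q : Q), (eQ.symm q).2, ?_⟩
  have : eQ.symm q * ⟨p, hp⟩ * (eQ.symm q)⁻¹ = (⟨p, hp⟩ : Q)⁻¹ := by
    apply eQ.injective
    rw [map_mul, map_mul, map_inv, map_inv, MulEquiv.apply_symm_apply]
    exact hq
  exact congrArg Subtype.val this

/-- Elements of `⟨t⟩` for an involution `t`. -/
theorem mem_zpowers_involution {t n : G} (htt : t * t = 1) (hn : n ∈ Subgroup.zpowers t) :
    n = 1 ∨ n = t := by
  obtain ⟨k, rfl⟩ := Subgroup.mem_zpowers_iff.mp hn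
  rcases Int.even_or_odd k with ⟨j, hj⟩ | ⟨j, hj⟩
  · left
    rw [hj, ← two_mul, zpow_mul, zpow_two, htt, one_zpow]
  · right
    rw [hj, zpow_add, zpow_one, zpow_mul, zpow_two, htt, one_zpow, one_mul]

/-- `⟨t⟩` is normal for a central `t`. -/
theorem zpowers_normal_of_mem_center {t : G} (ht : t ∈ Subgroup.center G) :
    (Subgroup.zpowers t).Normal := by
  refine ⟨fun n hn g => ?_⟩
  have hle : Subgroup.zpowers t ≤ Subgroup.center G := Subgroup.zpowers_le.mpr ht
  have hc := Subgroup.mem_center_iff.mp (hle hn) g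
  have : g * n * g⁻¹ = n := by rw [hc, mul_inv_cancel_right]
  rw [this]; exact hn

end

section Main

variable {G : Type*} [Group G] [Finite G] (S : Sylow 2 G)
  (e : (S : Subgroup G) ≃* QuaternionGroup 2)

/-- Any `2`-element is conjugate into `S`. -/
theorem exists_conj_mem_sylow (g : G) (hg : ∃ k : ℕ, orderOf g = 2 ^ k) :
    ∃ a : G, a * g * a⁻¹ ∈ (S : Subgroup G) := by
  haveI : Fact (Nat.Prime 2) := ⟨Nat.prime_two⟩
  obtain ⟨k, hk⟩ := hg
  have hP : IsPGroup 2 (Subgroup.zpowers g) := by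
    apply IsPGroup.of_card (n := k)
    rw [Nat.card_zpowers, hk]
  obtain ⟨a, ha⟩ := Helper20.exists_conj_le_sylow S hP
  exact ⟨a, ha (Helper20.conj_mem_map_conj _ a g (Subgroup.mem_zpowers g))⟩

include e in
/-- The data: a central involution `t` of `G` lies in `S` and is its unique involution; there is
`x ∈ S` with `x * x = t`. -/
theorem exists_data {t : G} (ht : t ∈ Subgroup.center G) (ht2 : orderOf t = 2) :
    t ∈ (S : Subgroup G) ∧ (∀ q ∈ (S : Subgroup G), q * q = 1 ∨ q * q = t) ∧
      (∀ q ∈ (S : Subgroup G), q * q = 1 → q = 1 ∨ q = t) ∧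
      ∃ x ∈ (S : Subgroup G), x * x = t := by
  haveI : Fact (Nat.Prime 2) := ⟨Nat.prime_two⟩
  have htt : t * t = 1 := by
    have := pow_orderOf_eq_one t
    rwa [ht2, pow_two] at this
  have ht1 : t ≠ 1 := by
    intro h; rw [h, orderOf_one] at ht2; omega
  have hN : (Subgroup.zpowers t).Normal := zpowers_normal_of_mem_center ht
  have hP : IsPGroup 2 (Subgroup.zpowers t) := by
    apply IsPGroup.of_card (n := 1)
    rw [Nat.card_zpowers, ht2, pow_one]
  have htS : t ∈ (S : Subgroup G) :=
    Helper3.Quat.le_sylow_of_normal_isPGroup S _ hN hP (Subgroup.mem_zpowers t)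
  obtain ⟨c, i, hc, hi, hc1, hcc, -, hii, hsq, hinv⟩ := Helper20.exists_q8_data (S : Subgroup G) e
  have htc : t = c := (hinv t htS htt).resolve_left ht1
  subst htc
  exact ⟨htS, hsq, hinv, i, hi, hii⟩

include e in
/-- `t` is the only involution of `G`. -/
theorem involution_unique {t : G} (ht : t ∈ Subgroup.center G) (ht2 : orderOf t = 2)
    (g : G) (hg : orderOf g = 2) : g = t := by
  obtain ⟨-, -, hinv, -⟩ := exists_data S e ht ht2
  obtain ⟨a, ha⟩ := exists_conj_mem_sylow S g ⟨1, by rw [hg, pow_one]⟩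
  have hgg : g * g = 1 := by
    have := pow_orderOf_eq_one g
    rwa [hg, pow_two] at this
  have h1 : (a * g * a⁻¹) * (a * g * a⁻¹) = 1 := by
    calc (a * g * a⁻¹) * (a * g * a⁻¹) = a * (g * g) * a⁻¹ := by group
      _ = 1 := by rw [hgg]; group
  rcases hinv _ ha h1 with h | h
  · exfalso
    have : g = 1 := by
      have : g = a⁻¹ * (a * g * a⁻¹) * a := by group
      rw [this, h]; group
    rw [this, orderOf_one] at hg; omega
  · have hc := Subgroup.mem_center_iff.mp ht a
    calc g = a⁻¹ * (a * g * a⁻¹) * a := by group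
      _ = a⁻¹ * t * a := by rw [h]
      _ = t := by rw [mul_assoc, ← hc, inv_mul_cancel_left]

include e in
/-- `2`-elements of `G` have fourth power `1`. -/
theorem pow_four_of_two_element (g : G) (hg : ∃ k : ℕ, orderOf g = 2 ^ k) : g ^ 4 = 1 := by
  obtain ⟨a, ha⟩ := exists_conj_mem_sylow S g hg
  have h := Helper76.quatSub_pow_four (S : Subgroup G) e ha
  rw [conj_pow] at h
  have : g ^ 4 = a⁻¹ * (a * g ^ 4 * a⁻¹) * a := by group
  rw [this, h]; group

end Main

end Cfsg.Agent.Helper24.Q8
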