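import Cfsg.Agent.Helper24.Q8GroupA
import Cfsg.Agent.Helper16.SecondMainKappa
import Cfsg.Agent.Lib.Cores
import Cfsg.Prelude.Def_Local

/-!
# Groups with a central involution and quaternion Sylow `2`-subgroups of order `8`:
fusion of elements of order four and their centralizers (helper24)
-/

set_option autoImplicit false
set_option linter.style.haveILetI false
set_option linter.unusedSectionVars false

namespace Cfsg.Agent.Helper24.Q8

open Cfsg

section Main

variable {G : Type*} [Group G] [Finite G] (S : Sylow 2 G)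
  (e : (S : Subgroup G) ≃* QuaternionGroup 2)

/-- Order four from `x * x = t`, `t` an involution. -/
theorem orderOf_eq_four {t x : G} (ht2 : orderOf t = 2) (hx : x * x = t) : orderOf x = 4 := by
  haveI : Fact (Nat.Prime 2) := ⟨Nat.prime_two⟩
  have htt : t * t = 1 := by
    have := pow_orderOf_eq_one t
    rwa [ht2, pow_two] at this
  have h := orderOf_eq_prime_pow (x := x) (p := 2) (n := 1) ?_ ?_
  · rw [h]; norm_num
  · rw [pow_one, pow_two, hx]
    intro h1
    rw [h1, orderOf_one] at ht2; omega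
  · show x ^ 2 ^ 2 = 1
    have : x ^ 2 ^ 2 = (x * x) * (x * x) := by
      rw [show (2 : ℕ) ^ 2 = 2 + 2 by norm_num, pow_add, pow_two]
    rw [this, hx, htt]

include e in
/-- If `S` has no normal complement, all elements of order four of `G` are conjugate to `x`. -/
theorem order_four_conj (hnc : ∀ N : Subgroup G, N.Normal → ¬ Subgroup.IsComplement' N (S : Subgroup G))
    {t x : G} (ht2 : orderOf t = 2) (hxS : x ∈ (S : Subgroup G))
    (hx : x * x = t) (u : G) (hu : orderOf u = 4) : ∃ b : G, b * x * b⁻¹ = u := by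
  have hx4 : orderOf x = 4 := orderOf_eq_four ht2 hx
  have ht1 : t ≠ 1 := by
    intro h; rw [h, orderOf_one] at ht2; omega
  obtain ⟨a, ha⟩ := exists_conj_mem_sylow S u ⟨2, by rw [hu]; norm_num⟩
  set u' := a * u * a⁻¹ with hu'
  have hu'4 : orderOf u' = 4 := by
    rw [hu', ← hu]
    rw [orderOf_eq_orderOf_iff]
    intro n
    rw [conj_pow, conj_eq_one_iff]
  have hA : Subgroup.zpowers u' ≤ (S : Subgroup G) := Subgroup.zpowers_le.mpr ha
  have hB : Subgroup.zpowers x ≤ (S : Subgroup G) := Subgroup.zpowers_le.mpr hxS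
  obtain ⟨n, -, hn⟩ := Cfsg.Agent.S0950.result S e hnc (Subgroup.zpowers u') (Subgroup.zpowers x)
    hA hB (by rw [Nat.card_zpowers, hu'4]) (by rw [Nat.card_zpowers, hx4])
  -- `n u' n⁻¹ ∈ ⟨x⟩` has order four
  have h1 : n * u' * n⁻¹ ∈ Subgroup.zpowers x := by
    rw [hn]
    exact Helper20.conj_mem_map_conj _ n u' (Subgroup.mem_zpowers u')
  have h14 : orderOf (n * u' * n⁻¹) = 4 := by
    rw [← hu'4, orderOf_eq_orderOf_iff]
    intro m
    rw [conj_pow, conj_eq_one_iff]
  have hxx : x * x ≠ 1 := by rw [hx]; exact ht1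
  have hw2 : (n * u' * n⁻¹) * (n * u' * n⁻¹) ≠ 1 := by
    intro h
    have : (n * u' * n⁻¹) ^ 2 = 1 := by rw [pow_two]; exact h
    have := orderOf_dvd_of_pow_eq_one this
    rw [h14] at this
    omega
  have hcomm : x * (n * u' * n⁻¹) = (n * u' * n⁻¹) * x := by
    obtain ⟨k, hk⟩ := Subgroup.mem_zpowers_iff.mp h1
    rw [← hk]
    exact ((Commute.refl x).zpow_right k).eq
  rcases Helper20.quat_centralizer_order4 (S : Subgroup G) e hxS (hB h1) hxx hcomm hw2 with h | h
  · -- `n u' n⁻¹ = x`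
    refine ⟨(n * a)⁻¹, ?_⟩
    rw [← h, hu']
    group
  · obtain ⟨q, -, hq⟩ := quat_exists_invert (S : Subgroup G) e hxS hxx
    refine ⟨(n * a)⁻¹ * q, ?_⟩
    have : (n * a)⁻¹ * q * x * ((n * a)⁻¹ * q)⁻¹ = (n * a)⁻¹ * (q * x * q⁻¹) * (n * a) := by group
    rw [this, hq, ← h, hu']
    group

end Main

end Cfsg.Agent.Helper24.Q8
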