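import Cfsg.Agent.Helper24.Q8GroupB

/-!
# Groups with a central involution and quaternion Sylow `2`-subgroups of order `8`:
the centralizer of an element of order four (helper24)
-/

set_option autoImplicit false
set_option linter.style.haveILetI false
set_option linter.unusedSectionVars false

namespace Cfsg.Agent.Helper24.Q8

open Cfsg

section Main

variable {G : Type*} [Group G] [Finite G] (S : Sylow 2 G)
  (e : (S : Subgroup G) ≃* QuaternionGroup 2)

include e in
/-- A `2`-subgroup centralizing `x` lies in `⟨x⟩`. -/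
theorem mem_zpowers_of_commute {t x : G} (ht : t ∈ Subgroup.center G) (ht2 : orderOf t = 2)
    (hx : x * x = t) (T : Subgroup G) (hT : IsPGroup 2 T) (hxT : x ∈ T)
    (hcomm : ∀ c ∈ T, x * c = c * x) : ∀ c ∈ T, c ∈ Subgroup.zpowers x := by
  haveI : Fact (Nat.Prime 2) := ⟨Nat.prime_two⟩
  have ht1 : t ≠ 1 := by
    intro h; rw [h, orderOf_one] at ht2; omega
  obtain ⟨-, -, hinv, -⟩ := exists_data S e ht ht2
  obtain ⟨b, hb⟩ := Helper20.exists_conj_le_sylow S hT
  have hconj : ∀ c ∈ T, b * c * b⁻¹ ∈ (S : Subgroup G) := fun c hc =>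
    hb (Helper20.conj_mem_map_conj _ b c hc)
  have hbt : b * t * b⁻¹ = t := by
    have hc := Subgroup.mem_center_iff.mp ht b
    rw [hc, mul_inv_cancel_right]
  have hx'S := hconj x hxT
  have hx'2 : (b * x * b⁻¹) * (b * x * b⁻¹) ≠ 1 := by
    have : (b * x * b⁻¹) * (b * x * b⁻¹) = b * (x * x) * b⁻¹ := by group
    rw [this, hx, hbt]; exact ht1
  have htx : t ∈ Subgroup.zpowers x := by
    rw [← hx, ← pow_two]; exact Subgroup.pow_mem _ (Subgroup.mem_zpowers x) 2
  intro c hc
  have hc'S := hconj c hc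
  have hcc : (b * x * b⁻¹) * (b * c * b⁻¹) = (b * c * b⁻¹) * (b * x * b⁻¹) := by
    calc (b * x * b⁻¹) * (b * c * b⁻¹) = b * (x * c) * b⁻¹ := by group
      _ = b * (c * x) * b⁻¹ := by rw [hcomm c hc]
      _ = (b * c * b⁻¹) * (b * x * b⁻¹) := by group
  have hback : ∀ w : G, b * c * b⁻¹ = b * w * b⁻¹ → c = w := by
    intro w hw
    have : c = b⁻¹ * (b * c * b⁻¹) * b := by group
    rw [this, hw]; group
  by_cases h2 : (b * c * b⁻¹) * (b * c * b⁻¹) = 1
  · rcases hinv _ hc'S h2 with h | h
    · have : c = 1 := hback 1 (by rw [h]; group)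
      rw [this]; exact Subgroup.one_mem _
    · have : c = t := hback t (by rw [h, hbt])
      rw [this]; exact htx
  · rcases Helper20.quat_centralizer_order4 (S : Subgroup G) e hx'S hc'S hx'2 hcc h2 with h | h
    · rw [hback x h]; exact Subgroup.mem_zpowers x
    · have : c = x⁻¹ := hback x⁻¹ (by rw [h]; group)
      rw [this]; exact Subgroup.inv_mem _ (Subgroup.mem_zpowers x)

include e in
/-- The centralizer of `x` has a normal `2`-complement and `2`-part `4`. -/
theorem centralizer_structure {t x : G} (ht : t ∈ Subgroup.center G) (ht2 : orderOf t = 2)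
    (hx : x * x = t) :
    (∃ k : ℕ, (pPrimeCore 2 (Subgroup.centralizer ({x} : Set G))).index = 2 ^ k) ∧
      (Nat.card (Subgroup.centralizer ({x} : Set G))).factorization 2 = 2 := by
  haveI : Fact (Nat.Prime 2) := ⟨Nat.prime_two⟩
  have hx4 : orderOf x = 4 := orderOf_eq_four ht2 hx
  set C := Subgroup.centralizer ({x} : Set G) with hC
  have hxC : x ∈ C := by
    rw [hC, Subgroup.mem_centralizer_singleton_iff]
  set xC : C := ⟨x, hxC⟩ with hxCdef
  have hxC4 : orderOf xC = 4 := by rw [← hx4, hxCdef, Subgroup.orderOf_mk]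
  have hcommC : ∀ c : C, x * (c : G) = (c : G) * x := by
    intro c
    exact (Subgroup.mem_centralizer_singleton_iff.mp c.2).symm
  obtain ⟨T⟩ := (inferInstance : Nonempty (Sylow 2 C))
  -- `xC ∈ T`
  have hxT : xC ∈ (T : Subgroup C) := by
    have hcen : xC ∈ Subgroup.center C := by
      rw [Subgroup.mem_center_iff]
      intro c
      apply Subtype.ext
      rw [Subgroup.coe_mul, Subgroup.coe_mul]
      exact (hcommC c).symm
    have hN : (Subgroup.zpowers xC).Normal := zpowers_normal_of_mem_center hcen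
    have hP : IsPGroup 2 (Subgroup.zpowers xC) := by
      apply IsPGroup.of_card (n := 2)
      rw [Nat.card_zpowers, hxC4]; norm_num
    exact Helper3.Quat.le_sylow_of_normal_isPGroup T _ hN hP (Subgroup.mem_zpowers xC)
  -- `T = ⟨xC⟩`
  have hTle : ∀ c ∈ (T : Subgroup C), c ∈ Subgroup.zpowers xC := by
    intro c hc
    have h1 := mem_zpowers_of_commute S e ht ht2 hx ((T : Subgroup C).map C.subtype)
      (T.isPGroup'.map _) ⟨xC, hxT, rfl⟩ (by
        rintro _ ⟨c', -, rfl⟩
        exact hcommC c') (c : G) ⟨c, hc, rfl⟩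
    obtain ⟨k, hk⟩ := Subgroup.mem_zpowers_iff.mp h1
    refine Subgroup.mem_zpowers_iff.mpr ⟨k, ?_⟩
    apply Subtype.ext
    rw [Subgroup.coe_zpow]
    exact hk
  have hT : (T : Subgroup C) = Subgroup.zpowers xC :=
    le_antisymm hTle (Subgroup.zpowers_le.mpr hxT)
  have hTcard : Nat.card (T : Subgroup C) = 4 := by
    rw [hT, Nat.card_zpowers, hxC4]
  have hfac : (Nat.card C).factorization 2 = 2 := by
    have h := T.card_eq_multiplicity
    rw [hTcard] at h
    have : (2 : ℕ) ^ 2 = 2 ^ (Nat.card C).factorization 2 := by rw [← h]; norm_num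
    exact (Nat.pow_right_injective (le_refl 2) this).symm
  refine ⟨?_, hfac⟩
  -- normal complement by Burnside (cyclic Sylow for the smallest prime)
  have hcyc : IsCyclic (T : Subgroup C) := by
    rw [hT]; infer_instance
  have hmin : (Nat.card C).minFac = 2 := by
    rw [Nat.minFac_eq_two_iff]
    have h1 : orderOf xC ∣ Nat.card C := orderOf_dvd_natCard xC
    rw [hxC4] at h1
    exact Dvd.dvd.trans (by norm_num) h1
  have hcompl := IsCyclic.isComplement' hmin hcyc
  set K := (MonoidHom.transferSylow T (hcyc.normalizer_le_centralizer hmin)).ker with hK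
  have hKidx : K.index = 4 := by
    have := hcompl.symm.index_eq_card
    rw [this, hTcard]
  have hKcop : (Nat.card K).Coprime 2 := by
    have := MonoidHom.not_dvd_card_ker_transferSylow T (hcyc.normalizer_le_centralizer hmin)
    exact ((Nat.Prime.coprime_iff_not_dvd Nat.prime_two).mpr this).symm
  have hKle : K ≤ pPrimeCore 2 C := Cfsg.Agent.Lib.le_pPrimeCore (MonoidHom.normal_ker _) hKcop
  have hdvd : (pPrimeCore 2 C).index ∣ 2 ^ 2 := by
    have := Subgroup.index_dvd_of_le hKle
    rw [hKidx] at this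
    exact this
  obtain ⟨k, -, hk⟩ := (Nat.dvd_prime_pow Nat.prime_two).mp hdvd
  exact ⟨k, hk⟩

include e in
/-- Elements whose order is divisible by `4` lie in the `2`-section of `x`. -/
theorem section_of_four_dvd
    (hnc : ∀ N : Subgroup G, N.Normal → ¬ Subgroup.IsComplement' N (S : Subgroup G))
    {t x : G} (ht : t ∈ Subgroup.center G) (ht2 : orderOf t = 2) (hxS : x ∈ (S : Subgroup G))
    (hx : x * x = t) (g : G) (hg : 4 ∣ orderOf g) :
    ∃ a v : G, v ∈ centralizerPPrimeCore 2 x ∧ g = a * (x * v) * a⁻¹ := by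
  haveI : Fact (Nat.Prime 2) := ⟨Nat.prime_two⟩
  obtain ⟨⟨k', hk'⟩, -⟩ := centralizer_structure S e ht ht2 hx
  obtain ⟨u, y, huy, hcomm, ⟨k, hk⟩, hy⟩ := Helper16.exists_isPPart 2 Nat.prime_two g
  have hcop : Nat.Coprime (orderOf u) (orderOf y) := by
    rw [hk]
    exact Nat.Coprime.pow_left _ ((Nat.Prime.coprime_iff_not_dvd Nat.prime_two).mpr hy)
  have hord : orderOf g = orderOf u * orderOf y := by
    rw [← huy]; exact hcomm.orderOf_mul_eq_mul_orderOf_of_coprime hcop
  have hu4 : orderOf u = 4 := by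
    have h1 : orderOf u ∣ 4 := orderOf_dvd_of_pow_eq_one (pow_four_of_two_element S e u ⟨k, hk⟩)
    have h2 : 4 ∣ orderOf u := by
      have hc4 : Nat.Coprime 4 (orderOf y) := by
        have : Nat.Coprime (2 ^ 2) (orderOf y) :=
          Nat.Coprime.pow_left _ ((Nat.Prime.coprime_iff_not_dvd Nat.prime_two).mpr hy)
        simpa using this
      rw [hord] at hg
      exact hc4.dvd_of_dvd_mul_right hg
    exact Nat.dvd_antisymm h1 h2
  obtain ⟨b, hb⟩ := order_four_conj S e hnc ht2 hxS hx u hu4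
  set v := b⁻¹ * y * b with hv
  have hxv : x * v = v * x := by
    have hx' : x = b⁻¹ * u * b := by rw [← hb]; group
    rw [hx', hv]
    calc b⁻¹ * u * b * (b⁻¹ * y * b) = b⁻¹ * (u * y) * b := by group
      _ = b⁻¹ * (y * u) * b := by rw [hcomm.eq]
      _ = b⁻¹ * y * b * (b⁻¹ * u * b) := by group
  have hvord : orderOf v = orderOf y := by
    rw [hv, orderOf_eq_orderOf_iff]
    intro n
    have : (b⁻¹ * y * b) ^ n = b⁻¹ * y ^ n * b⁻¹⁻¹ := by
      rw [← conj_pow, inv_inv]
    rw [this, conj_eq_one_iff]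
  refine ⟨b, v, ?_, ?_⟩
  · -- `v ∈ O_{2'}(C_G(x))`
    set C := Subgroup.centralizer ({x} : Set G) with hC
    have hvC : v ∈ C := by
      rw [hC, Subgroup.mem_centralizer_singleton_iff]; exact hxv.symm
    haveI : (pPrimeCore 2 C).Characteristic := Cfsg.Agent.Lib.pPrimeCore_characteristic 2
    haveI hKn : (pPrimeCore 2 C).Normal := Subgroup.normal_of_characteristic _
    set K := pPrimeCore 2 C with hKdef
    have hvK : (⟨v, hvC⟩ : C) ∈ K := by
      rw [← QuotientGroup.eq_one_iff]
      have h1 : (QuotientGroup.mk (⟨v, hvC⟩ : C) : C ⧸ K) ^ orderOf v = 1 := by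
        rw [← QuotientGroup.mk_pow]
        have : (⟨v, hvC⟩ : C) ^ orderOf v = 1 := by
          apply Subtype.ext
          rw [Subgroup.coe_pow]
          exact pow_orderOf_eq_one v
        rw [this, QuotientGroup.mk_one]
      have h2 : (QuotientGroup.mk (⟨v, hvC⟩ : C) : C ⧸ K) ^ 2 ^ k' = 1 := by
        have : Nat.card (C ⧸ K) = 2 ^ k' := by rw [← hk']; rfl
        rw [← this]
        exact pow_card_eq_one'
      have h3 := orderOf_dvd_of_pow_eq_one h1
      have h4 := orderOf_dvd_of_pow_eq_one h2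
      have hc : Nat.Coprime (orderOf v) (2 ^ k') := by
        rw [hvord]
        exact Nat.Coprime.pow_right _ ((Nat.Prime.coprime_iff_not_dvd Nat.prime_two).mpr hy).symm
      have h5 : orderOf (QuotientGroup.mk (⟨v, hvC⟩ : C) : C ⧸ K) = 1 :=
        Nat.Coprime.eq_one_of_dvd (hc.coprime_dvd_left h3) h4
      exact orderOf_eq_one_iff.mp h5
    exact ⟨⟨v, hvC⟩, hvK, rfl⟩
  · rw [← huy, ← hb, hv]
    group

end Main

end Cfsg.Agent.Helper24.Q8
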