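import Cfsg.Agent.Helper24.Q8GroupC

/-!
# Groups with a central involution `t` and quaternion Sylow `2`-subgroups of order `8`:
the quotient by `⟨t⟩` has Klein four Sylow `2`-subgroups and one class of involutions (helper24)
-/

set_option autoImplicit false
set_option linter.style.haveILetI false
set_option linter.unusedSectionVars false

namespace Cfsg.Agent.Helper24.Q8

open Cfsg

section Main

variable {G : Type*} [Group G] [Finite G] (S : Sylow 2 G)
  (e : (S : Subgroup G) ≃* QuaternionGroup 2)

include e in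
/-- The image of `S` in `G ⧸ N`, `N = {1, t}`, is a Klein four-group. -/
theorem isKleinFour_map {t : G} (ht : t ∈ Subgroup.center G) (ht2 : orderOf t = 2)
    (N : Subgroup G) [N.Normal] (htN : t ∈ N) (hN : ∀ n ∈ N, n = 1 ∨ n = t) :
    IsKleinFour ↥((S : Subgroup G).map (QuotientGroup.mk' N)) := by
  obtain ⟨htS, hsq, -, -⟩ := exists_data S e ht ht2
  have htt : t * t = 1 := by
    have := pow_orderOf_eq_one t
    rwa [ht2, pow_two] at this
  have hNS : N ≤ (S : Subgroup G) := by
    intro n hn
    rcases hN n hn with rfl | rfl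
    · exact Subgroup.one_mem _
    · exact htS
  have hNcard : Nat.card N = 2 := by
    have h1 : N = Subgroup.zpowers t := by
      apply le_antisymm
      · intro n hn
        rcases hN n hn with rfl | rfl
        · exact Subgroup.one_mem _
        · exact Subgroup.mem_zpowers _
      · exact Subgroup.zpowers_le.mpr htN
    rw [h1, Nat.card_zpowers, ht2]
  have hcard : Nat.card ((S : Subgroup G).map (QuotientGroup.mk' N)) = 4 := by
    have h1 : ((S : Subgroup G).map (QuotientGroup.mk' N)).index = (S : Subgroup G).index :=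
      Subgroup.index_map_eq _ (QuotientGroup.mk'_surjective N)
        (by rw [QuotientGroup.ker_mk']; exact hNS)
    have h2 := Subgroup.card_mul_index ((S : Subgroup G).map (QuotientGroup.mk' N))
    have h3 := Subgroup.card_mul_index (S : Subgroup G)
    have h4 := Subgroup.card_eq_card_quotient_mul_card_subgroup N
    have h5 : Nat.card (S : Subgroup G) = 8 := Helper76.quatSub_card (S : Subgroup G) e
    rw [h1] at h2
    rw [h5] at h3
    rw [hNcard, ← h2] at h4
    have hpos : 0 < (S : Subgroup G).index := Nat.pos_of_ne_zero (Subgroup.index_ne_zero_of_finite)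
    nlinarith
  have hsq' : ∀ q : ((S : Subgroup G).map (QuotientGroup.mk' N)), q ^ 2 = 1 := by
    rintro ⟨q, s, hs, rfl⟩
    apply Subtype.ext
    rw [Subgroup.coe_pow, Subgroup.coe_one, ← map_pow, pow_two]
    rcases hsq s hs with h | h
    · rw [h, map_one]
    · rw [h]
      exact (QuotientGroup.eq_one_iff t).mpr htN
  refine ⟨hcard, ?_⟩
  have hdvd : Monoid.exponent ↥((S : Subgroup G).map (QuotientGroup.mk' N)) ∣ 2 :=
    Monoid.exponent_dvd_of_forall_pow_eq_one hsq'
  have hne : Monoid.exponent ↥((S : Subgroup G).map (QuotientGroup.mk' N)) ≠ 1 := by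
    intro h
    rw [Monoid.exp_eq_one_iff] at h
    have := Nat.card_eq_one_iff_unique.mpr ⟨h, ⟨1⟩⟩
    omega
  exact ((Nat.dvd_prime Nat.prime_two).mp hdvd).resolve_left hne

include e in
/-- Every involution of `G ⧸ N` is conjugate to the image of `x`. -/
theorem isConj_mk_of_involution
    (hnc : ∀ N : Subgroup G, N.Normal → ¬ Subgroup.IsComplement' N (S : Subgroup G))
    {t x : G} (ht : t ∈ Subgroup.center G) (ht2 : orderOf t = 2) (hxS : x ∈ (S : Subgroup G))
    (hx : x * x = t) (N : Subgroup G) [N.Normal] (htN : t ∈ N) (hN : ∀ n ∈ N, n = 1 ∨ n = t)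
    (z : G ⧸ N) (hz : orderOf z = 2) : IsConj (x : G ⧸ N) z := by
  haveI : Fact (Nat.Prime 2) := ⟨Nat.prime_two⟩
  obtain ⟨z, rfl⟩ := QuotientGroup.mk_surjective z
  have hzN : z ∉ N := by
    intro h
    rw [(QuotientGroup.eq_one_iff z).mpr h, orderOf_one] at hz
    omega
  have hzz : z * z ∈ N := by
    rw [← QuotientGroup.eq_one_iff, QuotientGroup.mk_mul, ← pow_two, ← hz, pow_orderOf_eq_one]
  have hz4 : orderOf z = 4 := by
    rcases hN _ hzz with h | h
    · exfalso
      have hz1 : z ≠ 1 := fun h1 => hzN (h1 ▸ Subgroup.one_mem N)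
      have h2 : orderOf z = 2 := orderOf_eq_prime (by rw [pow_two]; exact h) hz1
      have := involution_unique S e ht ht2 z h2
      apply hzN
      rw [this]
      exact htN
    · exact orderOf_eq_four ht2 h
  obtain ⟨b, hb⟩ := order_four_conj S e hnc ht2 hxS hx z hz4
  rw [isConj_iff]
  refine ⟨(b : G ⧸ N), ?_⟩
  rw [← hb]
  simp

end Main

end Cfsg.Agent.Helper24.Q8
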