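import Cfsg.Agent.Helper24.Q8BlockF
import Cfsg.Agent.Helper24.Q8GroupD

/-!
# `k(B₀) = 7` for quaternion Sylow `2`-subgroups of order `8` (helper24)

Assembly: from the Brauer–Suzuki conclusion `|Z(G)| = 2` and the Klein-four theorem for
`G ⧸ Z(G)`, the principal `2`-block of `G` has exactly seven members.
-/

set_option autoImplicit false
set_option linter.style.haveILetI false
set_option linter.unusedSectionVars false

namespace Cfsg.Agent.Helper24.Q8

open Cfsg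

/-- The conclusion of the Klein-four theorem (`S0948`) for a group `H`. -/
def KleinConclusion (M : Ideal AlgInt) (H : Type*) [Group H] : Prop :=
  ∃ ζ₂ ζ₃ ζ₄ : IrrCharacter H, ∃ ε : ℤ, (ε = 1 ∨ ε = -1) ∧ (ζ₂ : H → ℂ) ≠ (fun _ => 1) ∧
    (ζ₃ : H → ℂ) ≠ (fun _ => 1) ∧ ζ₂ ≠ ζ₃ ∧ ζ₂ ≠ ζ₄ ∧ ζ₃ ≠ ζ₄ ∧
    principalBlock M H = {χ : IrrCharacter H | (χ : H → ℂ) = (fun _ => 1) ∨ χ = ζ₂ ∨ χ = ζ₃ ∨
      χ = ζ₄} ∧
    (∀ z : H, orderOf z = 2 → (ζ₂ : H → ℂ) z = 1 ∧ (ζ₃ : H → ℂ) z = (ε : ℂ) ∧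
      (ζ₄ : H → ℂ) z = -1) ∧
    (4 : ℤ) ∣ (charDegree (ζ₂ : H → ℂ) : ℤ) - 1 ∧ (4 : ℤ) ∣ (charDegree (ζ₃ : H → ℂ) : ℤ) - ε ∧
    (4 : ℤ) ∣ (charDegree (ζ₄ : H → ℂ) : ℤ) + 1 ∧
    ∀ y : H, Odd (orderOf y) →
      1 + (ζ₂ : H → ℂ) y + (ε : ℂ) * (ζ₃ : H → ℂ) y - (ζ₄ : H → ℂ) y = 0

/-- **`k(B₀) = 7`** for a finite group with quaternion Sylow `2`-subgroups of order `8`, no
nontrivial normal subgroup of odd order, not a `2`-group; given `|Z(G)| = 2` (Brauer–Suzuki) and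
the Klein-four theorem for quotients of `G`. -/
theorem card_principalBlock_eq_seven {G : Type*} [Group G] [Finite G] (M : Ideal AlgInt)
    (hM : IsPModular 2 M) (S : Sylow 2 G) (e : (S : Subgroup G) ≃* QuaternionGroup 2)
    (hO : ∀ N : Subgroup G, N.Normal → Odd (Nat.card N) → N = ⊥)
    (hG : (S : Subgroup G) ≠ ⊤) (hZ : Nat.card (Subgroup.center G) = 2)
    (hKF : ∀ (N : Subgroup G) [N.Normal] (P : Sylow 2 (G ⧸ N)),
      IsKleinFour (P : Subgroup (G ⧸ N)) →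
      (∀ s t : G ⧸ N, orderOf s = 2 → orderOf t = 2 → IsConj s t) →
      KleinConclusion M (G ⧸ N)) :
    Nat.card (principalBlock M G) = 7 := by
  classical
  haveI : Fact (Nat.Prime 2) := ⟨Nat.prime_two⟩
  haveI : Fintype G := Fintype.ofFinite G
  -- the central involution
  obtain ⟨t, ht, ht2⟩ : ∃ t : G, t ∈ Subgroup.center G ∧ orderOf t = 2 := by
    obtain ⟨z, hz⟩ := exists_prime_orderOf_dvd_card' (G := Subgroup.center G) 2
      (by rw [hZ])
    exact ⟨z, z.2, by rw [← hz, Subgroup.orderOf_coe]⟩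
  have htt : t * t = 1 := by
    have := pow_orderOf_eq_one t
    rwa [ht2, pow_two] at this
  -- no normal complement
  have hnc : ∀ N : Subgroup G, N.Normal → ¬ Subgroup.IsComplement' N (S : Subgroup G) := by
    intro N hN hc
    have h1 : Nat.card N = (S : Subgroup G).index := hc.index_eq_card.symm
    have h2 : Odd (Nat.card N) := by
      rw [h1, ← Nat.not_even_iff_odd, even_iff_two_dvd]
      exact S.not_dvd_index
    have h3 := hO N hN h2
    rw [h3] at hc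
    exact hG (Subgroup.isComplement'_bot_left.mp hc)
  obtain ⟨htS, -, -, x, hxS, hx⟩ := exists_data S e ht ht2
  have hx4 : orderOf x = 4 := orderOf_eq_four ht2 hx
  obtain ⟨hncore, hfac⟩ := centralizer_structure S e ht ht2 hx
  -- the quotient
  set N : Subgroup G := Subgroup.zpowers t with hNdef
  haveI hNn : N.Normal := zpowers_normal_of_mem_center ht
  haveI : Fintype (G ⧸ N) := Fintype.ofFinite _
  have htN : t ∈ N := Subgroup.mem_zpowers t
  have hN : ∀ n ∈ N, n = 1 ∨ n = t := fun n hn => mem_zpowers_involution htt hn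
  set P : Sylow 2 (G ⧸ N) := S.mapSurjective (QuotientGroup.mk'_surjective N) with hP
  have hPcoe : (P : Subgroup (G ⧸ N)) = (S : Subgroup G).map (QuotientGroup.mk' N) :=
    Sylow.coe_mapSurjective _ S
  have hPK : IsKleinFour (P : Subgroup (G ⧸ N)) := by
    rw [hPcoe]
    exact isKleinFour_map S e ht ht2 N htN hN
  have hone : ∀ s u : G ⧸ N, orderOf s = 2 → orderOf u = 2 → IsConj s u := by
    intro s u hs hu
    exact (isConj_mk_of_involution S e hnc ht ht2 hxS hx N htN hN s hs).symm.trans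
      (isConj_mk_of_involution S e hnc ht ht2 hxS hx N htN hN u hu)
  obtain ⟨ζ₂, ζ₃, ζ₄, ε, hε, h2, h3, h23, h24, h34, hB, hval, -, -, -, -⟩ := hKF N P hPK hone
  exact card_eq_seven_of_klein hM ht ht2 hx4 (involution_unique S e ht ht2)
    (section_of_four_dvd S e hnc ht ht2 hxS hx) hncore hfac N htN hN ζ₂ ζ₃ ζ₄ ε hε h2 h3 h23 h24
    h34 hB hval

end Cfsg.Agent.Helper24.Q8
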