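import Mathlib
import Cfsg.Agent.Helper62.S6.Defs

/-!
# Helper24 / piece (RW) for helper62's S3333: words of `D₈ = ⟨f, t⟩` in a normal subgroup
-/

set_option autoImplicit false
set_option linter.unusedSectionVars false
open Cfsg

namespace Cfsg.Agent.Helper24.S6

open Cfsg.Agent.Helper62.S6 Cfsg.Agent.Helper62.D8

universe u

section grp
variable {G : Type u} [Group G] [Finite G]
variable {S : Subgroup G} {x y t f : G}

/-- (RW) words of `D₈ = ⟨f, t⟩` in a normal subgroup `L ≥ S`. -/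
theorem word_mem (h : Cfg S x y t f) (L : Subgroup G) [L.Normal] (hSL : S ≤ L) :
    (∀ s ∈ S, ∀ i j : ℕ, s * (f ^ i * t ^ j) ∈ L ↔ f ^ i * t ^ j ∈ L) ∧
    (f ^ 2 * t ∈ L → t ∈ L) ∧ (f ^ 3 * t ∈ L → f * t ∈ L) ∧ (f ^ 3 ∈ L → f ∈ L) ∧
    (t ∈ L → f ^ 2 ∈ L) ∧ (f * t ∈ L → f ^ 2 ∈ L) ∧ (f ∈ L → f ^ 2 ∈ L) := by
  have hL : L.Normal := inferInstance
  have f4 : f ^ 4 = 1 := h.nd.f4
  have tf : t * f * t⁻¹ = f⁻¹ := h.nd.tf
  -- `t f⁻¹ = f t`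
  have r1 : t * f⁻¹ = f * t := by
    have h2 : (t * f * t⁻¹)⁻¹ = f := by rw [tf, inv_inv]
    calc t * f⁻¹ = (t * f * t⁻¹)⁻¹ * t := by group
      _ = f * t := by rw [h2]
  have e2 : f * (f ^ 2 * t) * f⁻¹ = t := by
    calc f * (f ^ 2 * t) * f⁻¹ = f ^ 3 * (t * f⁻¹) := by group
      _ = f ^ 3 * (f * t) := by rw [r1]
      _ = f ^ 4 * t := by group
      _ = t := by rw [f4, one_mul]
  have e3 : f * (f ^ 3 * t) * f⁻¹ = f * t := by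
    calc f * (f ^ 3 * t) * f⁻¹ = f ^ 4 * (t * f⁻¹) := by group
      _ = f * t := by rw [f4, one_mul, r1]
  have e4 : (f ^ 3)⁻¹ = f := by
    calc (f ^ 3)⁻¹ = (f ^ 3)⁻¹ * 1 := by rw [mul_one]
      _ = (f ^ 3)⁻¹ * f ^ 4 := by rw [f4]
      _ = f := by group
  have e5 : t⁻¹ * (f⁻¹ * t * f⁻¹⁻¹) = f ^ 2 := by
    calc t⁻¹ * (f⁻¹ * t * f⁻¹⁻¹) = t⁻¹ * f⁻¹ * (t * f⁻¹)⁻¹⁻¹ * f ^ 2 := by group
      _ = t⁻¹ * f⁻¹ * (f * t)⁻¹⁻¹ * f ^ 2 := by rw [r1]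
      _ = f ^ 2 := by group
  have e6 : f * (f * t) * f⁻¹ * (f * t)⁻¹ = f ^ 2 := by
    have h3 : f * (f * t) * f⁻¹ * (f * t)⁻¹ = f * f * ((t * f⁻¹) * (f * t)⁻¹) := by
      simp only [mul_assoc]
    rw [h3, r1, mul_inv_cancel, mul_one, pow_two]
  refine ⟨?_, ?_, ?_, ?_, ?_, ?_, ?_⟩
  · intro s hs i j
    exact L.mul_mem_cancel_left (hSL hs)
  · intro hm
    rw [← e2]
    exact hL.conj_mem _ hm f
  · intro hm
    rw [← e3]
    exact hL.conj_mem _ hm f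
  · intro hm
    rw [← e4]
    exact L.inv_mem hm
  · intro hm
    rw [← e5]
    exact L.mul_mem (L.inv_mem hm) (hL.conj_mem _ hm f⁻¹)
  · intro hm
    rw [← e6]
    exact L.mul_mem (hL.conj_mem _ hm f) (L.inv_mem hm)
  · intro hm
    rw [pow_two]
    exact L.mul_mem hm hm

end grp

end Cfsg.Agent.Helper24.S6
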