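-- helper24: piece (O2) for helper38's S2412 (PSU_n(q) is generated by two elements):
-- from one nontrivial element `E(e_1, t₂ w_a, c₂)` and the torus element to the whole root group.
import Mathlib
import Cfsg.Agent.Helper38.SU2G.Defs

set_option autoImplicit false
set_option linter.unusedSectionVars false

namespace Cfsg.Agent.Helper24.SU2G

open Matrix Cfsg.Agent.Helper84.PSU Cfsg.Agent.Helper38.SU2G

variable {K : Type*} [Field K] {m r : ℕ}

local notation "Vec" => (I (m + 2) r → K)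
local notation "Mat" => Matrix (I (m + 2) r) (I (m + 2) r) K

variable (bar : K →+* K) (hb : ∀ x, bar (bar x) = x)

set_option quotPrecheck false in
local notation "SUk" => ↥(SUm (m + 2) r bar)

/-- if `P = Q * R` and `P`, `Q` are matrices of elements of `H` then so is `R` -/
theorem hasM_of_mul_eq {H : Subgroup SUk} {P Q R : Mat} (hP : HasM bar H P) (hQ : HasM bar H Q)
    (hPQR : P = Q * R) : HasM bar H R := by
  obtain ⟨x, hx, rfl⟩ := hP
  obtain ⟨y, hy, rfl⟩ := hQ
  refine ⟨y⁻¹ * x, mul_mem (inv_mem hy) hx, ?_⟩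
  rw [mt_mul, hPQR, ← Matrix.mul_assoc, mt_inv_mul, Matrix.one_mul]

include hb in
/-- (O2) the whole root group `{E(e_1, t w, c)}`. PROOF: `S := {t | ∃ c, valid ∧ HasM L (E(e_1, t w, c))}` is closed
under addition and negation and under multiplication by `(bar κ)⁻¹` (conjugation by `h`), hence by all nonzero scalars
(`x = κ^j`), so `S = K`. The centre: `[E(e_1, t w, c), E(e_1, w, c')] = E(e_1, 0, t - bar t)` and every `ζ` with
`ζ + bar ζ = 0` is `t - bar t` for `t = ζ s₀ / (s₀ - bar s₀)`. -/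
theorem o2_piece (a : Fin r) {h : SUk} {κ : K} (hh : IsTor bar h κ) (hκ0 : κ ≠ 0)
    (hgen : ∀ x : K, x ≠ 0 → ∃ j : ℕ, x = κ ^ j) {s₀ : K} (hs₀ : bar s₀ ≠ s₀)
    (L : Subgroup SUk) (hhL : h ∈ L) {t₂ c₂ : K} (ht₂ : t₂ ≠ 0) (hc₂ : c₂ + bar c₂ + t₂ * bar t₂ = 0)
    (h1 : HasM bar L (eichM bar (vE i1) (t₂ • vW a) c₂)) : RGw bar L (vE i1) a := by
  have huu : hf bar (vE i1 : Vec) (vE i1) = 0 := hf_bv_ee bar _ _
  have hwu : ∀ t : K, hf bar (t • (vW a : Vec)) (vE i1) = 0 := by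
    intro t
    rw [hf_smul_left]
    unfold vW vE
    rw [hf_bv_we, mul_zero]
  have hww : ∀ t t' : K, hf bar (t • (vW a : Vec)) (t' • vW a) = t * bar t' := by
    intro t t'
    rw [hf_smul_left, hf_smul_right]
    unfold vW
    rw [hf_bv_ww, if_pos rfl, mul_one]
  have h0u : hf bar (0 : Vec) (vE i1) = 0 := hf_zero_left bar _
  have hbκ : bar κ ≠ 0 := fun h0 => hκ0 (by rw [← hb κ, h0, map_zero])
  have hM : HasM bar L (mt bar h) := hasM_mt bar hhL
  -- conjugation by `h`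
  have step : ∀ t c : K, c + bar c + t * bar t = 0 → HasM bar L (eichM bar (vE i1) (t • vW a) c) →
      ∃ c' : K, c' + bar c' + ((bar κ)⁻¹ * t) * bar ((bar κ)⁻¹ * t) = 0 ∧
        HasM bar L (eichM bar (vE i1) (((bar κ)⁻¹ * t) • vW a) c') := by
    intro t c hc hE
    have h2 := hasM_conj_eichM bar L hM hE
    have e1 : mt bar h *ᵥ (vE i1 : Vec) = κ⁻¹ • vE i1 := hh.e1
    have e2 : mt bar h *ᵥ (t • (vW a : Vec)) = t • vW a := by
      rw [Matrix.mulVec_smul]
      congr 1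
      exact hh.w_fix a
    rw [e1, e2, eichM_smul_left bar hb, smul_smul, map_inv₀] at h2
    refine ⟨_, ?_, h2⟩
    simp only [map_mul, map_inv₀, hb]
    linear_combination (κ⁻¹ * (bar κ)⁻¹) * hc
  have stepj : ∀ j : ℕ, ∃ c' : K, c' + bar c' + (((bar κ)⁻¹) ^ j * t₂) * bar (((bar κ)⁻¹) ^ j * t₂) = 0 ∧
      HasM bar L (eichM bar (vE i1) ((((bar κ)⁻¹) ^ j * t₂) • vW a) c') := by
    intro j
    induction j with
    | zero =>
      refine ⟨c₂, ?_, ?_⟩
      · rw [pow_zero, one_mul]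
        exact hc₂
      · rw [pow_zero, one_mul]
        exact h1
    | succ j ih =>
      obtain ⟨c, hc, hE⟩ := ih
      obtain ⟨c', hc', hE'⟩ := step _ c hc hE
      have e : (bar κ)⁻¹ * (((bar κ)⁻¹) ^ j * t₂) = ((bar κ)⁻¹) ^ (j + 1) * t₂ := by ring
      rw [e] at hc' hE'
      exact ⟨c', hc', hE'⟩
  -- every `t` occurs
  have hS : ∀ t : K, ∃ c : K, c + bar c + t * bar t = 0 ∧ HasM bar L (eichM bar (vE i1) (t • vW a) c) := by
    intro t
    by_cases ht : t = 0
    · refine ⟨0, ?_, ?_⟩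
      · rw [ht, map_zero]
        ring
      · rw [ht, zero_smul, eichM_zero_zero]
        exact HasM.one bar L
    · have hy : bar ((t / t₂)⁻¹) ≠ 0 := by
        intro h0
        have : (t / t₂)⁻¹ = 0 := by rw [← hb ((t / t₂)⁻¹), h0, map_zero]
        exact inv_ne_zero (div_ne_zero ht ht₂) this
      obtain ⟨j, hj⟩ := hgen _ hy
      have hy2 : (t / t₂)⁻¹ = (bar κ) ^ j := by
        rw [← hb ((t / t₂)⁻¹), hj, map_pow]
      have hy3 : t = ((bar κ)⁻¹) ^ j * t₂ := by
        have : t / t₂ = ((bar κ)⁻¹) ^ j := by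
          rw [inv_pow, ← hy2, inv_inv]
        rw [← this]
        field_simp
      obtain ⟨c, hc, hE⟩ := stepj j
      rw [← hy3] at hc hE
      exact ⟨c, hc, hE⟩
  -- the centre
  have hZ : ∀ ζ : K, ζ + bar ζ = 0 → HasM bar L (eichM bar (vE i1) 0 ζ) := by
    intro ζ hζ
    have hd : s₀ - bar s₀ ≠ 0 := fun h0 => hs₀ (sub_eq_zero.mp h0).symm
    obtain ⟨t, ht⟩ : ∃ t : K, t = ζ * s₀ / (s₀ - bar s₀) := ⟨_, rfl⟩
    have htt : t - bar t = ζ := by
      have hbζ : bar ζ = -ζ := by linear_combination hζ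
      have hd' : bar s₀ - s₀ ≠ 0 := fun h0 => hs₀ (sub_eq_zero.mp h0)
      rw [ht, map_div₀, map_mul, map_sub, hb, hbζ]
      field_simp
      ring
    obtain ⟨c, hc, hA⟩ := hS t
    obtain ⟨c', hc', hB⟩ := hS 1
    have hAB := (hA.mul bar hB).of_eq bar (eichM_mul bar hb c c' huu (hwu t) (hwu 1))
    have hBA := (hB.mul bar hA).of_eq bar (eichM_mul bar hb c' c huu (hwu 1) (hwu t))
    refine hasM_of_mul_eq bar hAB hBA ?_
    rw [eichM_mul bar hb _ _ huu (by rw [hf_add_left, hwu, hwu, add_zero]) h0u, hf_zero_left, hww, hww,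
      map_one, add_zero]
    congr 1
    · exact add_comm _ _
    · linear_combination htt
  -- conclusion
  intro t c hc
  obtain ⟨c₁, hc₁, hE⟩ := hS t
  have hζ : (c - c₁) + bar (c - c₁) = 0 := by
    rw [map_sub]
    linear_combination hc - hc₁
  have h3 := (hE.mul bar (hZ _ hζ)).of_eq bar (eichM_mul bar hb c₁ (c - c₁) huu (hwu t) h0u)
  refine h3.of_eq bar ?_
  rw [add_zero, hf_zero_left]
  congr 1
  ring

end Cfsg.Agent.Helper24.SU2G
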