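-- helper24: piece (ORB1) for helper38's S2412 (PSU_n(q) is generated by two elements):
-- the orbit of the root group `{E(e_1, t w_a, c)}` under the Coxeter element.
import Mathlib
import Cfsg.Agent.Helper38.SU2G.Defs

set_option autoImplicit false
set_option linter.unusedSectionVars false

namespace Cfsg.Agent.Helper24.SU2G

open Matrix Cfsg.Agent.Helper84.PSU Cfsg.Agent.Helper38.SU2G

variable {K : Type*} [Field K] {m r : ℕ}

local notation "Vec" => (I (m + 2) r → K)
local notation "Mat" => Matrix (I (m + 2) r) (I (m + 2) r) K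

variable (bar : K →+* K) (hb : ∀ x, bar (bar x) = x)

set_option quotPrecheck false in
local notation "SUk" => ↥(SUm (m + 2) r bar)

include hb in
/-- (ORB1) PROOF: `RGw.transport` along `n`: `e_1 ↦ e_2 ↦ ... ↦ e_last ↦ μ f_0 ↦ f_1 ↦ ... ↦ f_last ↦ ν e_0 ↦ e_1`. -/
theorem orb1_piece (a : Fin r) {n : SUk} {μ ν : K} (hn : IsCox bar n μ ν) (L : Subgroup SUk) (hnL : n ∈ L)
    (h0 : RGw bar L (vE i1) a) : (∀ i : Fin (m + 2), RGw bar L (vE i) a) ∧ (∀ i : Fin (m + 2), RGw bar L (vF i) a) := by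
  have hM : HasM bar L (mt bar n) := hasM_mt bar hnL
  have hw : mt bar n *ᵥ (vW a : Vec) = vW a := hn.w_fix a
  -- the `e_i`, `i ≥ 1`
  have hA : ∀ (k : ℕ) (hk : k + 1 < m + 2), RGw bar L (vE (⟨k + 1, hk⟩ : Fin (m + 2))) a := by
    intro k
    induction k with
    | zero => intro hk; exact h0
    | succ k ih =>
      intro hk
      have h1 := ih (by omega)
      have hu : mt bar n *ᵥ (vE (⟨k + 1, by omega⟩ : Fin (m + 2)) : Vec) =
          (1 : K) • vE (⟨k + 1 + 1, hk⟩ : Fin (m + 2)) := by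
        rw [one_smul]
        exact hn.e_succ ⟨k + 1, by omega⟩ hk
      exact RGw.transport bar hb h1 hM hu hw one_ne_zero
  have hEl : RGw bar L (vE (il : Fin (m + 2))) a := hA m (by omega)
  have hF0 : RGw bar L (vF (i0 : Fin (m + 2))) a :=
    RGw.transport bar hb hEl hM (hn.e_last) hw hn.hμ
  have hB : ∀ (k : ℕ) (hk : k < m + 2), RGw bar L (vF (⟨k, hk⟩ : Fin (m + 2))) a := by
    intro k
    induction k with
    | zero => intro hk; exact hF0
    | succ k ih =>
      intro hk
      have h1 := ih (by omega)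
      have hu : mt bar n *ᵥ (vF (⟨k, by omega⟩ : Fin (m + 2)) : Vec) =
          (1 : K) • vF (⟨k + 1, hk⟩ : Fin (m + 2)) := by
        rw [one_smul]
        exact hn.f_succ ⟨k, by omega⟩ hk
      exact RGw.transport bar hb h1 hM hu hw one_ne_zero
  have hFl : RGw bar L (vF (il : Fin (m + 2))) a := hB (m + 1) (by omega)
  have hE0 : RGw bar L (vE (i0 : Fin (m + 2))) a :=
    RGw.transport bar hb hFl hM (hn.f_last) hw hn.hν
  refine ⟨?_, ?_⟩
  · rintro ⟨i, hi⟩
    rcases Nat.eq_zero_or_pos i with h | h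
    · subst h
      exact hE0
    · obtain ⟨k, rfl⟩ : ∃ k, i = k + 1 := ⟨i - 1, by omega⟩
      exact hA k hi
  · rintro ⟨i, hi⟩
    exact hB i hi

end Cfsg.Agent.Helper24.SU2G
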