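-- helper24: piece G3 (`sese_eq`, `seso_eq`) for helper78's S5544 (Sakuma's theorem, Majorana setting).
-- The conclusions of the earlier chain lemmas (stage_one, g_eq, h_eq, gram_s, gram_se and the mirrored
-- gram_se = `gram_se T.flip`) are taken as explicit hypotheses, verbatim from the skeleton.
import Mathlib
import Cfsg.Agent.Helper78.Sak.Defs

set_option autoImplicit false

namespace Cfsg.Agent.Helper24.Sak

open Cfsg.Axial Cfsg.Agent.Helper78.Sak

variable {V : Type*} [AddCommGroup V] [Module ℝ V]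
variable {mul : V →ₗ[ℝ] V →ₗ[ℝ] V} {B : LinearMap.BilinForm ℝ V}

section chain
variable {lam f : ℝ} {a0 a1 am1 a2 am2 a3 s se so : V}

/-- Piece G3 : `B se se`; `hh` is the conclusion of `h_eq T`, `hgse` the conclusion of `gram_se T`. -/
theorem sese_eq (T : Tab mul B lam f a0 a1 am1 a2 am2 a3 s se so)
    (hh : B a2 am2 = hP lam f)
    (hgse : B se a0 = (31 * f - 1) / 32 ∧ B se a2 = (31 * f - 1) / 32 ∧ B se am2 = (31 * f - 1) / 32 ∧
      B se a1 = (30 * lam + f - 1) / 32 ∧ B se am1 = (30 * lam + f - 1) / 32 ∧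
      B se a3 = (30 * lam + f - 1) / 32) : B se se = seseP lam f := by
  obtain ⟨e0, e2, -, -, -, -⟩ := hgse
  have hse : se = mul a0 a2 - (1 / 32 : ℝ) • (a0 + a2) := by
    rw [T.h0.p02, add_sub_cancel_right]
  have h1 : B se (mul a0 a2) = B (mul a0 se) a2 := by
    rw [T.amb.assoc, T.amb.comm se a0]
  have h2 : B se se = B se (mul a0 a2) - (1 / 32) * (B se a0 + B se a2) := by
    have h := congrArg (fun v => B se v) hse
    simp only [map_sub, map_smul, map_add, smul_eq_mul] at h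
    exact h
  have h3 : B (mul a0 se) a2 =
      (7 / 32) * B se a2 + (3 / 4 * f - 25 / 1024) * B a0 a2 + (7 / 2048) * (B a2 a2 + B am2 a2) := by
    rw [T.h0.p0se]
    simp only [map_add, map_smul, LinearMap.add_apply, LinearMap.smul_apply, smul_eq_mul]
  have h4 : B am2 a2 = hP lam f := by rw [T.amb.symm, hh]
  rw [h2, h1, h3, e0, e2, T.h0.f02, T.h1.nm1, h4]
  unfold seseP hP
  ring

/-- Piece G3 : `B se so`; `hX` is the first conclusion of `stage_one T`, `hg`, `hh` the conclusions of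
`g_eq T`, `h_eq T`, `hgs`, `hgse`, `hgso` the conclusions of `gram_s T`, `gram_se T`, `gram_se T.flip`. -/
theorem seso_eq (T : Tab mul B lam f a0 a1 am1 a2 am2 a3 s se so)
    (hX : mul a0 so = Xrhs lam f a0 a1 am1 a2 am2 s se)
    (hg : B a0 a3 = gP lam f) (hh : B a2 am2 = hP lam f)
    (hgs : B s a0 = (31 * lam - 1) / 32 ∧ B s a1 = (31 * lam - 1) / 32 ∧ B s am1 = (31 * lam - 1) / 32 ∧
      B s a2 = (31 * lam - 1) / 32 ∧ B s am2 = (31 * lam - 1) / 32 ∧
      B s a3 = (31 * lam - 1) / 32)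
    (hgse : B se a0 = (31 * f - 1) / 32 ∧ B se a2 = (31 * f - 1) / 32 ∧ B se am2 = (31 * f - 1) / 32 ∧
      B se a1 = (30 * lam + f - 1) / 32 ∧ B se am1 = (30 * lam + f - 1) / 32 ∧
      B se a3 = (30 * lam + f - 1) / 32)
    (hgso : B so a1 = (31 * f - 1) / 32 ∧ B so am1 = (31 * f - 1) / 32 ∧ B so a3 = (31 * f - 1) / 32 ∧
      B so a0 = (30 * lam + f - 1) / 32 ∧ B so a2 = (30 * lam + f - 1) / 32 ∧
      B so am2 = (30 * lam + f - 1) / 32) : B se so = sesoP lam f := by
  obtain ⟨-, -, -, s2, -, -⟩ := hgs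
  obtain ⟨-, e2, -, -, -, -⟩ := hgse
  obtain ⟨-, -, -, o0, o2, -⟩ := hgso
  have hse : se = mul a0 a2 - (1 / 32 : ℝ) • (a0 + a2) := by
    rw [T.h0.p02, add_sub_cancel_right]
  have h1 : B so (mul a0 a2) = B (mul a0 so) a2 := by
    rw [T.amb.assoc, T.amb.comm so a0]
  have h2 : B se so = B so (mul a0 a2) - (1 / 32) * (B so a0 + B so a2) := by
    rw [T.amb.symm se so]
    have h := congrArg (fun v => B so v) hse
    simp only [map_sub, map_smul, map_add, smul_eq_mul] at h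
    exact h
  have h3 : B (mul a0 so) a2 =
      (7/6144 : ℝ) * B am2 a2 + ((-19/3072) + 1/6*lam : ℝ) * B am1 a2
        + ((-127/3072) + (-1/24)*f + 5/3*lam + (-32/3)*lam^2 : ℝ) * B a0 a2
        + ((-19/3072) + 1/6*lam : ℝ) * B a1 a2 + (7/6144 : ℝ) * B a2 a2
        + ((-19/48) + 32/3*lam : ℝ) * B s a2 + (7/96 : ℝ) * B se a2 := by
    rw [hX]
    unfold Xrhs
    simp only [map_add, map_smul, LinearMap.add_apply, LinearMap.smul_apply, smul_eq_mul]
  have h4 : B am2 a2 = hP lam f := by rw [T.amb.symm, hh]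
  have h5 : B am1 a2 = gP lam f := by rw [T.h0.g1, hg]
  rw [h2, h1, h3, o0, o2, h4, h5, T.h0.f02, T.h1.l0m1, T.h1.nm1, s2, e2]
  unfold sesoP hP gP
  ring

end chain

end Cfsg.Agent.Helper24.Sak
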