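import Mathlib
import Cfsg.Agent.Helper88.SimsD.Defs

/-!
# S2772 (helper88's farm), piece (IDX): Thompson replacement, baby case
-/

set_option autoImplicit false

namespace Cfsg.Agent.Helper24.SimsD

open Cfsg.Agent.Helper88.SimsD

/-- `|K : H| * |H| = |K|` for `H ≤ K`. -/
theorem IDX_relIndex_mul_card {Γ : Type*} [Group Γ] {H K : Subgroup Γ} (h : H ≤ K) :
    H.relIndex K * Nat.card H = Nat.card K := by
  have := Subgroup.relIndex_mul_relIndex (⊥ : Subgroup Γ) H K bot_le h
  rw [Subgroup.relIndex_bot_left, Subgroup.relIndex_bot_left] at this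
  rw [mul_comm]; exact this

/-- (IDX) Thompson replacement, baby case.  `A` abelian of largest order in `S`, `|S : Q| = 2`,
`V ≤ Z(Q)`: then `|V : V ∩ A| ≤ 2`.
Proof: `B = V (A ∩ Q)` is abelian, `|B| |V ∩ A| ≥ |V| |A ∩ Q|`, `|B| ≤ |A| ≤ 2 |A ∩ Q|`. -/
theorem card_le_two_mul_inf {Γ : Type*} [Group Γ] [Finite Γ] (S Q A V : Subgroup Γ)
    (hQS : Q ≤ S) (hidx : Q.relIndex S = 2) (hVQ : V ≤ Q)
    (hAS : A ≤ S) (hA : IsMulCommutative A)
    (hmax : ∀ B : Subgroup Γ, B ≤ S → IsMulCommutative B → Nat.card B ≤ Nat.card A)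
    (hV : IsMulCommutative V) (hVc : ∀ v ∈ V, ∀ y ∈ Q, y * v = v * y) :
    Nat.card V ≤ 2 * Nat.card (V ⊓ A : Subgroup Γ) := by
  set K : Subgroup Γ := A ⊓ Q with hK
  set B : Subgroup Γ := V ⊔ K with hB
  have hKS : K ≤ S := inf_le_left.trans hAS
  have hBS : B ≤ S := sup_le (hVQ.trans hQS) hKS
  -- `B` is abelian
  have hVV : V ≤ Subgroup.centralizer (V : Set Γ) :=
    Subgroup.le_centralizer_iff_isMulCommutative.mpr hV
  have hAA : A ≤ Subgroup.centralizer (A : Set Γ) :=
    Subgroup.le_centralizer_iff_isMulCommutative.mpr hA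
  have hKK : K ≤ Subgroup.centralizer (K : Set Γ) := by
    intro k hk
    rw [Subgroup.mem_centralizer_iff]
    intro y hy
    have := hAA hk.1
    rw [Subgroup.mem_centralizer_iff] at this
    exact this y hy.1
  have hKV : K ≤ Subgroup.centralizer (V : Set Γ) := by
    intro k hk
    rw [Subgroup.mem_centralizer_iff]
    intro v hv
    exact (hVc v hv k hk.2).symm
  have hVK : V ≤ Subgroup.centralizer (K : Set Γ) := Subgroup.le_centralizer_iff.mp hKV
  have hBab : IsMulCommutative B := by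
    rw [← Subgroup.le_centralizer_iff_isMulCommutative]
    refine sup_le ?_ ?_
    · exact Subgroup.le_centralizer_iff.mp (sup_le hVV hKV)
    · exact Subgroup.le_centralizer_iff.mp (sup_le hVK hKK)
  have h1 : Nat.card B ≤ Nat.card A := hmax B hBS hBab
  -- `|A| ≤ 2 |K|`
  have h2 : Nat.card A ≤ 2 * Nat.card K := by
    have hle : Q.relIndex A ≤ Q.relIndex S :=
      Subgroup.relIndex_le_of_le_right hAS (by rw [hidx]; norm_num)
    have h3 : (A ⊓ Q).relIndex A * Nat.card (A ⊓ Q : Subgroup Γ) = Nat.card A :=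
      IDX_relIndex_mul_card inf_le_left
    rw [inf_comm, Subgroup.inf_relIndex_right, inf_comm] at h3
    rw [← h3]
    have : Q.relIndex A ≤ 2 := hidx ▸ hle
    exact Nat.mul_le_mul_right _ this
  -- `|V| |K| ≤ |B| |K ⊓ V|`
  have hKB : K ≤ B := le_sup_right
  have hVB : V ≤ B := le_sup_left
  have hBne : K.relIndex B ≠ 0 := by
    intro h0
    have := IDX_relIndex_mul_card hKB
    rw [h0, zero_mul] at this
    exact (Nat.card_pos (α := B)).ne this
  have h4 : K.relIndex V ≤ K.relIndex B := Subgroup.relIndex_le_of_le_right hVB hBne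
  have h5 : K.relIndex V * Nat.card (K ⊓ V : Subgroup Γ) = Nat.card V := by
    have := IDX_relIndex_mul_card (inf_le_right : K ⊓ V ≤ V)
    rwa [Subgroup.inf_relIndex_right] at this
  have h6 : K.relIndex B * Nat.card K = Nat.card B := IDX_relIndex_mul_card hKB
  have hKVeq : (K ⊓ V : Subgroup Γ) = V ⊓ A := by
    rw [hK]
    apply le_antisymm
    · exact le_inf inf_le_right (inf_le_left.trans inf_le_left)
    · exact le_inf (le_inf inf_le_right (inf_le_left.trans hVQ)) inf_le_left
  rw [hKVeq] at h5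
  have hKpos : 0 < Nat.card K := Nat.card_pos
  -- combine
  have h7 : Nat.card V * Nat.card K ≤ 2 * Nat.card (V ⊓ A : Subgroup Γ) * Nat.card K := by
    calc Nat.card V * Nat.card K
        = K.relIndex V * Nat.card (V ⊓ A : Subgroup Γ) * Nat.card K := by rw [h5]
      _ ≤ K.relIndex B * Nat.card (V ⊓ A : Subgroup Γ) * Nat.card K :=
          Nat.mul_le_mul_right _ (Nat.mul_le_mul_right _ h4)
      _ = (K.relIndex B * Nat.card K) * Nat.card (V ⊓ A : Subgroup Γ) := by ring
      _ = Nat.card B * Nat.card (V ⊓ A : Subgroup Γ) := by rw [h6]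
      _ ≤ (2 * Nat.card K) * Nat.card (V ⊓ A : Subgroup Γ) :=
          Nat.mul_le_mul_right _ (h1.trans h2)
      _ = 2 * Nat.card (V ⊓ A : Subgroup Γ) * Nat.card K := by ring
  exact Nat.le_of_mul_le_mul_right h7 hKpos

end Cfsg.Agent.Helper24.SimsD
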