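import Mathlib
import Cfsg.Agent.Helper88.SimsD.Defs

/-!
# S2772 (helper88's farm), piece (ORB): elements of prime order `q ≥ 5` centralize `V`
when `|V : C_V(Γ)| ≤ 4`
-/

set_option autoImplicit false

namespace Cfsg.Agent.Helper24.SimsD

open Cfsg.Agent.Helper88.SimsD

/-- (ORB) elements killed by a prime `q ≥ 5` centralize `V` when `|V : C_V(Γ)| ≤ 4`.
Proof: two of the five conjugates `x^i v x^-i`, `i < 5`, lie in the same coset of `U`; so
`x^k v x^-k = v u` with `0 < k < 5`, `u ∈ U`; then `v = x^(kq) v x^-(kq) = v u^q`, so `u = 1`. -/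
theorem commute_of_card_le_four {Γ : Type*} [Group Γ] [Finite Γ] (V U : Subgroup Γ) [V.Normal]
    (hUV : U ≤ V) (hUc : ∀ u ∈ U, ∀ x : Γ, x * u = u * x) (hV2 : ∀ v ∈ V, v ^ 2 = 1)
    (hidx : Nat.card V ≤ 4 * Nat.card U) (q : ℕ) (hq : q.Prime) (hq5 : 5 ≤ q)
    (x : Γ) (hx : x ^ q = 1) : ∀ v ∈ V, x * v = v * x := by
  intro v hv
  have hVn : V.Normal := inferInstance
  have hconj : ∀ i : ℕ, x ^ i * v * (x ^ i)⁻¹ ∈ V := fun i => hVn.conj_mem v hv _
  -- the quotient `V / U` has at most four elements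
  have hcardQ : Nat.card (V ⧸ U.subgroupOf V) ≤ 4 := by
    have h1 := Subgroup.card_mul_index (U.subgroupOf V)
    have h2 : Nat.card (U.subgroupOf V) = Nat.card U :=
      Nat.card_congr (Subgroup.subgroupOfEquivOfLe hUV).toEquiv
    rw [h2, Subgroup.index_eq_card] at h1
    have hUpos : 0 < Nat.card U := Nat.card_pos
    by_contra hcon
    push Not at hcon
    have : 5 * Nat.card U ≤ Nat.card U * Nat.card (V ⧸ U.subgroupOf V) := by
      rw [mul_comm]; exact Nat.mul_le_mul_left _ hcon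
    omega
  -- pigeonhole
  let f : Fin 5 → V ⧸ U.subgroupOf V := fun i =>
    QuotientGroup.mk ⟨x ^ (i : ℕ) * v * (x ^ (i : ℕ))⁻¹, hconj i⟩
  let _ : Fintype (V ⧸ U.subgroupOf V) := Fintype.ofFinite _
  have hlt : Fintype.card (V ⧸ U.subgroupOf V) < Fintype.card (Fin 5) := by
    rw [← Nat.card_eq_fintype_card, Fintype.card_fin]; omega
  obtain ⟨i, j, hij, hfij⟩ := Fintype.exists_ne_map_eq_of_card_lt f hlt
  -- wlog `i < j`
  have key : ∀ i j : Fin 5, (i : ℕ) < j → f i = f j →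
      ∃ k : ℕ, 0 < k ∧ k < 5 ∧ ∃ u ∈ U, x ^ k * v * (x ^ k)⁻¹ = v * u := by
    intro i j hlt' hf
    have hmem : (⟨x ^ (i : ℕ) * v * (x ^ (i : ℕ))⁻¹, hconj i⟩ : V)⁻¹ *
        ⟨x ^ (j : ℕ) * v * (x ^ (j : ℕ))⁻¹, hconj j⟩ ∈ U.subgroupOf V :=
      QuotientGroup.eq.mp hf
    rw [Subgroup.mem_subgroupOf] at hmem
    simp only [Subgroup.coe_mul, Subgroup.coe_inv] at hmem
    set w : Γ := (x ^ (i : ℕ) * v * (x ^ (i : ℕ))⁻¹)⁻¹ * (x ^ (j : ℕ) * v * (x ^ (j : ℕ))⁻¹)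
      with hw
    refine ⟨(j : ℕ) - i, by omega, by have := j.isLt; omega, w, hmem, ?_⟩
    have hjk : x ^ (j : ℕ) = x ^ (i : ℕ) * x ^ ((j : ℕ) - i) := by
      rw [← pow_add]; congr 1; omega
    have hcomm := hUc w hmem (x ^ (i : ℕ))
    -- `w = x^i (v⁻¹ x^k v x^-k) x^-i` and `w` is central
    have hw' : w = x ^ (i : ℕ) * (v⁻¹ * (x ^ ((j : ℕ) - i) * v * (x ^ ((j : ℕ) - i))⁻¹)) *
        (x ^ (i : ℕ))⁻¹ := by
      rw [hw, hjk]; group
    have : v⁻¹ * (x ^ ((j : ℕ) - i) * v * (x ^ ((j : ℕ) - i))⁻¹) = w := by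
      have h3 : (x ^ (i : ℕ))⁻¹ * w * x ^ (i : ℕ) =
          v⁻¹ * (x ^ ((j : ℕ) - i) * v * (x ^ ((j : ℕ) - i))⁻¹) := by
        rw [hw']; group
      rw [← h3, mul_assoc, ← hcomm, ← mul_assoc, inv_mul_cancel, one_mul]
    rw [← this]; group
  obtain ⟨k, hk0, hk5, u, hu, hku⟩ : ∃ k : ℕ, 0 < k ∧ k < 5 ∧ ∃ u ∈ U,
      x ^ k * v * (x ^ k)⁻¹ = v * u := by
    rcases lt_or_gt_of_ne (fun h => hij (Fin.ext h) : (i : ℕ) ≠ j) with h | h
    · exact key i j h hfij
    · exact key j i h hfij.symm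
  -- iterate
  have hiter : ∀ n : ℕ, x ^ (k * n) * v * (x ^ (k * n))⁻¹ = v * u ^ n := by
    intro n
    induction n with
    | zero => simp
    | succ n ih =>
      have hun : ∀ y : Γ, y * u ^ n = u ^ n * y := fun y =>
        ((Commute.pow_right (hUc u hu y : Commute y u) n)).eq
      have e1 : x ^ (k * (n + 1)) = x ^ k * x ^ (k * n) := by
        rw [← pow_add]; congr 1; ring
      calc x ^ (k * (n + 1)) * v * (x ^ (k * (n + 1)))⁻¹
          = x ^ k * (x ^ (k * n) * v * (x ^ (k * n))⁻¹) * (x ^ k)⁻¹ := by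
            rw [e1, mul_inv_rev]; simp only [mul_assoc]
        _ = x ^ k * (v * u ^ n) * (x ^ k)⁻¹ := by rw [ih]
        _ = (x ^ k * v * (x ^ k)⁻¹) * u ^ n := by
            rw [mul_assoc (x ^ k * v), hun ((x ^ k)⁻¹)]; simp only [mul_assoc]
        _ = v * u ^ (n + 1) := by rw [hku, mul_assoc, ← pow_succ']
  have huq : u ^ q = 1 := by
    have h := hiter q
    rw [pow_mul', hx, one_pow, one_mul, inv_one, mul_one] at h
    exact (mul_eq_left.mp h.symm)
  have hu2 : u ^ 2 = 1 := hV2 u (hUV hu)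
  have hu1 : u = 1 := by
    have hodd : q % 2 = 1 := by
      rcases hq.eq_two_or_odd with h | h
      · omega
      · exact h
    have : u ^ q = u ^ (q % 2) := pow_eq_pow_mod q hu2
    rw [hodd, pow_one] at this
    rw [← this]; exact huq
  rw [hu1, mul_one] at hku
  have hck : Commute (x ^ k) v := by
    have : x ^ k * v = v * x ^ k := by
      calc x ^ k * v = x ^ k * v * (x ^ k)⁻¹ * x ^ k := by group
        _ = v * x ^ k := by rw [hku]
    exact this
  -- `x` is a power of `x ^ k`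
  have hcop : Nat.Coprime k q := by
    rw [Nat.coprime_comm]
    exact (Nat.Prime.coprime_iff_not_dvd hq).mpr
      (fun hdvd => by have := Nat.le_of_dvd hk0 hdvd; omega)
  obtain ⟨m, -, hm⟩ := Nat.exists_mul_mod_eq_one_of_coprime hcop hq.one_lt
  have hxm : (x ^ k) ^ m = x := by
    rw [← pow_mul, pow_eq_pow_mod (k * m) hx, hm, pow_one]
  have := hck.pow_left m
  rw [hxm] at this
  exact this.eq

end Cfsg.Agent.Helper24.SimsD
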