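import Mathlib
import Cfsg.Agent.Helper86.Spec4.DefsU

/-!
# Helper24 / piece (R2) for helper86's S2511: case B arithmetic
-/

set_option autoImplicit false
set_option linter.unusedVariables false

namespace Cfsg.Agent.Helper24.Spec4U

open Matrix Polynomial Cfsg.Agent.Helper86.Spec4

/-- the number identity behind (R2) -/
theorem arith_B_key (q d a : ℕ) (hq : 2 ≤ q) :
    NU q (2 * d * a) / (q + 1) =
      (((q ^ 2) ^ d - 1) / (q ^ 2 - 1)) *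
        ((q - 1) * ∑ i ∈ Finset.range a, ((q ^ 2) ^ d) ^ i) := by
  have hQ2 : 2 ≤ q ^ 2 := by nlinarith
  have hev : Even (2 * d * a) := ⟨d * a, by ring⟩
  have hNU : NU q (2 * d * a) = ((q ^ 2) ^ d) ^ a - 1 := by
    unfold NU
    rw [if_pos hev, ← pow_mul, ← pow_mul, mul_assoc]
  obtain ⟨C, hC⟩ : ∃ C, C = ((q ^ 2) ^ d - 1) / (q ^ 2 - 1) := ⟨_, rfl⟩
  obtain ⟨S, hS⟩ : ∃ S, S = ∑ i ∈ Finset.range a, ((q ^ 2) ^ d) ^ i := ⟨_, rfl⟩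
  rw [← hC, ← hS]
  have h3 : C * (q ^ 2 - 1) = (q ^ 2) ^ d - 1 := by
    rw [hC, ← Nat.geomSum_eq hQ2 d]
    exact geom_sum_mul_of_one_le (by omega) d
  have h4 : S * ((q ^ 2) ^ d - 1) = ((q ^ 2) ^ d) ^ a - 1 := by
    rw [hS]
    exact geom_sum_mul_of_one_le (Nat.one_le_pow _ _ (by omega)) a
  have h5 : q ^ 2 - 1 = (q - 1) * (q + 1) := by
    obtain ⟨r, rfl⟩ : ∃ r, q = r + 1 := ⟨q - 1, by omega⟩
    rw [Nat.add_sub_cancel]
    apply Nat.sub_eq_of_eq_add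
    ring
  have hN : NU q (2 * d * a) = (C * ((q - 1) * S)) * (q + 1) := by
    rw [hNU, ← h4, ← h3, h5]
    ring
  rw [hN, Nat.mul_div_cancel _ (by omega)]

/-- (R2) case B arithmetic: `ν = ξ^((Q^d-1)/(Q-1))` satisfies `ν^(q^2) = ν` and `(ν^(q-1))^a = 1`. -/
theorem arith_B {M : Type*} [CommMonoid M] (q d a : ℕ) (hq : 2 ≤ q) (hd : 1 ≤ d) (ha : 1 ≤ a) (ξ : M)
    (h1 : (ξ ^ (((q ^ 2) ^ d - 1) / (q ^ 2 - 1))) ^ (q ^ 2) = ξ ^ (((q ^ 2) ^ d - 1) / (q ^ 2 - 1)))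
    (h2 : ((ξ ^ (((q ^ 2) ^ d - 1) / (q ^ 2 - 1))) ^ (q - 1)) ^ a = 1) :
    ξ ^ (NU q (2 * d * a) / (q + 1)) = 1 := by
  rw [arith_B_key q d a hq, pow_mul, pow_mul]
  generalize ξ ^ (((q ^ 2) ^ d - 1) / (q ^ 2 - 1)) = ν at h1 h2 ⊢
  have hμQ : (ν ^ (q - 1)) ^ (q ^ 2) = ν ^ (q - 1) := by
    rw [← pow_mul, mul_comm, pow_mul, h1]
  generalize ν ^ (q - 1) = μ at h2 hμQ ⊢
  have hμpow : ∀ j : ℕ, μ ^ ((q ^ 2) ^ j) = μ := by
    intro j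
    induction j with
    | zero => rw [pow_zero, pow_one]
    | succ j ih => rw [pow_succ, pow_mul, ih, hμQ]
  rw [← Finset.prod_pow_eq_pow_sum]
  have h7 : ∀ i ∈ Finset.range a, μ ^ (((q ^ 2) ^ d) ^ i) = μ := by
    intro i _
    rw [← pow_mul]
    exact hμpow _
  rw [Finset.prod_congr rfl h7, Finset.prod_const, Finset.card_range, h2]

end Cfsg.Agent.Helper24.Spec4U
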