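import Cfsg.Agent.Helper6.SzChar0
import Cfsg.Agent.Helper79.Linear

/-!
# Helper24 / pieces [MI1] szc_lin_hom and [MI2] szc_lin_real for helper6's S4775
-/

set_option autoImplicit false
set_option linter.unusedSectionVars false
set_option linter.unusedVariables false

namespace Cfsg.Agent.Helper24.Szc

open Cfsg Cfsg.Agent.Helper6
open scoped ComplexConjugate

universe u

section Main

variable {G : Type u} [Group G] [Fintype G] {Q H B K₁ K₂ : Subgroup G} {w : G} {T : ℕ}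
  [Fintype ↥B]

/-- MI1: an irreducible character of `B` trivial on `Q` is a homomorphism -/
theorem szc_lin_hom (D : SzHyp Q H B K₁ K₂ w T) {Θ Ψ₁ Ψ₂ : ↥B → ℂ}
    (I : FrobIrr (Q.subgroupOf B) T Θ Ψ₁ Ψ₂) (β : ↥B → ℂ) (hβ : IsIrrCharacter ↥B β)
    (hQ : ∀ n : ↥B, (n : G) ∈ Q → β n = β 1) :
    ∃ l : ↥B →* ℂ, (∀ b, l b = β b) ∧ ∀ x : ↥B, (x : G) ∈ Q → l x = 1 := by
  have h1 : β 1 = 1 := I.lin β hβ (fun n hn => hQ n (Subgroup.mem_subgroupOf.mp hn))
  have hchar : IsCharacter ↥B β := Cfsg.Agent.Helper74.isCharacter_of_isIrr hβ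
  refine ⟨Cfsg.Agent.Helper79.linearHom hchar h1, fun b => rfl, fun x hx => ?_⟩
  rw [Cfsg.Agent.Helper79.linearHom_apply, hQ x hx, h1]

/-- a real number with an odd power equal to `1` is `1` -/
theorem real_eq_one_of_odd_pow {r : ℝ} {n : ℕ} (hn : Odd n) (h : r ^ n = 1) : r = 1 := by
  have h1 : r ^ n = 1 ^ n := by rw [h, one_pow]
  exact hn.strictMono_pow.injective h1

/-- a complex number fixed by conjugation with an odd power equal to `1` is `1` -/
theorem complex_eq_one_of_odd_pow {z : ℂ} {n : ℕ} (hn : Odd n) (hz : conj z = z)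
    (h : z ^ n = 1) : z = 1 := by
  obtain ⟨r, rfl⟩ := Complex.conj_eq_iff_real.mp hz
  have h2 : r ^ n = 1 := by exact_mod_cast h
  rw [real_eq_one_of_odd_pow hn h2]
  simp

/-- MI2: a linear character of `B` trivial on `Q` and real on `H` is trivial -/
theorem szc_lin_real (D : SzHyp Q H B K₁ K₂ w T) (l : ↥B →* ℂ)
    (hl : ∀ x : ↥B, (x : G) ∈ Q → l x = 1)
    (hreal : ∀ h : ↥B, (h : G) ∈ H → conj (l h) = l h) : ∀ b : ↥B, l b = 1 := by
  intro b
  obtain ⟨x, hx, h, hh, hb⟩ := D.sup b b.2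
  have hb' : b = (⟨x, D.QB hx⟩ : ↥B) * ⟨h, D.HB hh⟩ := Subtype.ext hb
  rw [hb', map_mul, hl ⟨x, D.QB hx⟩ hx, one_mul]
  -- `h ^ |H| = 1`
  have hpow : (⟨h, D.HB hh⟩ : ↥B) ^ (2 * T ^ 2 - 1) = 1 := by
    apply Subtype.ext
    rw [Subgroup.coe_pow, Subgroup.coe_one]
    have := pow_card_eq_one' (G := ↥H) (x := ⟨h, hh⟩)
    rw [D.cardH] at this
    have h2 := congrArg (Subtype.val) this
    simpa using h2
  have hodd : Odd (2 * T ^ 2 - 1) := by
    obtain ⟨m, hm, rfl⟩ := D.pow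
    have hpos : 0 < (2 ^ m) ^ 2 := by positivity
    exact ⟨(2 ^ m) ^ 2 - 1, by omega⟩
  apply complex_eq_one_of_odd_pow hodd (hreal _ hh)
  rw [← map_pow, hpow, map_one]

end Main

end Cfsg.Agent.Helper24.Szc
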