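import Cfsg.Agent.Helper6.SzChar0

/-!
# Helper24 / piece [MK] szc_deg_formula for helper6's S4775
-/

set_option autoImplicit false
set_option linter.unusedSectionVars false
set_option linter.unusedVariables false

namespace Cfsg.Agent.Helper24.Szc

open Cfsg Cfsg.Agent.Helper6
open scoped ComplexConjugate

universe u

section Main

variable {G : Type u} [Group G] [Fintype G] {Q H B K₁ K₂ : Subgroup G} {w : G} {T : ℕ}
  [Fintype ↥B]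

/-- MK: the degree of a character outside the known ones -/
theorem szc_deg_formula (D : SzHyp Q H B K₁ K₂ w T) {Θ Ψ₁ Ψ₂ : ↥B → ℂ}
    (I : FrobIrr (Q.subgroupOf B) T Θ Ψ₁ Ψ₂) {𝓚 : Finset (IrrCharacter G)}
    (N : SzKnown Q B T 𝓚) (χ : IrrCharacter G) (hχ : χ ∉ 𝓚) (m n₁ n₂ : ℕ)
    (hm : classInner (resFun B (χ : G → ℂ)) Θ = m)
    (hn₁ : classInner (resFun B (χ : G → ℂ)) Ψ₁ = n₁)
    (hn₂ : classInner (resFun B (χ : G → ℂ)) Ψ₂ = n₂) :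
    charDegree (χ : G → ℂ) = (2 * T ^ 2 - 1) * (m + T * (n₁ + n₂)) := by
  classical
  let _ : Fintype (IrrCharacter ↥B) := Cfsg.Agent.Helper74.irrFintype ↥B
  have hχc : IsCharacter G (χ : G → ℂ) := Cfsg.Agent.Helper74.isCharacter_of_isIrr χ.2
  have hres : IsCharacter ↥B (resFun B (χ : G → ℂ)) :=
    Cfsg.Agent.Helper74.isCharacter_restrict B hχc
  have hsum := Cfsg.Agent.Helper74.isCharacter_eq_sum_irr hres
  -- evaluate at `1`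
  have h1 : (χ : G → ℂ) 1 = ∑ ψ : IrrCharacter ↥B,
      classInner (resFun B (χ : G → ℂ)) (ψ : ↥B → ℂ) * (ψ : ↥B → ℂ) 1 := by
    have h2 := congrFun hsum 1
    rw [Finset.sum_apply] at h2
    have h3 : resFun B (χ : G → ℂ) 1 = (χ : G → ℂ) 1 := by
      show (χ : G → ℂ) ((1 : ↥B) : G) = _
      rw [Subgroup.coe_one]
    rw [← h3, h2]
    refine Finset.sum_congr rfl fun ψ _ => ?_
    rw [Pi.smul_apply, smul_eq_mul]
  -- the three relevant characters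
  obtain ⟨θ', hθ'⟩ : ∃ θ' : IrrCharacter ↥B, (θ' : ↥B → ℂ) = Θ := ⟨⟨Θ, I.irrΘ⟩, rfl⟩
  obtain ⟨ψ₁, hψ₁⟩ : ∃ ψ₁ : IrrCharacter ↥B, (ψ₁ : ↥B → ℂ) = Ψ₁ := ⟨⟨Ψ₁, I.irrΨ₁⟩, rfl⟩
  obtain ⟨ψ₂, hψ₂⟩ : ∃ ψ₂ : IrrCharacter ↥B, (ψ₂ : ↥B → ℂ) = Ψ₂ := ⟨⟨Ψ₂, I.irrΨ₂⟩, rfl⟩
  have d1 : θ' ≠ ψ₁ := fun h => I.ne₁ (by rw [← hθ', ← hψ₁, h])
  have d2 : θ' ≠ ψ₂ := fun h => I.ne₂ (by rw [← hθ', ← hψ₂, h])
  have d3 : ψ₁ ≠ ψ₂ := fun h => I.ne₁₂ (by rw [← hψ₁, ← hψ₂, h])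
  have hsub : ∑ ψ : IrrCharacter ↥B,
      classInner (resFun B (χ : G → ℂ)) (ψ : ↥B → ℂ) * (ψ : ↥B → ℂ) 1 =
      ∑ ψ ∈ ({θ', ψ₁, ψ₂} : Finset (IrrCharacter ↥B)),
        classInner (resFun B (χ : G → ℂ)) (ψ : ↥B → ℂ) * (ψ : ↥B → ℂ) 1 := by
    symm
    apply Finset.sum_subset (Finset.subset_univ _)
    intro ψ _ hψ
    by_cases htriv : ∀ n ∈ Q.subgroupOf B, (ψ : ↥B → ℂ) n = (ψ : ↥B → ℂ) 1
    · rw [N.lin χ hχ ψ ψ.2 (fun n hn => htriv n (Subgroup.mem_subgroupOf.mpr hn)), zero_mul]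
    · exfalso
      push Not at htriv
      apply hψ
      rcases I.all ψ ψ.2 htriv with h | h | h
      · have : ψ = θ' := Subtype.ext (by rw [h, hθ'])
        rw [this]; simp
      · have : ψ = ψ₁ := Subtype.ext (by rw [h, hψ₁])
        rw [this]; simp
      · have : ψ = ψ₂ := Subtype.ext (by rw [h, hψ₂])
        rw [this]; simp
  rw [hsub, Finset.sum_insert (by simp [d1, d2]), Finset.sum_insert (by simp [d3]),
    Finset.sum_singleton, hθ', hψ₁, hψ₂, hm, hn₁, hn₂, I.degΘ, I.degΨ₁, I.degΨ₂] at h1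
  have h4 : ((charDegree (χ : G → ℂ) : ℕ) : ℂ) =
      (((2 * T ^ 2 - 1) * (m + T * (n₁ + n₂)) : ℕ) : ℂ) := by
    rw [Cfsg.Agent.Helper74.charDegree_cast hχc, h1]
    push_cast
    ring
  exact_mod_cast h4

end Main

end Cfsg.Agent.Helper24.Szc
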