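import Cfsg.Agent.Helper56.T2T.Defs

/-!
# S2197 (helper56's farm), piece (FST): normal form in `F = ⟨x1, x2⟩`
-/

set_option autoImplicit false

namespace Cfsg.Agent.Helper24.T2T

open Cfsg.Agent.Helper56.T2T

universe u v
variable {G : Type u} [Group G] {Ω : Type v} [MulAction G Ω]

/-- existence of the normal form -/
theorem FST_exists (L : Loc5 G) :
    ∀ f ∈ L.F, ∃ i j : ℕ, i < 5 ∧ j < 5 ∧ f = L.x1 ^ i * L.x2 ^ j := by
  have hc : Commute L.x1 L.x2 := L.comm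
  intro f hf
  unfold Loc5.F at hf
  induction hf using Subgroup.closure_induction with
  | mem x hx =>
    rcases hx with rfl | rfl
    · exact ⟨1, 0, by norm_num, by norm_num, by simp⟩
    · exact ⟨0, 1, by norm_num, by norm_num, by simp⟩
  | one => exact ⟨0, 0, by norm_num, by norm_num, by simp⟩
  | mul a b _ _ iha ihb =>
    obtain ⟨i, j, -, -, rfl⟩ := iha
    obtain ⟨i', j', -, -, rfl⟩ := ihb
    refine ⟨(i + i') % 5, (j + j') % 5, Nat.mod_lt _ (by norm_num), Nat.mod_lt _ (by norm_num), ?_⟩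
    rw [← pow_eq_pow_mod _ L.x1_pow, ← pow_eq_pow_mod _ L.x2_pow, pow_add, pow_add]
    have h1 : Commute (L.x2 ^ j) (L.x1 ^ i') := (hc.pow_pow i' j).symm
    calc L.x1 ^ i * L.x2 ^ j * (L.x1 ^ i' * L.x2 ^ j')
        = L.x1 ^ i * (L.x2 ^ j * L.x1 ^ i') * L.x2 ^ j' := by simp only [mul_assoc]
      _ = L.x1 ^ i * (L.x1 ^ i' * L.x2 ^ j) * L.x2 ^ j' := by rw [h1.eq]
      _ = L.x1 ^ i * L.x1 ^ i' * (L.x2 ^ j * L.x2 ^ j') := by simp only [mul_assoc]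
  | inv a _ iha =>
    obtain ⟨i, j, hi, hj, rfl⟩ := iha
    refine ⟨(5 - i) % 5, (5 - j) % 5, Nat.mod_lt _ (by norm_num), Nat.mod_lt _ (by norm_num), ?_⟩
    rw [← pow_eq_pow_mod _ L.x1_pow, ← pow_eq_pow_mod _ L.x2_pow]
    have h1 : L.x1 ^ (5 - i) = (L.x1 ^ i)⁻¹ := by
      rw [eq_inv_iff_mul_eq_one, ← pow_add, Nat.sub_add_cancel hi.le, L.x1_pow]
    have h2 : L.x2 ^ (5 - j) = (L.x2 ^ j)⁻¹ := by
      rw [eq_inv_iff_mul_eq_one, ← pow_add, Nat.sub_add_cancel hj.le, L.x2_pow]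
    rw [h1, h2, mul_inv_rev]
    exact ((hc.pow_pow i j).inv_inv).eq.symm

/-- uniqueness of the normal form -/
theorem FST_unique (L : Loc5 G) :
    ∀ i j i' j' : ℕ, i < 5 → j < 5 → i' < 5 → j' < 5 →
      L.x1 ^ i * L.x2 ^ j = L.x1 ^ i' * L.x2 ^ j' → i = i' ∧ j = j' := by
  have hc : Commute L.x1 L.x2 := L.comm
  have hfact : Fact (Nat.Prime 5) := ⟨by norm_num⟩
  have ho1 : orderOf L.x1 = 5 := orderOf_eq_prime L.x1_pow L.x1_ne
  -- key: a power `x2 ^ d`, `0 < d < 5`, is not in `⟨x1⟩`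
  have key : ∀ d : ℕ, 0 < d → d < 5 → L.x2 ^ d ∉ Subgroup.zpowers L.x1 := by
    intro d hd0 hd5 hmem
    apply L.indep
    have hcop : Nat.Coprime d 5 := by
      rw [Nat.coprime_comm]
      exact (Nat.Prime.coprime_iff_not_dvd (by norm_num)).mpr
        (fun h => by have := Nat.le_of_dvd hd0 h; omega)
    obtain ⟨m, -, hm⟩ := Nat.exists_mul_mod_eq_one_of_coprime hcop (by norm_num : 1 < 5)
    have : (L.x2 ^ d) ^ m = L.x2 := by
      rw [← pow_mul, pow_eq_pow_mod (d * m) L.x2_pow, hm, pow_one]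
    rw [← this]
    exact Subgroup.pow_mem _ hmem m
  -- wlog `j ≤ j'`
  have main : ∀ i j i' j' : ℕ, i < 5 → j < 5 → i' < 5 → j' < 5 → j ≤ j' →
      L.x1 ^ i * L.x2 ^ j = L.x1 ^ i' * L.x2 ^ j' → i = i' ∧ j = j' := by
    intro i j i' j' hi hj hi' hj' hle h
    have hjj : j = j' := by
      by_contra hne
      have hlt : j < j' := lt_of_le_of_ne hle hne
      apply key (j' - j) (by omega) (by omega)
      -- `x2 ^ (j' - j) = (x1 ^ i')⁻¹ * x1 ^ i`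
      have e : L.x2 ^ (j' - j) = (L.x1 ^ i')⁻¹ * L.x1 ^ i := by
        have hj'eq : L.x2 ^ j' = L.x2 ^ (j' - j) * L.x2 ^ j := by
          rw [← pow_add, Nat.sub_add_cancel hle]
        rw [hj'eq, ← mul_assoc] at h
        have h2 := mul_right_cancel h
        rw [h2]; group
      rw [e]
      exact Subgroup.mul_mem _ (Subgroup.inv_mem _ (Subgroup.pow_mem _ (Subgroup.mem_zpowers _) _))
        (Subgroup.pow_mem _ (Subgroup.mem_zpowers _) _)
    subst hjj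
    refine ⟨?_, rfl⟩
    have h2 := mul_right_cancel h
    have := pow_injOn_Iio_orderOf (x := L.x1)
    exact this (by rw [ho1]; exact hi) (by rw [ho1]; exact hi') h2
  intro i j i' j' hi hj hi' hj' h
  rcases le_total j j' with hle | hle
  · exact main i j i' j' hi hj hi' hj' hle h
  · obtain ⟨h1, h2⟩ := main i' j' i j hi' hj' hi hj hle h.symm
    exact ⟨h1.symm, h2.symm⟩

/-- (FST) normal form in `F = ⟨x1, x2⟩` -/
theorem F_normal_form (L : Loc5 G) :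
    (∀ f ∈ L.F, ∃ i j : ℕ, i < 5 ∧ j < 5 ∧ f = L.x1 ^ i * L.x2 ^ j) ∧
    (∀ i j i' j' : ℕ, i < 5 → j < 5 → i' < 5 → j' < 5 →
      L.x1 ^ i * L.x2 ^ j = L.x1 ^ i' * L.x2 ^ j' → i = i' ∧ j = j') ∧
    Nat.card L.F = 25 := by
  refine ⟨FST_exists L, FST_unique L, ?_⟩
  have hx1 : L.x1 ∈ L.F := Subgroup.subset_closure (by simp)
  have hx2 : L.x2 ∈ L.F := Subgroup.subset_closure (by simp)
  let φ : Fin 5 × Fin 5 → L.F := fun ij =>
    ⟨L.x1 ^ (ij.1 : ℕ) * L.x2 ^ (ij.2 : ℕ),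
      Subgroup.mul_mem _ (Subgroup.pow_mem _ hx1 _) (Subgroup.pow_mem _ hx2 _)⟩
  have hbij : Function.Bijective φ := by
    constructor
    · rintro ⟨i, j⟩ ⟨i', j'⟩ h
      have h' : L.x1 ^ (i : ℕ) * L.x2 ^ (j : ℕ) = L.x1 ^ (i' : ℕ) * L.x2 ^ (j' : ℕ) :=
        congrArg Subtype.val h
      obtain ⟨h1, h2⟩ := FST_unique L i j i' j' i.isLt j.isLt i'.isLt j'.isLt h'
      exact Prod.ext (Fin.ext h1) (Fin.ext h2)
    · rintro ⟨f, hf⟩
      obtain ⟨i, j, hi, hj, rfl⟩ := FST_exists L f hf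
      exact ⟨(⟨i, hi⟩, ⟨j, hj⟩), rfl⟩
  rw [← Nat.card_congr (Equiv.ofBijective φ hbij), Nat.card_prod, Nat.card_fin]

end Cfsg.Agent.Helper24.T2T
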