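import Cfsg.Agent.Helper71.TIHall

/-!
# TI Hall subgroups in `π`-separable groups, part A (helper24)

A non-normal TI subgroup `H`, Hall in its normalizer, of a `π`-separable group (`π` the primes of
`|H|`) admits a normal `π'`-subgroup `W` of `G` not contained in `N_G(H)`.
-/

set_option autoImplicit false

namespace Cfsg.Agent.Helper24.Tih

open Subgroup

universe u

variable {G : Type u} [Group G]

theorem card_mul_relIndex_of_le {K N : Subgroup G} (h : K ≤ N) :
    Nat.card K * K.relIndex N = Nat.card N := by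
  have := (K.subgroupOf N).card_mul_index
  rwa [Nat.card_congr (subgroupOfEquivOfLe h).toEquiv] at this

theorem card_sup_ge [Finite G] {A B : Subgroup G} (h : A ⊓ B = ⊥) :
    Nat.card A * Nat.card B ≤ Nat.card (A ⊔ B : Subgroup G) := by
  let f : A × B → (A ⊔ B : Subgroup G) := fun p =>
    ⟨(p.1 : G) * (p.2 : G), mul_mem (le_sup_left (a := A) p.1.2) (le_sup_right (b := B) p.2.2)⟩
  have hf : Function.Injective f := by
    rintro ⟨s, m⟩ ⟨s', m'⟩ h0
    have h1 : (s : G) * (m : G) = (s' : G) * (m' : G) := congrArg Subtype.val h0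
    have h2 : (s' : G)⁻¹ * (s : G) = (m' : G) * (m : G)⁻¹ := by
      calc (s' : G)⁻¹ * (s : G) = (s' : G)⁻¹ * ((s : G) * (m : G)) * (m : G)⁻¹ := by group
        _ = (m' : G) * (m : G)⁻¹ := by rw [h1]; group
    have h3 : (s' : G)⁻¹ * (s : G) ∈ A ⊓ B := by
      refine Subgroup.mem_inf.mpr ⟨A.mul_mem (A.inv_mem s'.2) s.2, ?_⟩
      rw [h2]
      exact B.mul_mem m'.2 (B.inv_mem m.2)
    rw [h, mem_bot] at h3
    have hs : (s : G) = (s' : G) := by
      calc (s : G) = (s' : G) * ((s' : G)⁻¹ * (s : G)) := by group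
        _ = (s' : G) := by rw [h3, mul_one]
    have hm : (m : G) = (m' : G) := by
      rw [hs] at h1
      exact mul_left_cancel h1
    exact Prod.ext (Subtype.ext hs) (Subtype.ext hm)
  have := Nat.card_le_card_of_injective f hf
  rwa [Nat.card_prod] at this

theorem le_normalizer_of_conj {S K : Subgroup G}
    (h : ∀ s ∈ S, ∀ x ∈ K, s * x * s⁻¹ ∈ K) : S ≤ normalizer (K : Set G) := by
  intro s hs
  rw [mem_normalizer_iff]
  intro x
  constructor
  · exact h s hs x
  · intro hx
    have := h s⁻¹ (S.inv_mem hs) _ hx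
    have e : s⁻¹ * (s * x * s⁻¹) * s⁻¹⁻¹ = x := by group
    rwa [e] at this

theorem relIndex_dvd_index_of_normal_right [Finite G] (H X : Subgroup G) [X.Normal] :
    H.relIndex X ∣ H.index := by
  have h1 : Nat.card X * X.relIndex (H ⊔ X) = Nat.card (H ⊔ X : Subgroup G) :=
    card_mul_relIndex_of_le le_sup_right
  have h2 : Nat.card H * H.relIndex (H ⊔ X) = Nat.card (H ⊔ X : Subgroup G) :=
    card_mul_relIndex_of_le le_sup_left
  have h3 : X.relIndex (H ⊔ X) = X.relIndex H := relIndex_sup_right H X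
  have h4 : Nat.card (H ⊓ X : Subgroup G) * (H ⊓ X).relIndex H = Nat.card H :=
    card_mul_relIndex_of_le inf_le_left
  have h5 : Nat.card (H ⊓ X : Subgroup G) * (H ⊓ X).relIndex X = Nat.card X :=
    card_mul_relIndex_of_le inf_le_right
  rw [inf_relIndex_left] at h4
  rw [inf_relIndex_right] at h5
  have hpos : 0 < Nat.card (H ⊓ X : Subgroup G) * X.relIndex H := by rw [h4]; exact Nat.card_pos
  have : H.relIndex X = H.relIndex (H ⊔ X) := by
    apply Nat.eq_of_mul_eq_mul_left hpos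
    calc Nat.card (H ⊓ X : Subgroup G) * X.relIndex H * H.relIndex X
        = (Nat.card (H ⊓ X : Subgroup G) * H.relIndex X) * X.relIndex H := by ring
      _ = Nat.card X * X.relIndex H := by rw [h5]
      _ = Nat.card (H ⊔ X : Subgroup G) := by rw [← h3, h1]
      _ = Nat.card H * H.relIndex (H ⊔ X) := h2.symm
      _ = _ := by rw [h4]
  rw [this]
  exact relIndex_dvd_index_of_le le_sup_left

/-- The key step: a `π`-factor `X / W` over a normal `π'`-subgroup `W ≤ N_G(H)` forces `H` normal. -/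
theorem pi_factor_contra [Finite G] (H W X : Subgroup G) (hTI : Cfsg.IsTISubset (H : Set G))
    (hnn : ¬ H.Normal) (hHallG : (Nat.card H).Coprime H.index)
    (hXn : X.Normal) (hWX : W ≤ X) (hWcop : (Nat.card W).Coprime (Nat.card H))
    (hπ : ∀ q : ℕ, q.Prime → q ∣ W.relIndex X → q ∣ Nat.card H) (hne : W.relIndex X ≠ 1)
    (hWN : W ≤ normalizer (H : Set G)) : False := by
  obtain ⟨H₁, hH₁⟩ : ∃ H₁ : Subgroup G, H₁ = H ⊓ X := ⟨_, rfl⟩
  have hH₁X : H₁ ≤ X := hH₁ ▸ inf_le_right
  have hH₁H : H₁ ≤ H := hH₁ ▸ inf_le_left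
  have e1 : Nat.card H₁ * H₁.relIndex X = Nat.card X := card_mul_relIndex_of_le hH₁X
  have e2 : Nat.card W * W.relIndex X = Nat.card X := card_mul_relIndex_of_le hWX
  have hbdvd : H₁.relIndex X ∣ H.index := by
    rw [hH₁, inf_relIndex_right]
    exact relIndex_dvd_index_of_normal_right H X
  have hb : (H₁.relIndex X).Coprime (Nat.card H) :=
    (Nat.Coprime.coprime_dvd_right hbdvd hHallG).symm
  have hadvd : Nat.card H₁ ∣ Nat.card H := card_dvd_of_le hH₁H
  have hmb : (W.relIndex X).Coprime (H₁.relIndex X) := by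
    apply Nat.coprime_of_dvd
    intro q hq hq1 hq2
    have h3 : q ∣ Nat.gcd (H₁.relIndex X) (Nat.card H) := Nat.dvd_gcd hq2 (hπ q hq hq1)
    rw [hb.gcd_eq_one] at h3
    exact hq.one_lt.ne' (Nat.dvd_one.mp h3)
  have hma : W.relIndex X ∣ Nat.card H₁ := by
    apply hmb.dvd_of_dvd_mul_right
    rw [e1, ← e2]
    exact dvd_mul_left _ _
  have ha1 : Nat.card H₁ ≠ 1 := by
    intro h
    rw [h] at hma
    exact hne (Nat.dvd_one.mp hma)
  have hH₁bot : H₁ ≠ ⊥ := fun h => ha1 (Subgroup.card_eq_one.mpr h)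
  have hWH₁ : W ⊓ H₁ = ⊥ :=
    (disjoint_of_coprime_natCard (Nat.Coprime.coprime_dvd_right hadvd hWcop)).eq_bot
  have hXeq : W ⊔ H₁ = X := by
    apply Subgroup.eq_of_le_of_card_ge (sup_le hWX hH₁X)
    calc Nat.card X = Nat.card W * W.relIndex X := e2.symm
      _ ≤ Nat.card W * Nat.card H₁ :=
        Nat.mul_le_mul_left _ (Nat.le_of_dvd Nat.card_pos hma)
      _ ≤ Nat.card (W ⊔ H₁ : Subgroup G) := card_sup_ge hWH₁
  have hnorm : X ≤ normalizer (H₁ : Set G) := by
    rw [← hXeq]
    apply sup_le _ le_normalizer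
    intro w hw
    rw [hH₁]
    exact Helper71.tih_mem_normalizer_inf (hWN hw)
      (by rw [normalizer_eq_top_iff.mpr hXn]; exact mem_top w)
  have hsubn : (H₁.subgroupOf X).Normal := (normal_subgroupOf_iff_le_normalizer hH₁X).mpr hnorm
  have key : ∀ g : G, ∀ x ∈ H₁, g * x * g⁻¹ ∈ H₁ := by
    intro g x hx
    have hyX : g * x * g⁻¹ ∈ X := hXn.conj_mem x (hH₁X hx) g
    have h1 : (⟨g * x * g⁻¹, hyX⟩ : X) ^ (H₁.subgroupOf X).index ∈ H₁.subgroupOf X :=
      Subgroup.pow_index_mem _ _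
    have h2 : (g * x * g⁻¹) ^ (H₁.relIndex X) ∈ H₁ := by
      have := mem_subgroupOf.mp h1
      rw [SubmonoidClass.coe_pow] at this
      exact this
    apply S4116.mem_of_pow_mem_of_coprime H₁ _ (H₁.relIndex X) ?_ h2
    have h3 : x ^ Nat.card H₁ = 1 := by
      have h0 := pow_card_eq_one' (G := H₁) (x := ⟨x, hx⟩)
      have := congrArg Subtype.val h0
      simpa only [SubmonoidClass.coe_pow, OneMemClass.coe_one] using this
    have h4 : (g * x * g⁻¹) ^ Nat.card H₁ = 1 := by
      rw [conj_pow, h3]; group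
    have h5 : orderOf (g * x * g⁻¹) ∣ Nat.card H := (orderOf_dvd_of_pow_eq_one h4).trans hadvd
    exact Nat.Coprime.coprime_dvd_right h5 hb
  obtain ⟨⟨x, hx⟩, hx1⟩ := (Subgroup.ne_bot_iff_exists_ne_one.mp hH₁bot)
  apply hnn
  apply normalizer_eq_top_iff.mp
  rw [eq_top_iff]
  intro g _
  by_contra hg
  apply hx1
  apply Subtype.ext
  exact hTI g hg x (hH₁H hx) (hH₁H (key g x hx))

/-- A normal `π'`-subgroup of `G` not contained in `N_G(H)`. -/
theorem exists_normal_pi' [Finite G] (H : Subgroup G)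
    (hTI : Cfsg.IsTISubset (H : Set G)) (hnn : ¬ H.Normal)
    (hHall : (Nat.card H).Coprime (H.subgroupOf (normalizer (H : Set G))).index)
    (hsep : ∃ (n : ℕ) (M : Fin (n + 1) → Subgroup G), M 0 = ⊥ ∧ M (Fin.last n) = ⊤ ∧ Monotone M ∧
      (∀ i, (M i).Normal) ∧
      ∀ i : Fin n, (∀ q : ℕ, q.Prime → q ∣ (M i.castSucc).relIndex (M i.succ) → q ∣ Nat.card H) ∨
        ((M i.castSucc).relIndex (M i.succ)).Coprime (Nat.card H)) :
    ∃ W : Subgroup G, W.Normal ∧ (Nat.card W).Coprime (Nat.card H) ∧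
      ¬ W ≤ normalizer (H : Set G) := by
  by_contra hcon
  push Not at hcon
  obtain ⟨n, M, h0, hlast, hmono, hnorm, hfac⟩ := hsep
  have hHallG := Helper71.tih_coprime_index H hTI hHall
  have hall : ∀ i : Fin (n + 1), (Nat.card (M i)).Coprime (Nat.card H) := by
    intro i
    induction i using Fin.induction with
    | zero => rw [h0]; simp
    | succ i ih =>
      have hle : M i.castSucc ≤ M i.succ := hmono (Fin.castSucc_lt_succ).le
      have e := card_mul_relIndex_of_le hle
      rcases hfac i with hπ | hπ'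
      · by_cases h1 : (M i.castSucc).relIndex (M i.succ) = 1
        · rw [← e, h1, mul_one]; exact ih
        · exact (pi_factor_contra H _ _ hTI hnn hHallG (hnorm _) hle ih hπ h1
            (hcon _ (hnorm _) ih)).elim
      · rw [← e]; exact Nat.Coprime.mul_left ih hπ'
  have h3 := hall (Fin.last n)
  rw [hlast] at h3
  have h1 : Nat.card H ∣ Nat.card (⊤ : Subgroup G) := by
    rw [Subgroup.card_top]; exact Subgroup.card_subgroup_dvd_card H
  have h2 : Nat.card H = 1 := Nat.Coprime.eq_one_of_dvd h3.symm h1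
  apply hnn
  rw [Subgroup.card_eq_one.mp h2]
  infer_instance

end Cfsg.Agent.Helper24.Tih
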