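import Cfsg.Agent.Helper24.TihA
import Cfsg.Agent.Helper71.FrobSylow

/-!
# TI Hall subgroups in `π`-separable groups, part B (helper24)

If a normal `π'`-subgroup `W` of `G` is not contained in `N_G(H)` (`H` a TI subgroup), then every
Sylow subgroup of `H` is cyclic, provided the Sylow 2-subgroups of `H` are abelian.
-/

set_option autoImplicit false

namespace Cfsg.Agent.Helper24.Tih

open Subgroup
open scoped Pointwise

universe u

variable {G : Type u} [Group G]

/-- A `p`-group `P` acting by conjugation on a normal `p'`-subgroup `W` normalizes some Sylow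
`r`-subgroup of `W`. -/
theorem exists_invariant_sylow [Finite G] (W : Subgroup G) [hWn : W.Normal] (P : Subgroup G)
    {p r : ℕ} [Fact p.Prime] [Fact r.Prime] (hP : IsPGroup p P) (hpW : ¬ p ∣ Nat.card W) :
    ∃ R : Sylow r W, ∀ a ∈ P, ∀ x ∈ (R : Subgroup W).map W.subtype,
      a * x * a⁻¹ ∈ (R : Subgroup W).map W.subtype := by
  let φ : P →* MulAut W := (MulAut.conjNormal (H := W)).comp P.subtype
  let _ : MulAction P (Sylow r W) := MulAction.compHom (Sylow r W) φ
  have hcard : ¬ p ∣ Nat.card (Sylow r W) := by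
    intro h
    obtain ⟨R⟩ : Nonempty (Sylow r W) := inferInstance
    exact hpW (h.trans ((Sylow.card_dvd_index R).trans (Subgroup.index_dvd_card _)))
  obtain ⟨R, hR⟩ := hP.nonempty_fixed_point_of_prime_not_dvd_card (Sylow r W) hcard
  refine ⟨R, ?_⟩
  intro a ha x hx
  obtain ⟨w, hw, rfl⟩ := hx
  have h1 : (MulAut.conjNormal a : MulAut W) • R = R := hR ⟨a, ha⟩
  have h2 : (MulAut.conjNormal a : MulAut W) • w ∈
      ((MulAut.conjNormal a : MulAut W) • (R : Subgroup W)) :=
    smul_mem_pointwise_smul _ _ _ hw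
  rw [← Sylow.pointwise_smul_def, h1] at h2
  refine ⟨_, h2, ?_⟩
  rw [MulAut.smul_def]
  simp [MulAut.conjNormal_apply]

/-- Sylow subgroups of `H` are cyclic. -/
theorem sylow_cyclic [Finite G] (H : Subgroup G) (hTI : Cfsg.IsTISubset (H : Set G))
    (W : Subgroup G) (hWn : W.Normal) (hWcop : (Nat.card W).Coprime (Nat.card H))
    (hWN : ¬ W ≤ normalizer (H : Set G))
    (h2 : ∀ P : Sylow 2 H, IsMulCommutative (P : Subgroup H))
    (p : ℕ) [hp : Fact p.Prime] (P : Sylow p H) : IsCyclic (P : Subgroup H) := by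
  by_cases hPbot : (P : Subgroup H) = ⊥
  · rw [hPbot]; exact isCyclic_of_subsingleton
  obtain ⟨P', hP'⟩ : ∃ P' : Subgroup G, P' = (P : Subgroup H).map H.subtype := ⟨_, rfl⟩
  have hP'H : P' ≤ H := hP' ▸ map_subtype_le _
  have hP'p : IsPGroup p P' := hP' ▸ P.isPGroup'.map H.subtype
  have hP'bot : P' ≠ ⊥ := by
    rw [hP']
    intro h
    exact hPbot ((map_eq_bot_iff_of_injective _ H.subtype_injective).mp h)
  have hpH : p ∣ Nat.card H := by
    obtain ⟨k, hk⟩ := IsPGroup.iff_card.mp hP'p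
    have hk0 : k ≠ 0 := by
      rintro rfl
      exact hP'bot (Subgroup.card_eq_one.mp (by simpa using hk))
    exact (dvd_pow_self p hk0).trans (hk ▸ card_dvd_of_le hP'H)
  have hpW : ¬ p ∣ Nat.card W := fun h =>
    hp.out.one_lt.ne' (Nat.dvd_one.mp (hWcop.gcd_eq_one ▸ Nat.dvd_gcd h hpH))
  obtain ⟨C, hC⟩ : ∃ C : Subgroup G, C = W ⊓ normalizer (H : Set G) := ⟨_, rfl⟩
  have hCW : C ≤ W := hC ▸ inf_le_left
  have hCN : C ≤ normalizer (H : Set G) := hC ▸ inf_le_right
  have hrel : C.relIndex W ≠ 1 := fun h => hWN ((relIndex_eq_one.mp h).trans hCN)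
  obtain ⟨r, hr, hrd⟩ := Nat.exists_prime_and_dvd hrel
  have : Fact r.Prime := ⟨hr⟩
  have := hWn
  obtain ⟨R, hRinv⟩ := exists_invariant_sylow W P' hP'p hpW (r := r)
  obtain ⟨R', hR'⟩ : ∃ R' : Subgroup G, R' = (R : Subgroup W).map W.subtype := ⟨_, rfl⟩
  rw [← hR'] at hRinv
  have hR'W : R' ≤ W := hR' ▸ map_subtype_le _
  have hR'card : Nat.card R' = r ^ (Nat.card W).factorization r := by
    rw [hR', card_map_of_injective (subtype_injective W)]
    exact R.card_eq_multiplicity
  have hR'p : IsPGroup r R' := IsPGroup.of_card hR'card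
  have hR'C : ¬ R' ≤ C := by
    intro hle
    have h1 : Nat.card R' ∣ Nat.card C := card_dvd_of_le hle
    have h2 := card_mul_relIndex_of_le hCW
    have h3 : r ^ ((Nat.card W).factorization r + 1) ∣ Nat.card W := by
      rw [pow_succ, ← hR'card, ← h2]
      exact Nat.mul_dvd_mul h1 hrd
    exact Nat.pow_succ_factorization_not_dvd Nat.card_pos.ne' hr h3
  have hP'R' : P' ≤ normalizer (R' : Set G) := le_normalizer_of_conj hRinv
  have hP'N : P' ≤ normalizer ((normalizer (H : Set G) : Subgroup G) : Set G) :=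
    (hP'H.trans le_normalizer).trans le_normalizer
  obtain ⟨B, hB⟩ : ∃ B : Subgroup G, B = R' ⊓ normalizer (H : Set G) := ⟨_, rfl⟩
  have hBR' : B ≤ R' := hB ▸ inf_le_left
  have : Group.IsNilpotent R' := hR'p.isNilpotent
  have hlt : B.subgroupOf R' < ⊤ := by
    rw [lt_top_iff_ne_top]
    intro htop
    apply hR'C
    intro x hx
    have h1 : (⟨x, hx⟩ : R') ∈ B.subgroupOf R' := by rw [htop]; exact mem_top _
    have h2 : x ∈ B := mem_subgroupOf.mp h1
    rw [hB] at h2
    rw [hC]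
    exact ⟨hR'W hx, h2.2⟩
  have hnc := Group.normalizerCondition_of_isNilpotent (G := R') (B.subgroupOf R') hlt
  obtain ⟨s, hsn, hsB⟩ := SetLike.exists_of_lt hnc
  rw [← subgroupOf_normalizer_eq hBR'] at hsn
  have hsn' : (s : G) ∈ normalizer (B : Set G) := mem_subgroupOf.mp hsn
  have hsB' : (s : G) ∉ B := fun h => hsB (mem_subgroupOf.mpr h)
  have hP'B : P' ≤ normalizer (B : Set G) := fun h hh => by
    rw [hB]
    exact Helper71.tih_mem_normalizer_inf (hP'R' hh) (hP'N hh)
  obtain ⟨A, hA⟩ : ∃ A : Subgroup G, A = R' ⊓ normalizer (B : Set G) := ⟨_, rfl⟩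
  have hP'A : P' ≤ normalizer (A : Set G) := fun h hh => by
    rw [hA]
    exact Helper71.tih_mem_normalizer_inf (hP'R' hh) (le_normalizer (hP'B hh))
  have hBA : B ≤ A := hA ▸ le_inf hBR' le_normalizer
  have hAR' : A ≤ R' := hA ▸ inf_le_left
  have hAW : A ≤ W := hAR'.trans hR'W
  have hsA : (s : G) ∈ A := hA ▸ ⟨s.2, hsn'⟩
  have hAB : A ≤ normalizer (B : Set G) := hA ▸ inf_le_right
  obtain ⟨F, iF, iFf, C', hFC, ⟨e⟩⟩ := Helper71.frobenius_section P' A B hP'bot hBA
    ⟨(s : G), hsA, hsB'⟩ hAB hP'A hP'B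
    (Nat.Coprime.coprime_dvd_left (card_dvd_of_le hAW)
      (Nat.Coprime.coprime_dvd_right (card_dvd_of_le hP'H) hWcop))
    (by
      intro h hh h1 a ha hc
      rw [hB]
      refine ⟨hAR' ha, ?_⟩
      by_contra hcon
      apply h1
      apply hTI a hcon h (hP'H hh)
      rw [hc]
      simpa using hP'H hh)
  subst hP'
  let e₀ : ↥(P : Subgroup H) ≃* ↥((P : Subgroup H).map H.subtype) :=
    (P : Subgroup H).equivMapOfInjective H.subtype H.subtype_injective
  let e' : ↥(P : Subgroup H) ≃* ↥C' := e₀.trans e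
  have hC'p : IsPGroup p C' := P.isPGroup'.of_equiv e'
  obtain ⟨S⟩ : Nonempty (Sylow p C') := inferInstance
  have hStop : (S : Subgroup C') = ⊤ := by
    have h1 : IsPGroup p (⊤ : Subgroup C') := hC'p.of_equiv Subgroup.topEquiv.symm
    exact (S.is_maximal' h1 le_top).symm
  let e'' : ↥(S : Subgroup C') ≃* ↥(P : Subgroup H) :=
    ((MulEquiv.subgroupCongr hStop).trans Subgroup.topEquiv).trans e'.symm
  rcases Helper71.frob_sylow_cyclic_or_quat hFC S with hcyc | ⟨hp2, x, y, hyy, hxx1, hxx4, hconj⟩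
  · exact e''.isCyclic.mp hcyc
  · exfalso
    subst hp2
    have hcomm : ∀ a b : ↥(P : Subgroup H), a * b = b * a := fun a b => (h2 P).is_comm.comm a b
    have h1 : y * x = x * y := by
      apply e''.injective
      rw [map_mul, map_mul]
      exact hcomm _ _
    have h3 : y * x * y⁻¹ = x := by rw [h1]; group
    rw [h3] at hconj
    apply hxx1
    calc x * x = x * x⁻¹ := by rw [← hconj]
      _ = 1 := mul_inv_cancel x

end Cfsg.Agent.Helper24.Tih
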