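import Cfsg.Agent.Helper24.TihA
import Cfsg.Agent.S4117

/-!
# TI Hall subgroups in `π`-separable groups, part C (helper24)

The conjugation action of a complement `Q` on `H` (all Sylow subgroups cyclic, coprime orders),
translated from `S4117` to statements about subgroups of `G`.
-/

set_option autoImplicit false

namespace Cfsg.Agent.Helper24.Tih

open Subgroup

universe u

variable {G : Type u} [Group G]

/-- Conjugation action of `Q ≤ N_G(H)` on `H`. -/
@[reducible] def conjAct (H Q : Subgroup G) (hQ : Q ≤ normalizer (H : Set G)) :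
    MulDistribMulAction Q H where
  smul q h := ⟨(q : G) * h * (q : G)⁻¹, (mem_normalizer_iff.mp (hQ q.2) h).mp h.2⟩
  one_smul h := Subtype.ext (by
    show ((1 : Q) : G) * (h : G) * ((1 : Q) : G)⁻¹ = (h : G)
    simp)
  mul_smul a b h := Subtype.ext (by
    show ((a * b : Q) : G) * (h : G) * ((a * b : Q) : G)⁻¹ =
      (a : G) * ((b : G) * (h : G) * (b : G)⁻¹) * (a : G)⁻¹
    simp [mul_assoc])
  smul_mul a h k := Subtype.ext (by
    show (a : G) * ((h * k : H) : G) * (a : G)⁻¹ =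
      ((a : G) * (h : G) * (a : G)⁻¹) * ((a : G) * (k : G) * (a : G)⁻¹)
    simp [mul_assoc])
  smul_one a := Subtype.ext (by
    show (a : G) * ((1 : H) : G) * (a : G)⁻¹ = ((1 : H) : G)
    simp)

theorem conj_struct [Finite G] (H Q : Subgroup G) (hQ : Q ≤ normalizer (H : Set G))
    (hcop : (Nat.card Q).Coprime (Nat.card H))
    (hcyc : ∀ (p : ℕ) [Fact p.Prime] (P : Sylow p H), IsCyclic (P : Subgroup H)) :
    ∃ L : Subgroup G, L ≤ H ∧
      (∀ q ∈ Q, ∀ h ∈ H, h⁻¹ * (q * h * q⁻¹) ∈ L) ∧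
      (∀ g ∈ H, ∀ x ∈ L, g * x * g⁻¹ ∈ L) ∧
      (∀ q ∈ Q, ∀ x ∈ L, q * x * q⁻¹ ∈ L) ∧
      L ⊓ (H ⊓ centralizer (Q : Set G)) = ⊥ ∧
      H ≤ L ⊔ (H ⊓ centralizer (Q : Set G)) ∧
      (Nat.card (H ⊓ centralizer (Q : Set G) : Subgroup G)).Coprime
        ((H ⊓ centralizer (Q : Set G)).relIndex H) := by
  let inst : MulDistribMulAction Q H := conjAct H Q hQ
  have hsm : ∀ (q : Q) (h : H), ((q • h : H) : G) = (q : G) * h * (q : G)⁻¹ := fun _ _ => rfl
  obtain ⟨ha, -, hc, hd, he⟩ := S4117.result (G := H) (A := Q) hcop hcyc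
  obtain ⟨L₀, hL₀⟩ : ∃ L₀ : Subgroup H,
    L₀ = closure {y : H | ∃ (a : Q) (g : H), y = g⁻¹ * a • g} := ⟨_, rfl⟩
  rw [← hL₀] at hc hd he
  obtain ⟨D, hD⟩ : ∃ D : Subgroup G, D = H ⊓ centralizer (Q : Set G) := ⟨_, rfl⟩
  rw [← hD]
  have hDH : D ≤ H := hD ▸ inf_le_left
  have hFD : ∀ h : H, h ∈ MulAction.fixedPoints Q H ↔ (h : G) ∈ D := by
    intro h
    rw [MulAction.mem_fixedPoints, hD, mem_inf, mem_centralizer_iff]
    constructor
    · intro hfix
      refine ⟨h.2, fun q hq => ?_⟩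
      have := congrArg Subtype.val (hfix ⟨q, hq⟩)
      rw [hsm] at this
      calc q * (h : G) = (q * (h : G) * q⁻¹) * q := by group
        _ = (h : G) * q := by rw [this]
    · rintro ⟨-, hcen⟩ q
      apply Subtype.ext
      rw [hsm]
      have := hcen q q.2
      rw [this]; group
  refine ⟨L₀.map H.subtype, map_subtype_le _, ?_, ?_, ?_, ?_, ?_, ?_⟩
  · intro q hq h hh
    refine ⟨(⟨h, hh⟩ : H)⁻¹ * (⟨q, hq⟩ : Q) • (⟨h, hh⟩ : H), ?_, rfl⟩
    rw [hL₀]
    exact Subgroup.subset_closure ⟨⟨q, hq⟩, ⟨h, hh⟩, rfl⟩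
  · rintro g hg x ⟨l, hl, rfl⟩
    exact ⟨(⟨g, hg⟩ : H) * l * (⟨g, hg⟩ : H)⁻¹, hc.conj_mem l hl _, rfl⟩
  · rintro q hq x ⟨l, hl, rfl⟩
    refine ⟨(⟨q, hq⟩ : Q) • l, ?_, rfl⟩
    rw [hL₀] at hl ⊢
    induction hl using Subgroup.closure_induction with
    | mem x hx =>
      obtain ⟨a, g, rfl⟩ := hx
      apply Subgroup.subset_closure
      refine ⟨⟨q, hq⟩ * a * ⟨q, hq⟩⁻¹, (⟨q, hq⟩ : Q) • g, ?_⟩
      rw [smul_mul', smul_inv', smul_smul, smul_smul]
      congr 2
      group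
    | one => rw [smul_one]; exact one_mem _
    | mul x y _ _ hx hy => rw [smul_mul']; exact mul_mem hx hy
    | inv x _ hx => rw [smul_inv']; exact inv_mem hx
  · rw [eq_bot_iff]
    rintro x ⟨⟨l, hl, rfl⟩, hxD⟩
    have h1 : l ∈ (L₀ : Set H) ∩ MulAction.fixedPoints Q H := ⟨hl, (hFD l).mpr hxD⟩
    rw [hd] at h1
    rw [mem_bot]
    have : l = 1 := h1
    rw [this]; rfl
  · intro x hx
    have h1 : (⟨x, hx⟩ : H) ∈ L₀ ⊔ closure (MulAction.fixedPoints Q H) := by rw [he]; exact mem_top _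
    have h2 : x ∈ (L₀ ⊔ closure (MulAction.fixedPoints Q H)).map H.subtype := ⟨_, h1, rfl⟩
    rw [Subgroup.map_sup] at h2
    have h3 : (closure (MulAction.fixedPoints Q H)).map H.subtype ≤ D := by
      rw [map_le_iff_le_comap, closure_le]
      intro h hh
      exact (hFD h).mp hh
    exact (sup_le_sup_left h3 (L₀.map H.subtype)) h2
  · have hset : (MulAction.fixedPoints Q H : Set H) = ((D.subgroupOf H : Subgroup H) : Set H) := by
      ext h
      rw [hFD, SetLike.mem_coe, mem_subgroupOf]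
    have hcardF : Nat.card (MulAction.fixedPoints Q H : Set H) = Nat.card D := by
      rw [hset]
      exact Nat.card_congr (subgroupOfEquivOfLe hDH).toEquiv
    rw [hcardF] at ha
    have h3 := card_mul_relIndex_of_le hDH
    have h4 : Nat.card H / Nat.card D = D.relIndex H :=
      Nat.div_eq_of_eq_mul_right Nat.card_pos h3.symm
    rwa [h4] at ha

end Cfsg.Agent.Helper24.Tih
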