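import Mathlib

/-!
# Fixed points of the relative Frobenius of a finite field extension (for helper51's TorD (DESC))
-/

set_option autoImplicit false

namespace Cfsg.Agent.Helper24.TorD

open Polynomial

/-- the fixed points of `x ↦ x ^ #F` on a finite extension `K` of the finite field `F` are the
elements of `F` -/
theorem pow_card_eq_iff_mem_range {F K : Type*} [Field F] [Fintype F] [Field K] [Fintype K]
    [Algebra F K] (x : K) :
    x ^ Fintype.card F = x ↔ x ∈ Set.range (algebraMap F K) := by
  classical
  constructor
  · intro hx
    set q := Fintype.card F with hq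
    have hq1 : 1 < q := Fintype.one_lt_card
    set f : K[X] := X ^ q - X with hf
    have hdeg : f.natDegree = q := FiniteField.X_pow_card_sub_X_natDegree_eq K hq1
    have hf0 : f ≠ 0 := FiniteField.X_pow_card_sub_X_ne_zero K hq1
    set S : Finset K := Finset.univ.image (algebraMap F K) with hS
    have hScard : S.card = q := by
      rw [hS, Finset.card_image_of_injective _ (algebraMap F K).injective, Finset.card_univ]
    have hSR : S ⊆ f.roots.toFinset := by
      intro y hy
      rw [hS, Finset.mem_image] at hy
      obtain ⟨a, -, rfl⟩ := hy
      rw [Multiset.mem_toFinset, Polynomial.mem_roots hf0, Polynomial.IsRoot, hf]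
      simp only [eval_sub, eval_pow, eval_X]
      rw [← map_pow, FiniteField.pow_card, sub_self]
    have hRcard : f.roots.toFinset.card ≤ q := by
      calc f.roots.toFinset.card ≤ Multiset.card f.roots := Multiset.toFinset_card_le _
        _ ≤ f.natDegree := Polynomial.card_roots' f
        _ = q := hdeg
    have hEq : S = f.roots.toFinset :=
      Finset.eq_of_subset_of_card_le hSR (by rw [hScard]; exact hRcard)
    have hxR : x ∈ f.roots.toFinset := by
      rw [Multiset.mem_toFinset, Polynomial.mem_roots hf0, Polynomial.IsRoot, hf]
      simp only [eval_sub, eval_pow, eval_X]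
      rw [hx, sub_self]
    rw [← hEq, hS, Finset.mem_image] at hxR
    obtain ⟨a, -, rfl⟩ := hxR
    exact ⟨a, rfl⟩
  · rintro ⟨a, rfl⟩
    rw [← map_pow, FiniteField.pow_card]

end Cfsg.Agent.Helper24.TorD
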