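import Cfsg.Agent.Helper56.U35.Defs

/-!
# S2149 farm (helper56), piece (STB): the point stabiliser has order `1000`.
-/

set_option autoImplicit false

namespace Cfsg.Agent.Helper24.U35

open MulAction Cfsg.Agent.Helper56.U35

variable {G : Type*} [Group G] {Ω : Type*} [MulAction G Ω]

/-- The action in a `TIData` is pretransitive. -/
theorem isPretransitive_of_tiData (D : TIData G Ω) : IsPretransitive G Ω :=
  ⟨fun a b => by
    obtain ⟨g, hg⟩ := D.trans a
    obtain ⟨h, hh⟩ := D.trans b
    exact ⟨h * g⁻¹, by rw [mul_smul, ← hg, inv_smul_smul, hh]⟩⟩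

/-- (STB) the point stabiliser has order `1000` -/
theorem card_stabilizer (D : TIData G Ω) : Nat.card (stabilizer G D.o) = 1000 := by
  have hpt : IsPretransitive G Ω := isPretransitive_of_tiData D
  have h1 := MulAction.index_stabilizer_of_transitive G D.o
  have h2 := Subgroup.index_mul_card (stabilizer G D.o)
  rw [h1, D.cardΩ, D.cardG] at h2
  omega

end Cfsg.Agent.Helper24.U35
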