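import Mathlib
import Cfsg.Agent.Helper38.VL.Defs

/-!
# S3777 Vaughan-Lee (helper38's farm), leaf (LA2): points of the hyperplane `ker α` outside
`ker α₀` and outside `R`
-/

set_option autoImplicit false

namespace Cfsg.Agent.Helper24.VL

open Subgroup Cfsg.Agent.Helper38.VL

universe u

open Classical in
/-- fibre counting: if `f` does not vanish on the subspace `W`, then `|W| = p |W ∩ ker f|`. -/
theorem LA2_card_fiber {p : ℕ} [Fact p.Prime] {V : Type*} [AddCommGroup V]
    [Module (ZMod p) V] [Fintype V] (W : Submodule (ZMod p) V)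
    (f : Module.Dual (ZMod p) V) (v₀ : V) (hv₀ : v₀ ∈ W) (hf : f v₀ ≠ 0) :
    p * (Finset.univ.filter (fun v : V => v ∈ W ∧ f v = 0)).card =
      (Finset.univ.filter (fun v : V => v ∈ W)).card := by
  classical
  have h1 : (Finset.univ.filter (fun v : V => v ∈ W)).card =
      ∑ c : ZMod p, ((Finset.univ.filter (fun v : V => v ∈ W)).filter (fun v => f v = c)).card :=
    Finset.card_eq_sum_card_fiberwise (fun v _ => Finset.mem_univ (f v))
  have h2 : ∀ c : ZMod p,
      ((Finset.univ.filter (fun v : V => v ∈ W)).filter (fun v => f v = c)).card =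
        (Finset.univ.filter (fun v : V => v ∈ W ∧ f v = 0)).card := by
    intro c
    symm
    refine Finset.card_bij' (fun v _ => v + (c / f v₀) • v₀) (fun v _ => v - (c / f v₀) • v₀)
      ?_ ?_ ?_ ?_
    · intro v hv
      simp only [Finset.mem_filter, Finset.mem_univ, true_and] at hv ⊢
      refine ⟨W.add_mem hv.1 (W.smul_mem _ hv₀), ?_⟩
      rw [map_add, map_smul, hv.2, zero_add, smul_eq_mul, div_mul_cancel₀ _ hf]
    · intro v hv
      simp only [Finset.mem_filter, Finset.mem_univ, true_and] at hv ⊢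
      refine ⟨W.sub_mem hv.1 (W.smul_mem _ hv₀), ?_⟩
      rw [map_sub, map_smul, hv.2, smul_eq_mul, div_mul_cancel₀ _ hf, sub_self]
    · intro v _; simp
    · intro v _; simp
  rw [h1, Finset.sum_congr rfl (fun c _ => h2 c), Finset.sum_const, Finset.card_univ, ZMod.card,
    smul_eq_mul]

/-- (LA2) points of the hyperplane `ker α` outside `ker α₀` and outside `R`. -/
theorem card_ker_diff_ge {p : ℕ} [Fact p.Prime] {V : Type*} [AddCommGroup V]
    [Module (ZMod p) V] [Finite V] (α α₀ : Module.Dual (ZMod p) V)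
    (hind : α ∉ Submodule.span (ZMod p) {α₀}) (hα₀ : α₀ ≠ 0)
    (R : Submodule (ZMod p) V) (hR : R ≤ LinearMap.ker α)
    (hRd : Module.finrank (ZMod p) R + 2 = Module.finrank (ZMod p) V) :
    (p - 1) ^ 2 * Nat.card V ≤
      p ^ 3 * Nat.card {v : V // α v = 0 ∧ α₀ v ≠ 0 ∧ v ∉ R} := by
  classical
  have hp : p.Prime := Fact.out
  let _ : Fintype V := Fintype.ofFinite V
  -- `α ≠ 0`
  have hα : α ≠ 0 := fun h => hind (h ▸ Submodule.zero_mem _)
  obtain ⟨v₁, hv₁⟩ : ∃ v, α v ≠ 0 := by
    by_contra hcon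
    push Not at hcon
    exact hα (LinearMap.ext hcon)
  -- `α₀` does not vanish on `ker α`
  obtain ⟨v₂, hv₂K, hv₂⟩ : ∃ v, v ∈ LinearMap.ker α ∧ α₀ v ≠ 0 := by
    by_contra hcon
    push Not at hcon
    -- then `α₀ = (α₀ v₁ / α v₁) • α`
    have hform : ∀ v, α₀ v = (α₀ v₁ / α v₁) * α v := by
      intro v
      have hmem : v - (α v / α v₁) • v₁ ∈ LinearMap.ker α := by
        rw [LinearMap.mem_ker, map_sub, map_smul, smul_eq_mul, div_mul_cancel₀ _ hv₁, sub_self]
      have := hcon _ hmem
      rw [map_sub, map_smul, smul_eq_mul, sub_eq_zero] at this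
      rw [this]; field_simp
    by_cases hc : α₀ v₁ = 0
    · apply hα₀
      ext v
      rw [hform v, hc, zero_div, zero_mul]; rfl
    · apply hind
      rw [Submodule.mem_span_singleton]
      refine ⟨α v₁ / α₀ v₁, ?_⟩
      ext v
      rw [LinearMap.smul_apply, hform v, smul_eq_mul]
      field_simp
  -- the relevant finsets
  set q : ℕ := Fintype.card V with hq
  set FK := Finset.univ.filter (fun v : V => v ∈ LinearMap.ker α) with hFK
  set FK0 := Finset.univ.filter (fun v : V => v ∈ LinearMap.ker α ∧ α₀ v = 0) with hFK0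
  set FR := Finset.univ.filter (fun v : V => v ∈ R) with hFR
  set FR0 := Finset.univ.filter (fun v : V => v ∈ R ∧ α₀ v = 0) with hFR0
  set FS := Finset.univ.filter (fun v : V => α v = 0 ∧ α₀ v ≠ 0 ∧ v ∉ R) with hFS
  -- cardinalities
  have hK : p * FK.card = q := by
    have h := LA2_card_fiber (⊤ : Submodule (ZMod p) V) α v₁ Submodule.mem_top hv₁
    have e1 : (Finset.univ.filter (fun v : V => v ∈ (⊤ : Submodule (ZMod p) V) ∧ α v = 0)) = FK := by
      rw [hFK]; ext v; simp
    have e2 : (Finset.univ.filter (fun v : V => v ∈ (⊤ : Submodule (ZMod p) V))) = Finset.univ := by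
      ext v; simp
    rw [e1, e2, Finset.card_univ] at h
    exact h
  have hK0 : p * FK0.card = FK.card :=
    LA2_card_fiber (LinearMap.ker α) α₀ v₂ hv₂K hv₂
  have hRq : p ^ 2 * FR.card = q := by
    have h1 : Fintype.card V = p ^ Module.finrank (ZMod p) V := by
      rw [Module.card_eq_pow_finrank (K := ZMod p) (V := V), ZMod.card]
    have h2 : Fintype.card R = p ^ Module.finrank (ZMod p) R := by
      rw [Module.card_eq_pow_finrank (K := ZMod p) (V := R), ZMod.card]
    have h3 : FR.card = Fintype.card R := by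
      rw [hFR, Fintype.card_subtype]
    rw [h3, h2, hq, h1, ← hRd, pow_add, mul_comm]
  have hR0 : FR.card ≤ p * FR0.card := by
    by_cases hex : ∃ v, v ∈ R ∧ α₀ v ≠ 0
    · obtain ⟨v₃, hv₃R, hv₃⟩ := hex
      exact (LA2_card_fiber R α₀ v₃ hv₃R hv₃).ge
    · push Not at hex
      have : FR0 = FR := by
        rw [hFR0, hFR]; ext v
        simp only [Finset.mem_filter, Finset.mem_univ, true_and]
        exact ⟨fun h => h.1, fun h => ⟨h, hex v h⟩⟩
      rw [this]
      exact Nat.le_mul_of_pos_left _ hp.pos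
  -- partition
  have hpart : FS.card + FK0.card + FR.card = FK.card + FR0.card := by
    -- `FK = FK0 ⊔ FKn`, `FKn = FS ⊔ FRn`, `FR = FR0 ⊔ FRn`
    set FKn := Finset.univ.filter (fun v : V => v ∈ LinearMap.ker α ∧ α₀ v ≠ 0) with hFKn
    set FRn := Finset.univ.filter (fun v : V => v ∈ R ∧ α₀ v ≠ 0) with hFRn
    have e1 : FK.card = FK0.card + FKn.card := by
      have := Finset.card_filter_add_card_filter_not (s := FK) (fun v : V => α₀ v = 0)
      rw [← this]
      congr 2
      · rw [hFK, hFK0, Finset.filter_filter]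
      · rw [hFK, hFKn, Finset.filter_filter]
    have e2 : FR.card = FR0.card + FRn.card := by
      have := Finset.card_filter_add_card_filter_not (s := FR) (fun v : V => α₀ v = 0)
      rw [← this]
      congr 2
      · rw [hFR, hFR0, Finset.filter_filter]
      · rw [hFR, hFRn, Finset.filter_filter]
    have e3 : FKn.card = FRn.card + FS.card := by
      have := Finset.card_filter_add_card_filter_not (s := FKn) (fun v : V => v ∈ R)
      rw [← this]
      congr 2
      · rw [hFKn, hFRn, Finset.filter_filter]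
        ext v
        simp only [Finset.mem_filter, Finset.mem_univ, true_and]
        exact ⟨fun h => ⟨h.2, h.1.2⟩, fun h => ⟨⟨hR h.1, h.2⟩, h.1⟩⟩
      · rw [hFKn, hFS, Finset.filter_filter]
        ext v
        simp only [Finset.mem_filter, Finset.mem_univ, true_and, LinearMap.mem_ker]
        exact ⟨fun h => ⟨h.1.1, h.1.2, h.2⟩, fun h => ⟨⟨h.1, h.2.1⟩, h.2.2⟩⟩
    omega
  -- conclusion
  have hcardS : Nat.card {v : V // α v = 0 ∧ α₀ v ≠ 0 ∧ v ∉ R} = FS.card := by
    rw [Nat.card_eq_fintype_card, Fintype.card_subtype]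
  have hcardV : Nat.card V = q := Nat.card_eq_fintype_card
  rw [hcardS, hcardV]
  obtain ⟨m, rfl⟩ : ∃ m, p = m + 1 := ⟨p - 1, by have := hp.pos; omega⟩
  simp only [Nat.add_sub_cancel]
  -- abbreviations
  generalize FS.card = a at *
  generalize FK.card = k at *
  generalize FK0.card = k₀ at *
  generalize FR.card = r at *
  generalize FR0.card = r₀ at *
  have h1 : (m + 1) ^ 3 * k = (m + 1) ^ 2 * q := by rw [← hK]; ring
  have h2 : (m + 1) ^ 3 * k₀ = (m + 1) * q := by rw [← hK, ← hK0]; ring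
  have h3 : (m + 1) ^ 3 * r = (m + 1) * q := by rw [← hRq]; ring
  have h4 : q ≤ (m + 1) ^ 3 * r₀ := by
    calc q = (m + 1) ^ 2 * r := hRq.symm
      _ ≤ (m + 1) ^ 2 * ((m + 1) * r₀) := Nat.mul_le_mul_left _ hR0
      _ = (m + 1) ^ 3 * r₀ := by ring
  have h5 : (m + 1) ^ 3 * a + (m + 1) ^ 3 * k₀ + (m + 1) ^ 3 * r =
      (m + 1) ^ 3 * k + (m + 1) ^ 3 * r₀ := by
    rw [← mul_add, ← mul_add, hpart, mul_add]
  have h6 : m ^ 2 * q + 2 * ((m + 1) * q) = (m + 1) ^ 2 * q + q := by ring
  omega

end Cfsg.Agent.Helper24.VL
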