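import Mathlib
import Cfsg.Agent.Helper38.VL.Defs
import Cfsg.Agent.Helper63.Frattini

/-!
# S3777 Vaughan-Lee (helper38's farm), leaf (S3): `|G' : [Φ,G]| ≤ p^C(d,2)` for a `d`-generator
`p`-group
-/

set_option autoImplicit false

namespace Cfsg.Agent.Helper24.VL

open Subgroup Cfsg.Agent.Helper38.VL
open scoped commutatorElement

universe u

/-! ## `G' ≤ Φ(G)` for a finite `p`-group -/

theorem S3_commutator_le_frattini {G : Type*} [Group G] [Finite G] {p : ℕ} [Fact p.Prime]
    (hG : IsPGroup p G) : commutator G ≤ frattini G := by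
  have hp : p.Prime := Fact.out
  rw [commutator_def, Subgroup.commutator_le]
  intro g _ h _
  unfold frattini Order.radical
  simp only [Subgroup.mem_iInf]
  intro M hM
  have hn : M.Normal := Cfsg.Agent.Helper63.normal_of_isCoatom_of_isPGroup hG M hM
  have hidx : M.index = p := Cfsg.Agent.Helper63.index_of_isCoatom_of_isPGroup hG M hM
  have hcard : Nat.card (G ⧸ M) = p := by rw [← Subgroup.index_eq_card, hidx]
  have hcyc : IsCyclic (G ⧸ M) := isCyclic_of_prime_card hcard
  obtain ⟨c, hc⟩ := IsCyclic.exists_generator (α := G ⧸ M)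
  rw [← QuotientGroup.eq_one_iff, ← QuotientGroup.mk'_apply, map_commutatorElement,
    commutatorElement_eq_one_iff_commute]
  obtain ⟨m, hm⟩ := Subgroup.mem_zpowers_iff.mp (hc (QuotientGroup.mk' M g))
  obtain ⟨n, hn'⟩ := Subgroup.mem_zpowers_iff.mp (hc (QuotientGroup.mk' M h))
  rw [← hm, ← hn']
  exact (Commute.refl c).zpow_zpow m n

/-! ## groups in which all commutators are central -/

section class2

variable {Q : Type*} [Group Q]

theorem S3_comm_mul_left (hc : ∀ a b : Q, ⁅a, b⁆ ∈ center Q) (a b c : Q) :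
    ⁅a * b, c⁆ = ⁅a, c⁆ * ⁅b, c⁆ := by
  have h := Subgroup.mem_center_iff.mp (hc b c)
  rw [commutatorElement_mul_left_eq_conj_mul, h a, mul_inv_cancel_right, h ⁅a, c⁆]

theorem S3_comm_inv_left (hc : ∀ a b : Q, ⁅a, b⁆ ∈ center Q) (a c : Q) :
    ⁅a⁻¹, c⁆ = ⁅a, c⁆⁻¹ := by
  have h := S3_comm_mul_left hc a⁻¹ a c
  rw [inv_mul_cancel, commutatorElement_one_left] at h
  exact eq_inv_of_mul_eq_one_left h.symm

theorem S3_comm_pow_left (hc : ∀ a b : Q, ⁅a, b⁆ ∈ center Q) (a c : Q) (n : ℕ) :
    ⁅a ^ n, c⁆ = ⁅a, c⁆ ^ n := by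
  induction n with
  | zero => simp
  | succ n ih => rw [pow_succ, S3_comm_mul_left hc, ih, pow_succ]

/-- membership of all commutators in a subgroup follows from the generators. -/
theorem S3_comm_mem_of_gen (hc : ∀ a b : Q, ⁅a, b⁆ ∈ center Q) {ι : Type*} (y : ι → Q)
    (hgen : Subgroup.closure (Set.range y) = ⊤) (C : Subgroup Q)
    (hy : ∀ i j, ⁅y i, y j⁆ ∈ C) : ∀ a b : Q, ⁅a, b⁆ ∈ C := by
  -- left variable induction
  have left : ∀ (c : Q), (∀ i, ⁅y i, c⁆ ∈ C) → ∀ a : Q, ⁅a, c⁆ ∈ C := by
    intro c hcy a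
    have ha : a ∈ Subgroup.closure (Set.range y) := hgen ▸ Subgroup.mem_top a
    induction ha using Subgroup.closure_induction with
    | mem x hx =>
      obtain ⟨i, rfl⟩ := hx
      exact hcy i
    | one => rw [commutatorElement_one_left]; exact C.one_mem
    | mul a b _ _ iha ihb => rw [S3_comm_mul_left hc]; exact C.mul_mem iha ihb
    | inv a _ iha => rw [S3_comm_inv_left hc]; exact C.inv_mem iha
  have h1 : ∀ a : Q, ∀ j, ⁅a, y j⁆ ∈ C := fun a j => left (y j) (fun i => hy i j) a
  intro a b
  rw [← commutatorElement_inv]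
  apply C.inv_mem
  apply left a
  intro i
  rw [← commutatorElement_inv]
  exact C.inv_mem (h1 a i)

end class2

/-! ## a group generated by `m` central elements of order dividing `p` has order `≤ p^m` -/

theorem S3_relIndex_mul_card {Γ : Type*} [Group Γ] {H K : Subgroup Γ} (h : H ≤ K) :
    H.relIndex K * Nat.card H = Nat.card K := by
  have := Subgroup.relIndex_mul_relIndex (⊥ : Subgroup Γ) H K bot_le h
  rw [Subgroup.relIndex_bot_left, Subgroup.relIndex_bot_left] at this
  rw [mul_comm]; exact this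

theorem S3_card_sup_le {Q : Type*} [Group Q] [Finite Q] (H K : Subgroup Q) [K.Normal] :
    Nat.card (H ⊔ K : Subgroup Q) ≤ Nat.card H * Nat.card K := by
  have h1 : K.relIndex (H ⊔ K) * Nat.card K = Nat.card (H ⊔ K : Subgroup Q) :=
    S3_relIndex_mul_card le_sup_right
  rw [Subgroup.relIndex_sup_right] at h1
  rw [← h1]
  exact Nat.mul_le_mul_right _ (Nat.le_of_dvd Nat.card_pos (Subgroup.relIndex_dvd_card K H))

theorem S3_card_closure_le {Q : Type*} [Group Q] [Finite Q] {p : ℕ} (hp : 0 < p)
    (S : Finset Q) (hc : ∀ a ∈ S, a ∈ center Q) (hpow : ∀ a ∈ S, a ^ p = 1) :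
    Nat.card (Subgroup.closure (S : Set Q)) ≤ p ^ S.card := by
  classical
  induction S using Finset.induction_on with
  | empty => simp
  | insert a S ha ih =>
    have hcS : ∀ b ∈ S, b ∈ center Q := fun b hb => hc b (Finset.mem_insert_of_mem hb)
    have hpS : ∀ b ∈ S, b ^ p = 1 := fun b hb => hpow b (Finset.mem_insert_of_mem hb)
    have hac : a ∈ center Q := hc a (Finset.mem_insert_self a S)
    have hap : a ^ p = 1 := hpow a (Finset.mem_insert_self a S)
    have hnorm : (Subgroup.zpowers a).Normal := by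
      refine ⟨fun x hx g => ?_⟩
      have hxc : x ∈ center Q := by
        obtain ⟨k, rfl⟩ := Subgroup.mem_zpowers_iff.mp hx
        exact Subgroup.zpow_mem _ hac k
      have := Subgroup.mem_center_iff.mp hxc g
      rw [this, mul_inv_cancel_right]
      exact hx
    have hcl : Subgroup.closure ((insert a S : Finset Q) : Set Q) =
        Subgroup.closure (S : Set Q) ⊔ Subgroup.zpowers a := by
      rw [Finset.coe_insert, Set.insert_eq, Subgroup.closure_union, ← Subgroup.zpowers_eq_closure,
        sup_comm]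
    rw [hcl, Finset.card_insert_of_notMem ha, pow_succ]
    calc Nat.card (Subgroup.closure (S : Set Q) ⊔ Subgroup.zpowers a : Subgroup Q)
        ≤ Nat.card (Subgroup.closure (S : Set Q)) * Nat.card (Subgroup.zpowers a) :=
          S3_card_sup_le _ _
      _ ≤ p ^ S.card * p := by
          refine Nat.mul_le_mul (ih hcS hpS) ?_
          rw [Nat.card_zpowers]
          exact Nat.le_of_dvd hp (orderOf_dvd_of_pow_eq_one hap)

/-! ## the number of pairs `i < j` -/

theorem S3_card_pairs (d : ℕ) :
    (Finset.univ.filter (fun ij : Fin d × Fin d => ij.1 < ij.2)).card = d * (d - 1) / 2 := by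
  have h1 : (Finset.univ.filter (fun ij : Fin d × Fin d => ij.1 < ij.2)).card =
      ∑ j : Fin d, (Finset.univ.filter (fun i : Fin d => i < j)).card := by
    rw [Finset.card_eq_sum_card_fiberwise (f := fun ij : Fin d × Fin d => ij.2)
      (t := Finset.univ) (fun _ _ => Finset.mem_univ _)]
    refine Finset.sum_congr rfl (fun j _ => ?_)
    refine Finset.card_bij' (fun ij _ => ij.1) (fun i _ => (i, j)) ?_ ?_ ?_ ?_
    · intro ij h
      simp only [Finset.mem_filter, Finset.mem_univ, true_and] at h ⊢
      rw [← h.2]; exact h.1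
    · intro i h
      simpa using h
    · intro ij h
      simp only [Finset.mem_filter, Finset.mem_univ, true_and] at h
      exact Prod.ext rfl h.2.symm
    · intro i _; rfl
  have h2 : ∀ j : Fin d, (Finset.univ.filter (fun i : Fin d => i < j)).card = (j : ℕ) := by
    intro j
    have : Finset.univ.filter (fun i : Fin d => i < j) = Finset.Iio j := by
      ext i; simp
    rw [this, Fin.card_Iio]
  rw [h1, Finset.sum_congr rfl (fun j _ => h2 j), Fin.sum_univ_eq_sum_range (fun i => i) d,
    Finset.sum_range_id]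

/-! ## the abstract class-2 bound -/

theorem S3_class2 {Q : Type*} [Group Q] [Finite Q] {p : ℕ} [Fact p.Prime] {d : ℕ} (y : Fin d → Q)
    (hgen : Subgroup.closure (Set.range y) = ⊤) (Z : Subgroup Q) (hZc : Z ≤ center Q)
    (hQ' : commutator Q ≤ Z) (hyp : ∀ i, y i ^ p ∈ Z) :
    Nat.card (commutator Q) ≤ p ^ (d * (d - 1) / 2) := by
  classical
  have hp : p.Prime := Fact.out
  have hc : ∀ a b : Q, ⁅a, b⁆ ∈ center Q := by
    intro a b
    apply hZc
    apply hQ'
    rw [commutator_def]
    exact Subgroup.commutator_mem_commutator (Subgroup.mem_top a) (Subgroup.mem_top b)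
  set S : Finset Q := (Finset.univ.filter (fun ij : Fin d × Fin d => ij.1 < ij.2)).image
    (fun ij => ⁅y ij.1, y ij.2⁆) with hS
  set C : Subgroup Q := Subgroup.closure (S : Set Q) with hC
  have hlt : ∀ i j : Fin d, i < j → ⁅y i, y j⁆ ∈ C := by
    intro i j hij
    apply Subgroup.subset_closure
    rw [hS, Finset.coe_image]
    exact ⟨(i, j), by simp [hij], rfl⟩
  have hy : ∀ i j : Fin d, ⁅y i, y j⁆ ∈ C := by
    intro i j
    rcases lt_trichotomy i j with h | h | h
    · exact hlt i j h
    · rw [h, commutatorElement_self]; exact C.one_mem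
    · rw [← commutatorElement_inv]; exact C.inv_mem (hlt j i h)
  have hall : ∀ a b : Q, ⁅a, b⁆ ∈ C := S3_comm_mem_of_gen hc y hgen C hy
  have hle : commutator Q ≤ C := by
    rw [commutator_def, Subgroup.commutator_le]
    intro a _ b _
    exact hall a b
  have hScard : S.card ≤ d * (d - 1) / 2 := by
    rw [← S3_card_pairs d, hS]
    exact Finset.card_image_le
  have hSc : ∀ a ∈ S, a ∈ center Q := by
    intro a ha
    rw [hS, Finset.mem_image] at ha
    obtain ⟨ij, -, rfl⟩ := ha
    exact hc _ _
  have hSp : ∀ a ∈ S, a ^ p = 1 := by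
    intro a ha
    rw [hS, Finset.mem_image] at ha
    obtain ⟨ij, -, rfl⟩ := ha
    rw [← S3_comm_pow_left hc, commutatorElement_eq_one_iff_commute]
    have := Subgroup.mem_center_iff.mp (hZc (hyp ij.1)) (y ij.2)
    exact this.symm
  calc Nat.card (commutator Q) ≤ Nat.card C := Subgroup.card_le_of_le hle
    _ ≤ p ^ S.card := S3_card_closure_le hp.pos S hSc hSp
    _ ≤ p ^ (d * (d - 1) / 2) := Nat.pow_le_pow_right hp.pos hScard

/-! ## the leaf -/

/-- (S3) top part: `|G' : [Φ,G]| ≤ p^C(d,2)` for a `d`-generator `p`-group. -/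
theorem card_commutator_le_of_generators {G : Type*} [Group G] [Finite G] {p : ℕ} [Fact p.Prime]
    (hG : IsPGroup p G) {d : ℕ} (x : Fin d → G)
    (hgen : Subgroup.closure (Set.range x) = ⊤) :
    Nat.card (commutator G) ≤
      p ^ (d * (d - 1) / 2) * Nat.card (⁅frattini G, (⊤ : Subgroup G)⁆ : Subgroup G) := by
  classical
  have hp : p.Prime := Fact.out
  set N : Subgroup G := ⁅frattini G, (⊤ : Subgroup G)⁆ with hN
  have hNn : N.Normal := by rw [hN]; infer_instance
  set π : G →* G ⧸ N := QuotientGroup.mk' N with hπ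
  have hπs : Function.Surjective π := QuotientGroup.mk'_surjective N
  have hker : π.ker = N := QuotientGroup.ker_mk' N
  -- the data in the quotient
  set Z : Subgroup (G ⧸ N) := (frattini G).map π with hZ
  have hZc : Z ≤ center (G ⧸ N) := by
    rintro _ ⟨φ, hφ, rfl⟩
    rw [Subgroup.mem_center_iff]
    intro q
    obtain ⟨g, rfl⟩ := hπs q
    have hmem : ⁅φ, g⁆ ∈ N := Subgroup.commutator_mem_commutator hφ (Subgroup.mem_top g)
    have h1 : π ⁅φ, g⁆ = 1 := by
      rw [← MonoidHom.mem_ker, hker]; exact hmem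
    rw [map_commutatorElement, commutatorElement_eq_one_iff_commute] at h1
    exact h1.eq.symm
  have hGΦ : commutator G ≤ frattini G := S3_commutator_le_frattini hG
  have hQ' : commutator (G ⧸ N) ≤ Z := by
    rw [commutator_def, Subgroup.commutator_le]
    intro a _ b _
    obtain ⟨g, rfl⟩ := hπs a
    obtain ⟨h, rfl⟩ := hπs b
    rw [← map_commutatorElement]
    refine ⟨⁅g, h⁆, hGΦ ?_, rfl⟩
    rw [commutator_def]
    exact Subgroup.commutator_mem_commutator (Subgroup.mem_top g) (Subgroup.mem_top h)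
  have hyp : ∀ i, (π (x i)) ^ p ∈ Z := by
    intro i
    rw [← map_pow]
    exact ⟨_, Cfsg.Agent.Helper63.pow_prime_mem_frattini hG (x i), rfl⟩
  have hgenQ : Subgroup.closure (Set.range (fun i => π (x i))) = ⊤ := by
    have : Set.range (fun i => π (x i)) = π '' Set.range x := by
      rw [← Set.range_comp]; rfl
    rw [this, ← MonoidHom.map_closure, hgen, Subgroup.map_top_of_surjective π hπs]
  have hbound : Nat.card (commutator (G ⧸ N)) ≤ p ^ (d * (d - 1) / 2) :=
    S3_class2 (fun i => π (x i)) hgenQ Z hZc hQ' hyp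
  -- cardinality transfer
  set K : Subgroup G := (commutator (G ⧸ N)).comap π with hK
  have hGK : commutator G ≤ K := by
    rw [commutator_def, Subgroup.commutator_le]
    intro g _ h _
    rw [hK, Subgroup.mem_comap, map_commutatorElement, commutator_def]
    exact Subgroup.commutator_mem_commutator (Subgroup.mem_top _) (Subgroup.mem_top _)
  have hKidx : K.index = (commutator (G ⧸ N)).index := Subgroup.index_comap_of_surjective _ hπs
  have h1 : Nat.card K * K.index = Nat.card G := Subgroup.card_mul_index K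
  have h2 : Nat.card (commutator (G ⧸ N)) * (commutator (G ⧸ N)).index = Nat.card (G ⧸ N) :=
    Subgroup.card_mul_index _
  have h3 : Nat.card G = Nat.card (G ⧸ N) * Nat.card N :=
    Subgroup.card_eq_card_quotient_mul_card_subgroup N
  have hidxpos : 0 < K.index := Nat.pos_of_ne_zero Subgroup.index_ne_zero_of_finite
  have hKcard : Nat.card K = Nat.card (commutator (G ⧸ N)) * Nat.card N := by
    apply Nat.eq_of_mul_eq_mul_right hidxpos
    rw [h1, h3, ← h2, hKidx]
    ring
  calc Nat.card (commutator G) ≤ Nat.card K := Subgroup.card_le_of_le hGK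
    _ = Nat.card (commutator (G ⧸ N)) * Nat.card N := hKcard
    _ ≤ p ^ (d * (d - 1) / 2) * Nat.card N := Nat.mul_le_mul_right _ hbound

end Cfsg.Agent.Helper24.VL
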