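import Cfsg.Agent.Helper39.X648.Defs

/-!
# Helper24 / piece (A6) for helper39's S3366: `t` inverts `R / Z`
-/

set_option autoImplicit false
set_option linter.unusedSectionVars false
set_option linter.unusedVariables false

namespace Cfsg.Agent.Helper24.X648

open Cfsg.Agent.Helper39.X648

section A
variable {X : Type*} [Group X] [Finite X] {R Z : Subgroup X} {u : X}

/-- (A6) `t` inverts `R / Z` -/
theorem Base.inv_t (h : Base R Z u) (hZ : ∀ z ∈ Z, ∀ g : X, g * z = z * g)
    (t : X) (ht : orderOf t = 2) (hfix : ∀ r ∈ R, t * r = r * t → r ∈ Z) :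
    ∀ r ∈ R, t * r * t⁻¹ * r ∈ Z := by
  intro r hr
  have hN := h.normR
  have ht2 : t * t = 1 := by rw [← pow_two, ← ht, pow_orderOf_eq_one]
  have hti : t⁻¹ = t := inv_eq_of_mul_eq_one_left ht2
  obtain ⟨r', hr'⟩ : ∃ r', r' = t * r * t⁻¹ := ⟨_, rfl⟩
  rw [← hr']
  have hr'R : r' ∈ R := by rw [hr']; exact hN.conj_mem r hr t
  have hsR : r' * r ∈ R := R.mul_mem hr'R hr
  apply hfix _ hsR
  obtain ⟨z, hz⟩ : ∃ z, z = r * r' * r⁻¹ * r'⁻¹ := ⟨_, rfl⟩
  have hzZ : z ∈ Z := by rw [hz]; exact h.comm_mem r hr r' hr'R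
  have hzc := hZ z hzZ
  have e0 : t * r' * t⁻¹ = r := by
    rw [hr', hti]
    calc t * (t * r * t) * t = (t * t) * r * (t * t) := by group
      _ = r := by rw [ht2]; group
  have e1 : t * (r' * r) * t⁻¹ = z * (r' * r) := by
    calc t * (r' * r) * t⁻¹ = (t * r' * t⁻¹) * (t * r * t⁻¹) := by group
      _ = r * r' := by rw [e0, ← hr']
      _ = z * (r' * r) := by rw [hz]; group
  have e3 : t * (z * (r' * r)) * t⁻¹ = z * (z * (r' * r)) := by
    calc t * (z * (r' * r)) * t⁻¹ = (t * z) * (r' * r) * t⁻¹ := by group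
      _ = (z * t) * (r' * r) * t⁻¹ := by rw [hzc t]
      _ = z * (t * (r' * r) * t⁻¹) := by group
      _ = z * (z * (r' * r)) := by rw [e1]
  have e4 : t * (t * (r' * r) * t⁻¹) * t⁻¹ = r' * r := by
    rw [hti]
    calc t * (t * (r' * r) * t) * t = (t * t) * (r' * r) * (t * t) := by group
      _ = r' * r := by rw [ht2]; group
  rw [e1, e3] at e4
  have e2 : z * z = 1 := by
    calc z * z = (z * (z * (r' * r))) * (r' * r)⁻¹ := by group
      _ = 1 := by rw [e4]; group
  have hz3 : z ^ 3 = 1 := h.exp3 z (h.Z_le hzZ)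
  have hz1 : z = 1 := by
    calc z = z ^ 3 * (z * z)⁻¹ := by group
      _ = 1 := by rw [hz3, e2]; group
  rw [hz1, one_mul] at e1
  calc t * (r' * r) = (t * (r' * r) * t⁻¹) * t := by group
    _ = (r' * r) * t := by rw [e1]

end A

end Cfsg.Agent.Helper24.X648
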