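import Cfsg.Agent.Helper39.X648.Defs

/-!
# Helper24 / piece (A7) for helper39's S3366: the inverted elements are coset representatives
of `Z` in `R`
-/

set_option autoImplicit false
set_option linter.unusedSectionVars false
set_option linter.unusedVariables false

namespace Cfsg.Agent.Helper24.X648

open Cfsg.Agent.Helper39.X648

section A
variable {X : Type*} [Group X] [Finite X] {R Z : Subgroup X} {u : X}

/-- (A7) the inverted elements are coset representatives of `Z` in `R` -/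
theorem Base.inv_rep (h : Base R Z u) (hZ : ∀ z ∈ Z, ∀ g : X, g * z = z * g)
    (t : X) (ht : orderOf t = 2) (hinv : ∀ r ∈ R, t * r * t⁻¹ * r ∈ Z) :
    (∀ r ∈ R, ∃ z ∈ Z, r * z ∈ Inv R t) ∧
      (∀ r ∈ Inv R t, ∀ z ∈ Z, r * z ∈ Inv R t → z = 1) := by
  have sq_inv : ∀ z ∈ Z, z * z = z⁻¹ := by
    intro z hz
    have hz3 : z ^ 3 = 1 := h.exp3 z (h.Z_le hz)
    have e : z * z * z = 1 := by rw [← hz3, pow_succ, pow_two]
    calc z * z = (z * z * z) * z⁻¹ := by rw [mul_inv_cancel_right]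
      _ = z⁻¹ := by rw [e, one_mul]
  constructor
  · intro r hr
    obtain ⟨z, hzdef⟩ : ∃ z, z = t * r * t⁻¹ * r := ⟨_, rfl⟩
    have hzZ : z ∈ Z := by rw [hzdef]; exact hinv r hr
    have hzc := hZ z hzZ
    refine ⟨z, hzZ, R.mul_mem hr (h.Z_le hzZ), ?_⟩
    -- `t r t⁻¹ = z r⁻¹`
    have e1 : t * r * t⁻¹ = z * r⁻¹ := by rw [hzdef]; group
    calc t * (r * z) * t⁻¹ = (t * r * t⁻¹) * (t * z) * t⁻¹ := by group
      _ = (z * r⁻¹) * (z * t) * t⁻¹ := by rw [e1, hzc t]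
      _ = z * (r⁻¹ * z) := by group
      _ = z * (z * r⁻¹) := by rw [hzc r⁻¹]
      _ = (z * z) * r⁻¹ := by group
      _ = z⁻¹ * r⁻¹ := by rw [sq_inv z hzZ]
      _ = (r * z)⁻¹ := by group
  · rintro r ⟨hrR, hrt⟩ z hzZ ⟨-, hrz⟩
    have hzc := hZ z hzZ
    have e1 : r⁻¹ * z = z⁻¹ * r⁻¹ := by
      calc r⁻¹ * z = (t * r * t⁻¹) * z := by rw [hrt]
        _ = t * r * (t⁻¹ * z) := by group
        _ = t * r * (z * t⁻¹) := by rw [hzc t⁻¹]
        _ = t * (r * z) * t⁻¹ := by group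
        _ = (r * z)⁻¹ := hrz
        _ = z⁻¹ * r⁻¹ := by group
    have e2 : z = z⁻¹ := by
      calc z = r * (r⁻¹ * z) := by group
        _ = r * (z⁻¹ * r⁻¹) := by rw [e1]
        _ = r * (r⁻¹ * z⁻¹) := by rw [hZ z⁻¹ (Z.inv_mem hzZ) r⁻¹]
        _ = z⁻¹ := by group
    have e3 : z * z = 1 := by
      calc z * z = z * z⁻¹ := by rw [← e2]
        _ = 1 := mul_inv_cancel z
    have hz3 : z ^ 3 = 1 := h.exp3 z (h.Z_le hzZ)
    calc z = z ^ 3 * (z * z)⁻¹ := by group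
      _ = 1 := by rw [hz3, e3]; group

end A

end Cfsg.Agent.Helper24.X648
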