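import Cfsg.Agent.Helper39.X648.Defs

/-!
# Helper24 / piece (A8) for helper39's S3366: `|C_X(t)| = 72`
-/

set_option autoImplicit false
set_option linter.unusedSectionVars false
set_option linter.unusedVariables false

namespace Cfsg.Agent.Helper24.X648

open Cfsg.Agent.Helper39.X648

section A
variable {X : Type*} [Group X] [Finite X] {R Z : Subgroup X} {u : X}
variable {t : X}

/-- (A8) `|C_X(t)| = 72` -/
theorem Setup.card_K (h : Setup R Z u t) :
    Nat.card ↥(Subgroup.centralizer ({t} : Set X)) = 72 := by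
  have hb := h.base
  have hN : R.Normal := hb.normR
  obtain ⟨C, hC⟩ : ∃ C : Subgroup X, C = Subgroup.centralizer ({t} : Set X) := ⟨_, rfl⟩
  rw [← hC]
  have hmemC : ∀ g : X, g ∈ C ↔ g * t = t * g := fun g => by
    rw [hC]; exact Subgroup.mem_centralizer_singleton_iff
  have hsup : C ⊔ R = ⊤ := by
    rw [eq_top_iff]
    intro g _
    obtain ⟨r, hr, hcomm⟩ := h.frat g
    have hg : g = r * (r⁻¹ * g) := by group
    rw [hg, sup_comm]
    exact Subgroup.mul_mem_sup hr ((hmemC _).mpr hcomm)
  have hinf : R ⊓ C = Z := by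
    ext z
    constructor
    · rintro ⟨hzR, hzC⟩
      exact h.fix z hzR ((hmemC z).mp hzC).symm
    · intro hz
      exact ⟨hb.Z_le hz, (hmemC z).mpr (h.Zcen z hz t).symm⟩
  have hZC : Z ≤ C := by rw [← hinf]; exact inf_le_right
  have h1 : Nat.card Z * Z.relIndex C = Nat.card C := by
    have := Subgroup.relIndex_mul_relIndex (⊥ : Subgroup X) Z C bot_le hZC
    rwa [Subgroup.relIndex_bot_left, Subgroup.relIndex_bot_left] at this
  have h2 : Z.relIndex C = R.index := by
    rw [← hinf, Subgroup.inf_relIndex_right,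
      ← Subgroup.relIndex_sup_right C R, hsup, Subgroup.relIndex_top_right]
  have h3 : Nat.card R * R.index = Nat.card X := Subgroup.card_mul_index R
  rw [hb.cardR, hb.cardX] at h3
  rw [h2, hb.cardZ] at h1
  omega

end A

end Cfsg.Agent.Helper24.X648
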